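import Mathlib.Topology.NoetherianSpace
import Mathlib.Topology.Connected.LocallyConnected
import Mathlib.Topology.Connected.Clopen

set_option autoImplicit false
universe u

namespace Groth.Agent.H12

open TopologicalSpace

/-- In a Noetherian space, connected components are open. -/
theorem isOpen_connectedComponent_of_noetherianSpace {Z : Type u} [TopologicalSpace Z]
    [NoetherianSpace Z] (z : Z) : IsOpen (connectedComponent z) := by
  rw [← isClosed_compl_iff]
  have hfin : {T ∈ irreducibleComponents Z | Disjoint T (connectedComponent z)}.Finite :=
    (NoetherianSpace.finite_irreducibleComponents (α := Z)).subset (fun T hT => hT.1)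
  have heq : (connectedComponent z)ᶜ =
      ⋃ T ∈ {T ∈ irreducibleComponents Z | Disjoint T (connectedComponent z)}, T := by
    ext w
    simp only [Set.mem_compl_iff, Set.mem_iUnion, Set.mem_ofPred_eq, exists_prop]
    constructor
    · intro hw
      refine ⟨irreducibleComponent w, ⟨irreducibleComponent_mem_irreducibleComponents w, ?_⟩,
        mem_irreducibleComponent⟩
      rw [Set.disjoint_left]
      intro t ht htC
      apply hw
      have hpre : IsPreconnected (irreducibleComponent w) :=
        isIrreducible_irreducibleComponent.isConnected.isPreconnected
      have h1 := hpre.subset_connectedComponent ht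
      rw [← connectedComponent_eq htC] at h1
      exact h1 mem_irreducibleComponent
    · rintro ⟨T, ⟨_, hdisj⟩, hwT⟩ hwC
      exact Set.disjoint_left.mp hdisj hwT hwC
  rw [heq]
  exact hfin.isClosed_biUnion (fun T hT => isClosed_of_mem_irreducibleComponents T hT.1)

/-- A space in which every point has a Noetherian neighbourhood is locally connected. -/
theorem locallyConnectedSpace_of_locally_noetherian (X : Type u) [TopologicalSpace X]
    (hX : ∀ x : X, ∃ U ∈ nhds x, NoetherianSpace U) : LocallyConnectedSpace X := by
  rw [locallyConnectedSpace_iff_connectedComponentIn_open]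
  intro F hF x _
  rw [isOpen_iff_mem_nhds]
  intro y hy
  rw [connectedComponentIn_eq hy]
  have hyF : y ∈ F := connectedComponentIn_subset F x hy
  obtain ⟨U, hU, hUN⟩ := hX y
  have hW : IsOpen (interior U ∩ F) := isOpen_interior.inter hF
  have hyW : y ∈ interior U ∩ F := ⟨mem_interior_iff_mem_nhds.mpr hU, hyF⟩
  haveI : NoetherianSpace (interior U ∩ F : Set X) :=
    NoetherianSpace.of_subset (W := U) (Set.inter_subset_left.trans interior_subset)
  have hopen : IsOpen (connectedComponentIn (interior U ∩ F) y) := by
    rw [connectedComponentIn_eq_image hyW]
    exact hW.isOpenMap_subtype_val _ (isOpen_connectedComponent_of_noetherianSpace _)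
  refine Filter.mem_of_superset (hopen.mem_nhds (mem_connectedComponentIn hyW)) ?_
  exact isPreconnected_connectedComponentIn.subset_connectedComponentIn
    (mem_connectedComponentIn hyW)
    ((connectedComponentIn_subset _ _).trans Set.inter_subset_right)

end Groth.Agent.H12
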