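import Mathlib

/-!
# Eilenberg–Watts for `A`-linear endofunctors of `A`-modules commuting with direct sums

`tLin T M : T(A) ⊗ M → T(M)` is the canonical comparison map; it is bijective for all `M` iff `T`
is right exact, iff `T` is half exact and `tLin` is surjective for all `M`.
-/

set_option autoImplicit false
set_option linter.style.haveILetI false
set_option linter.unusedSectionVars false
universe u
open CategoryTheory CategoryTheory.Limits MonoidalCategory TensorProduct

namespace Groth.Agent.H12.EWT

section Defs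

variable {A : Type u} [CommRing A] (T : ModuleCat.{u} A ⥤ ModuleCat.{u} A) [T.Additive] [T.Linear A]

noncomputable def tLin (M : ModuleCat.{u} A) :
    TensorProduct A (T.obj (ModuleCat.of A A)) M →ₗ[A] T.obj M :=
  TensorProduct.lift (LinearMap.flip
    ((ModuleCat.homLinearEquiv (S := A)).toLinearMap ∘ₗ Functor.mapLinearMap A T ∘ₗ
      (ModuleCat.homLinearEquiv (S := A)).symm.toLinearMap ∘ₗ
        (LinearMap.ringLmapEquivSelf A A M).symm.toLinearMap))

noncomputable def θ {M : ModuleCat.{u} A} (x : M) : ModuleCat.of A A ⟶ M :=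
  ModuleCat.ofHom ((LinearMap.ringLmapEquivSelf A A M).symm x)

theorem θ_apply {M : ModuleCat.{u} A} (x : M) (a : A) : (θ x).hom a = a • x := by
  simp [θ]

theorem tLin_tmul (M : ModuleCat.{u} A) (y : T.obj (ModuleCat.of A A)) (x : M) :
    tLin T M (y ⊗ₜ x) = (T.map (θ x)).hom y := rfl

theorem θ_comp {M M' : ModuleCat.{u} A} (g : M ⟶ M') (x : M) : θ x ≫ g = θ (g.hom x) := by
  apply ModuleCat.hom_ext
  apply LinearMap.ext
  intro a
  rw [ModuleCat.hom_comp, LinearMap.comp_apply, θ_apply, θ_apply, map_smul]

theorem tLin_naturality {M M' : ModuleCat.{u} A} (g : M ⟶ M')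
    (z : T.obj (ModuleCat.of A A) ⊗[A] M) :
    (T.map g).hom (tLin T M z) = tLin T M' (g.hom.lTensor _ z) := by
  induction z using TensorProduct.induction_on with
  | zero => simp
  | tmul y x =>
    rw [LinearMap.lTensor_tmul, tLin_tmul, tLin_tmul, ← θ_comp, T.map_comp]
    rfl
  | add a b ha hb => simp only [map_add, ha, hb]

theorem θ_self (a : A) : θ (M := ModuleCat.of A A) a = a • 𝟙 (ModuleCat.of A A) := by
  apply ModuleCat.hom_ext
  apply LinearMap.ext
  intro b
  rw [θ_apply]
  simp [mul_comm]

theorem tLin_self : tLin T (ModuleCat.of A A) = (TensorProduct.rid A _).toLinearMap := by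
  apply TensorProduct.ext'
  intro y a
  rw [tLin_tmul, θ_self, Functor.map_smul, T.map_id]
  simp

noncomputable def tNat : tensorLeft (T.obj (ModuleCat.of A A)) ⟶ T where
  app M := ModuleCat.ofHom (tLin T M)
  naturality M M' g := by
    apply ModuleCat.hom_ext
    apply LinearMap.ext
    intro z
    exact (tLin_naturality T g z).symm

end Defs


section Cofan

variable {A : Type u} [CommRing A]

/-- The cofan exhibiting `J →₀ X` as a coproduct of copies of `X`. -/
noncomputable def finsuppCofan (J : Type u) (X : Type u) [AddCommGroup X] [Module A X] :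
    Cofan (fun _ : J => ModuleCat.of A X) :=
  Cofan.mk (ModuleCat.of A (J →₀ X)) (fun j => ModuleCat.ofHom (Finsupp.lsingle j))

noncomputable def finsuppCofanIsColimit (J : Type u) (X : Type u) [AddCommGroup X] [Module A X] :
    IsColimit (finsuppCofan (A := A) J X) :=
  mkCofanColimit _
    (fun s => ModuleCat.ofHom (Finsupp.lsum ℕ (fun j => (s.inj j).hom)))
    (fun s j => by
      apply ModuleCat.hom_ext
      apply LinearMap.ext
      intro x
      show (Finsupp.lsum ℕ (fun j => (s.inj j).hom)) (Finsupp.single j x) = (s.inj j).hom x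
      rw [Finsupp.lsum_single])
    (fun s m h => by
      apply ModuleCat.hom_ext
      apply Finsupp.lhom_ext'
      intro j
      apply LinearMap.ext
      intro x
      have h1 := congrArg (fun f => f.hom x) (h j)
      show m.hom (Finsupp.single j x) = (Finsupp.lsum ℕ (fun j => (s.inj j).hom)) (Finsupp.single j x)
      rw [Finsupp.lsum_single]
      exact h1)

/-- The legs of a colimit cocone over a discrete diagram of modules are jointly surjective. -/
theorem iSup_range_eq_top {J : Type u} {F : Discrete J ⥤ ModuleCat.{u} A} (c : Cocone F)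
    (hc : IsColimit c) :
    ⨆ j : J, LinearMap.range (show F.obj ⟨j⟩ ⟶ c.pt from c.ι.app ⟨j⟩).hom = ⊤ := by
  set S := ⨆ j : J, LinearMap.range (show F.obj ⟨j⟩ ⟶ c.pt from c.ι.app ⟨j⟩).hom with hS
  have h : ModuleCat.ofHom S.mkQ = (0 : c.pt ⟶ ModuleCat.of A (c.pt ⧸ S)) := by
    apply hc.hom_ext
    rintro ⟨j⟩
    apply ModuleCat.hom_ext
    apply LinearMap.ext
    intro x
    show S.mkQ ((show F.obj ⟨j⟩ ⟶ c.pt from c.ι.app ⟨j⟩).hom x) = 0
    rw [Submodule.mkQ_apply, Submodule.Quotient.mk_eq_zero]
    exact Submodule.mem_iSup_of_mem j ⟨x, rfl⟩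
  have h2 : S.mkQ = 0 := congrArg ModuleCat.Hom.hom h
  rw [← Submodule.ker_mkQ S, h2, LinearMap.ker_zero]

end Cofan

section Main

variable {A : Type u} [CommRing A] (T : ModuleCat.{u} A ⥤ ModuleCat.{u} A) [T.Additive] [T.Linear A]

theorem tLin_naturality' {M M' : Type u} [AddCommGroup M] [Module A M] [AddCommGroup M']
    [Module A M'] (g : M →ₗ[A] M') (z : T.obj (ModuleCat.of A A) ⊗[A] M) :
    (T.map (ModuleCat.ofHom g)).hom (tLin T (ModuleCat.of A M) z) =
      tLin T (ModuleCat.of A M') (g.lTensor _ z) :=
  tLin_naturality T (ModuleCat.ofHom g) z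

theorem isIso_tNat_self : IsIso ((tNat T).app (ModuleCat.of A A)) := by
  have h : (tNat T).app (ModuleCat.of A A) = (TensorProduct.rid A _).toModuleIso.hom := by
    apply ModuleCat.hom_ext
    exact tLin_self T
  rw [h]
  infer_instance

variable [∀ J : Type u, PreservesColimitsOfShape (Discrete J) T]

theorem isIso_tNat_finsupp (J : Type u) :
    IsIso ((tNat T).app (ModuleCat.of A (J →₀ A))) := by
  have hc := finsuppCofanIsColimit (A := A) J A
  haveI : PreservesColimitsOfSize.{u, u} (tensorLeft (T.obj (ModuleCat.of A A))) :=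
    (ihom.adjunction (T.obj (ModuleCat.of A A))).leftAdjoint_preservesColimits
  have hc₁ := isColimitOfPreserves (tensorLeft (T.obj (ModuleCat.of A A))) hc
  have hc₂ := isColimitOfPreserves T hc
  haveI : IsIso ((tNat T).app (ModuleCat.of A A)) := isIso_tNat_self T
  let α : Discrete.functor (fun _ : J => ModuleCat.of A A) ⋙
        tensorLeft (T.obj (ModuleCat.of A A)) ≅
      Discrete.functor (fun _ : J => ModuleCat.of A A) ⋙ T :=
    Discrete.natIso (fun _ => asIso ((tNat T).app (ModuleCat.of A A)))
  let e := IsColimit.coconePointsIsoOfNatIso hc₁ hc₂ α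
  have h : (tNat T).app (ModuleCat.of A (J →₀ A)) = e.hom := by
    apply hc₁.hom_ext
    rintro ⟨j⟩
    refine Eq.trans ?_ (IsColimit.comp_coconePointsIsoOfNatIso_hom hc₁ hc₂ α ⟨j⟩).symm
    exact (tNat T).naturality ((finsuppCofan (A := A) J A).ι.app ⟨j⟩)
  rw [h]
  exact ⟨⟨e.inv, e.hom_inv_id, e.inv_hom_id⟩⟩

theorem tLin_bijective_finsupp (J : Type u) :
    Function.Bijective (tLin T (ModuleCat.of A (J →₀ A))) := by
  haveI := isIso_tNat_finsupp T J
  exact (ConcreteCategory.isIso_iff_bijective ((tNat T).app (ModuleCat.of A (J →₀ A)))).mp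
    inferInstance

theorem tLin_surjective_finsupp (J : Type u) (X : Type u) [AddCommGroup X] [Module A X]
    (h : Function.Surjective (tLin T (ModuleCat.of A X))) :
    Function.Surjective (tLin T (ModuleCat.of A (J →₀ X))) := by
  have hc := isColimitOfPreserves T (finsuppCofanIsColimit (A := A) J X)
  have htop := iSup_range_eq_top _ hc
  have hle : (⨆ j : J, LinearMap.range (show (Discrete.functor (fun _ : J => ModuleCat.of A X) ⋙ T).obj ⟨j⟩ ⟶
      (T.mapCocone (finsuppCofan (A := A) J X)).pt from
        (T.mapCocone (finsuppCofan (A := A) J X)).ι.app ⟨j⟩).hom) ≤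
      LinearMap.range (tLin T (ModuleCat.of A (J →₀ X))) := by
    apply iSup_le
    rintro j _ ⟨y, rfl⟩
    obtain ⟨z, rfl⟩ := h y
    exact ⟨(Finsupp.lsingle j).lTensor _ z, (tLin_naturality' T (Finsupp.lsingle j) z).symm⟩
  rw [htop] at hle
  exact LinearMap.range_eq_top.mp (top_le_iff.mp hle)

omit [∀ J : Type u, PreservesColimitsOfShape (Discrete J) T] in
theorem tLin_injective_of_chase {K F M : Type u} [AddCommGroup K] [Module A K] [AddCommGroup F]
    [Module A F] [AddCommGroup M] [Module A M] (i : K →ₗ[A] F) (π : F →ₗ[A] M)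
    (hπ : Function.Surjective π) (hex : Function.Exact i π)
    (hT : Function.Exact (T.map (ModuleCat.ofHom i)).hom (T.map (ModuleCat.ofHom π)).hom)
    (hK : Function.Surjective (tLin T (ModuleCat.of A K)))
    (hF : Function.Injective (tLin T (ModuleCat.of A F))) :
    Function.Injective (tLin T (ModuleCat.of A M)) := by
  rw [injective_iff_map_eq_zero]
  intro z hz
  obtain ⟨w, rfl⟩ := LinearMap.lTensor_surjective (T.obj (ModuleCat.of A A)) hπ z
  rw [← tLin_naturality' T π w] at hz
  obtain ⟨v, hv⟩ := (hT _).mp hz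
  obtain ⟨u, rfl⟩ := hK v
  rw [tLin_naturality' T i u] at hv
  rw [← hF hv, ← LinearMap.comp_apply, ← LinearMap.lTensor_comp, hex.linearMap_comp_eq_zero,
    LinearMap.lTensor_zero, LinearMap.zero_apply]

omit [∀ J : Type u, PreservesColimitsOfShape (Discrete J) T] in
theorem tLin_surjective_of_epi {F M : Type u} [AddCommGroup F] [Module A F] [AddCommGroup M]
    [Module A M] (π : F →ₗ[A] M) (hTπ : Function.Surjective (T.map (ModuleCat.ofHom π)).hom)
    (hF : Function.Surjective (tLin T (ModuleCat.of A F))) :
    Function.Surjective (tLin T (ModuleCat.of A M)) := by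
  intro y
  obtain ⟨v, rfl⟩ := hTπ y
  obtain ⟨w, rfl⟩ := hF v
  exact ⟨π.lTensor _ w, (tLin_naturality' T π w).symm⟩

omit [∀ J : Type u, PreservesColimitsOfShape (Discrete J) T] in
theorem tLin_surjective_of_ext {M' M M'' : Type u} [AddCommGroup M'] [Module A M']
    [AddCommGroup M] [Module A M] [AddCommGroup M''] [Module A M''] (i : M' →ₗ[A] M)
    (π : M →ₗ[A] M'') (hπ : Function.Surjective π)
    (hT : Function.Exact (T.map (ModuleCat.ofHom i)).hom (T.map (ModuleCat.ofHom π)).hom)
    (h' : Function.Surjective (tLin T (ModuleCat.of A M')))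
    (h'' : Function.Surjective (tLin T (ModuleCat.of A M''))) :
    Function.Surjective (tLin T (ModuleCat.of A M)) := by
  intro y
  obtain ⟨z'', hz''⟩ := h'' ((T.map (ModuleCat.ofHom π)).hom y)
  obtain ⟨z, rfl⟩ := LinearMap.lTensor_surjective (T.obj (ModuleCat.of A A)) hπ z''
  have h0 : (T.map (ModuleCat.ofHom π)).hom (y - tLin T (ModuleCat.of A M) z) = 0 := by
    rw [map_sub, tLin_naturality' T π z, hz'', sub_self]
  obtain ⟨v, hv⟩ := (hT _).mp h0
  obtain ⟨u, rfl⟩ := h' v
  refine ⟨i.lTensor _ u + z, ?_⟩
  rw [map_add, ← tLin_naturality' T i u, hv, sub_add_cancel]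

/-- Short exact sequence in `ModuleCat` from linear maps. -/
theorem shortExact_of {N₁ N₂ N₃ : Type u} [AddCommGroup N₁] [Module A N₁] [AddCommGroup N₂]
    [Module A N₂] [AddCommGroup N₃] [Module A N₃] (f : N₁ →ₗ[A] N₂) (g : N₂ →ₗ[A] N₃)
    (hf : Function.Injective f) (hg : Function.Surjective g) (hfg : Function.Exact f g) :
    (ModuleCat.shortComplexOfCompEqZero f g hfg.linearMap_comp_eq_zero).ShortExact :=
  ModuleCat.shortComplex_shortExact _ hfg hf hg

/-- Half exactness, in terms of linear maps. -/
def HalfExact : Prop :=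
  ∀ S : ShortComplex (ModuleCat.{u} A), S.ShortExact → (S.map T).Exact

omit [∀ J : Type u, PreservesColimitsOfShape (Discrete J) T] in
theorem HalfExact.exact (h : HalfExact T) {N₁ N₂ N₃ : Type u} [AddCommGroup N₁] [Module A N₁]
    [AddCommGroup N₂] [Module A N₂] [AddCommGroup N₃] [Module A N₃] (f : N₁ →ₗ[A] N₂)
    (g : N₂ →ₗ[A] N₃) (hf : Function.Injective f) (hg : Function.Surjective g)
    (hfg : Function.Exact f g) :
    Function.Exact (T.map (ModuleCat.ofHom f)).hom (T.map (ModuleCat.ofHom g)).hom :=
  (ShortComplex.ShortExact.moduleCat_exact_iff_function_exact _).mp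
    (h _ (shortExact_of f g hf hg hfg))

omit [∀ J : Type u, PreservesColimitsOfShape (Discrete J) T] in
theorem halfExact_and_epi_of_preserves [PreservesFiniteColimits T] :
    HalfExact T ∧ ∀ {F M : Type u} [AddCommGroup F] [Module A F] [AddCommGroup M] [Module A M]
      (π : F →ₗ[A] M), Function.Surjective π →
        Function.Surjective (T.map (ModuleCat.ofHom π)).hom := by
  have h := (Functor.preservesFiniteColimits_iff_forall_exact_map_and_epi T).mp inferInstance
  refine ⟨fun S hS => (h S hS).1, ?_⟩
  intro F M _ _ _ _ π hπ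
  have hS := shortExact_of (LinearMap.ker π).subtype π (Submodule.injective_subtype _) hπ
    (LinearMap.exact_subtype_ker_map π)
  have := (h _ hS).2
  exact (ModuleCat.epi_iff_surjective _).mp this

/-- The free presentation argument: if `T` is half exact and `t_K` is surjective for all `K`,
then `t_M` is injective. -/
theorem tLin_injective_of_halfExact (h : HalfExact T)
    (hs : ∀ K : ModuleCat.{u} A, Function.Surjective (tLin T K)) (M : ModuleCat.{u} A) :
    Function.Injective (tLin T M) := by
  have hπ : Function.Surjective (Finsupp.linearCombination A (id : M → M)) := fun n =>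
    ⟨Finsupp.single n 1, by simp⟩
  have hex : Function.Exact (LinearMap.ker (Finsupp.linearCombination A (id : M → M))).subtype
      (Finsupp.linearCombination A (id : M → M)) := LinearMap.exact_subtype_ker_map _
  have hT := h.exact T (N₁ := LinearMap.ker (Finsupp.linearCombination A (id : M → M)))
    (N₂ := M →₀ A) (N₃ := M)
    (LinearMap.ker (Finsupp.linearCombination A (id : M → M))).subtype
    (Finsupp.linearCombination A (id : M → M)) (Submodule.injective_subtype _) hπ hex
  have key := tLin_injective_of_chase T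
    (K := LinearMap.ker (Finsupp.linearCombination A (id : M → M))) (F := M →₀ A) (M := M)
    (LinearMap.ker (Finsupp.linearCombination A (id : M → M))).subtype
    (Finsupp.linearCombination A (id : M → M)) hπ hex hT (hs _) (tLin_bijective_finsupp T M).1
  exact key

theorem tLin_bijective_of_preserves [PreservesFiniteColimits T] (M : ModuleCat.{u} A) :
    Function.Bijective (tLin T M) := by
  obtain ⟨hh, hepi⟩ := halfExact_and_epi_of_preserves T
  have hs : ∀ K : ModuleCat.{u} A, Function.Surjective (tLin T K) := by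
    intro K
    have hπ : Function.Surjective (Finsupp.linearCombination A (id : K → K)) := fun n =>
      ⟨Finsupp.single n 1, by simp⟩
    have key := tLin_surjective_of_epi T (F := K →₀ A) (M := K)
      (Finsupp.linearCombination A (id : K → K)) (hepi _ hπ) (tLin_bijective_finsupp T K).2
    exact key
  exact ⟨tLin_injective_of_halfExact T hh hs M, hs M⟩

/-- If all `t_M` are bijective, `T ≅ T(A) ⊗ -`. -/
noncomputable def isoOfBijective (h : ∀ M : ModuleCat.{u} A, Function.Bijective (tLin T M)) :
    tensorLeft (T.obj (ModuleCat.of A A)) ≅ T :=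
  haveI : ∀ M, IsIso ((tNat T).app M) := fun M =>
    (ConcreteCategory.isIso_iff_bijective ((tNat T).app M)).mpr (h M)
  NatIso.ofComponents (fun M => asIso ((tNat T).app M)) (fun g => (tNat T).naturality g)

omit [∀ J : Type u, PreservesColimitsOfShape (Discrete J) T] in
theorem preserves_of_iso (N : ModuleCat.{u} A) (e : T ≅ tensorLeft N) :
    PreservesFiniteColimits T := by
  haveI : PreservesColimitsOfSize.{0, 0} (tensorLeft N) :=
    (ihom.adjunction N).leftAdjoint_preservesColimits
  haveI : PreservesFiniteColimits (tensorLeft N) := PreservesColimitsOfSize.preservesFiniteColimits _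
  exact preservesFiniteColimits_of_natIso e.symm

end Main

end Groth.Agent.H12.EWT
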