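import Mathlib
import Groth.Agent.H12.EWT

/-!
# Eilenberg–Watts with an elementwise finiteness hypothesis

If `T` is an `A`-linear right exact endofunctor of `A`-modules such that every element of `T(M)`
comes from `T(M')` for a finitely generated submodule `M' ≤ M`, then `T(A) ⊗ M → T(M)` is
bijective for every `M`.  (No preservation of infinite coproducts is assumed.)
-/

set_option autoImplicit false
set_option linter.style.haveILetI false
set_option linter.unusedSectionVars false
universe u
open CategoryTheory CategoryTheory.Limits MonoidalCategory TensorProduct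

namespace Groth.Agent.H12.EWT3

open Groth.Agent.H12.EWT

variable {A : Type u} [CommRing A] (T : ModuleCat.{u} A ⥤ ModuleCat.{u} A) [T.Additive] [T.Linear A]

/-- every element of `T(M)` comes from a finitely generated submodule -/
def FGSupported : Prop :=
  ∀ (M : Type u) [AddCommGroup M] [Module A M] (y : T.obj (ModuleCat.of A M)),
    ∃ M' : Submodule A M, M'.FG ∧ y ∈ LinearMap.range (T.map (ModuleCat.ofHom M'.subtype)).hom

theorem tLin_bijective_self : Function.Bijective (tLin T (ModuleCat.of A A)) := by
  rw [tLin_self]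
  exact (TensorProduct.rid A _).bijective

/-- `f ↦ T(f)` as an additive map on linear maps -/
noncomputable def mapLin (M M' : Type u) [AddCommGroup M] [Module A M] [AddCommGroup M']
    [Module A M'] :
    (M →ₗ[A] M') →+ (T.obj (ModuleCat.of A M) →ₗ[A] T.obj (ModuleCat.of A M')) where
  toFun f := (T.map (ModuleCat.ofHom f)).hom
  map_zero' := by rw [ModuleCat.ofHom_zero, T.map_zero]; rfl
  map_add' f g := by rw [ModuleCat.ofHom_add, T.map_add]; rfl

theorem mapLin_apply {M M' : Type u} [AddCommGroup M] [Module A M] [AddCommGroup M']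
    [Module A M'] (f : M →ₗ[A] M') : mapLin T M M' f = (T.map (ModuleCat.ofHom f)).hom := rfl

theorem tLin_bijective_pi (ι : Type u) [Fintype ι] [DecidableEq ι] :
    Function.Bijective (tLin T (ModuleCat.of A (ι → A))) := by
  let i : ι → (A →ₗ[A] (ι → A)) := fun j => LinearMap.single A (fun _ => A) j
  let p : ι → ((ι → A) →ₗ[A] A) := fun j => LinearMap.proj j
  have hsum : ∑ j, (i j) ∘ₗ (p j) = LinearMap.id := by
    apply LinearMap.ext
    intro x
    rw [LinearMap.sum_apply]
    simp only [LinearMap.comp_apply, LinearMap.id_apply]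
    exact Finset.univ_sum_single x
  have hl : ∀ z : T.obj (ModuleCat.of A A) ⊗[A] (ι → A),
      z = ∑ j, (i j).lTensor _ ((p j).lTensor _ z) := by
    intro z
    have h1 := congrArg (fun f => LinearMap.lTensorHom (T.obj (ModuleCat.of A A)) f z) hsum
    simp only [map_sum, LinearMap.sum_apply, LinearMap.coe_lTensorHom, LinearMap.lTensor_comp,
      LinearMap.comp_apply, LinearMap.lTensor_id, LinearMap.id_apply] at h1
    exact h1.symm
  have hT : ∀ y : T.obj (ModuleCat.of A (ι → A)),
      y = ∑ j, (T.map (ModuleCat.ofHom (i j))).hom ((T.map (ModuleCat.ofHom (p j))).hom y) := by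
    intro y
    have h1 := congrArg (fun f => mapLin T (ι → A) (ι → A) f y) hsum
    simp only [map_sum, LinearMap.sum_apply, mapLin_apply] at h1
    have h2 : (T.map (ModuleCat.ofHom (LinearMap.id : (ι → A) →ₗ[A] (ι → A)))).hom y = y := by
      rw [ModuleCat.ofHom_id, T.map_id]; rfl
    rw [h2] at h1
    refine h1.symm.trans (Finset.sum_congr rfl fun j _ => ?_)
    rw [ModuleCat.ofHom_comp, T.map_comp]
    rfl
  constructor
  · rw [injective_iff_map_eq_zero]
    intro z hz
    have h1 : ∀ j, (p j).lTensor _ z = 0 := fun j => (tLin_bijective_self T).1 (by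
      rw [← tLin_naturality' T (p j) z, hz, map_zero, map_zero])
    rw [hl z]
    exact Finset.sum_eq_zero fun j _ => by rw [h1 j, map_zero]
  · intro y
    choose w hw using fun j => (tLin_bijective_self T).2 ((T.map (ModuleCat.ofHom (p j))).hom y)
    refine ⟨∑ j, (i j).lTensor _ (w j), ?_⟩
    rw [map_sum, hT y]
    refine Finset.sum_congr rfl fun j _ => ?_
    rw [← tLin_naturality' T (i j) (w j), hw j]

theorem tLin_bijective_of_equiv {M M' : Type u} [AddCommGroup M] [Module A M] [AddCommGroup M']
    [Module A M'] (e : M ≃ₗ[A] M') (h : Function.Bijective (tLin T (ModuleCat.of A M))) :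
    Function.Bijective (tLin T (ModuleCat.of A M')) := by
  have hid : ∀ y : T.obj (ModuleCat.of A M'),
      (T.map (ModuleCat.ofHom e.toLinearMap)).hom
        ((T.map (ModuleCat.ofHom e.symm.toLinearMap)).hom y) = y := by
    intro y
    have : ModuleCat.ofHom e.symm.toLinearMap ≫ ModuleCat.ofHom e.toLinearMap = 𝟙 _ := by
      rw [← ModuleCat.ofHom_comp, LinearEquiv.comp_symm]; rfl
    have h2 := congrArg (fun f => (T.map f).hom y) this
    simp only [T.map_comp, T.map_id] at h2
    exact h2
  constructor
  · rw [injective_iff_map_eq_zero]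
    intro z hz
    have h1 : e.symm.toLinearMap.lTensor _ z = 0 := h.1 (by
      rw [← tLin_naturality' T e.symm.toLinearMap z, hz, map_zero, map_zero])
    have h2 : z = e.toLinearMap.lTensor _ (e.symm.toLinearMap.lTensor _ z) := by
      rw [← LinearMap.comp_apply, ← LinearMap.lTensor_comp, LinearEquiv.comp_symm,
        LinearMap.lTensor_id, LinearMap.id_apply]
    rw [h2, h1, map_zero]
  · intro y
    obtain ⟨w, hw⟩ := h.2 ((T.map (ModuleCat.ofHom e.symm.toLinearMap)).hom y)
    refine ⟨e.toLinearMap.lTensor _ w, ?_⟩
    rw [← tLin_naturality' T e.toLinearMap w, hw, hid]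

variable [PreservesFiniteColimits T]

/-- surjectivity for finitely generated modules -/
theorem tLin_surjective_of_finite (M : Type u) [AddCommGroup M] [Module A M] [Module.Finite A M] :
    Function.Surjective (tLin T (ModuleCat.of A M)) := by
  classical
  obtain ⟨n, π, hπ⟩ := Module.Finite.exists_fin' A M
  obtain ⟨-, hepi⟩ := halfExact_and_epi_of_preserves T
  have e : (ULift.{u} (Fin n) → A) ≃ₗ[A] (Fin n → A) :=
    LinearEquiv.funCongrLeft A A Equiv.ulift.symm
  have hπ' : Function.Surjective (π ∘ₗ e.toLinearMap) := hπ.comp e.surjective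
  exact tLin_surjective_of_epi T (π ∘ₗ e.toLinearMap) (hepi _ hπ')
    (tLin_bijective_pi T (ULift.{u} (Fin n))).2

theorem tLin_surjective (hfg : FGSupported T) (M : Type u) [AddCommGroup M] [Module A M] :
    Function.Surjective (tLin T (ModuleCat.of A M)) := by
  intro y
  obtain ⟨M', hM', y', rfl⟩ := hfg M y
  haveI : Module.Finite A M' := Module.Finite.iff_fg.2 hM'
  obtain ⟨w, rfl⟩ := tLin_surjective_of_finite T M' y'
  exact ⟨M'.subtype.lTensor _ w, (tLin_naturality' T M'.subtype w).symm⟩

omit [PreservesFiniteColimits T] in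
theorem tLin_injective_finsupp (J : Type u) :
    Function.Injective (tLin T (ModuleCat.of A (J →₀ A))) := by
  classical
  rw [injective_iff_map_eq_zero]
  intro z hz
  have h1 : ∀ j, (Finsupp.lapply j : (J →₀ A) →ₗ[A] A).lTensor _ z = 0 := fun j =>
    (tLin_bijective_self T).1 (by
      rw [← tLin_naturality' T (Finsupp.lapply j) z, hz, map_zero, map_zero])
  apply (TensorProduct.finsuppRight A A (T.obj (ModuleCat.of A A)) A J).injective
  rw [map_zero]
  ext j : 1
  rw [TensorProduct.finsuppRight_apply, h1 j]
  rfl

theorem tLin_bijective (hfg : FGSupported T) (M : Type u) [AddCommGroup M] [Module A M] :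
    Function.Bijective (tLin T (ModuleCat.of A M)) := by
  refine ⟨?_, tLin_surjective T hfg M⟩
  obtain ⟨hh, -⟩ := halfExact_and_epi_of_preserves T
  have hπ : Function.Surjective (Finsupp.linearCombination A (id : M → M)) := fun n =>
    ⟨Finsupp.single n 1, by simp⟩
  have hex : Function.Exact (LinearMap.ker (Finsupp.linearCombination A (id : M → M))).subtype
      (Finsupp.linearCombination A (id : M → M)) := LinearMap.exact_subtype_ker_map _
  have hT := hh.exact T (N₁ := LinearMap.ker (Finsupp.linearCombination A (id : M → M)))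
    (N₂ := M →₀ A) (N₃ := M)
    (LinearMap.ker (Finsupp.linearCombination A (id : M → M))).subtype
    (Finsupp.linearCombination A (id : M → M)) (Submodule.injective_subtype _) hπ hex
  exact tLin_injective_of_chase T
    (K := LinearMap.ker (Finsupp.linearCombination A (id : M → M))) (F := M →₀ A) (M := M)
    (LinearMap.ker (Finsupp.linearCombination A (id : M → M))).subtype
    (Finsupp.linearCombination A (id : M → M)) hπ hex hT (tLin_surjective T hfg _)
    (tLin_injective_finsupp T M)

/-- Eilenberg–Watts: `T ≅ T(A) ⊗ -`. -/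
noncomputable def iso (hfg : FGSupported T) : tensorLeft (T.obj (ModuleCat.of A A)) ≅ T :=
  haveI : ∀ M, IsIso ((tNat T).app M) := fun M =>
    (ConcreteCategory.isIso_iff_bijective ((tNat T).app M)).mpr (tLin_bijective T hfg M)
  NatIso.ofComponents (fun M => asIso ((tNat T).app M)) (fun g => (tNat T).naturality g)

end Groth.Agent.H12.EWT3
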