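import Mathlib
import Groth.Prelude.Def_Wider
import Groth.Agent.H58.LCMod
import Groth.Agent.H58.LCFG
import Groth.Agent.H12.EWT3

/-!
# Top local cohomology is a tensor functor

If `cd(R, I) ≤ d` (`R` Noetherian) then `H^d_I` is right exact and `H^d_I(M) ≅ H^d_I(R) ⊗ M`.
-/

set_option autoImplicit false
set_option linter.style.haveILetI false
universe u
open CategoryTheory CategoryTheory.Limits MonoidalCategory TensorProduct

namespace Groth.Agent.H12.TopLC

open Groth.Agent.H58.LC Groth.Agent.H12.EWT Groth.Agent.H12.EWT3

variable {R : Type u} [CommRing R] (I : Ideal R) (d : ℕ)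

theorem additive : (localCohomology I d).Additive :=
  ⟨fun {_ _ f g} => ModuleCat.hom_ext (map_add' I d f g)⟩

theorem linear : Functor.Linear R (localCohomology I d) :=
  ⟨fun {_ _} f a => ModuleCat.hom_ext (map_smul' I d a f)⟩

theorem preservesFiniteColimits (h : LocCoh.CdLE R I d) :
    PreservesFiniteColimits (localCohomology I d) := by
  haveI := additive I d
  rw [Functor.preservesFiniteColimits_iff_forall_exact_map_and_epi]
  intro S hS
  obtain ⟨δ, e1, e2, e3, -⟩ := les I hS d
  constructor
  · exact (ShortComplex.ShortExact.moduleCat_exact_iff_function_exact _).2 e1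
  · rw [ModuleCat.epi_iff_surjective]
    intro y
    haveI : Subsingleton ((localCohomology I (d + 1)).obj S.X₁) :=
      h S.X₁ (d + 1) (Nat.lt_succ_self d)
    exact (e2 y).1 (Subsingleton.elim _ _)

variable [IsNoetherianRing R]

theorem fgSupported :
    @FGSupported R _ (localCohomology I d) := by
  intro M _ _ y
  exact exists_fg_rep I d M y

/-- `H^d_I(R) ⊗ M ≃ H^d_I(M)` when `cd(R, I) ≤ d` -/
theorem tLin_bijective (h : LocCoh.CdLE R I d) (M : Type u) [AddCommGroup M] [Module R M] :
    haveI := additive I d
    haveI := linear I d
    Function.Bijective (tLin (localCohomology I d) (ModuleCat.of R M)) := by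
  haveI := additive I d
  haveI := linear I d
  haveI := preservesFiniteColimits I d h
  exact EWT3.tLin_bijective (localCohomology I d) (fgSupported I d) M

theorem nonempty_equiv (h : LocCoh.CdLE R I d) (M : Type u) [AddCommGroup M] [Module R M] :
    Nonempty (LocCoh.H I d M ≃ₗ[R] TensorProduct R (LocCoh.H I d R) M) := by
  haveI := additive I d
  haveI := linear I d
  exact ⟨(LinearEquiv.ofBijective (tLin (localCohomology I d) (ModuleCat.of R M))
    (tLin_bijective I d h M)).symm⟩

/-- the Eilenberg–Watts isomorphism for top local cohomology -/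
theorem nonempty_iso (h : LocCoh.CdLE R I d) :
    Nonempty (tensorLeft ((localCohomology I d).obj (ModuleCat.of R R)) ≅ localCohomology I d) := by
  haveI := additive I d
  haveI := linear I d
  haveI := preservesFiniteColimits I d h
  exact ⟨EWT3.iso (localCohomology I d) (fgSupported I d)⟩

end Groth.Agent.H12.TopLC
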