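import Mathlib
import Groth.Prelude.Def_Wider
import Groth.Prelude.Def_DRing3
import Groth.Agent.H58.LCMod
import Groth.Agent.S11613
import Groth.Agent.S11616

/-!
# Flat base change for local cohomology (objectwise, by cohomological dimension shifting)
-/

open CategoryTheory TensorProduct
universe u

namespace Groth.Agent.H12.LCFlatBC

open Groth.Agent.H58.LC

/-- two right exact sequences with compatible isomorphisms on the first two terms have isomorphic
cokernels -/
theorem nonempty_equiv_of_exact {A : Type*} [CommRing A] {X Y Z X' Y' Z' : Type*}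
    [AddCommGroup X] [AddCommGroup Y] [AddCommGroup Z] [AddCommGroup X'] [AddCommGroup Y']
    [AddCommGroup Z'] [Module A X] [Module A Y] [Module A Z] [Module A X'] [Module A Y'] [Module A Z']
    (f : X →ₗ[A] Y) (g : Y →ₗ[A] Z) (f' : X' →ₗ[A] Y') (g' : Y' →ₗ[A] Z')
    (hfg : Function.Exact f g) (hg : Function.Surjective g)
    (hfg' : Function.Exact f' g') (hg' : Function.Surjective g')
    (β : Y ≃ₗ[A] Y') (h1 : ∀ x, ∃ x', β (f x) = f' x') (h2 : ∀ x', ∃ x, β (f x) = f' x') :
    Nonempty (Z ≃ₗ[A] Z') := by
  have hker : (LinearMap.ker g).map (β : Y →ₗ[A] Y') = LinearMap.ker g' := by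
    ext y'
    constructor
    · rintro ⟨y, hy, rfl⟩
      obtain ⟨x, rfl⟩ := (hfg y).1 hy
      obtain ⟨x', hx'⟩ := h1 x
      show g' (β (f x)) = 0
      rw [hx']; exact (hfg' _).2 ⟨_, rfl⟩
    · intro hy'
      obtain ⟨x', rfl⟩ := (hfg' y').1 hy'
      obtain ⟨x, hx⟩ := h2 x'
      exact ⟨f x, (hfg _).2 ⟨x, rfl⟩, hx⟩
  exact ⟨(g.quotKerEquivOfSurjective hg).symm.trans
    ((Submodule.Quotient.equiv _ _ β hker).trans (g'.quotKerEquivOfSurjective hg'))⟩

variable {R : Type u} [CommRing R] [IsNoetherianRing R] {R' : Type u} [CommRing R']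
  [IsNoetherianRing R'] [Algebra R R'] [Module.Flat R R'] (I : Ideal R)

variable (M N : Type u) [AddCommGroup M] [Module R M] [AddCommGroup N] [Module R N]

variable (R') in
/-- the base change of `H^0_I(M) → M` -/
noncomputable def a : R' ⊗[R] LocCoh.H I 0 M →ₗ[R'] R' ⊗[R] M := (H0map I M).baseChange R'

lemma a_injective : Function.Injective (a R' I M) :=
  Module.Flat.lTensor_preserves_injective_linearMap (M := R') (H0map I M) (H0map_injective I M)

lemma range_a : LinearMap.range (a R' I M) =
    DRing.torsionSub (Ideal.map (algebraMap R R') I) (R' ⊗[R] M) := by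
  have h : H0map I M = (DRing.torsionSub I M).subtype ∘ₗ (H0equiv I M).toLinearMap := by
    ext y; rfl
  rw [a, h, LinearMap.baseChange_comp, LinearMap.range_comp_of_range_eq_top]
  · exact (Groth.Agent.S11616.result R R' I M).2
  · rw [LinearMap.range_eq_top]
    intro y
    refine ⟨((H0equiv I M).baseChange R R' _ _).symm y, ?_⟩
    have := ((H0equiv I M).baseChange R R' _ _).apply_symm_apply y
    exact this

/-- the degree `0` comparison isomorphism -/
noncomputable def φ : R' ⊗[R] LocCoh.H I 0 M ≃ₗ[R']
    LocCoh.H (Ideal.map (algebraMap R R') I) 0 (R' ⊗[R] M) :=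
  (LinearEquiv.ofInjective (a R' I M) (a_injective I M)).trans
    ((LinearEquiv.ofEq _ _ ((range_a I M).trans
      (range_H0map (Ideal.map (algebraMap R R') I) (R' ⊗[R] M)).symm)).trans
      (LinearEquiv.ofInjective (H0map (Ideal.map (algebraMap R R') I) (R' ⊗[R] M))
        (H0map_injective _ _)).symm)

lemma H0map_φ (x : R' ⊗[R] LocCoh.H I 0 M) :
    H0map (Ideal.map (algebraMap R R') I) (R' ⊗[R] M) (φ I M x) = a R' I M x := by
  set b := H0map (Ideal.map (algebraMap R R') I) (R' ⊗[R] M) with hb
  have hbi : Function.Injective b := H0map_injective _ _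
  set z : LinearMap.range b := (LinearEquiv.ofEq _ _ ((range_a I M).trans
      (range_H0map (Ideal.map (algebraMap R R') I) (R' ⊗[R] M)).symm))
      ((LinearEquiv.ofInjective (a R' I M) (a_injective I M)) x) with hz
  have h1 : φ I M x = (LinearEquiv.ofInjective b hbi).symm z := rfl
  rw [h1]
  have h2 := congrArg Subtype.val ((LinearEquiv.ofInjective b hbi).apply_symm_apply z)
  rw [LinearEquiv.ofInjective_apply] at h2
  rw [h2]
  rfl

variable {M N}

lemma φ_natural (f : M →ₗ[R] N) (x : R' ⊗[R] LocCoh.H I 0 M) :
    φ I N ((Hmap I 0 f).baseChange R' x) =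
      Hmap (Ideal.map (algebraMap R R') I) 0 (f.baseChange R') (φ I M x) := by
  apply H0map_injective (Ideal.map (algebraMap R R') I) (R' ⊗[R] N)
  rw [H0map_φ, H0map_natural, H0map_φ]
  show ((H0map I N).baseChange R' ∘ₗ (Hmap I 0 f).baseChange R') x =
    (f.baseChange R' ∘ₗ (H0map I M).baseChange R') x
  rw [← LinearMap.baseChange_comp, ← LinearMap.baseChange_comp]
  congr 2
  ext y
  exact H0map_natural I f y

variable (M)

lemma exists_inj : ∃ (J : Type u) (_ : AddCommGroup J) (_ : Module R J) (_ : Module.Injective R J)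
    (f : M →ₗ[R] J), Function.Injective f := by
  let X := ModuleCat.of R M
  refine ⟨((Injective.under X : ModuleCat.{u} R) : Type u), inferInstance, inferInstance, ?_,
    (Injective.ι X).hom, ?_⟩
  · haveI : Injective (ModuleCat.of R ((Injective.under X : ModuleCat.{u} R) : Type u)) :=
      (inferInstance : Injective (Injective.under X))
    exact Module.injective_module_of_injective_object R ((Injective.under X : ModuleCat.{u} R) : Type u)
  · exact (ModuleCat.mono_iff_injective _).1 inferInstance

/-- flat base change for local cohomology -/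
theorem main (i : ℕ) : ∀ (M : Type u) [AddCommGroup M] [Module R M],
    Nonempty (R' ⊗[R] LocCoh.H I i M ≃ₗ[R']
      LocCoh.H (Ideal.map (algebraMap R R') I) i (R' ⊗[R] M)) := by
  induction i with
  | zero => exact fun M _ _ => ⟨φ I M⟩
  | succ i ih =>
    intro M _ _
    obtain ⟨J, _, _, _, f, hf⟩ := exists_inj (R := R) M
    let Q := J ⧸ LinearMap.range f
    let g : J →ₗ[R] Q := (LinearMap.range f).mkQ
    have hg : Function.Surjective g := Submodule.mkQ_surjective _
    have hfg : Function.Exact f g := LinearMap.exact_map_mkQ_range f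
    obtain ⟨δ, h1, h2, h3, h4⟩ := les_mod I f g hf hg hfg i
    have hf' : Function.Injective (f.baseChange R') :=
      Module.Flat.lTensor_preserves_injective_linearMap (M := R') f hf
    have hg' : Function.Surjective (g.baseChange R') := LinearMap.lTensor_surjective R' hg
    have hfg' : Function.Exact (f.baseChange R') (g.baseChange R') := lTensor_exact R' hfg hg
    obtain ⟨δ', h1', h2', h3', h4'⟩ := les_mod (Ideal.map (algebraMap R R') I)
      (f.baseChange R') (g.baseChange R') hf' hg' hfg' i
    haveI : Subsingleton (LocCoh.H I (i + 1) J) :=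
      subsingleton_H_of_injective I (i + 1) (Nat.succ_pos i)
    haveI : Subsingleton (LocCoh.H (Ideal.map (algebraMap R R') I) (i + 1) (R' ⊗[R] J)) :=
      Groth.Agent.S11613.result R R' I J (i + 1) (Nat.succ_pos i)
    have hδ : Function.Surjective δ := fun y => (h3 y).1 (Subsingleton.elim _ _)
    have hδ' : Function.Surjective δ' := fun y => (h3' y).1 (Subsingleton.elim _ _)
    have hT : Function.Exact ((Hmap I i g).baseChange R') (δ.baseChange R') :=
      lTensor_exact R' h2 hδ
    have hTs : Function.Surjective (δ.baseChange R') := LinearMap.lTensor_surjective R' hδ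
    cases i with
    | zero =>
      exact nonempty_equiv_of_exact _ _ _ _ hT hTs h2' hδ' (φ I Q)
        (fun x => ⟨φ I J x, φ_natural I g x⟩)
        (fun x' => ⟨(φ I J).symm x', by rw [φ_natural I g, LinearEquiv.apply_symm_apply]⟩)
    | succ i =>
      obtain ⟨β⟩ := ih Q
      haveI : Subsingleton (LocCoh.H I (i + 1) J) :=
        subsingleton_H_of_injective I (i + 1) (Nat.succ_pos i)
      haveI : Subsingleton (LocCoh.H (Ideal.map (algebraMap R R') I) (i + 1) (R' ⊗[R] J)) :=
        Groth.Agent.S11613.result R R' I J (i + 1) (Nat.succ_pos i)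
      have hz : Hmap I (i + 1) g = 0 := by
        ext y
        rw [Subsingleton.elim y 0, map_zero, map_zero]
      refine nonempty_equiv_of_exact _ _ _ _ hT hTs h2' hδ' β (fun x => ⟨0, ?_⟩) (fun x' => ⟨0, ?_⟩)
      · rw [hz, LinearMap.baseChange_zero, LinearMap.zero_apply, map_zero, map_zero]
      · rw [Subsingleton.elim x' 0, map_zero, map_zero, map_zero]

end Groth.Agent.H12.LCFlatBC
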