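import Mathlib
import Groth.Agent.H12.FlatCxCone
import Groth.Agent.H12.ECMLift
import Groth.Agent.H82.TorBC

/-!
# Lifting bounded above acyclic complexes along `R → R/I` for a class `Pc` (helper12)
-/

set_option autoImplicit false
set_option linter.style.haveILetI false
universe u
open CategoryTheory CategoryTheory.Limits TensorProduct

namespace Groth.Agent.H12.AcycLift

open Groth.Agent.H12.ECMLift (one_tmul_surjective one_tmul_eq_zero_iff tmul_eq_smul_one)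

section Abstract

variable {R : Type u} [CommRing R] (I : Ideal R)

/-- the abstract inductive step. -/
theorem step (Pc : ObjectProperty (ModuleCat.{u} R)) [Pc.IsClosedUnderIsomorphisms]
    (h1 : ∀ X : ModuleCat.{u} R, Pc X → Module.Projective R X)
    (h2 : ∀ X Y : ModuleCat.{u} R, Pc X → Pc (ModuleCat.of R (X × Y)) → Pc Y)
    (h3 : ∀ (X Y : ModuleCat.{u} R) (f : X ⟶ Y), Pc X → Pc Y →
      LinearMap.range f.hom ⊔ I • (⊤ : Submodule R Y) = ⊤ → Function.Surjective f.hom)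
    {X0 X1 Z0 Z1 Z2 : Type u} [AddCommGroup X0] [Module R X0] [AddCommGroup X1] [Module R X1]
    [AddCommGroup Z0] [Module R Z0] [AddCommGroup Z1] [Module R Z1] [AddCommGroup Z2] [Module R Z2]
    (hX0 : Pc (ModuleCat.of R X0))
    (d0 : Z0 →ₗ[R] Z1) (d1 : Z1 →ₗ[R] Z2) (hex : ∀ z, d1 z = 0 → ∃ y, d0 y = z)
    (hdd : ∀ y, d1 (d0 y) = 0)
    (ρ0 : X0 →ₗ[R] Z0) (ρ1 : X1 →ₗ[R] Z1) (hs0 : Function.Surjective ρ0)
    (hk0 : ∀ x, ρ0 x = 0 ↔ x ∈ I • (⊤ : Submodule R X0))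
    (hk1 : ∀ x, ρ1 x = 0 ↔ x ∈ I • (⊤ : Submodule R X1))
    (W' : Submodule R X1) (hW'P : Pc (ModuleCat.of R W'))
    (hW'r : ∃ r : X1 →ₗ[R] W', ∀ w : W', r w = w)
    (hW'c : ∀ z, (∃ w ∈ W', ρ1 w = z) ↔ d1 z = 0) :
    ∃ φ : X0 →ₗ[R] X1, LinearMap.range φ = W' ∧ (∀ x, ρ1 (φ x) = d0 (ρ0 x)) ∧
      Pc (ModuleCat.of R (LinearMap.ker φ)) ∧
      (∃ r : X0 →ₗ[R] LinearMap.ker φ, ∀ w : LinearMap.ker φ, r w = w) ∧
      ∀ z, (∃ w ∈ LinearMap.ker φ, ρ0 w = z) ↔ d0 z = 0 := by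
  classical
  obtain ⟨r, hr⟩ := hW'r
  haveI : Module.Projective R X0 := h1 _ hX0
  haveI : Module.Projective R W' := h1 _ hW'P
  -- elements of `W'` killed by `ρ1` lie in `I W'`
  have hIW : ∀ w : W', ρ1 (w : X1) = 0 → w ∈ I • (⊤ : Submodule R W') := by
    intro w hw
    have h1' : (w : X1) ∈ I • (⊤ : Submodule R X1) := (hk1 _).mp hw
    have h2' : r (w : X1) ∈ (I • (⊤ : Submodule R X1)).map r := Submodule.mem_map_of_mem h1'
    rw [Submodule.map_smul'', hr] at h2'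
    exact Submodule.smul_mono le_rfl le_top h2'
  -- lifting
  let f : W' →ₗ[R] Z1 := ρ1.comp W'.subtype
  let g : X0 →ₗ[R] Z1 := d0.comp ρ0
  have hg : ∀ x, g x ∈ LinearMap.range f := by
    intro x
    obtain ⟨w, hw, hwz⟩ := (hW'c (g x)).mpr (hdd _)
    exact ⟨⟨w, hw⟩, hwz⟩
  obtain ⟨φ0, hφ0⟩ := Module.projective_lifting_property f.rangeRestrict
    (g.codRestrict _ hg) f.surjective_rangeRestrict
  have hφ0' : ∀ x, ρ1 ((φ0 x : W') : X1) = d0 (ρ0 x) := by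
    intro x
    have h := congrArg (fun h => ((h x : LinearMap.range f) : Z1)) hφ0
    exact h
  -- surjectivity of φ0
  have hsurj : Function.Surjective φ0 := by
    refine h3 (ModuleCat.of R X0) (ModuleCat.of R W') (ModuleCat.ofHom φ0) hX0 hW'P ?_
    rw [eq_top_iff]
    intro w _
    obtain ⟨y, hy⟩ := hex (ρ1 (w : X1)) ((hW'c _).mp ⟨w, w.2, rfl⟩)
    obtain ⟨x, rfl⟩ := hs0 y
    have h0 : ρ1 (((w - φ0 x : W')) : X1) = 0 := by
      rw [Submodule.coe_sub, map_sub, hφ0', hy, sub_self]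
    have hmem := hIW _ h0
    have hw : w = φ0 x + (w - φ0 x) := by abel
    rw [hw]
    exact Submodule.add_mem_sup ⟨x, rfl⟩ hmem
  obtain ⟨s, hs⟩ := Module.projective_lifting_property φ0 LinearMap.id hsurj
  have hs' : ∀ w, φ0 (s w) = w := fun w => congrArg (fun h => h w) hs
  let φ : X0 →ₗ[R] X1 := W'.subtype.comp φ0
  have hker : ∀ x, x ∈ LinearMap.ker φ ↔ φ0 x = 0 := by
    intro x
    rw [LinearMap.mem_ker]
    show ((φ0 x : W') : X1) = 0 ↔ _
    exact Submodule.coe_eq_zero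
  -- the retraction onto the kernel
  let q : X0 →ₗ[R] X0 := LinearMap.id - s.comp φ0
  have hq : ∀ x, q x ∈ LinearMap.ker φ := by
    intro x
    rw [hker]
    show φ0 (x - s (φ0 x)) = 0
    rw [map_sub, hs', sub_self]
  let k : X0 →ₗ[R] LinearMap.ker φ := q.codRestrict _ hq
  have hk : ∀ w : LinearMap.ker φ, k w = w := by
    intro w
    apply Subtype.ext
    show (w : X0) - s (φ0 (w : X0)) = w
    rw [(hker _).mp w.2, map_zero, sub_zero]
  have hkx : ∀ x, ((k x : LinearMap.ker φ) : X0) = x - s (φ0 x) := fun x => rfl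
  refine ⟨φ, ?_, ?_, ?_, ⟨k, hk⟩, ?_⟩
  · show LinearMap.range (W'.subtype.comp φ0) = W'
    rw [LinearMap.range_comp, LinearMap.range_eq_top.mpr hsurj, Submodule.map_top,
      Submodule.range_subtype]
  · intro x
    exact hφ0' x
  · -- `X0 ≃ W' × ker φ`
    let e : X0 ≃ₗ[R] (W' × LinearMap.ker φ) :=
      { toFun := fun x => (φ0 x, k x)
        map_add' := fun x y => by rw [map_add, map_add]; rfl
        map_smul' := fun c x => by rw [map_smul, map_smul]; rfl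
        invFun := fun p => s p.1 + (p.2 : X0)
        left_inv := fun x => by
          show s (φ0 x) + ((k x : LinearMap.ker φ) : X0) = x
          rw [hkx]; abel
        right_inv := fun p => by
          have hp2 : φ0 (p.2 : X0) = 0 := (hker _).mp p.2.2
          have e1 : φ0 (s p.1 + (p.2 : X0)) = p.1 := by rw [map_add, hs', hp2, add_zero]
          apply Prod.ext
          · exact e1
          · apply Subtype.ext
            show ((k (s p.1 + (p.2 : X0)) : LinearMap.ker φ) : X0) = p.2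
            rw [hkx, e1]; abel }
    have hprod : Pc (ModuleCat.of R (W' × LinearMap.ker φ)) :=
      Pc.prop_of_iso e.toModuleIso hX0
    exact h2 (ModuleCat.of R W') (ModuleCat.of R (LinearMap.ker φ)) hW'P hprod
  · intro z
    constructor
    · rintro ⟨w, hw, rfl⟩
      have h0 : φ0 w = 0 := (hker w).mp hw
      rw [← hφ0', h0]
      simp
    · intro hz
      obtain ⟨x, rfl⟩ := hs0 z
      have h0 : ρ1 ((φ0 x : W') : X1) = 0 := by rw [hφ0', hz]
      have hmem := hIW _ h0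
      have htop : (⊤ : Submodule R W') = (⊤ : Submodule R X0).map φ0 := by
        rw [Submodule.map_top, LinearMap.range_eq_top.mpr hsurj]
      rw [htop, ← Submodule.map_smul''] at hmem
      obtain ⟨y, hy, hyx⟩ := hmem
      refine ⟨x - y, ?_, ?_⟩
      · rw [hker, map_sub, hyx, sub_self]
      · rw [map_sub, (hk0 y).mpr hy, sub_zero]

end Abstract

section Rho

variable {R : Type u} [CommRing R] (I : Ideal R)

/-- `x ↦ θ (1 ⊗ x)` as an `R`-linear map to the restriction of scalars. -/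
noncomputable def rho {X : Type u} [AddCommGroup X] [Module R X] {Z : ModuleCat.{u} (R ⧸ I)}
    (θ : (R ⧸ I) ⊗[R] X ≃ₗ[R ⧸ I] Z) :
    X →ₗ[R] ((ModuleCat.restrictScalars (Ideal.Quotient.mk I)).obj Z) where
  toFun x := θ ((1 : R ⧸ I) ⊗ₜ[R] x)
  map_add' x y := by
    show θ ((1 : R ⧸ I) ⊗ₜ[R] (x + y)) = θ ((1 : R ⧸ I) ⊗ₜ[R] x) + θ ((1 : R ⧸ I) ⊗ₜ[R] y)
    rw [TensorProduct.tmul_add, map_add]
  map_smul' r x := by
    show θ ((1 : R ⧸ I) ⊗ₜ[R] (r • x)) = Ideal.Quotient.mk I r • θ ((1 : R ⧸ I) ⊗ₜ[R] x)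
    rw [← map_smul]
    congr 1
    rw [TensorProduct.tmul_smul, ← tmul_eq_smul_one, TensorProduct.smul_tmul', smul_eq_mul,
      mul_one]

theorem rho_apply {X : Type u} [AddCommGroup X] [Module R X] {Z : ModuleCat.{u} (R ⧸ I)}
    (θ : (R ⧸ I) ⊗[R] X ≃ₗ[R ⧸ I] Z) (x : X) :
    rho I θ x = θ ((1 : R ⧸ I) ⊗ₜ[R] x) := rfl

theorem rho_surjective {X : Type u} [AddCommGroup X] [Module R X] {Z : ModuleCat.{u} (R ⧸ I)}
    (θ : (R ⧸ I) ⊗[R] X ≃ₗ[R ⧸ I] Z) : Function.Surjective (rho I θ) := by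
  intro z
  obtain ⟨t, ht⟩ := θ.surjective z
  obtain ⟨x, hx⟩ := one_tmul_surjective I X t
  refine ⟨x, ?_⟩
  rw [rho_apply, ← ht, ← hx]
  rfl

theorem rho_eq_zero_iff {X : Type u} [AddCommGroup X] [Module R X] {Z : ModuleCat.{u} (R ⧸ I)}
    (θ : (R ⧸ I) ⊗[R] X ≃ₗ[R ⧸ I] Z) (x : X) :
    rho I θ x = 0 ↔ x ∈ I • (⊤ : Submodule R X) := by
  rw [← one_tmul_eq_zero_iff I x, rho_apply]
  exact θ.map_eq_zero_iff

end Rho

section Main

variable {R : Type u} [CommRing R] (I : Ideal R)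
  (Pc : ObjectProperty (ModuleCat.{u} R))
  (E : CochainComplex (ModuleCat.{u} (R ⧸ I)) ℤ)
  (X : ℤ → ModuleCat.{u} R)
  (θ : ∀ i, (R ⧸ I) ⊗[R] X i ≃ₗ[R ⧸ I] E.X i)

/-- restriction of scalars of the terms of `E`. -/
noncomputable abbrev Zt (i : ℤ) : ModuleCat.{u} R :=
  (ModuleCat.restrictScalars (Ideal.Quotient.mk I)).obj (E.X i)

/-- the differentials of `E`, as `R`-linear maps. -/
noncomputable abbrev dZ (i j : ℤ) : Zt I E i →ₗ[R] Zt I E j :=
  ((ModuleCat.restrictScalars (Ideal.Quotient.mk I)).map (E.d i j)).hom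

/-- the invariant of the downward recursion. -/
def InvAt (i : ℤ) (W : Submodule R (X i)) : Prop :=
  Pc (ModuleCat.of R W) ∧ (∃ r : X i →ₗ[R] W, ∀ w : W, r w = w) ∧
    ∀ z : Zt I E i, (∃ w ∈ W, rho I (θ i) w = z) ↔ dZ I E i (i + 1) z = 0

/-- the data of the downward recursion. -/
def Dat (i : ℤ) : Type u := {W : Submodule R (X i) // InvAt I Pc E X θ i W}

variable [Pc.IsClosedUnderIsomorphisms]

theorem top_inv (hX : ∀ i, Pc (X i)) (i : ℤ) (hz : Subsingleton (E.X i)) :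
    InvAt I Pc E X θ i ⊤ := by
  refine ⟨?_, ⟨LinearMap.codRestrict ⊤ LinearMap.id (fun _ => Submodule.mem_top), ?_⟩, ?_⟩
  · exact Pc.prop_of_iso (Submodule.topEquiv (R := R) (M := X i)).symm.toModuleIso (hX i)
  · intro w
    exact Subtype.ext rfl
  · intro z
    haveI : Subsingleton (Zt I E i) := hz
    constructor
    · intro _
      rw [Subsingleton.elim z 0, map_zero]
    · intro _
      exact ⟨0, Submodule.mem_top, Subsingleton.elim _ _⟩

theorem stepφ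
    (h1 : ∀ X : ModuleCat.{u} R, Pc X → Module.Projective R X)
    (h2 : ∀ X Y : ModuleCat.{u} R, Pc X → Pc (ModuleCat.of R (X × Y)) → Pc Y)
    (h3 : ∀ (X Y : ModuleCat.{u} R) (f : X ⟶ Y), Pc X → Pc Y →
      LinearMap.range f.hom ⊔ I • (⊤ : Submodule R Y) = ⊤ → Function.Surjective f.hom)
    (hX : ∀ i, Pc (X i)) (hEa : E.Acyclic)
    (i j : ℤ) (h : i + 1 = j) (W' : Dat I Pc E X θ j) :
    ∃ φ : X i →ₗ[R] X j, LinearMap.range φ = W'.1 ∧
      (∀ x, rho I (θ j) (φ x) = dZ I E i j (rho I (θ i) x)) ∧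
      InvAt I Pc E X θ i (LinearMap.ker φ) := by
  subst h
  obtain ⟨W', hP, hr, hc⟩ := W'
  have hex : ∀ z : Zt I E (i + 1), dZ I E (i + 1) (i + 1 + 1) z = 0 →
      ∃ y : Zt I E i, dZ I E i (i + 1) y = z := by
    intro z hz
    exact (Groth.Agent.H12.FlatCx.exactAt_iff_elem E i (i + 1) (i + 1 + 1)
      (ComplexShape.prev_eq' _ (by simp)) (ComplexShape.next_eq' _ (by simp))).mp
      (hEa (i + 1)) z hz
  have hdd : ∀ y : Zt I E i, dZ I E (i + 1) (i + 1 + 1) (dZ I E i (i + 1) y) = 0 := by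
    intro y
    have := congrArg (fun f => f.hom y) (E.d_comp_d i (i + 1) (i + 1 + 1))
    simp only [ModuleCat.hom_comp, LinearMap.comp_apply, ModuleCat.hom_zero,
      LinearMap.zero_apply] at this
    exact this
  obtain ⟨φ, hφ1, hφ2, hφ3, hφ4, hφ5⟩ := step I Pc h1 h2 h3 (hX i)
    (dZ I E i (i + 1)) (dZ I E (i + 1) (i + 1 + 1)) hex hdd
    (rho I (θ i)) (rho I (θ (i + 1))) (rho_surjective I (θ i))
    (rho_eq_zero_iff I (θ i)) (rho_eq_zero_iff I (θ (i + 1))) W' hP hr hc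
  exact ⟨φ, hφ1, hφ2, hφ3, hφ4, hφ5⟩

end Main

section Final

variable {R : Type u} [CommRing R] (I : Ideal R)

/-- the comparison `extendScalars X ≃ Z` induced by `θ`. -/
noncomputable def eqv (X : ModuleCat.{u} R) (Z : ModuleCat.{u} (R ⧸ I))
    (θ : (R ⧸ I) ⊗[R] X ≃ₗ[R ⧸ I] Z) :
    (ModuleCat.extendScalars (Ideal.Quotient.mk I)).obj X ≃ₗ[R ⧸ I] Z :=
  (Groth.Agent.H82.TorBC.bcEquiv R (R ⧸ I) X).symm ≪≫ₗ θ

theorem eqv_tmul (X : ModuleCat.{u} R) (Z : ModuleCat.{u} (R ⧸ I))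
    (θ : (R ⧸ I) ⊗[R] X ≃ₗ[R ⧸ I] Z) (s : R ⧸ I) (x : X) :
    eqv I X Z θ ((s ⊗ₜ[R] x : (ModuleCat.extendScalars (Ideal.Quotient.mk I)).obj X)) =
      θ (s ⊗ₜ[R] x) := by
  have h : (Groth.Agent.H82.TorBC.bcEquiv R (R ⧸ I) X).symm
      ((s ⊗ₜ[R] x : (ModuleCat.extendScalars (Ideal.Quotient.mk I)).obj X)) = s ⊗ₜ[R] x := by
    exact (LinearEquiv.symm_apply_eq _).mpr rfl
  show θ ((Groth.Agent.H82.TorBC.bcEquiv R (R ⧸ I) X).symm _) = _
  rw [h]

theorem main (R : Type u) [CommRing R] (I : Ideal R)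
    (Pc : ObjectProperty (ModuleCat.{u} R)) [Pc.IsClosedUnderIsomorphisms]
    (h1 : ∀ X : ModuleCat.{u} R, Pc X → Module.Projective R X)
    (h2 : ∀ X Y : ModuleCat.{u} R, Pc X → Pc (ModuleCat.of R (X × Y)) → Pc Y)
    (h3 : ∀ (X Y : ModuleCat.{u} R) (f : X ⟶ Y), Pc X → Pc Y →
      LinearMap.range f.hom ⊔ I • (⊤ : Submodule R Y) = ⊤ → Function.Surjective f.hom)
    (E : CochainComplex (ModuleCat.{u} (R ⧸ I)) ℤ) (b : ℤ)
    (hEb : ∀ i : ℤ, b < i → IsZero (E.X i)) (hEa : E.Acyclic)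
    (hEt : ∀ i : ℤ, ∃ X : ModuleCat.{u} R, Pc X ∧
      Nonempty (TensorProduct R (R ⧸ I) X ≃ₗ[R ⧸ I] E.X i)) :
    ∃ (P : CochainComplex (ModuleCat.{u} R) ℤ), (∀ i : ℤ, b < i → IsZero (P.X i)) ∧ P.Acyclic ∧
      (∀ i : ℤ, Pc (P.X i)) ∧
      Nonempty ((((ModuleCat.extendScalars (Ideal.Quotient.mk I)).mapHomologicalComplex
        (ComplexShape.up ℤ)).obj P) ≅ E) := by
  classical
  choose X hX hθ using hEt
  let θ : ∀ i, (R ⧸ I) ⊗[R] X i ≃ₗ[R ⧸ I] E.X i := fun i => (hθ i).some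
  have hEz : ∀ i, b < i → Subsingleton (E.X i) :=
    fun i hi => ModuleCat.subsingleton_of_isZero (hEb i hi)
  have hXz : ∀ i, b < i → Subsingleton (X i) := by
    intro i hi
    haveI := hEz i hi
    have htop : I • (⊤ : Submodule R (X i)) = ⊤ := by
      rw [eq_top_iff]
      intro x _
      rw [← one_tmul_eq_zero_iff I x]
      exact (θ i).injective (Subsingleton.elim _ _)
    have hs := h3 (X i) (X i) 0 (hX i) (hX i) (by rw [htop]; simp)
    refine ⟨fun x y => ?_⟩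
    obtain ⟨x', hx⟩ := hs x
    obtain ⟨y', hy⟩ := hs y
    rw [← hx, ← hy]
    simp
  choose φ hφ1 hφ2 hφ3 using stepφ I Pc E X θ h1 h2 h3 hX hEa
  let W : ∀ i : ℤ, Dat I Pc E X θ i := fun i =>
    Int.inductionOn' (motive := fun i => Dat I Pc E X θ i) i (b + 1)
      ⟨⊤, top_inv I Pc E X θ hX (b + 1) (hEz _ (by omega))⟩
      (fun k hk _ => ⟨⊤, top_inv I Pc E X θ hX (k + 1) (hEz _ (by omega))⟩)
      (fun k _ Wk => ⟨LinearMap.ker (φ (k - 1) k (by ring) Wk), hφ3 (k - 1) k (by ring) Wk⟩)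
  have hW : ∀ k, k ≤ b + 1 →
      (W (k - 1)).1 = LinearMap.ker (φ (k - 1) k (by ring) (W k)) := by
    intro k hk
    exact congrArg Subtype.val
      (Int.inductionOn'_sub_one (motive := fun i => Dat I Pc E X θ i) hk)
  have key : ∀ k, k ≤ b + 1 → ∀ (i : ℤ) (hi : i + 1 = k),
      (W i).1 = LinearMap.ker (φ i k hi (W k)) := by
    intro k hk i hi
    obtain rfl : i = k - 1 := by omega
    exact hW k hk
  let δ : ∀ i : ℤ, X i ⟶ X (i + 1) := fun i => ModuleCat.ofHom (φ i (i + 1) rfl (W (i + 1)))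
  have hA : ∀ i, LinearMap.range (δ i).hom = (W (i + 1)).1 :=
    fun i => hφ1 i (i + 1) rfl (W (i + 1))
  have hB : ∀ i (x : X i), rho I (θ (i + 1)) ((δ i).hom x) = dZ I E i (i + 1) (rho I (θ i) x) :=
    fun i x => hφ2 i (i + 1) rfl (W (i + 1)) x
  have hC : ∀ i, (W i).1 = LinearMap.ker (δ i).hom := by
    intro i
    by_cases hi : i ≤ b
    · exact key (i + 1) (by omega) i rfl
    · haveI := hXz i (by omega)
      apply Submodule.ext
      intro x
      rw [Subsingleton.elim x 0]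
      exact ⟨fun _ => Submodule.zero_mem _, fun _ => Submodule.zero_mem _⟩
  have sq : ∀ i, δ i ≫ δ (i + 1) = 0 := by
    intro i
    ext x
    have hx : (δ i).hom x ∈ LinearMap.ker (δ (i + 1)).hom := by
      rw [← hC, ← hA]
      exact ⟨x, rfl⟩
    exact hx
  let P : CochainComplex (ModuleCat.{u} R) ℤ := CochainComplex.of X δ sq
  have hPd : ∀ i, P.d i (i + 1) = δ i := fun i => CochainComplex.of_d _ _ i
  refine ⟨P, ?_, ?_, ?_, ?_⟩
  · intro i hi
    haveI := hXz i hi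
    exact ModuleCat.isZero_of_subsingleton (X i)
  · intro j
    obtain ⟨i, rfl⟩ : ∃ i, j = i + 1 := ⟨j - 1, by ring⟩
    rw [Groth.Agent.H12.FlatCx.exactAt_iff_elem P i (i + 1) (i + 1 + 1)
      (ComplexShape.prev_eq' _ (by simp)) (ComplexShape.next_eq' _ (by simp))]
    intro x hx
    rw [hPd] at hx ⊢
    have hx' : x ∈ LinearMap.range (δ i).hom := by
      rw [hA, hC]
      exact hx
    exact hx'
  · intro i
    exact hX i
  · refine ⟨HomologicalComplex.Hom.isoOfComponents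
      (fun i => (eqv I (X i) (E.X i) (θ i)).toModuleIso) ?_⟩
    intro i j hij
    obtain rfl : i + 1 = j := hij
    apply ModuleCat.ExtendScalars.hom_ext
    intro x
    show (E.d i (i + 1)).hom (eqv I (X i) (E.X i) (θ i) ((1 : R ⧸ I) ⊗ₜ[R] x)) =
      eqv I (X (i + 1)) (E.X (i + 1)) (θ (i + 1))
        (((ModuleCat.extendScalars (Ideal.Quotient.mk I)).map (P.d i (i + 1))).hom
          ((1 : R ⧸ I) ⊗ₜ[R] x))
    rw [hPd]
    refine Eq.trans ?_
      (eqv_tmul I (X (i + 1)) (E.X (i + 1)) (θ (i + 1)) 1 ((δ i).hom x)).symm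
    rw [eqv_tmul]
    exact (hB i x).symm

end Final

end Groth.Agent.H12.AcycLift
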