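import Groth.Agent.H12.AcycLift
import Groth.Agent.H12.ECMLift2

/-!
# Lifting complexes with terms in a class `Pc` along `A → A/I` (helper12)
-/

set_option autoImplicit false
set_option linter.style.haveILetI false
universe u
open CategoryTheory CategoryTheory.Limits TensorProduct

namespace Groth.Agent.H12.AcycLift

open Groth.Agent.H12.ECMLift

section PartA

variable {A : Type u} [CommRing A] (I : Ideal A)

theorem bcEquiv_tmul (X : Type u) [AddCommGroup X] [Module A X] (s : A ⧸ I) (x : X) :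
    Groth.Agent.H82.TorBC.bcEquiv A (A ⧸ I) X (s ⊗ₜ[A] x) =
      (s ⊗ₜ[A] x : (ModuleCat.extendScalars (Ideal.Quotient.mk I)).obj (ModuleCat.of A X)) := rfl

/-- the acyclic lift, with the reduction map as a morphism to the restriction of scalars. -/
theorem exists_acyclic_lift_map
    (Pc : ObjectProperty (ModuleCat.{u} A)) [Pc.IsClosedUnderIsomorphisms]
    (h1 : ∀ X : ModuleCat.{u} A, Pc X → Module.Projective A X)
    (h2 : ∀ X Y : ModuleCat.{u} A, Pc X → Pc (ModuleCat.of A (X × Y)) → Pc Y)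
    (h3 : ∀ (X Y : ModuleCat.{u} A) (f : X ⟶ Y), Pc X → Pc Y →
      LinearMap.range f.hom ⊔ I • (⊤ : Submodule A Y) = ⊤ → Function.Surjective f.hom)
    (C : CochainComplex (ModuleCat.{u} (A ⧸ I)) ℤ) (b : ℤ)
    (hCb : ∀ i : ℤ, b < i → IsZero (C.X i)) (hCa : C.Acyclic)
    (hCt : ∀ i : ℤ, ∃ X : ModuleCat.{u} A, Pc X ∧
      Nonempty (TensorProduct A (A ⧸ I) X ≃ₗ[A ⧸ I] C.X i)) :
    ∃ (Ac : CochainComplex (ModuleCat.{u} A) ℤ) (P : Ac ⟶ (Rc I).obj C),
      (∀ i : ℤ, b < i → IsZero (Ac.X i)) ∧ Ac.Acyclic ∧ (∀ i : ℤ, Pc (Ac.X i)) ∧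
      (∀ n, Function.Surjective (P.f n).hom) ∧
      (∀ n, LinearMap.ker (P.f n).hom = I • (⊤ : Submodule A (Ac.X n))) := by
  obtain ⟨Ac, hb, hac, hP, ⟨e⟩⟩ := main A I Pc h1 h2 h3 C b hCb hCa hCt
  let en : ∀ n, ((ModuleCat.extendScalars (Ideal.Quotient.mk I)).obj (Ac.X n)) ≃ₗ[A ⧸ I] C.X n :=
    fun n => ((HomologicalComplex.eval (ModuleCat.{u} (A ⧸ I)) (ComplexShape.up ℤ) n).mapIso e).toLinearEquiv
  let θ : ∀ n, (A ⧸ I) ⊗[A] Ac.X n ≃ₗ[A ⧸ I] C.X n := fun n =>
    (Groth.Agent.H82.TorBC.bcEquiv A (A ⧸ I) (Ac.X n)).trans (en n)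
  have hθ : ∀ n (x : Ac.X n), θ n ((1 : A ⧸ I) ⊗ₜ[A] x) =
      (e.hom.f n).hom ((1 : A ⧸ I) ⊗ₜ[A] x :
        (ModuleCat.extendScalars (Ideal.Quotient.mk I)).obj (Ac.X n)) := fun n x => rfl
  refine ⟨Ac, ⟨fun n => (ModuleCat.ofHom (rho I (θ n)) : ModuleCat.of A (Ac.X n) ⟶
    ModuleCat.of A ((ModuleCat.restrictScalars (Ideal.Quotient.mk I)).obj (C.X n))), ?_⟩,
    hb, hac, hP, ?_, ?_⟩
  · intro i j hij
    obtain rfl : i + 1 = j := hij
    apply ModuleCat.hom_ext
    apply LinearMap.ext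
    intro x
    show (C.d i (i + 1)).hom (θ i ((1 : A ⧸ I) ⊗ₜ[A] x)) =
      θ (i + 1) ((1 : A ⧸ I) ⊗ₜ[A] (Ac.d i (i + 1)).hom x)
    rw [hθ, hθ]
    have hc := congrArg (fun f => f.hom ((1 : A ⧸ I) ⊗ₜ[A] x :
        (ModuleCat.extendScalars (Ideal.Quotient.mk I)).obj (Ac.X i))) (e.hom.comm i (i + 1))
    simp only [ModuleCat.hom_comp, LinearMap.comp_apply] at hc
    exact hc
  · intro n
    exact rho_surjective I (θ n)
  · intro n
    ext x
    rw [LinearMap.mem_ker]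
    exact rho_eq_zero_iff I (θ n) x

end PartA

section PartB

variable {A : Type u} [CommRing A]

/-- **Lifting a complex with terms in `Pc` along a quasi-isomorphism of its reduction.** -/
theorem main' (I : Ideal A)
    (Pc : ObjectProperty (ModuleCat.{u} A)) [Pc.IsClosedUnderIsomorphisms]
    (h1 : ∀ X : ModuleCat.{u} A, Pc X → Module.Projective A X)
    (h2 : ∀ X Y : ModuleCat.{u} A, Pc X → (Pc (ModuleCat.of A (X × Y)) ↔ Pc Y))
    (h3 : ∀ (X Y : ModuleCat.{u} A) (f : X ⟶ Y), Pc X → Pc Y →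
      LinearMap.range f.hom ⊔ I • (⊤ : Submodule A Y) = ⊤ → Function.Surjective f.hom)
    (M : CochainComplex (ModuleCat.{u} A) ℤ) (N : CochainComplex (ModuleCat.{u} (A ⧸ I)) ℤ)
    (b : ℤ)
    (hM : ∀ n : ℤ, b < n → IsZero (M.X n)) (hN : ∀ n : ℤ, b < n → IsZero (N.X n))
    (hMP : ∀ n, Pc (M.X n))
    (hNt : ∀ i : ℤ, ∃ X : ModuleCat.{u} A, Pc X ∧
      Nonempty (TensorProduct A (A ⧸ I) X ≃ₗ[A ⧸ I] N.X i))
    (ψ : (Tc I).obj M ⟶ (Rc I).obj N) [QuasiIso ψ] :
    ∃ (L : CochainComplex (ModuleCat.{u} A) ℤ) (φ : M ⟶ L) (e : (Tc I).obj L ≅ (Rc I).obj N),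
      (∀ n : ℤ, b < n → IsZero (L.X n)) ∧ (∀ n, Pc (L.X n)) ∧ QuasiIso φ ∧
      (Tc I).map φ ≫ e.hom = ψ := by
  classical
  have hKz : ∀ n, b < n → IsZero ((Cone I M N ψ).X n) := by
    intro n hn
    exact Cone_isZero I M N ψ n (hM (n + 1) (by omega)) (hN n hn)
  have hCt : ∀ i : ℤ, ∃ X : ModuleCat.{u} A, Pc X ∧
      Nonempty (TensorProduct A (A ⧸ I) X ≃ₗ[A ⧸ I] (Cone I M N ψ).X i) := by
    intro i
    obtain ⟨X, hX, ⟨θ⟩⟩ := hNt i
    refine ⟨ModuleCat.of A (M.X (i + 1) × X), (h2 (M.X (i + 1)) X (hMP (i + 1))).mpr hX, ⟨?_⟩⟩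
    exact (TensorProduct.prodRight A (A ⧸ I) (A ⧸ I) (M.X (i + 1)) X).trans
      (LinearEquiv.prodCongr (LinearEquiv.refl (A ⧸ I) _) θ)
  obtain ⟨Ac, P, hAcb, hAcac, hAcP, hPs, hPk⟩ := exists_acyclic_lift_map I Pc h1
    (fun X Y hX hXY => (h2 X Y hX).mp hXY) h3 (Cone I M N ψ) b hKz (Cone_acyclic I M N ψ) hCt
  haveI : Ac.IsStrictlyLE b := (Ac.isStrictlyLE_iff b).2 hAcb
  haveI : ∀ n, Module.Projective A (Ac.X n) := fun n => h1 _ (hAcP n)
  haveI : ∀ n, Projective (Ac.X n) := fun n =>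
    (IsProjective.iff_projective (R := A) (P := Ac.X n)).mp inferInstance
  haveI : Ac.IsKProjective := CochainComplex.isKProjective_of_projective Ac b
  let h : Homotopy (𝟙 Ac) 0 :=
    CochainComplex.IsKProjective.homotopyZero (𝟙 Ac) hAcac
  haveI : ∀ n, Epi ((shMap (eta0 I M)).f n) := fun n =>
    (ModuleCat.epi_iff_surjective _).2 (one_tmul_surjective I (M.X (n + 1)))
  obtain ⟨qt, hqt⟩ := exists_lift_map h (shMap (eta0 I M)) (P ≫ qK I M N ψ)
  haveI hMshproj : ∀ n, Module.Projective A ((sh M).X n) := fun n => h1 _ (hMP (n + 1))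
  -- elementwise properties of `qt`
  have hqt1 : ∀ n (z : Ac.X n), (1 : A ⧸ I) ⊗ₜ[A] ((qt.f n).hom z) =
      Prod.fst (α := (A ⧸ I) ⊗[A] (M.X (n + 1))) (β := N.X n) ((P.f n).hom z) := by
    intro n z
    exact congrArg (fun f => (f.f n).hom z) hqt
  have hqtd : ∀ n (z : Ac.X n), (qt.f (n + 1)).hom ((Ac.d n (n + 1)).hom z) =
      -(M.d (n + 1) (n + 1 + 1)).hom ((qt.f n).hom z) := by
    intro n z
    rw [← comm_apply qt n (n + 1) z]
    exact sh_d_apply M n _
  have hqs : ∀ n, Function.Surjective (qt.f n).hom := by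
    intro n
    refine h3 (Ac.X n) ((sh M).X n) (qt.f n) (hAcP n) (hMP (n + 1)) ?_
    rw [eq_top_iff]
    intro x _
    obtain ⟨z, hz⟩ := hPs n (show ((Rc I).obj (Cone I M N ψ)).X n from
      (((1 : A ⧸ I) ⊗ₜ[A] (show M.X (n + 1) from x), 0) : ((A ⧸ I) ⊗[A] (M.X (n + 1))) × N.X n))
    have h0 : (1 : A ⧸ I) ⊗ₜ[A]
        ((show M.X (n + 1) from x) - (show M.X (n + 1) from (qt.f n).hom z)) = 0 := by
      rw [TensorProduct.tmul_sub]
      have := hqt1 n z
      rw [hz] at this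
      exact sub_eq_zero.2 this.symm
    have hmem := (one_tmul_eq_zero_iff I _).1 h0
    have hx : x = (qt.f n).hom z + (x - (qt.f n).hom z) := by abel
    rw [hx]
    exact Submodule.add_mem_sup (LinearMap.mem_range_self _ z) hmem
  choose σ₀ hσ₀ using fun n => Module.projective_lifting_property (qt.f n).hom
    (LinearMap.id : (sh M).X n →ₗ[A] (sh M).X n) (hqs n)
  have hσ₀' : ∀ n (x : (sh M).X n), (qt.f n).hom (σ₀ n x) = x := fun n x =>
    LinearMap.congr_fun (hσ₀ n) x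
  let pr : ∀ n, Ac.X n →ₗ[A] LinearMap.ker (qt.f n).hom := fun n =>
    LinearMap.codRestrict _ (LinearMap.id - σ₀ n ∘ₗ (qt.f n).hom) (fun z => by
      rw [LinearMap.mem_ker, LinearMap.sub_apply, map_sub, LinearMap.id_apply,
        LinearMap.comp_apply, hσ₀', sub_self])
  have hpr : ∀ n (z : LinearMap.ker (qt.f n).hom), pr n z.1 = z := by
    intro n z
    apply Subtype.ext
    show z.1 - σ₀ n ((qt.f n).hom z.1) = z.1
    rw [LinearMap.mem_ker.1 z.2, map_zero, sub_zero]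
  have hLP : ∀ n, Pc (ModuleCat.of A (LinearMap.ker (qt.f n).hom)) := by
    intro n
    let eL : Ac.X n ≃ₗ[A] ((sh M).X n × LinearMap.ker (qt.f n).hom) :=
      { toFun := fun x => ((qt.f n).hom x, pr n x)
        map_add' := fun x y => by rw [map_add, map_add]; rfl
        map_smul' := fun c x => by rw [map_smul, map_smul]; rfl
        invFun := fun p => σ₀ n p.1 + (p.2 : Ac.X n)
        left_inv := fun x => by
          show σ₀ n ((qt.f n).hom x) + (x - σ₀ n ((qt.f n).hom x)) = x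
          abel
        right_inv := fun p => by
          have hp2 : (qt.f n).hom (p.2 : Ac.X n) = 0 := LinearMap.mem_ker.1 p.2.2
          have e1 : (qt.f n).hom (σ₀ n p.1 + (p.2 : Ac.X n)) = p.1 := by
            rw [map_add, hσ₀', hp2, add_zero]
          apply Prod.ext
          · exact e1
          · apply Subtype.ext
            show (σ₀ n p.1 + (p.2 : Ac.X n)) - σ₀ n ((qt.f n).hom (σ₀ n p.1 + (p.2 : Ac.X n))) =
              p.2
            rw [e1]; abel }
    have hprod : Pc (ModuleCat.of A ((sh M).X n × LinearMap.ker (qt.f n).hom)) :=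
      Pc.prop_of_iso eL.toModuleIso (hAcP n)
    exact (h2 ((sh M).X n) (ModuleCat.of A (LinearMap.ker (qt.f n).hom)) (hMP (n + 1))).mp hprod
  -- the reduction map on `L = Ker qt`
  have hF1 : ∀ n (z : LinearMap.ker (qt.f n).hom),
      Prod.fst (α := (A ⧸ I) ⊗[A] (M.X (n + 1))) (β := N.X n) ((P.f n).hom z.1) = 0 := by
    intro n z
    rw [← hqt1, LinearMap.mem_ker.1 z.2, TensorProduct.tmul_zero]
    rfl
  let PLl : ∀ n, LinearMap.ker (qt.f n).hom →ₗ[A]
      ((ModuleCat.restrictScalars (Ideal.Quotient.mk I)).obj (N.X n)) := fun n =>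
    { toFun := fun z =>
        Prod.snd (α := (A ⧸ I) ⊗[A] (M.X (n + 1))) (β := N.X n) ((P.f n).hom z.1)
      map_add' := fun z w => by
        show Prod.snd (α := (A ⧸ I) ⊗[A] (M.X (n + 1))) (β := N.X n)
          ((P.f n).hom (z.1 + w.1)) = _
        rw [map_add]
        rfl
      map_smul' := fun c z => by
        show Prod.snd (α := (A ⧸ I) ⊗[A] (M.X (n + 1))) (β := N.X n)
          ((P.f n).hom (c • z.1)) = _
        rw [map_smul]
        rfl }
  have PLl_apply : ∀ n (z : LinearMap.ker (qt.f n).hom), (show N.X n from PLl n z) =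
      Prod.snd (α := (A ⧸ I) ⊗[A] (M.X (n + 1))) (β := N.X n) ((P.f n).hom z.1) :=
    fun n z => rfl
  have hF3 : ∀ n, Function.Surjective (PLl n) := by
    intro n y
    obtain ⟨z₀, hz₀⟩ := hPs n (show ((Rc I).obj (Cone I M N ψ)).X n from
      ((0, (show N.X n from y)) : ((A ⧸ I) ⊗[A] (M.X (n + 1))) × N.X n))
    have h1 : (1 : A ⧸ I) ⊗ₜ[A] ((qt.f n).hom z₀) = 0 := by
      rw [hqt1, hz₀]
      rfl
    have h2 := (one_tmul_eq_zero_iff I _).1 h1
    have h3 : (I • (⊤ : Submodule A ((sh M).X n))) =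
        Submodule.map (qt.f n).hom (I • (⊤ : Submodule A (Ac.X n))) := by
      rw [Submodule.map_smul'', Submodule.map_top, LinearMap.range_eq_top.2 (hqs n)]
    have h2' : (qt.f n).hom z₀ ∈
        Submodule.map (qt.f n).hom (I • (⊤ : Submodule A (Ac.X n))) := by
      rw [← h3]
      exact h2
    obtain ⟨z₁, hz₁, hz₁'⟩ := h2'
    have hz₁k : (P.f n).hom z₁ = 0 := by
      have : z₁ ∈ LinearMap.ker (P.f n).hom := by
        rw [hPk n]
        exact hz₁
      exact this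
    refine ⟨⟨z₀ - z₁, by rw [LinearMap.mem_ker, map_sub, hz₁', sub_self]⟩, ?_⟩
    show Prod.snd (α := (A ⧸ I) ⊗[A] (M.X (n + 1))) (β := N.X n)
      ((P.f n).hom (z₀ - z₁)) = y
    rw [map_sub, hz₁k, sub_zero, hz₀]
  have hF4 : ∀ n, LinearMap.ker (PLl n) =
      I • (⊤ : Submodule A (LinearMap.ker (qt.f n).hom)) := by
    intro n
    apply le_antisymm
    · intro z hz
      have hz2 : Prod.snd (α := (A ⧸ I) ⊗[A] (M.X (n + 1))) (β := N.X n)
          ((P.f n).hom z.1) = 0 := hz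
      have hz1 := hF1 n z
      have hzP : z.1 ∈ LinearMap.ker (P.f n).hom := Prod.ext hz1 hz2
      rw [hPk n] at hzP
      have := Submodule.mem_map_of_mem (f := pr n) hzP
      rw [Submodule.map_smul'', hpr n z] at this
      exact Submodule.smul_mono le_rfl le_top this
    · refine Submodule.smul_le.2 fun c hc z _ => ?_
      show PLl n (c • z) = 0
      rw [map_smul]
      show (Ideal.Quotient.mk I c) • (show N.X n from PLl n z) = 0
      rw [Ideal.Quotient.eq_zero_iff_mem.2 hc, zero_smul]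
  let PL : Ker qt ⟶ (Rc I).obj N := CochainComplex.ofHom (fun n =>
    (ModuleCat.ofHom (PLl n) : ModuleCat.of A (LinearMap.ker (qt.f n).hom) ⟶
      ModuleCat.of A ((ModuleCat.restrictScalars (Ideal.Quotient.mk I)).obj (N.X n))))
    (fun n => by
      apply ModuleCat.hom_ext
      apply LinearMap.ext
      intro (z : LinearMap.ker (qt.f n).hom)
      have e1 := Ker_d_apply qt n z
      have e2 := comm_apply P n (n + 1) z.1
      have e3 := Cone_d_apply I M N ψ n ((P.f n).hom z.1)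
      show (N.d n (n + 1)).hom (show N.X n from PLl n z) =
        Prod.snd (α := (A ⧸ I) ⊗[A] (M.X (n + 1 + 1))) (β := N.X (n + 1))
          ((P.f (n + 1)).hom
            (show LinearMap.ker (qt.f (n + 1)).hom from ((Ker qt).d n (n + 1)).hom z).1)
      rw [e1, ← e2]
      refine ((congrArg Prod.snd e3).trans ?_).symm
      show (N.d n (n + 1)).hom _ + psi' I M N ψ (n + 1) _ = _
      rw [hF1 n z, map_zero, add_zero]
      rfl)
  have PL_apply : ∀ n (z : LinearMap.ker (qt.f n).hom), (show N.X n from (PL.f n).hom z) =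
      Prod.snd (α := (A ⧸ I) ⊗[A] (M.X (n + 1))) (β := N.X n) ((P.f n).hom z.1) :=
    fun n z => rfl
  let e : (Tc I).obj (Ker qt) ≅ (Rc I).obj N := redIso I PL (fun n => hF3 n) (fun n => hF4 n)
  -- the good splitting `σ`
  let yl : ∀ n, (sh M).X n →ₗ[A]
      ((ModuleCat.restrictScalars (Ideal.Quotient.mk I)).obj (N.X n)) := fun n =>
    { toFun := fun x =>
        Prod.snd (α := (A ⧸ I) ⊗[A] (M.X (n + 1))) (β := N.X n) ((P.f n).hom (σ₀ n x))
      map_add' := fun x y => by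
        show Prod.snd (α := (A ⧸ I) ⊗[A] (M.X (n + 1))) (β := N.X n)
          ((P.f n).hom (σ₀ n (x + y))) = _
        rw [map_add, map_add]
        rfl
      map_smul' := fun c x => by
        show Prod.snd (α := (A ⧸ I) ⊗[A] (M.X (n + 1))) (β := N.X n)
          ((P.f n).hom (σ₀ n (c • x))) = _
        rw [map_smul, map_smul]
        rfl }
  choose lam hlam using fun n => Module.projective_lifting_property (PLl n) (yl n) (hF3 n)
  let σ : ∀ n, (sh M).X n →ₗ[A] Ac.X n := fun n =>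
    σ₀ n - (Submodule.subtype (LinearMap.ker (qt.f n).hom)) ∘ₗ lam n
  have hσq : ∀ n (x : (sh M).X n), (qt.f n).hom (σ n x) = x := by
    intro n x
    show (qt.f n).hom (σ₀ n x - (lam n x).1) = x
    rw [map_sub, hσ₀', LinearMap.mem_ker.1 (lam n x).2, sub_zero]
  have hσP : ∀ n (x : (sh M).X n),
      (show ((A ⧸ I) ⊗[A] (M.X (n + 1))) × N.X n from (P.f n).hom (σ n x)) =
        ((1 : A ⧸ I) ⊗ₜ[A] (show M.X (n + 1) from x), 0) := by
    intro n x
    refine Prod.ext ?_ ?_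
    · exact (hqt1 n (σ n x)).symm.trans (congrArg (fun t => (1 : A ⧸ I) ⊗ₜ[A] t) (hσq n x))
    · show Prod.snd (α := (A ⧸ I) ⊗[A] (M.X (n + 1))) (β := N.X n)
        ((P.f n).hom (σ₀ n x - (lam n x).1)) = 0
      rw [map_sub]
      have := LinearMap.congr_fun (hlam n) x
      exact sub_eq_zero.2 this.symm
  -- the chain map `M ⟶ E` and its corestriction `φ : M ⟶ L`
  let sF : ∀ i j, M.X i ⟶ Ac.X j := fun i j =>
    if hji : j + 1 = i then
      eqToHom (by rw [hji]) ≫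
        (ModuleCat.ofHom (σ j) : ModuleCat.of A (M.X (j + 1)) ⟶ ModuleCat.of A (Ac.X j))
    else 0
  have hsF : ∀ j (x : M.X (j + 1)), (sF (j + 1) j).hom x = σ j x := by
    intro j x
    have : sF (j + 1) j =
        (ModuleCat.ofHom (σ j) : ModuleCat.of A (M.X (j + 1)) ⟶ ModuleCat.of A (Ac.X j)) := by
      show (if hji : j + 1 = j + 1 then _ else _) = _
      rw [dif_pos rfl, eqToHom_refl, Category.id_comp]
    rw [this]
    rfl
  let φE : M ⟶ Ac := Homotopy.nullHomotopicMap sF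
  have hφE : ∀ m (x : M.X (m + 1)), (φE.f (m + 1)).hom x =
      σ (m + 1) ((M.d (m + 1) (m + 1 + 1)).hom x) + (Ac.d m (m + 1)).hom (σ m x) := by
    intro m x
    have h1 : φE.f (m + 1) = M.d (m + 1) (m + 1 + 1) ≫ sF (m + 1 + 1) (m + 1) +
        sF (m + 1) m ≫ Ac.d m (m + 1) :=
      Homotopy.nullHomotopicMap_f (show (ComplexShape.up ℤ).Rel m (m + 1) from rfl)
        (show (ComplexShape.up ℤ).Rel (m + 1) (m + 1 + 1) from rfl) sF
    rw [h1]
    show (sF (m + 1 + 1) (m + 1)).hom ((M.d (m + 1) (m + 1 + 1)).hom x) +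
      (Ac.d m (m + 1)).hom ((sF (m + 1) m).hom x) = _
    rw [hsF, hsF]
  have hφEk : ∀ n (x : M.X n), (qt.f n).hom ((φE.f n).hom x) = 0 := by
    intro n x
    obtain ⟨m, rfl⟩ : ∃ m, n = m + 1 := ⟨n - 1, by ring⟩
    rw [hφE, map_add]
    have e1 := hσq (m + 1) ((M.d (m + 1) (m + 1 + 1)).hom x)
    have e2 := hqtd m (σ m x)
    have e3 := hσq m x
    refine (congrArg₂ (· + ·) e1 (e2.trans ?_)).trans (add_neg_cancel _)
    exact congrArg (fun t => -(M.d (m + 1) (m + 1 + 1)).hom t) e3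
  let φ : M ⟶ Ker qt := CochainComplex.ofHom (fun n =>
    (ModuleCat.ofHom (LinearMap.codRestrict (LinearMap.ker (qt.f n).hom) (φE.f n).hom
      (fun x => hφEk n x)) : ModuleCat.of A (M.X n) ⟶
        ModuleCat.of A (LinearMap.ker (qt.f n).hom)))
    (fun n => by
      apply ModuleCat.hom_ext
      apply LinearMap.ext
      intro x
      apply Subtype.ext
      have e1 := Ker_d_apply qt n ⟨(φE.f n).hom x, hφEk n x⟩
      exact e1.trans (comm_apply φE n (n + 1) x))
  have φ_apply : ∀ n (x : M.X n),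
      (show LinearMap.ker (qt.f n).hom from (φ.f n).hom x).1 = (φE.f n).hom x := fun n x => rfl
  have hEac := hAcac
  refine ⟨Ker qt, φ, e, ?_, fun n => hLP n, ?_, ?_⟩
  · intro n hn
    haveI : Subsingleton (Ac.X n) := ModuleCat.subsingleton_of_isZero (hAcb n hn)
    haveI : Subsingleton (LinearMap.ker (qt.f n).hom) :=
      ⟨fun x y => Subtype.ext (Subsingleton.elim _ _)⟩
    exact ModuleCat.isZero_of_subsingleton (ModuleCat.of A (LinearMap.ker (qt.f n).hom))
  · rw [quasiIso_iff_elem]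
    intro p x (y : LinearMap.ker (qt.f (p + 1)).hom) hx hxy
    have hxy1 : (φE.f (p + 1 + 1)).hom x + (Ac.d (p + 1) (p + 1 + 1)).hom y.1 = 0 := by
      have := congrArg (fun t => (show LinearMap.ker (qt.f (p + 1 + 1)).hom from t).1) hxy
      have e1 := Ker_d_apply qt (p + 1) y
      exact (congrArg (fun t => (φE.f (p + 1 + 1)).hom x + t) e1).symm.trans this
    have h0 : σ (p + 1 + 1) ((M.d (p + 1 + 1) (p + 1 + 1 + 1)).hom x) = 0 := by
      rw [hx]
      exact map_zero (σ (p + 1 + 1))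
    rw [hφE, h0, zero_add, ← map_add] at hxy1
    have hex := hEac (p + 1)
    rw [Groth.Agent.H12.FlatCx.exactAt_iff_elem Ac p (p + 1) (p + 1 + 1) (by simp) (by simp)] at hex
    obtain ⟨z, hz⟩ := hex _ hxy1
    have hq1 : (show M.X (p + 1 + 1) from x) =
        -(M.d (p + 1) (p + 1 + 1)).hom ((qt.f p).hom z) := by
      have h1' := hqtd p z
      rw [hz, map_add, hσq (p + 1) x, LinearMap.mem_ker.1 y.2] at h1'
      exact (add_zero _).symm.trans h1'
    -- hq1 : x = -(d (qt z))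
    have hmem : z - σ p ((qt.f p).hom z) ∈ LinearMap.ker (qt.f p).hom := by
      rw [LinearMap.mem_ker, map_sub, hσq p ((qt.f p).hom z), sub_self]
    refine ⟨(qt.f p).hom z, (show (Ker qt).X p from ⟨z - σ p ((qt.f p).hom z), hmem⟩),
      hq1.symm, ?_⟩
    apply Subtype.ext
    have e1 := Ker_d_apply qt p ⟨z - σ p ((qt.f p).hom z), hmem⟩
    show (φE.f (p + 1)).hom ((qt.f p).hom z) +
      (show LinearMap.ker (qt.f (p + 1)).hom from
        ((Ker qt).d p (p + 1)).hom ⟨z - σ p ((qt.f p).hom z), hmem⟩).1 = y.1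
    have hd : (M.d (p + 1) (p + 1 + 1)).hom ((qt.f p).hom z) = -x := by
      rw [hq1, neg_neg]
    have h5 : σ (p + 1) ((M.d (p + 1) (p + 1 + 1)).hom ((qt.f p).hom z)) = -(σ (p + 1) x) := by
      rw [hd]
      exact map_neg (σ (p + 1)) x
    have e6 := hφE p ((qt.f p).hom z)
    rw [e1]
    refine (congrArg (fun t => t + (Ac.d p (p + 1)).hom (z - σ p ((qt.f p).hom z))) e6).trans ?_
    beta_reduce
    rw [map_sub, hz, h5]
    abel
  · apply HomologicalComplex.hom_ext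
    intro n
    obtain ⟨m, rfl⟩ : ∃ m, n = m + 1 := ⟨n - 1, by ring⟩
    apply ModuleCat.hom_ext
    apply ext_one I
    intro x
    show ((e.hom.f (m + 1)).hom ((1 : A ⧸ I) ⊗ₜ[A] (φ.f (m + 1)).hom x)) = (ψ.f (m + 1)).hom (1 ⊗ₜ x)
    rw [redIso_hom_one_tmul]
    show Prod.snd (α := (A ⧸ I) ⊗[A] (M.X (m + 1 + 1))) (β := N.X (m + 1))
      ((P.f (m + 1)).hom ((φE.f (m + 1)).hom x)) = _
    rw [hφE, map_add, ← comm_apply P m (m + 1) (σ m x)]
    have e3 := Cone_d_apply I M N ψ m ((P.f m).hom (σ m x))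
    have e4 := hσP m x
    have e5 := hσP (m + 1) ((M.d (m + 1) (m + 1 + 1)).hom x)
    have e3s := congrArg Prod.snd e3
    have e4f := congrArg Prod.fst e4
    have e4s := congrArg Prod.snd e4
    have e5s := congrArg Prod.snd e5
    refine (congrArg₂ (· + ·) e5s e3s).trans ?_
    have h6 : Prod.snd (α := (A ⧸ I) ⊗[A] (M.X (m + 1))) (β := N.X m)
        ((P.f m).hom (σ m x)) = 0 := e4s
    have h7 : Prod.fst (α := (A ⧸ I) ⊗[A] (M.X (m + 1))) (β := N.X m)
        ((P.f m).hom (σ m x)) = (1 : A ⧸ I) ⊗ₜ[A] (show M.X (m + 1) from x) := e4f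
    show (0 : N.X (m + 1)) + ((N.d m (m + 1)).hom
        (Prod.snd (α := (A ⧸ I) ⊗[A] (M.X (m + 1))) (β := N.X m) ((P.f m).hom (σ m x))) +
      psi' I M N ψ (m + 1)
        (Prod.fst (α := (A ⧸ I) ⊗[A] (M.X (m + 1))) (β := N.X m) ((P.f m).hom (σ m x)))) = _
    rw [h6, h7, map_zero, zero_add, zero_add]
    rfl

end PartB

end Groth.Agent.H12.AcycLift
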