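import Groth.Agent.H12.FlatCxRank
import Mathlib.RingTheory.Flat.Equalizer
import Mathlib.Algebra.Category.ModuleCat.Monoidal.Basic
import Mathlib.CategoryTheory.Functor.EpiMono

/-!
# The comparison `H_p(P) ⊗ M ≅ H_p(P ⊗ M)` (EGA III 7.3–7.4)

For a three-term complex `X₁ → X₂ → X₃` with `X₃` and `coker (X₂ → X₃)` flat, tensoring commutes with
taking the homology at `X₂`.  We deduce a natural isomorphism `T_p ≅ H_p(P) ⊗ -` when `T_p`
preserves epimorphisms.
-/

set_option autoImplicit false
universe u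
open CategoryTheory MonoidalCategory TensorProduct

namespace Groth.Agent.H12.FlatCx

section Tor1

variable {A : Type u} [CommRing A] {X : Type u} [AddCommGroup X] [Module A X]

theorem lTensor_subtype_injective (K : Submodule A X) [Module.Flat A (X ⧸ K)]
    (M : Type u) [AddCommGroup M] [Module A M] : Function.Injective (K.subtype.lTensor M) :=
  LinearMap.lTensor_injective_of_exact_of_flat K.mkQ (Submodule.mkQ_surjective K) K.subtype
    K.injective_subtype (LinearMap.exact_subtype_mkQ K) M

theorem rTensor_subtype_injective (K : Submodule A X) [Module.Flat A (X ⧸ K)]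
    (M : Type u) [AddCommGroup M] [Module A M] : Function.Injective (K.subtype.rTensor M) :=
  (LinearMap.lTensor_inj_iff_rTensor_inj ..).mp (lTensor_subtype_injective K M)

/-- A submodule of a flat module with flat quotient is flat. -/
theorem flat_of_flat_quotient (K : Submodule A X) [Module.Flat A X] [Module.Flat A (X ⧸ K)] :
    Module.Flat A K := by
  rw [Module.Flat.iff_lTensor_preserves_injective_linearMap'.{u, u, u}]
  intro M N _ _ _ _ h hh
  have h1 : Function.Injective ((K.subtype.rTensor N) ∘ₗ (h.lTensor K)) := by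
    rw [LinearMap.rTensor_comp_lTensor, ← LinearMap.lTensor_comp_rTensor, LinearMap.coe_comp]
    exact (Module.Flat.lTensor_preserves_injective_linearMap (M := X) h hh).comp
      (rTensor_subtype_injective K M)
  rw [LinearMap.coe_comp] at h1
  exact Function.Injective.of_comp h1

/-- A module with a flat submodule and flat quotient is flat. -/
theorem flat_of_flat_sub_quotient (K : Submodule A X) [Module.Flat A K] [Module.Flat A (X ⧸ K)] :
    Module.Flat A X := by
  rw [Module.Flat.iff_lTensor_preserves_injective_linearMap'.{u, u, u}]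
  intro M N _ _ _ _ h hh
  rw [injective_iff_map_eq_zero]
  intro w hw
  have h1 : h.lTensor (X ⧸ K) (K.mkQ.rTensor M w) = 0 := by
    rw [← LinearMap.comp_apply, LinearMap.lTensor_comp_rTensor, ← LinearMap.rTensor_comp_lTensor,
      LinearMap.comp_apply, hw, map_zero]
  have h2 : K.mkQ.rTensor M w = 0 :=
    (Module.Flat.lTensor_preserves_injective_linearMap (M := X ⧸ K) h hh) (by rw [h1, map_zero])
  obtain ⟨n, rfl⟩ :=
    (rTensor_exact M (LinearMap.exact_subtype_mkQ K) (Submodule.mkQ_surjective K) w).mp h2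
  have h3 : K.subtype.rTensor N (h.lTensor K n) = 0 := by
    rw [← LinearMap.comp_apply, LinearMap.rTensor_comp_lTensor, ← LinearMap.lTensor_comp_rTensor,
      LinearMap.comp_apply, hw]
  have h4 : h.lTensor K n = 0 := rTensor_subtype_injective K N (by rw [h3, map_zero])
  have h5 : n = 0 :=
    (Module.Flat.lTensor_preserves_injective_linearMap (M := K) h hh) (by rw [h4, map_zero])
  rw [h5, map_zero]

variable {N' N N'' : Type u} [AddCommGroup N'] [Module A N'] [AddCommGroup N] [Module A N]
  [AddCommGroup N''] [Module A N''] (a : N' →ₗ[A] N) (b : N →ₗ[A] N'')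

/-- Extensions of flat modules are flat. -/
theorem flat_of_exact_of_flat (ha : Function.Injective a) (hb : Function.Surjective b)
    (hab : Function.Exact a b) (h' : Module.Flat A N') (h'' : Module.Flat A N'') :
    Module.Flat A N := by
  have e1 : N' ≃ₗ[A] LinearMap.range a := LinearEquiv.ofInjective a ha
  have e2 : (N ⧸ LinearMap.range a) ≃ₗ[A] N'' :=
    (Submodule.quotEquivOfEq _ _ hab.linearMap_ker_eq.symm) ≪≫ₗ b.quotKerEquivOfSurjective hb
  haveI : Module.Flat A (LinearMap.range a) := Module.Flat.of_linearEquiv e1.symm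
  haveI : Module.Flat A (N ⧸ LinearMap.range a) := Module.Flat.of_linearEquiv e2
  exact flat_of_flat_sub_quotient (LinearMap.range a)

/-- The kernel of a surjection of flat modules is flat. -/
theorem flat_ker_of_exact_of_flat (ha : Function.Injective a) (hb : Function.Surjective b)
    (hab : Function.Exact a b) (h : Module.Flat A N) (h'' : Module.Flat A N'') :
    Module.Flat A N' := by
  have e1 : N' ≃ₗ[A] LinearMap.range a := LinearEquiv.ofInjective a ha
  have e2 : (N ⧸ LinearMap.range a) ≃ₗ[A] N'' :=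
    (Submodule.quotEquivOfEq _ _ hab.linearMap_ker_eq.symm) ≪≫ₗ b.quotKerEquivOfSurjective hb
  haveI : Module.Flat A (N ⧸ LinearMap.range a) := Module.Flat.of_linearEquiv e2
  haveI : Module.Flat A (LinearMap.range a) := flat_of_flat_quotient (LinearMap.range a)
  exact Module.Flat.of_linearEquiv e1

end Tor1

section Compare

variable {A : Type u} [CommRing A]
variable {X₁ X₂ X₃ : Type u} [AddCommGroup X₁] [Module A X₁] [AddCommGroup X₂] [Module A X₂]
  [AddCommGroup X₃] [Module A X₃] (f : X₁ →ₗ[A] X₂) (g : X₂ →ₗ[A] X₃) (hfg : ∀ x, g (f x) = 0)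

theorem exact_ker_rangeRestrict : Function.Exact (LinearMap.ker g).subtype g.rangeRestrict := by
  intro x
  constructor
  · intro h
    exact ⟨⟨x, congrArg Subtype.val h⟩, rfl⟩
  · rintro ⟨z, rfl⟩
    exact Subtype.ext z.2

/-- `M ⊗ -` keeps the kernel of `g`. -/
def KerOKL (M : Type u) [AddCommGroup M] [Module A M] : Prop :=
  Function.Injective ((LinearMap.ker g).subtype.lTensor M) ∧
    ∀ y : M ⊗[A] X₂, g.lTensor M y = 0 →
      ∃ ζ : M ⊗[A] LinearMap.ker g, (LinearMap.ker g).subtype.lTensor M ζ = y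

/-- `- ⊗ M` keeps the kernel of `g`. -/
def KerOKR (M : Type u) [AddCommGroup M] [Module A M] : Prop :=
  Function.Injective ((LinearMap.ker g).subtype.rTensor M) ∧
    ∀ y : X₂ ⊗[A] M, g.rTensor M y = 0 →
      ∃ ζ : LinearMap.ker g ⊗[A] M, (LinearMap.ker g).subtype.rTensor M ζ = y

theorem flat_range_of_flat_coker (h3 : Module.Flat A X₃)
    (hW : Module.Flat A (X₃ ⧸ LinearMap.range g)) : Module.Flat A (LinearMap.range g) :=
  flat_of_flat_quotient (LinearMap.range g)

theorem kerOKL_of_flat_coker (h3 : Module.Flat A X₃) (hW : Module.Flat A (X₃ ⧸ LinearMap.range g))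
    (M : Type u) [AddCommGroup M] [Module A M] : KerOKL g M := by
  haveI : Module.Flat A (LinearMap.range g) := flat_of_flat_quotient (LinearMap.range g)
  haveI : Module.Flat A (X₂ ⧸ LinearMap.ker g) := Module.Flat.of_linearEquiv g.quotKerEquivRange
  refine ⟨lTensor_subtype_injective _ M, fun y hy => ?_⟩
  have hc : (LinearMap.range g).subtype ∘ₗ g.rangeRestrict = g := LinearMap.ext fun _ => rfl
  have h1 : (LinearMap.range g).subtype.lTensor M (g.rangeRestrict.lTensor M y) = 0 := by
    rw [← LinearMap.comp_apply, ← LinearMap.lTensor_comp, hc]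
    exact hy
  have h2 : g.rangeRestrict.lTensor M y = 0 :=
    lTensor_subtype_injective (LinearMap.range g) M (by rw [h1, map_zero])
  exact ((lTensor_exact M (exact_ker_rangeRestrict g) g.surjective_rangeRestrict) y).mp h2

theorem kerOKR_of_flat_coker (h3 : Module.Flat A X₃) (hW : Module.Flat A (X₃ ⧸ LinearMap.range g))
    (M : Type u) [AddCommGroup M] [Module A M] : KerOKR g M := by
  haveI : Module.Flat A (LinearMap.range g) := flat_of_flat_quotient (LinearMap.range g)
  haveI : Module.Flat A (X₂ ⧸ LinearMap.ker g) := Module.Flat.of_linearEquiv g.quotKerEquivRange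
  refine ⟨rTensor_subtype_injective _ M, fun y hy => ?_⟩
  have hc : (LinearMap.range g).subtype ∘ₗ g.rangeRestrict = g := LinearMap.ext fun _ => rfl
  have h1 : (LinearMap.range g).subtype.rTensor M (g.rangeRestrict.rTensor M y) = 0 := by
    rw [← LinearMap.comp_apply, ← LinearMap.rTensor_comp, hc]
    exact hy
  have h2 : g.rangeRestrict.rTensor M y = 0 :=
    rTensor_subtype_injective (LinearMap.range g) M (by rw [h1, map_zero])
  exact ((rTensor_exact M (exact_ker_rangeRestrict g) g.surjective_rangeRestrict) y).mp h2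

theorem kerOKL_of_flat (M : Type u) [AddCommGroup M] [Module A M] [Module.Flat A M] :
    KerOKL g M := by
  refine ⟨Module.Flat.lTensor_preserves_injective_linearMap _
    (LinearMap.ker g).injective_subtype, fun y hy => ?_⟩
  exact ((Module.Flat.lTensor_exact M (LinearMap.exact_subtype_ker_map g)) y).mp hy

variable (M : Type u) [AddCommGroup M] [Module A M]

include hfg in
theorem rT_zero (x : X₁ ⊗[A] M) : g.rTensor M (f.rTensor M x) = 0 := by
  rw [← LinearMap.comp_apply, ← LinearMap.rTensor_comp,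
    show g ∘ₗ f = 0 from LinearMap.ext hfg, LinearMap.rTensor_zero, LinearMap.zero_apply]

/-- `(ker g) ⊗ M → ker (g ⊗ M)`. -/
noncomputable def kerInclR : (LinearMap.ker g) ⊗[A] M →ₗ[A] LinearMap.ker (g.rTensor M) :=
  ((LinearMap.ker g).subtype.rTensor M).codRestrict _ (fun ζ => by
    show g.rTensor M ((LinearMap.ker g).subtype.rTensor M ζ) = 0
    rw [← LinearMap.comp_apply, ← LinearMap.rTensor_comp,
      show g ∘ₗ (LinearMap.ker g).subtype = 0 from LinearMap.ext (fun z => z.2),
      LinearMap.rTensor_zero, LinearMap.zero_apply])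

/-- `(ker g) ⊗ M → H(X ⊗ M)`. -/
noncomputable def sMapR :
    (LinearMap.ker g) ⊗[A] M →ₗ[A] Hm (f.rTensor M) (g.rTensor M) (rT_zero f g hfg M) :=
  (Submodule.mkQ _) ∘ₗ kerInclR g M

theorem sMapR_apply (ζ : (LinearMap.ker g) ⊗[A] M) :
    sMapR f g hfg M ζ = Submodule.Quotient.mk (kerInclR g M ζ) := rfl

/-- The comparison map `H(X) ⊗ M → H(X ⊗ M)`. -/
noncomputable def tComp :
    Hm f g hfg ⊗[A] M →ₗ[A] Hm (f.rTensor M) (g.rTensor M) (rT_zero f g hfg M) :=
  TensorProduct.lift ((LinearMap.range (f.codRestrict (LinearMap.ker g) hfg)).liftQ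
    (TensorProduct.curry (sMapR f g hfg M)) (by
      rintro _ ⟨x, rfl⟩
      rw [LinearMap.mem_ker]
      ext m
      rw [TensorProduct.curry_apply, sMapR_apply, LinearMap.zero_apply,
        Submodule.Quotient.mk_eq_zero]
      exact ⟨x ⊗ₜ m, Subtype.ext rfl⟩))

theorem tComp_tmul (z : LinearMap.ker g) (m : M) :
    tComp f g hfg M (Submodule.Quotient.mk z ⊗ₜ m) = sMapR f g hfg M (z ⊗ₜ m) := rfl

theorem tComp_comp :
    tComp f g hfg M ∘ₗ
      ((LinearMap.range (f.codRestrict (LinearMap.ker g) hfg)).mkQ.rTensor M) =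
      sMapR f g hfg M :=
  TensorProduct.ext' fun _ _ => rfl

theorem tComp_surjective (hK : KerOKR g M) : Function.Surjective (tComp f g hfg M) := by
  intro w
  obtain ⟨⟨y, hy⟩, rfl⟩ := Submodule.Quotient.mk_surjective _ w
  obtain ⟨ζ, hζ⟩ := hK.2 y hy
  refine ⟨(Submodule.mkQ _).rTensor M ζ, ?_⟩
  rw [← LinearMap.comp_apply, tComp_comp, sMapR_apply]
  congr 1
  exact Subtype.ext hζ

theorem tComp_injective (hK : KerOKR g M) : Function.Injective (tComp f g hfg M) := by
  rw [injective_iff_map_eq_zero]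
  intro t ht
  obtain ⟨ζ, rfl⟩ := LinearMap.rTensor_surjective M (Submodule.mkQ_surjective _) t
  rw [← LinearMap.comp_apply, tComp_comp, sMapR_apply, Submodule.Quotient.mk_eq_zero] at ht
  obtain ⟨x, hx⟩ := ht
  have hx' : f.rTensor M x = (LinearMap.ker g).subtype.rTensor M ζ := congrArg Subtype.val hx
  have hf' : (LinearMap.ker g).subtype ∘ₗ f.codRestrict (LinearMap.ker g) hfg = f :=
    LinearMap.ext fun _ => rfl
  have h2 : ζ = (f.codRestrict (LinearMap.ker g) hfg).rTensor M x := by
    apply hK.1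
    rw [← hx', ← LinearMap.comp_apply, ← LinearMap.rTensor_comp, hf']
  rw [h2, ← LinearMap.comp_apply, ← LinearMap.rTensor_comp]
  have h0 : (Submodule.mkQ (LinearMap.range (f.codRestrict (LinearMap.ker g) hfg))) ∘ₗ
      f.codRestrict (LinearMap.ker g) hfg = 0 := by
    ext x
    exact (Submodule.Quotient.mk_eq_zero _).mpr ⟨x, rfl⟩
  rw [h0, LinearMap.rTensor_zero, LinearMap.zero_apply]

/-- The comparison isomorphism. -/
noncomputable def tCompEquiv (hK : KerOKR g M) :
    (Hm f g hfg ⊗[A] M) ≃ₗ[A] Hm (f.rTensor M) (g.rTensor M) (rT_zero f g hfg M) :=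
  LinearEquiv.ofBijective (tComp f g hfg M) ⟨tComp_injective f g hfg M hK, tComp_surjective f g hfg M hK⟩

end Compare

section HmMap

variable {A : Type u} [CommRing A]
variable {X₁ X₂ X₃ : Type u} [AddCommGroup X₁] [Module A X₁] [AddCommGroup X₂] [Module A X₂]
  [AddCommGroup X₃] [Module A X₃] (f : X₁ →ₗ[A] X₂) (g : X₂ →ₗ[A] X₃) (hfg : ∀ x, g (f x) = 0)
variable {Y₁ Y₂ Y₃ : Type u} [AddCommGroup Y₁] [Module A Y₁] [AddCommGroup Y₂] [Module A Y₂]
  [AddCommGroup Y₃] [Module A Y₃] (f' : Y₁ →ₗ[A] Y₂) (g' : Y₂ →ₗ[A] Y₃) (hfg' : ∀ x, g' (f' x) = 0)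
  (a₁ : X₁ →ₗ[A] Y₁) (a₂ : X₂ →ₗ[A] Y₂) (a₃ : X₃ →ₗ[A] Y₃)
  (h₁ : ∀ x, a₂ (f x) = f' (a₁ x)) (h₂ : ∀ x, a₃ (g x) = g' (a₂ x))

/-- Functoriality of the concrete homology. -/
noncomputable def HmMap : Hm f g hfg →ₗ[A] Hm f' g' hfg' :=
  Submodule.mapQ _ _ (a₂.restrict (p := LinearMap.ker g) (q := LinearMap.ker g') (fun x hx => by
      rw [LinearMap.mem_ker] at hx ⊢
      rw [← h₂, hx, map_zero])) (by
    rintro _ ⟨x, rfl⟩
    exact ⟨a₁ x, Subtype.ext (h₁ x).symm⟩)

theorem HmMap_mk (z : LinearMap.ker g) :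
    HmMap f g hfg f' g' hfg' a₁ a₂ a₃ h₁ h₂ (Submodule.Quotient.mk z) =
      Submodule.Quotient.mk ⟨a₂ z.1, by
        have := z.2
        rw [LinearMap.mem_ker] at this ⊢
        rw [← h₂, this, map_zero]⟩ := rfl

end HmMap

end Groth.Agent.H12.FlatCx
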