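import Groth.Agent.H12.AcycLift2
import Groth.Agent.H53.LBaseChange
import Groth.Agent.H31.KFlatBounded

/-!
# Lifting representatives along `R → R/I` for a class `Pc`: derived-category glue (helper12)
-/

set_option autoImplicit false
set_option linter.style.haveILetI false
universe u
open CategoryTheory CategoryTheory.Limits TensorProduct
attribute [local instance] HasDerivedCategory.standard

namespace Groth.Agent.H12.AcycLift

open Groth.Agent.H12.ECMLift

section PartC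

variable {A : Type u} [CommRing A] (I : Ideal A)

theorem nonempty_ext_iso (L : CochainComplex (ModuleCat.{u} A) ℤ)
    (N : CochainComplex (ModuleCat.{u} (A ⧸ I)) ℤ)
    (θ : ∀ n, (A ⧸ I) ⊗[A] L.X n ≃ₗ[A ⧸ I] N.X n)
    (hθ : ∀ i (x : L.X i), (N.d i (i + 1)).hom (θ i ((1 : A ⧸ I) ⊗ₜ[A] x)) =
      θ (i + 1) ((1 : A ⧸ I) ⊗ₜ[A] (L.d i (i + 1)).hom x)) :
    Nonempty ((((ModuleCat.extendScalars (Ideal.Quotient.mk I)).mapHomologicalComplex
      (ComplexShape.up ℤ)).obj L) ≅ N) := by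
  refine ⟨HomologicalComplex.Hom.isoOfComponents
    (fun i => (eqv I (L.X i) (N.X i) (θ i)).toModuleIso) ?_⟩
  intro i j hij
  obtain rfl : i + 1 = j := hij
  apply ModuleCat.ExtendScalars.hom_ext
  intro x
  show (N.d i (i + 1)).hom (eqv I (L.X i) (N.X i) (θ i) ((1 : A ⧸ I) ⊗ₜ[A] x)) =
    eqv I (L.X (i + 1)) (N.X (i + 1)) (θ (i + 1))
      (((ModuleCat.extendScalars (Ideal.Quotient.mk I)).map (L.d i (i + 1))).hom
        ((1 : A ⧸ I) ⊗ₜ[A] x))
  refine Eq.trans ?_
    (eqv_tmul I (L.X (i + 1)) (N.X (i + 1)) (θ (i + 1)) 1 ((L.d i (i + 1)).hom x)).symm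
  rw [eqv_tmul]
  exact hθ i x

/-- an `A`-linear equivalence between `A/I`-modules is `A/I`-linear. -/
noncomputable def upgrade {X : Type u} [AddCommGroup X] [Module A X]
    {Z : ModuleCat.{u} (A ⧸ I)}
    (e0 : (A ⧸ I) ⊗[A] X ≃ₗ[A] ((ModuleCat.restrictScalars (Ideal.Quotient.mk I)).obj Z)) :
    (A ⧸ I) ⊗[A] X ≃ₗ[A ⧸ I] Z where
  toFun t := e0 t
  invFun z := e0.symm z
  left_inv t := e0.symm_apply_apply t
  right_inv z := e0.apply_symm_apply z
  map_add' s t := e0.map_add s t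
  map_smul' c t := by
    obtain ⟨a, rfl⟩ := Ideal.Quotient.mk_surjective c
    have h1 : (Ideal.Quotient.mk I a) • t = a • t := mk_smul_eq I a t
    exact (congrArg e0 h1).trans (e0.map_smul a t)

theorem upgrade_apply {X : Type u} [AddCommGroup X] [Module A X]
    {Z : ModuleCat.{u} (A ⧸ I)}
    (e0 : (A ⧸ I) ⊗[A] X ≃ₗ[A] ((ModuleCat.restrictScalars (Ideal.Quotient.mk I)).obj Z))
    (t : (A ⧸ I) ⊗[A] X) : upgrade I e0 t = e0 t := rfl

theorem nonempty_ext_iso_of_iso (L : CochainComplex (ModuleCat.{u} A) ℤ)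
    (N : CochainComplex (ModuleCat.{u} (A ⧸ I)) ℤ) (e : (Tc I).obj L ≅ (Rc I).obj N) :
    Nonempty ((((ModuleCat.extendScalars (Ideal.Quotient.mk I)).mapHomologicalComplex
      (ComplexShape.up ℤ)).obj L) ≅ N) := by
  let e0 : ∀ n, (A ⧸ I) ⊗[A] L.X n ≃ₗ[A]
      ((ModuleCat.restrictScalars (Ideal.Quotient.mk I)).obj (N.X n)) := fun n =>
    ((HomologicalComplex.eval (ModuleCat.{u} A) (ComplexShape.up ℤ) n).mapIso e).toLinearEquiv
  refine nonempty_ext_iso I L N (fun n => upgrade I (e0 n)) ?_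
  intro i x
  have hc := congrArg (fun f => f.hom ((1 : A ⧸ I) ⊗ₜ[A] x)) (e.hom.comm i (i + 1))
  simp only [ModuleCat.hom_comp, LinearMap.comp_apply] at hc
  exact hc

end PartC

section PartD

variable {A : Type u} [CommRing A] (I : Ideal A)

/-- `A`-linear form of the comparison `(A/I) ⊗ X ≃ ext X`. -/
noncomputable def bcA (X : ModuleCat.{u} A) :
    (A ⧸ I) ⊗[A] X ≃ₗ[A] ((ModuleCat.restrictScalars (Ideal.Quotient.mk I)).obj
      ((ModuleCat.extendScalars (Ideal.Quotient.mk I)).obj X)) where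
  toFun t := Groth.Agent.H82.TorBC.bcEquiv A (A ⧸ I) X t
  invFun z := (Groth.Agent.H82.TorBC.bcEquiv A (A ⧸ I) X).symm z
  left_inv t := (Groth.Agent.H82.TorBC.bcEquiv A (A ⧸ I) X).symm_apply_apply t
  right_inv z := (Groth.Agent.H82.TorBC.bcEquiv A (A ⧸ I) X).apply_symm_apply z
  map_add' s t := (Groth.Agent.H82.TorBC.bcEquiv A (A ⧸ I) X).map_add s t
  map_smul' a t := by
    have h1 : a • t = (Ideal.Quotient.mk I a) • t := (mk_smul_eq I a t).symm
    exact (congrArg (Groth.Agent.H82.TorBC.bcEquiv A (A ⧸ I) X) h1).trans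
      ((Groth.Agent.H82.TorBC.bcEquiv A (A ⧸ I) X).map_smul (Ideal.Quotient.mk I a) t)

theorem bcA_one_tmul (X : ModuleCat.{u} A) (x : X) :
    bcA I X ((1 : A ⧸ I) ⊗ₜ[A] x) =
      ((1 : A ⧸ I) ⊗ₜ[A] x : (ModuleCat.extendScalars (Ideal.Quotient.mk I)).obj X) := rfl

/-- the comparison of complexes `(A/I) ⊗ M ≅ res (ext M)`. -/
noncomputable def tau (M : CochainComplex (ModuleCat.{u} A) ℤ) :
    (Tc I).obj M ≅ (Rc I).obj
      (((ModuleCat.extendScalars (Ideal.Quotient.mk I)).mapHomologicalComplex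
        (ComplexShape.up ℤ)).obj M) :=
  HomologicalComplex.Hom.isoOfComponents (fun n => (bcA I (M.X n)).toModuleIso) (by
    intro i j _
    apply ModuleCat.hom_ext
    apply ext_one I
    intro x
    rfl)

end PartD

section PartD'

variable {C : Type*} [Category C] [Abelian C] [HasDerivedCategory C]

theorem exists_quasiIso_of_iso (K L : CochainComplex C ℤ) [K.IsKProjective]
    (ι : DerivedCategory.Q.obj K ≅ DerivedCategory.Q.obj L) :
    ∃ β : K ⟶ L, QuasiIso β := by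
  obtain ⟨g, hg⟩ := (CochainComplex.IsKProjective.Qh_map_bijective K
    ((HomotopyCategory.quotient _ _).obj L)).surjective
    ((DerivedCategory.quotientCompQhIso C).hom.app K ≫ ι.hom ≫
      (DerivedCategory.quotientCompQhIso C).inv.app L)
  obtain ⟨β, rfl⟩ := (HomotopyCategory.quotient _ _).map_surjective g
  refine ⟨β, ?_⟩
  rw [← DerivedCategory.isIso_Q_map_iff_quasiIso]
  have h : DerivedCategory.Q.map β = (DerivedCategory.quotientCompQhIso C).inv.app K ≫
      DerivedCategory.Qh.map ((HomotopyCategory.quotient _ _).map β) ≫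
      (DerivedCategory.quotientCompQhIso C).hom.app L := by
    rw [DerivedCategory.quotientCompQhIso_hom_naturality, Iso.inv_hom_id_app_assoc]
  rw [h, hg]
  infer_instance

end PartD'

section PartE

open DRing

theorem lift_representative (R : Type u) [CommRing R] (I : Ideal R)
    [DRing.HasLBaseChange (Ideal.Quotient.mk I)]
    (Pc : ObjectProperty (ModuleCat.{u} R)) [Pc.IsClosedUnderIsomorphisms]
    (h1 : ∀ X : ModuleCat.{u} R, Pc X → Module.Projective R X)
    (h2 : ∀ X Y : ModuleCat.{u} R, Pc X → (Pc (ModuleCat.of R (X × Y)) ↔ Pc Y))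
    (h3 : ∀ (X Y : ModuleCat.{u} R) (f : X ⟶ Y), Pc X → Pc Y →
      LinearMap.range f.hom ⊔ I • (⊤ : Submodule R Y) = ⊤ → Function.Surjective f.hom)
    (K : Dual.D R) (Q : DRing.Cx R) (c : ℤ) (hQc : DRing.VanishesAbove Q c)
    (hQP : ∀ i : ℤ, Pc (Q.X i)) (eK : DRing.toD Q ≅ K)
    (E : DRing.Cx (R ⧸ I)) (b : ℤ) (hEb : DRing.VanishesAbove E b)
    (hEt : ∀ i : ℤ, ∃ X : ModuleCat.{u} R, Pc X ∧
      Nonempty (TensorProduct R (R ⧸ I) X ≃ₗ[R ⧸ I] E.X i))
    (hE : DRing.toD E ≅ (DRing.LBaseChange (Ideal.Quotient.mk I)).obj K) :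
    ∃ (P : DRing.Cx R) (b' : ℤ), DRing.VanishesAbove P b' ∧ (∀ i : ℤ, Pc (P.X i)) ∧
      Nonempty (DRing.toD P ≅ K) ∧
      Nonempty ((((ModuleCat.extendScalars (Ideal.Quotient.mk I)).mapHomologicalComplex
        (ComplexShape.up ℤ)).obj P) ≅ E) := by
  classical
  have hQb : ∀ n : ℤ, max b c < n → IsZero (Q.X n) :=
    fun n hn => hQc n (lt_of_le_of_lt (le_max_right b c) hn)
  have hEb0 : ∀ n : ℤ, max b c < n → IsZero (E.X n) :=
    fun n hn => hEb n (lt_of_le_of_lt (le_max_left b c) hn)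
  have hQflat : DRing.TermwiseFlat Q := fun i => by
    haveI := h1 _ (hQP i)
    infer_instance
  have hQK : DRing.IsKFlat R Q :=
    Groth.Agent.H31.KFlatRing.isKFlat_of_bounded_above_flat Q c hQc hQflat
  let Qbar : DRing.Cx (R ⧸ I) :=
    (Groth.Agent.H35.FlatBC.extCx (Ideal.Quotient.mk I)).obj Q
  let ι : DRing.toD Qbar ≅ DRing.toD E :=
    (Groth.Agent.H53.LBaseChange.objIso' (Ideal.Quotient.mk I) Q hQK eK) ≪≫ hE.symm
  haveI : Qbar.IsStrictlyLE c := (Qbar.isStrictlyLE_iff c).2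
    (fun n hn => (ModuleCat.extendScalars (Ideal.Quotient.mk I)).map_isZero (hQc n hn))
  haveI : ∀ n, Projective (Qbar.X n) := fun n => by
    haveI : Module.Projective R (Q.X n) := h1 _ (hQP n)
    have hp : Projective (Q.X n) :=
      (IsProjective.iff_projective (R := R) (P := Q.X n)).mp inferInstance
    exact (ModuleCat.extendRestrictScalarsAdj (Ideal.Quotient.mk I)).map_projective _ hp
  haveI : Qbar.IsKProjective := CochainComplex.isKProjective_of_projective Qbar c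
  obtain ⟨β, hβ⟩ := exists_quasiIso_of_iso Qbar E ι
  let ψ : (Tc I).obj Q ⟶ (Rc I).obj E := (tau I Q).hom ≫ (Rc I).map β
  haveI : QuasiIso ((Rc I).map β) :=
    (HomologicalComplex.quasiIso_map_iff_of_preservesHomology β
      (ModuleCat.restrictScalars (Ideal.Quotient.mk I))).2 hβ
  haveI : QuasiIso ψ := inferInstance
  obtain ⟨L, φ, e, hLb, hLP, hφ, -⟩ := main' I Pc h1 h2 h3 Q E (max b c) hQb hEb0 hQP hEt ψ
  haveI := hφ
  refine ⟨L, max b c, hLb, hLP, ⟨(asIso (DerivedCategory.Q.map φ)).symm ≪≫ eK⟩, ?_⟩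
  exact nonempty_ext_iso_of_iso I L E e

end PartE

end Groth.Agent.H12.AcycLift
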