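import Groth.Agent.H12.FlatCx
import Mathlib.Algebra.Homology.HomologySequence
import Mathlib.Algebra.Homology.HomologicalComplexAbelian

/-!
# The long exact sequence of the functors `T_p(M) = H_p(P ⊗ M)` for a flat complex `P`
-/

set_option autoImplicit false
universe u
open CategoryTheory MonoidalCategory TensorProduct

namespace Groth.Agent.H12.FlatCx

variable {A : Type u} [CommRing A] {ι : Type} {c : ComplexShape ι}
variable (P : HomologicalComplex (ModuleCat.{u} A) c)

theorem tensorMap_comp_zero {M' M M'' : ModuleCat.{u} A} (a : M' ⟶ M) (b : M ⟶ M'')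
    (hab : ∀ x, b.hom (a.hom x) = 0) :
    CohIII.tensorMap P a ≫ CohIII.tensorMap P b = 0 := by
  ext i : 1
  apply ModuleCat.hom_ext
  show (b.hom.lTensor (P.X i)) ∘ₗ (a.hom.lTensor (P.X i)) = 0
  rw [← LinearMap.lTensor_comp, show b.hom ∘ₗ a.hom = 0 from LinearMap.ext hab,
    LinearMap.lTensor_zero]

/-- The short complex of complexes `P ⊗ M' → P ⊗ M → P ⊗ M''`. -/
noncomputable def tensorSC {M' M M'' : ModuleCat.{u} A} (a : M' ⟶ M) (b : M ⟶ M'')
    (hab : ∀ x, b.hom (a.hom x) = 0) : ShortComplex (HomologicalComplex (ModuleCat.{u} A) c) :=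
  ShortComplex.mk (CohIII.tensorMap P a) (CohIII.tensorMap P b) (tensorMap_comp_zero P a b hab)

variable (hP : ∀ i, Module.Flat A (P.X i)) {M' M M'' : ModuleCat.{u} A} (a : M' ⟶ M) (b : M ⟶ M'')
  (ha : Function.Injective a.hom) (hb : Function.Surjective b.hom)
  (hab : Function.Exact a.hom b.hom)

include hP ha hb in
theorem tensorSC_shortExact :
    (tensorSC P a b (fun x => hab.apply_apply_eq_zero x)).ShortExact := by
  apply HomologicalComplex.shortExact_of_degreewise_shortExact
  intro i
  apply ModuleCat.shortComplex_shortExact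
  · exact lTensor_exact (P.X i) hab hb
  · exact Module.Flat.lTensor_preserves_injective_linearMap (M := P.X i) a.hom ha
  · exact LinearMap.lTensor_surjective (P.X i) hb

include hP ha hb hab in
theorem T_exact₂ (j : ι) :
    Function.Exact ((CohIII.TFun P j).map a).hom ((CohIII.TFun P j).map b).hom :=
  (ShortComplex.ShortExact.moduleCat_exact_iff_function_exact _).mp
    ((tensorSC_shortExact P hP a b ha hb hab).homology_exact₂ j)

/-- The connecting map `T_i(M'') → T_j(M')`. -/
noncomputable def Tδ (i j : ι) (hij : c.Rel i j) :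
    (CohIII.TFun P i).obj M'' ⟶ (CohIII.TFun P j).obj M' :=
  (tensorSC_shortExact P hP a b ha hb hab).δ i j hij

theorem T_exact₃ (i j : ι) (hij : c.Rel i j) :
    Function.Exact ((CohIII.TFun P i).map b).hom (Tδ P hP a b ha hb hab i j hij).hom :=
  (ShortComplex.ShortExact.moduleCat_exact_iff_function_exact _).mp
    ((tensorSC_shortExact P hP a b ha hb hab).homology_exact₃ i j hij)

theorem T_exact₁ (i j : ι) (hij : c.Rel i j) :
    Function.Exact (Tδ P hP a b ha hb hab i j hij).hom ((CohIII.TFun P j).map a).hom :=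
  (ShortComplex.ShortExact.moduleCat_exact_iff_function_exact _).mp
    ((tensorSC_shortExact P hP a b ha hb hab).homology_exact₁ i j hij)

end Groth.Agent.H12.FlatCx
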