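import Groth.Agent.H12.AcycLift3
import Groth.Agent.H35.LBC

/-!
# Lifting representatives along `R → R/I`: nilpotent ideals and ideals in the Jacobson radical
(helper12)
-/

set_option autoImplicit false
set_option linter.style.haveILetI false
universe u
open CategoryTheory CategoryTheory.Limits TensorProduct
attribute [local instance] HasDerivedCategory.standard

namespace Groth.Agent.H12.AcycLift

open Groth.Agent.H12.ECMLift

section Nilpotent

variable {R : Type u} [CommRing R] (I : Ideal R)

theorem eq_top_of_sup_smul_of_isNilpotent (hI : IsNilpotent I) {M : Type*} [AddCommGroup M]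
    [Module R M] (N : Submodule R M) (h : N ⊔ I • (⊤ : Submodule R M) = ⊤) : N = ⊤ := by
  obtain ⟨n, hn⟩ := hI
  have key : ∀ k : ℕ, N ⊔ (I ^ k) • (⊤ : Submodule R M) = ⊤ := by
    intro k
    induction k with
    | zero => rw [pow_zero, Ideal.one_eq_top, Submodule.top_smul, sup_top_eq]
    | succ k ih =>
      rw [eq_top_iff]
      calc (⊤ : Submodule R M) = N ⊔ I • (⊤ : Submodule R M) := h.symm
        _ = N ⊔ I • (N ⊔ (I ^ k) • (⊤ : Submodule R M)) := by rw [ih]
        _ = N ⊔ (I • N ⊔ I • ((I ^ k) • (⊤ : Submodule R M))) := by rw [Submodule.smul_sup]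
        _ ≤ N ⊔ (I ^ (k + 1)) • (⊤ : Submodule R M) := by
          refine sup_le le_sup_left (sup_le (le_trans Submodule.smul_le_right le_sup_left) ?_)
          rw [← Submodule.mul_smul, ← pow_succ']
          exact le_sup_right
  have := key n
  rw [hn, Ideal.zero_eq_bot, Submodule.bot_smul, sup_bot_eq] at this
  exact this

/-- any `R`-linear map to a restriction of scalars from `R/I` kills `I • ⊤`. -/
theorem smul_top_le_ker {X : Type u} [AddCommGroup X] [Module R X] {Z : ModuleCat.{u} (R ⧸ I)}
    (p : X →ₗ[R] ((ModuleCat.restrictScalars (Ideal.Quotient.mk I)).obj Z)) :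
    I • (⊤ : Submodule R X) ≤ LinearMap.ker p := by
  refine Submodule.smul_le.2 fun a ha x _ => ?_
  rw [LinearMap.mem_ker, map_smul]
  show (Ideal.Quotient.mk I a) • (show Z from p x) = 0
  rw [Ideal.Quotient.eq_zero_iff_mem.2 ha, zero_smul]

/-- projective modules lift along nilpotent ideals. -/
theorem exists_lift_projective (hI : IsNilpotent I) (Z : ModuleCat.{u} (R ⧸ I))
    [Module.Projective (R ⧸ I) Z] :
    ∃ X : ModuleCat.{u} R, Module.Projective R X ∧
      Nonempty ((R ⧸ I) ⊗[R] X ≃ₗ[R ⧸ I] Z) := by
  classical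
  obtain ⟨sb, hsb⟩ := Module.projective_def'.mp (inferInstance : Module.Projective (R ⧸ I) Z)
  let πb : (Z →₀ (R ⧸ I)) →ₗ[R ⧸ I] Z := Finsupp.linearCombination (R ⧸ I) id
  have hπs : ∀ z, πb (sb z) = z := fun z => LinearMap.congr_fun hsb z
  let red : (Z →₀ R) →ₗ[R] (Z →₀ (R ⧸ I)) :=
    Finsupp.mapRange.linearMap (Algebra.linearMap R (R ⧸ I))
  have hred_apply : ∀ (x : Z →₀ R) (z : Z), red x z = Ideal.Quotient.mk I (x z) := fun x z => rfl
  have hred_surj : Function.Surjective red :=
    Finsupp.mapRange_surjective _ (map_zero _) Ideal.Quotient.mk_surjective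
  have hred_ker : ∀ x : Z →₀ R, red x = 0 → x ∈ I • (⊤ : Submodule R (Z →₀ R)) := by
    intro x hx
    have hx' : ∀ z, x z ∈ I := by
      intro z
      have h0 := DFunLike.congr_fun hx z
      rw [hred_apply] at h0
      exact Ideal.Quotient.eq_zero_iff_mem.mp h0
    have hsum : x = ∑ z ∈ x.support, (x z) • (Finsupp.single z (1 : R) : Z →₀ R) := by
      conv_lhs => rw [← Finsupp.sum_single x]
      rw [Finsupp.sum]
      refine Finset.sum_congr rfl fun z _ => ?_
      rw [Finsupp.smul_single, smul_eq_mul, mul_one]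
    rw [hsum]
    exact Submodule.sum_mem _ fun z _ => Submodule.smul_mem_smul (hx' z) Submodule.mem_top
  let eb : Module.End R (Z →₀ (R ⧸ I)) := (sb.comp πb).restrictScalars R
  have heb : ∀ y, eb y = sb (πb y) := fun y => rfl
  have hebid : IsIdempotentElem eb := by
    apply LinearMap.ext
    intro y
    show eb (eb y) = eb y
    rw [heb, heb, hπs]
  -- compatibility relation between endomorphisms of `Z →₀ R` and of `Z →₀ R/I`
  let C : Module.End R (Z →₀ R) → Module.End R (Z →₀ (R ⧸ I)) → Prop :=
    fun a ab => ∀ x, red (a x) = ab (red x)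
  have C_one : C 1 1 := fun x => rfl
  have C_sub : ∀ {a b ab bb}, C a ab → C b bb → C (a - b) (ab - bb) := by
    intro a b ab bb ha hb x
    show red (a x - b x) = ab (red x) - bb (red x)
    rw [map_sub, ha, hb]
  have C_mul : ∀ {a b ab bb}, C a ab → C b bb → C (a * b) (ab * bb) := by
    intro a b ab bb ha hb x
    show red (a (b x)) = ab (bb (red x))
    rw [ha, hb]
  have C_pow : ∀ {a ab} (k : ℕ), C a ab → C (a ^ k) (ab ^ k) := by
    intro a ab k ha
    induction k with
    | zero => rw [pow_zero, pow_zero]; exact C_one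
    | succ k ih => rw [pow_succ, pow_succ]; exact C_mul ih ha
  obtain ⟨u, hu⟩ := Module.projective_lifting_property red (eb.comp red) hred_surj
  have hCu : C u eb := fun x => LinearMap.congr_fun hu x
  obtain ⟨n, hn⟩ := hI
  -- `u - u ^ 2` is nilpotent
  have hv : ∀ x, red ((u - u ^ 2) x) = 0 := by
    intro x
    have h := C_sub hCu (C_pow 2 hCu) x
    rw [h, hebid.pow_succ_eq 1]
    exact (LinearMap.sub_apply _ _ _).trans (sub_self _)
  have hpow : ∀ k : ℕ, ∀ x, ((u - u ^ 2) ^ k) x ∈ (I ^ k) • (⊤ : Submodule R (Z →₀ R)) := by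
    intro k
    induction k with
    | zero =>
      intro x
      rw [pow_zero, Ideal.one_eq_top, Submodule.top_smul]
      exact Submodule.mem_top
    | succ k ih =>
      intro x
      rw [pow_succ (u - u ^ 2) k, Module.End.mul_apply]
      have h1 := hred_ker _ (hv x)
      refine Submodule.smul_induction_on h1 ?_ ?_
      · intro a ha y _
        rw [map_smul, pow_succ' I k, Submodule.mul_smul]
        exact Submodule.smul_mem_smul ha (ih y)
      · intro y z hy hz
        rw [map_add]
        exact Submodule.add_mem _ hy hz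
  have hnil : (u - u ^ 2) ^ (n + 1) = 0 := by
    apply LinearMap.ext
    intro x
    have h := hpow (n + 1) x
    rw [pow_succ I n, hn, zero_mul, Ideal.zero_eq_bot, Submodule.bot_smul, Submodule.mem_bot] at h
    exact h
  let e : Module.End R (Z →₀ R) := 1 - (1 - u ^ (n + 1)) ^ (n + 1)
  have heid : IsIdempotentElem e := isIdempotentElem_one_sub_one_sub_pow_pow u (n + 1) hnil
  have he2 : ∀ x, e (e x) = e x := fun x => LinearMap.congr_fun heid.eq x
  have hec : ∀ x, red (e x) = eb (red x) := by
    have h : C e (1 - (1 - eb ^ (n + 1)) ^ (n + 1)) :=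
      C_sub C_one (C_pow (n + 1) (C_sub C_one (C_pow (n + 1) hCu)))
    have hee : ∀ y, eb (eb y) = eb y := fun y => LinearMap.congr_fun hebid.eq y
    have h1sub : IsIdempotentElem (1 - eb) := by
      apply LinearMap.ext
      intro y
      show (y - eb y) - eb (y - eb y) = y - eb y
      rw [map_sub, hee, sub_self, sub_zero]
    intro x
    have hx := h x
    rw [hebid.pow_succ_eq n, h1sub.pow_succ_eq n] at hx
    rw [hx]
    show red x - (red x - eb (red x)) = eb (red x)
    abel
  let er : (Z →₀ R) →ₗ[R] LinearMap.range e := e.rangeRestrict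
  have her : ∀ x : LinearMap.range e, er x = x := by
    intro x
    apply Subtype.ext
    obtain ⟨y, hy⟩ := x.2
    show e x.1 = x.1
    rw [← hy, he2]
  have hXproj : Module.Projective R (LinearMap.range e) :=
    Module.Projective.of_split (LinearMap.range e).subtype er (LinearMap.ext her)
  let ρ : LinearMap.range e →ₗ[R] ((ModuleCat.restrictScalars (Ideal.Quotient.mk I)).obj Z) :=
    { toFun := fun x => πb (red x.1)
      map_add' := fun x y => by
        show πb (red (x.1 + y.1)) = πb (red x.1) + πb (red y.1)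
        rw [map_add, map_add]
      map_smul' := fun a x => by
        show πb (red (a • x.1)) = (Ideal.Quotient.mk I a) • πb (red x.1)
        rw [map_smul red, ← mk_smul_eq I a (red x.1), map_smul] }
  have hρ : ∀ x : LinearMap.range e, (show Z from ρ x) = πb (red x.1) := fun x => rfl
  have hs : Function.Surjective ρ := by
    intro z
    obtain ⟨a, ha⟩ := hred_surj (sb z)
    refine ⟨er a, ?_⟩
    show πb (red (e a)) = z
    rw [hec, ha, heb, hπs, hπs]
  have hk : LinearMap.ker ρ = I • (⊤ : Submodule R (LinearMap.range e)) := by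
    apply le_antisymm
    · intro x hx
      have h0 : πb (red x.1) = 0 := hx
      have hx1 : e x.1 = x.1 := congrArg Subtype.val (her x)
      have h1 : red x.1 = 0 := by
        rw [← hx1, hec, heb, h0, map_zero]
      have h2 := hred_ker _ h1
      have h3 := Submodule.mem_map_of_mem (f := er) h2
      rw [Submodule.map_smul'', her] at h3
      exact Submodule.smul_mono le_rfl le_top h3
    · exact smul_top_le_ker (X := LinearMap.range e) I ρ
  exact ⟨ModuleCat.of R (LinearMap.range e), hXproj, ⟨upgrade I (redEquiv I ρ hs hk)⟩⟩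

theorem lift_nilpotent (R : Type u) [CommRing R] (I : Ideal R) (hI : IsNilpotent I)
    [DRing.HasLBaseChange (Ideal.Quotient.mk I)] (K : Dual.D R)
    (E : DRing.Cx (R ⧸ I)) (b : ℤ) (hEb : DRing.VanishesAbove E b)
    (hEp : ∀ i : ℤ, Module.Projective (R ⧸ I) (E.X i))
    (hE : Nonempty (DRing.toD E ≅ (DRing.LBaseChange (Ideal.Quotient.mk I)).obj K)) :
    ∃ (P : DRing.Cx R) (b' : ℤ), DRing.VanishesAbove P b' ∧
      (∀ i : ℤ, Module.Projective R (P.X i)) ∧ Nonempty (DRing.toD P ≅ K) ∧
      Nonempty ((((ModuleCat.extendScalars (Ideal.Quotient.mk I)).mapHomologicalComplex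
        (ComplexShape.up ℤ)).obj P) ≅ E) := by
  obtain ⟨hE'⟩ := hE
  let Pc : ObjectProperty (ModuleCat.{u} R) := fun X => Module.Projective R X
  haveI : Pc.IsClosedUnderIsomorphisms := ⟨fun {X Y} e (hX : Module.Projective R X) =>
    (Module.Projective.of_equiv e.toLinearEquiv : Module.Projective R Y)⟩
  haveI : E.IsStrictlyLE b := (E.isStrictlyLE_iff b).2 hEb
  haveI : (DRing.toD E).IsLE b := inferInstance
  have hLE : ((DRing.LBaseChange (Ideal.Quotient.mk I)).obj K).IsLE b :=
    DerivedCategory.TStructure.t.isLE_of_iso hE' b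
  have hker : IsNilpotent (RingHom.ker (Ideal.Quotient.mk I)) := by
    rw [Ideal.mk_ker]
    exact hI
  haveI : K.IsLE b := Groth.Agent.H35.LBC.isLE_of_LBaseChange_nilpotent (Ideal.Quotient.mk I)
    Ideal.Quotient.mk_surjective hker K b hLE
  obtain ⟨Q, hQb, hQfree, ⟨eK⟩⟩ := Groth.Agent.H35.TorAmp.exists_free_model_of_isLE K b
  refine lift_representative R I Pc (fun X hX => hX) ?_ ?_ K Q b hQb
    (fun i => by
      haveI := hQfree i
      exact (inferInstance : Module.Projective R (Q.X i))) eK E b hEb ?_ hE'
  · intro X Y (hX : Module.Projective R X)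
    constructor
    · intro (hXY : Module.Projective R (X × Y))
      exact (Module.Projective.of_split (LinearMap.inr R X Y) (LinearMap.snd R X Y)
        (LinearMap.ext fun _ => rfl) : Module.Projective R Y)
    · intro (hY : Module.Projective R Y)
      exact (inferInstance : Module.Projective R (X × Y))
  · intro X Y f _ _ h
    rw [← LinearMap.range_eq_top]
    exact eq_top_of_sup_smul_of_isNilpotent I hI _ h
  · intro i
    haveI := hEp i
    obtain ⟨X, hX, hθ⟩ := exists_lift_projective I hI (E.X i)
    exact ⟨X, hX, hθ⟩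

end Nilpotent

end Groth.Agent.H12.AcycLift
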