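import Groth.Agent.H12.AcycLift4

/-!
# Lifting finite stably free representatives along `R → R/I`, `I` in the Jacobson radical
(helper12)
-/

set_option autoImplicit false
set_option linter.style.haveILetI false
universe u
open CategoryTheory CategoryTheory.Limits TensorProduct
attribute [local instance] HasDerivedCategory.standard

namespace Groth.Agent.H12.AcycLift

open Groth.Agent.H12.ECMLift

section Jacobson

/-- finite stably free modules. -/
def PcSF (R : Type u) [CommRing R] : ObjectProperty (ModuleCat.{u} R) :=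
  fun X => Module.Finite R X ∧ Module.IsStablyFree R X

instance (R : Type u) [CommRing R] : (PcSF R).IsClosedUnderIsomorphisms :=
  ⟨fun {X Y} e (h : Module.Finite R X ∧ Module.IsStablyFree R X) => by
    obtain ⟨h1, h2⟩ := h
    haveI := h1
    haveI := h2
    exact (⟨Module.Finite.equiv e.toLinearEquiv, Module.IsStablyFree.equiv e.toLinearEquiv⟩ :
      Module.Finite R Y ∧ Module.IsStablyFree R Y)⟩

theorem PcSF_h1 (R : Type u) [CommRing R] (X : ModuleCat.{u} R) (h : PcSF R X) :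
    Module.Projective R X := by
  obtain ⟨-, h2⟩ := h
  haveI := h2
  infer_instance

theorem PcSF_h2 (R : Type u) [CommRing R] (X Y : ModuleCat.{u} R) (hX : PcSF R X) :
    PcSF R (ModuleCat.of R (X × Y)) ↔ PcSF R Y := by
  obtain ⟨hXf, hXs⟩ := hX
  haveI := hXf
  haveI := hXs
  obtain ⟨N1, _, _, _, _, hN1⟩ := Module.IsStablyFree.exist_free_prod R X
  haveI := hN1
  constructor
  · rintro ⟨hf, hs⟩
    haveI : Module.Finite R (X × Y) := hf
    haveI : Module.IsStablyFree R (X × Y) := hs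
    obtain ⟨N2, _, _, _, _, hN2⟩ := Module.IsStablyFree.exist_free_prod R (X × Y)
    haveI := hN2
    show Module.Finite R Y ∧ Module.IsStablyFree R Y
    refine ⟨Module.Finite.of_surjective (LinearMap.snd R X Y) LinearMap.snd_surjective, ?_⟩
    let e : (((X × Y) × N2) × N1) ≃ₗ[R] (Y × (N2 × (X × N1))) :=
      { toFun := fun p => (p.1.1.2, (p.1.2, (p.1.1.1, p.2)))
        invFun := fun q => (((q.2.2.1, q.1), q.2.1), q.2.2.2)
        map_add' := fun _ _ => rfl
        map_smul' := fun _ _ => rfl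
        left_inv := fun _ => rfl
        right_inv := fun _ => rfl }
    haveI : Module.Free R (Y × (N2 × (X × N1))) := Module.Free.of_equiv e
    exact Module.IsStablyFree.of_free_prod R Y (N2 × (X × N1))
  · rintro ⟨hf, hs⟩
    haveI : Module.Finite R Y := hf
    haveI : Module.IsStablyFree R Y := hs
    obtain ⟨N2, _, _, _, _, hN2⟩ := Module.IsStablyFree.exist_free_prod R Y
    haveI := hN2
    show Module.Finite R (X × Y) ∧ Module.IsStablyFree R (X × Y)
    refine ⟨(inferInstance : Module.Finite R (X × Y)), ?_⟩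
    haveI : Module.Free R ((X × Y) × (N1 × N2)) :=
      Module.Free.of_equiv (LinearEquiv.prodProdProdComm R X Y N1 N2).symm
    exact Module.IsStablyFree.of_free_prod R (X × Y) (N1 × N2)

theorem PcSF_h3 {R : Type u} [CommRing R] (I : Ideal R) (hI : I ≤ Ideal.jacobson (⊥ : Ideal R))
    (X Y : ModuleCat.{u} R) (f : X ⟶ Y) (_ : PcSF R X) (hY : PcSF R Y)
    (h : LinearMap.range f.hom ⊔ I • (⊤ : Submodule R Y) = ⊤) : Function.Surjective f.hom := by
  obtain ⟨hYf, -⟩ := hY
  haveI := hYf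
  rw [← LinearMap.range_eq_top, eq_top_iff]
  exact Submodule.le_of_le_smul_of_le_jacobson_bot Module.Finite.fg_top hI h.ge

variable {R : Type u} [CommRing R] (I : Ideal R)

/-- coordinates on a finite free `R/I`-module, lifted to `R`. -/
theorem exists_coord (Zb : ModuleCat.{u} (R ⧸ I))
    [Module.Finite (R ⧸ I) Zb] [Module.Free (R ⧸ I) Zb] :
    ∃ (k : ℕ) (ρ : (Fin k → R) →ₗ[R]
        ((ModuleCat.restrictScalars (Ideal.Quotient.mk I)).obj Zb)),
      Function.Surjective ρ ∧ ∀ x, ρ x = 0 ↔ x ∈ I • (⊤ : Submodule R (Fin k → R)) := by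
  obtain ⟨k, -, ⟨e⟩⟩ := exists_fin_equiv (R ⧸ I) Zb
  let ρ : (Fin k → R) →ₗ[R] ((ModuleCat.restrictScalars (Ideal.Quotient.mk I)).obj Zb) :=
    { toFun := fun a => e (fun j => Ideal.Quotient.mk I (a j))
      map_add' := fun a b => by
        show e (fun j => Ideal.Quotient.mk I ((a + b) j)) =
          e (fun j => Ideal.Quotient.mk I (a j)) + e (fun j => Ideal.Quotient.mk I (b j))
        rw [← map_add]
        exact congrArg e (funext fun j => map_add (Ideal.Quotient.mk I) (a j) (b j))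
      map_smul' := fun c a => by
        show e (fun j => Ideal.Quotient.mk I ((c • a) j)) =
          (Ideal.Quotient.mk I c) • e (fun j => Ideal.Quotient.mk I (a j))
        rw [← map_smul]
        exact congrArg e (funext fun j => map_mul (Ideal.Quotient.mk I) c (a j)) }
  have hρ : ∀ a, (show Zb from ρ a) = e (fun j => Ideal.Quotient.mk I (a j)) := fun a => rfl
  refine ⟨k, ρ, ?_, ?_⟩
  · intro z
    let bz : Fin k → R ⧸ I := e.symm (show Zb from z)
    have hch : ∀ j, ∃ r : R, Ideal.Quotient.mk I r = bz j :=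
      fun j => Ideal.Quotient.mk_surjective _
    choose a ha using hch
    refine ⟨a, ?_⟩
    show e (fun j => Ideal.Quotient.mk I (a j)) = z
    rw [show (fun j => Ideal.Quotient.mk I (a j)) = bz from funext ha]
    exact e.apply_symm_apply _
  · intro x
    constructor
    · intro hx
      apply pi_mem_smul_top I x
      intro j
      have h0 : e (fun j => Ideal.Quotient.mk I (x j)) = 0 := hx
      have h1 : (fun j => Ideal.Quotient.mk I (x j)) = 0 := e.map_eq_zero_iff.mp h0
      exact Ideal.Quotient.eq_zero_iff_mem.mp (congrFun h1 j)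
    · intro hx
      exact LinearMap.mem_ker.mp (smul_top_le_ker (X := Fin k → R) I ρ hx)

/-- finite stably free modules lift along ideals contained in the Jacobson radical. -/
theorem exists_lift_stablyFree (hI : I ≤ Ideal.jacobson (⊥ : Ideal R))
    (Z : ModuleCat.{u} (R ⧸ I))
    [Module.Finite (R ⧸ I) Z] [Module.IsStablyFree (R ⧸ I) Z] :
    ∃ X : ModuleCat.{u} R, PcSF R X ∧ Nonempty ((R ⧸ I) ⊗[R] X ≃ₗ[R ⧸ I] Z) := by
  classical
  obtain ⟨Nb, _, _, _, _, hfree⟩ := Module.IsStablyFree.exist_free_prod (R ⧸ I) Z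
  haveI := hfree
  obtain ⟨kF, ρ0, hs0, hk0⟩ := exists_coord I (ModuleCat.of (R ⧸ I) (Z × Nb))
  obtain ⟨kN, ρ1, hs1, hk1⟩ := exists_coord I (ModuleCat.of (R ⧸ I) Nb)
  let d0 : ((ModuleCat.restrictScalars (Ideal.Quotient.mk I)).obj
        (ModuleCat.of (R ⧸ I) (Z × Nb))) →ₗ[R]
      ((ModuleCat.restrictScalars (Ideal.Quotient.mk I)).obj (ModuleCat.of (R ⧸ I) Nb)) :=
    { toFun := fun p => (show Z × Nb from p).2
      map_add' := fun _ _ => rfl
      map_smul' := fun _ _ => rfl }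
  let p0 : ((ModuleCat.restrictScalars (Ideal.Quotient.mk I)).obj
        (ModuleCat.of (R ⧸ I) (Z × Nb))) →ₗ[R]
      ((ModuleCat.restrictScalars (Ideal.Quotient.mk I)).obj Z) :=
    { toFun := fun p => (show Z × Nb from p).1
      map_add' := fun _ _ => rfl
      map_smul' := fun _ _ => rfl }
  let d1 : ((ModuleCat.restrictScalars (Ideal.Quotient.mk I)).obj (ModuleCat.of (R ⧸ I) Nb))
      →ₗ[R] PUnit.{u + 1} := 0
  have hX0 : PcSF R (ModuleCat.of R (Fin kF → R)) :=
    (⟨inferInstance, inferInstance⟩ :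
      Module.Finite R (Fin kF → R) ∧ Module.IsStablyFree R (Fin kF → R))
  have hX1 : PcSF R (ModuleCat.of R (Fin kN → R)) :=
    (⟨inferInstance, inferInstance⟩ :
      Module.Finite R (Fin kN → R) ∧ Module.IsStablyFree R (Fin kN → R))
  have hTop : PcSF R (ModuleCat.of R (⊤ : Submodule R (Fin kN → R))) :=
    (PcSF R).prop_of_iso (Submodule.topEquiv (R := R) (M := Fin kN → R)).symm.toModuleIso hX1
  have hr : ∃ r : (Fin kN → R) →ₗ[R] (⊤ : Submodule R (Fin kN → R)),
      ∀ w : (⊤ : Submodule R (Fin kN → R)), r w = w :=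
    ⟨LinearMap.codRestrict ⊤ LinearMap.id (fun _ => Submodule.mem_top), fun w => Subtype.ext rfl⟩
  have hex : ∀ z, d1 z = 0 → ∃ y, d0 y = z := fun z _ => ⟨((0, z) : Z × Nb), rfl⟩
  have hdd : ∀ y, d1 (d0 y) = 0 := fun _ => rfl
  have hc : ∀ z, (∃ w ∈ (⊤ : Submodule R (Fin kN → R)), ρ1 w = z) ↔ d1 z = 0 := by
    intro z
    constructor
    · intro _
      rfl
    · intro _
      obtain ⟨w, hw⟩ := hs1 z
      exact ⟨w, Submodule.mem_top, hw⟩
  obtain ⟨φ, -, -, hφ3, ⟨r, hrr⟩, hφ5⟩ := step I (PcSF R) (PcSF_h1 R)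
    (fun X Y hX hXY => (PcSF_h2 R X Y hX).mp hXY) (PcSF_h3 I hI) hX0 d0 d1 hex hdd ρ0 ρ1 hs0
    hk0 hk1 ⊤ hTop hr hc
  let ρ : LinearMap.ker φ →ₗ[R] ((ModuleCat.restrictScalars (Ideal.Quotient.mk I)).obj Z) :=
    p0.comp (ρ0.comp (LinearMap.ker φ).subtype)
  have hs : Function.Surjective ρ := by
    intro z
    obtain ⟨w, hw, hwz⟩ := (hφ5 (((show Z from z), (0 : Nb)) : Z × Nb)).mpr rfl
    refine ⟨⟨w, hw⟩, ?_⟩
    show p0 (ρ0 w) = z
    rw [hwz]
    rfl
  have hk : LinearMap.ker ρ = I • (⊤ : Submodule R (LinearMap.ker φ)) := by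
    apply le_antisymm
    · intro x hx
      have h1 : p0 (ρ0 x.1) = 0 := hx
      have h2 : d0 (ρ0 x.1) = 0 := (hφ5 _).mp ⟨x.1, x.2, rfl⟩
      have h3 : (show Z × Nb from ρ0 x.1) = 0 := Prod.ext h1 h2
      have h4 := (hk0 _).mp h3
      have h5 := Submodule.mem_map_of_mem (f := r) h4
      rw [Submodule.map_smul'', hrr] at h5
      exact Submodule.smul_mono le_rfl le_top h5
    · exact smul_top_le_ker (X := LinearMap.ker φ) I ρ
  exact ⟨ModuleCat.of R (LinearMap.ker φ), hφ3, ⟨upgrade I (redEquiv I ρ hs hk)⟩⟩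

/-- a finite projective module with free reduction modulo an ideal in the Jacobson radical is
free. -/
theorem free_of_reduction_free (hI : I ≤ Ideal.jacobson (⊥ : Ideal R)) (Y : ModuleCat.{u} R)
    (hY : PcSF R Y) (Z : ModuleCat.{u} (R ⧸ I)) [Module.Finite (R ⧸ I) Z]
    [Module.Free (R ⧸ I) Z] (θ : (R ⧸ I) ⊗[R] Y ≃ₗ[R ⧸ I] Z) : Module.Free R Y := by
  obtain ⟨hYf, hYs⟩ := hY
  haveI := hYf
  haveI := hYs
  haveI : Module.Projective R Y := inferInstance
  obtain ⟨k, ρZ, hsZ, hkZ⟩ := exists_coord I Z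
  obtain ⟨g, hg⟩ := Module.projective_lifting_property (rho I θ) ρZ (rho_surjective I θ)
  have hg' : ∀ a, rho I θ (g a) = ρZ a := fun a => LinearMap.congr_fun hg a
  have hsurj : Function.Surjective g := by
    rw [← LinearMap.range_eq_top, eq_top_iff]
    refine Submodule.le_of_le_smul_of_le_jacobson_bot Module.Finite.fg_top hI ?_
    intro y _
    obtain ⟨a, ha⟩ := hsZ (rho I θ y)
    have h0 : rho I θ (y - g a) = 0 := by rw [map_sub, hg', ha, sub_self]
    have hmem := (rho_eq_zero_iff I θ _).mp h0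
    have hy : y = g a + (y - g a) := by abel
    rw [hy]
    exact Submodule.add_mem_sup ⟨a, rfl⟩ hmem
  obtain ⟨s, hs⟩ := Module.projective_lifting_property g LinearMap.id hsurj
  have hs' : ∀ y, g (s y) = y := fun y => LinearMap.congr_fun hs y
  let q : (Fin k → R) →ₗ[R] (Fin k → R) := LinearMap.id - s.comp g
  have hq : ∀ x, q x = x - s (g x) := fun x => rfl
  have hgq : ∀ x, g (q x) = 0 := by
    intro x
    rw [hq, map_sub, hs', sub_self]
  have hfg : (LinearMap.range q).FG := by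
    rw [LinearMap.range_eq_map]
    exact Submodule.FG.map q Module.Finite.fg_top
  have hle : LinearMap.range q ≤ I • LinearMap.range q := by
    rintro x ⟨y, rfl⟩
    have h0 : ρZ (q y) = 0 := by rw [← hg', hgq, map_zero]
    have h1 := (hkZ _).mp h0
    have h2 := Submodule.mem_map_of_mem (f := q) h1
    rw [Submodule.map_smul'', Submodule.map_top] at h2
    have h3 : q (q y) = q y := by
      rw [hq (q y), hgq, map_zero, sub_zero]
    rw [h3] at h2
    exact h2
  have hbot := Submodule.eq_bot_of_le_smul_of_le_jacobson_bot I _ hfg hle hI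
  have hinj : Function.Injective g := by
    rw [← LinearMap.ker_eq_bot, eq_bot_iff]
    intro x hx
    have hx0 : g x = 0 := hx
    have h1 : q x = x := by rw [hq, hx0, map_zero, sub_zero]
    have h2 : x ∈ LinearMap.range q := ⟨x, h1⟩
    rw [hbot] at h2
    exact h2
  exact Module.Free.of_equiv (LinearEquiv.ofBijective g ⟨hinj, hsurj⟩)

end Jacobson

section JacobsonMain

open DRing

theorem lift_jacobson (R : Type u) [CommRing R] (I : Ideal R)
    (hI : I ≤ Ideal.jacobson (⊥ : Ideal R)) [DRing.HasLBaseChange (Ideal.Quotient.mk I)]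
    (K : Dual.D R) (hK : DRing.IsPseudoCoherent' R K) (E : DRing.Cx (R ⧸ I)) (b : ℤ)
    (hEb : DRing.VanishesAbove E b)
    (hEs : ∀ i : ℤ, Module.Finite (R ⧸ I) (E.X i) ∧ Module.IsStablyFree (R ⧸ I) (E.X i))
    (hE : Nonempty (DRing.toD E ≅ (DRing.LBaseChange (Ideal.Quotient.mk I)).obj K)) :
    ∃ (P : DRing.Cx R) (b' : ℤ), DRing.VanishesAbove P b' ∧
      (∀ i : ℤ, Module.Finite R (P.X i) ∧ Module.IsStablyFree R (P.X i)) ∧
      Nonempty (DRing.toD P ≅ K) ∧
      Nonempty ((((ModuleCat.extendScalars (Ideal.Quotient.mk I)).mapHomologicalComplex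
        (ComplexShape.up ℤ)).obj P) ≅ E) ∧
      ∀ i : ℤ, Module.Free (R ⧸ I) (E.X i) → Module.Free R (P.X i) := by
  obtain ⟨hE'⟩ := hE
  obtain ⟨Q, c, hQc, hQff, ⟨eK⟩⟩ := hK
  have hQP : ∀ i : ℤ, PcSF R (Q.X i) := fun i => by
    obtain ⟨h1, h2⟩ := hQff i
    haveI := h2
    exact (⟨h1, inferInstance⟩ : Module.Finite R (Q.X i) ∧ Module.IsStablyFree R (Q.X i))
  have hEt : ∀ i : ℤ, ∃ X : ModuleCat.{u} R, PcSF R X ∧
      Nonempty (TensorProduct R (R ⧸ I) X ≃ₗ[R ⧸ I] E.X i) := fun i => by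
    haveI := (hEs i).1
    haveI := (hEs i).2
    exact exists_lift_stablyFree I hI (E.X i)
  obtain ⟨P, b', hPb, hPP, hPK, ⟨eP⟩⟩ := lift_representative R I (PcSF R) (PcSF_h1 R)
    (PcSF_h2 R) (PcSF_h3 I hI) K Q c hQc hQP eK E b hEb hEt hE'
  refine ⟨P, b', hPb, hPP, hPK, ⟨eP⟩, ?_⟩
  intro i hfree
  haveI := (hEs i).1
  haveI := hfree
  let eT : (Tc I).obj P ≅ (Rc I).obj E := tau I P ≪≫ (Rc I).mapIso eP
  let e0 : (R ⧸ I) ⊗[R] P.X i ≃ₗ[R]
      ((ModuleCat.restrictScalars (Ideal.Quotient.mk I)).obj (E.X i)) :=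
    ((HomologicalComplex.eval (ModuleCat.{u} R) (ComplexShape.up ℤ) i).mapIso eT).toLinearEquiv
  exact free_of_reduction_free I hI (P.X i) (hPP i) (E.X i) (upgrade I e0)

end JacobsonMain

end Groth.Agent.H12.AcycLift
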