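import Groth.Agent.H12.MinRes
import Groth.Agent.H3.HProjLift

/-!
# Lifting finite projective representatives along a henselian pair (helper12)
-/

set_option autoImplicit false
set_option linter.style.haveILetI false
universe u
open CategoryTheory CategoryTheory.Limits TensorProduct
attribute [local instance] HasDerivedCategory.standard

namespace Groth.Agent.H12.AcycLift

open Groth.Agent.H12.ECMLift

section Henselian

/-- finite projective modules. -/
def PcFP (R : Type u) [CommRing R] : ObjectProperty (ModuleCat.{u} R) :=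
  fun X => Module.Finite R X ∧ Module.Projective R X

instance (R : Type u) [CommRing R] : (PcFP R).IsClosedUnderIsomorphisms :=
  ⟨fun {X Y} e (h : Module.Finite R X ∧ Module.Projective R X) => by
    obtain ⟨h1, h2⟩ := h
    haveI := h1
    haveI := h2
    exact (⟨Module.Finite.equiv e.toLinearEquiv, Module.Projective.of_equiv e.toLinearEquiv⟩ :
      Module.Finite R Y ∧ Module.Projective R Y)⟩

theorem PcFP_h1 (R : Type u) [CommRing R] (X : ModuleCat.{u} R) (h : PcFP R X) :
    Module.Projective R X := by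
  obtain ⟨-, h2⟩ := h
  exact h2

theorem PcFP_h2 (R : Type u) [CommRing R] (X Y : ModuleCat.{u} R) (hX : PcFP R X) :
    PcFP R (ModuleCat.of R (X × Y)) ↔ PcFP R Y := by
  obtain ⟨hXf, hXp⟩ := hX
  haveI := hXf
  haveI := hXp
  constructor
  · rintro ⟨hf, hp⟩
    haveI : Module.Finite R (X × Y) := hf
    haveI : Module.Projective R (X × Y) := hp
    show Module.Finite R Y ∧ Module.Projective R Y
    exact ⟨Module.Finite.of_surjective (LinearMap.snd R X Y) LinearMap.snd_surjective,
      Module.Projective.of_split (LinearMap.inr R X Y) (LinearMap.snd R X Y)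
        (LinearMap.ext fun _ => rfl)⟩
  · rintro ⟨hf, hp⟩
    haveI : Module.Finite R Y := hf
    haveI : Module.Projective R Y := hp
    show Module.Finite R (X × Y) ∧ Module.Projective R (X × Y)
    exact ⟨inferInstance, inferInstance⟩

theorem PcFP_h3 {R : Type u} [CommRing R] (I : Ideal R) (hI : I ≤ Ideal.jacobson (⊥ : Ideal R))
    (X Y : ModuleCat.{u} R) (f : X ⟶ Y) (_ : PcFP R X) (hY : PcFP R Y)
    (h : LinearMap.range f.hom ⊔ I • (⊤ : Submodule R Y) = ⊤) : Function.Surjective f.hom := by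
  obtain ⟨hYf, -⟩ := hY
  haveI := hYf
  rw [← LinearMap.range_eq_top, eq_top_iff]
  exact Submodule.le_of_le_smul_of_le_jacobson_bot Module.Finite.fg_top hI h.ge

/-- a finite projective module with free reduction modulo an ideal in the Jacobson radical is
free. -/
theorem free_of_reduction_free' {R : Type u} [CommRing R] (I : Ideal R)
    (hI : I ≤ Ideal.jacobson (⊥ : Ideal R)) (Y : ModuleCat.{u} R)
    [Module.Finite R Y] [Module.Projective R Y] (Z : ModuleCat.{u} (R ⧸ I))
    [Module.Finite (R ⧸ I) Z] [Module.Free (R ⧸ I) Z] (θ : (R ⧸ I) ⊗[R] Y ≃ₗ[R ⧸ I] Z) :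
    Module.Free R Y := by
  obtain ⟨k, ρZ, hsZ, hkZ⟩ := exists_coord I Z
  obtain ⟨g, hg⟩ := Module.projective_lifting_property (rho I θ) ρZ (rho_surjective I θ)
  have hg' : ∀ a, rho I θ (g a) = ρZ a := fun a => LinearMap.congr_fun hg a
  have hbij : Function.Bijective g := by
    apply Groth.Agent.H12.MinRes.bijective_of_jacobson I hI g
    · rw [eq_top_iff]
      intro y _
      obtain ⟨a, ha⟩ := hsZ (rho I θ y)
      have h0 : rho I θ (y - g a) = 0 := by rw [map_sub, hg', ha, sub_self]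
      have hmem := (rho_eq_zero_iff I θ _).mp h0
      have hy : y = g a + (y - g a) := by abel
      rw [hy]
      exact Submodule.add_mem_sup ⟨a, rfl⟩ hmem
    · intro x hx
      apply (hkZ x).mp
      rw [← hg', hx, map_zero]
  exact Module.Free.of_equiv (LinearEquiv.ofBijective g hbij)

end Henselian

section HenselianMain

open DRing

theorem lift_henselian (R : Type u) [CommRing R] (I : Ideal R) [HenselianRing R I]
    [DRing.HasLBaseChange (Ideal.Quotient.mk I)] (K : Dual.D R)
    (hK : DRing.IsPseudoCoherent' R K) (E : DRing.Cx (R ⧸ I)) (b : ℤ)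
    (hEb : DRing.VanishesAbove E b) (hEp : DRing.TermwiseFiniteProjective E)
    (hE : Nonempty (DRing.toD E ≅ (DRing.LBaseChange (Ideal.Quotient.mk I)).obj K)) :
    ∃ (P : DRing.Cx R) (b' : ℤ), DRing.VanishesAbove P b' ∧ DRing.TermwiseFiniteProjective P ∧
      Nonempty (DRing.toD P ≅ K) ∧
      Nonempty ((((ModuleCat.extendScalars (Ideal.Quotient.mk I)).mapHomologicalComplex
        (ComplexShape.up ℤ)).obj P) ≅ E) ∧
      ∀ i : ℤ, Module.Free (R ⧸ I) (E.X i) → Module.Free R (P.X i) := by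
  have hI : I ≤ Ideal.jacobson (⊥ : Ideal R) := HenselianRing.jac
  obtain ⟨hE'⟩ := hE
  obtain ⟨Q, c, hQc, hQff, ⟨eK⟩⟩ := hK
  have hQP : ∀ i : ℤ, PcFP R (Q.X i) := fun i => by
    obtain ⟨h1, h2⟩ := hQff i
    haveI := h2
    exact (⟨h1, inferInstance⟩ : Module.Finite R (Q.X i) ∧ Module.Projective R (Q.X i))
  have hEt : ∀ i : ℤ, ∃ X : ModuleCat.{u} R, PcFP R X ∧
      Nonempty (TensorProduct R (R ⧸ I) X ≃ₗ[R ⧸ I] E.X i) := fun i => by
    haveI := (hEp i).1
    haveI := (hEp i).2
    obtain ⟨P, _, _, hPf, hPp, ⟨θ⟩⟩ := Groth.Agent.H3.exists_finite_projective_lift R I (E.X i)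
    exact ⟨ModuleCat.of R P, (⟨hPf, hPp⟩ : Module.Finite R P ∧ Module.Projective R P), ⟨θ⟩⟩
  obtain ⟨P, b', hPb, hPP, hPK, ⟨eP⟩⟩ := lift_representative R I (PcFP R) (PcFP_h1 R)
    (PcFP_h2 R) (PcFP_h3 I hI) K Q c hQc hQP eK E b hEb hEt hE'
  refine ⟨P, b', hPb, hPP, hPK, ⟨eP⟩, ?_⟩
  intro i hfree
  haveI := (hEp i).1
  haveI := hfree
  obtain ⟨hPf, hPp⟩ := hPP i
  haveI := hPf
  haveI := hPp
  let eT : (Tc I).obj P ≅ (Rc I).obj E := tau I P ≪≫ (Rc I).mapIso eP
  let e0 : (R ⧸ I) ⊗[R] P.X i ≃ₗ[R]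
      ((ModuleCat.restrictScalars (Ideal.Quotient.mk I)).obj (E.X i)) :=
    ((HomologicalComplex.eval (ModuleCat.{u} R) (ComplexShape.up ℤ) i).mapIso eT).toLinearEquiv
  exact free_of_reduction_free' I hI (P.X i) (E.X i) (upgrade I e0)

end HenselianMain

end Groth.Agent.H12.AcycLift
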