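import Groth.Agent.H12.FlatCxEW

/-!
# The natural isomorphism `T_p ≅ H_p(P) ⊗ -` (EGA III 7.3–7.4)
-/

set_option autoImplicit false
universe u
open CategoryTheory MonoidalCategory TensorProduct

namespace Groth.Agent.H12.FlatCx

section Naturality

variable {A : Type u} [CommRing A]

theorem comm₁₂_apply {S₁ S₂ : ShortComplex (ModuleCat.{u} A)} (φ : S₁ ⟶ S₂) (x : S₁.X₁) :
    φ.τ₂.hom (S₁.f.hom x) = S₂.f.hom (φ.τ₁.hom x) := by
  have h := congrArg (fun t => t.hom x) φ.comm₁₂
  simpa only [ModuleCat.hom_comp, LinearMap.comp_apply] using h.symm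

theorem comm₂₃_apply {S₁ S₂ : ShortComplex (ModuleCat.{u} A)} (φ : S₁ ⟶ S₂) (x : S₁.X₂) :
    φ.τ₃.hom (S₁.g.hom x) = S₂.g.hom (φ.τ₂.hom x) := by
  have h := congrArg (fun t => t.hom x) φ.comm₂₃
  simpa only [ModuleCat.hom_comp, LinearMap.comp_apply] using h.symm

/-- The explicit map on concrete homology induced by a morphism of short complexes. -/
noncomputable def scHmMap {S₁ S₂ : ShortComplex (ModuleCat.{u} A)} (φ : S₁ ⟶ S₂) :
    Hm S₁.f.hom S₁.g.hom S₁.moduleCat_zero_apply →ₗ[A]
      Hm S₂.f.hom S₂.g.hom S₂.moduleCat_zero_apply :=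
  HmMap S₁.f.hom S₁.g.hom S₁.moduleCat_zero_apply S₂.f.hom S₂.g.hom S₂.moduleCat_zero_apply
    φ.τ₁.hom φ.τ₂.hom φ.τ₃.hom (comm₁₂_apply φ) (comm₂₃_apply φ)

/-- The left homology map data between the concrete left homology data. -/
noncomputable def scMapData {S₁ S₂ : ShortComplex (ModuleCat.{u} A)} (φ : S₁ ⟶ S₂) :
    ShortComplex.LeftHomologyMapData φ S₁.moduleCatLeftHomologyData
      S₂.moduleCatLeftHomologyData where
  φK := ModuleCat.ofHom (φ.τ₂.hom.restrict (p := LinearMap.ker S₁.g.hom)
    (q := LinearMap.ker S₂.g.hom) (fun x hx => by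
      rw [LinearMap.mem_ker] at hx ⊢
      rw [← comm₂₃_apply, hx, map_zero]))
  φH := ModuleCat.ofHom (scHmMap φ)
  commi := by
    apply ModuleCat.hom_ext
    ext z
    rfl
  commf' := by
    apply ModuleCat.hom_ext
    ext x
    apply Subtype.ext
    exact comm₁₂_apply φ x
  commπ := by
    apply ModuleCat.hom_ext
    ext z
    rfl

theorem homologyIso_naturality {S₁ S₂ : ShortComplex (ModuleCat.{u} A)} (φ : S₁ ⟶ S₂)
    (x : S₁.homology) :
    S₂.moduleCatHomologyIso.hom.hom ((ShortComplex.homologyMap φ).hom x) =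
      scHmMap φ (S₁.moduleCatHomologyIso.hom.hom x) := by
  have h := congrArg (fun t => t.hom x) (scMapData φ).homologyMap_comm
  simp only [ModuleCat.hom_comp, LinearMap.comp_apply] at h
  exact h

end Naturality

section Complex

variable {A : Type u} [CommRing A] {ι : Type} {c : ComplexShape ι}
variable (P : HomologicalComplex (ModuleCat.{u} A) c)

/-- `H_j(P)`, concretely. -/
abbrev HP (i j k : ι) : Type u := Hm (P.d i j).hom (P.d j k).hom (d_d_apply P i j k)

/-- The map `H_j(P ⊗ M) → H_j(P ⊗ N)` on concrete homology. -/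
noncomputable def HmMapT (i j k : ι) {M N : ModuleCat.{u} A} (h : M ⟶ N) :
    Hm (dT P M i j) (dT P M j k) (dT_dT_apply P M i j k) →ₗ[A]
      Hm (dT P N i j) (dT P N j k) (dT_dT_apply P N i j k) :=
  HmMap _ _ _ _ _ _ (h.hom.lTensor (P.X i)) (h.hom.lTensor (P.X j)) (h.hom.lTensor (P.X k))
    (fun x => lTensor_dT P h.hom i j x) (fun x => lTensor_dT P h.hom j k x)

theorem TEquiv_naturality (i j k : ι) (hi : c.prev j = i) (hk : c.next j = k)
    {M N : ModuleCat.{u} A} (h : M ⟶ N) (x : (CohIII.TFun P j).obj M) :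
    TEquiv P i j k hi hk N (((CohIII.TFun P j).map h).hom x) =
      HmMapT P i j k h (TEquiv P i j k hi hk M x) := by
  subst hi hk
  exact homologyIso_naturality
    ((HomologicalComplex.shortComplexFunctor _ _ j).map (CohIII.tensorMap P h)) x

theorem TEquiv_symm_naturality (i j k : ι) (hi : c.prev j = i) (hk : c.next j = k)
    {M N : ModuleCat.{u} A} (h : M ⟶ N)
    (w : Hm (dT P M i j) (dT P M j k) (dT_dT_apply P M i j k)) :
    ((CohIII.TFun P j).map h).hom ((TEquiv P i j k hi hk M).symm w) =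
      (TEquiv P i j k hi hk N).symm (HmMapT P i j k h w) := by
  apply (TEquiv P i j k hi hk N).injective
  rw [TEquiv_naturality, LinearEquiv.apply_symm_apply, LinearEquiv.apply_symm_apply]

/-- The natural isomorphism `H_j(P) ⊗ - ≅ T_j` when tensoring keeps the kernel of `d`. -/
noncomputable def tensorIsoT (i j k : ι) (hi : c.prev j = i) (hk : c.next j = k)
    (hK : ∀ M : ModuleCat.{u} A, KerOKR (P.d j k).hom M) :
    tensorLeft (ModuleCat.of A (HP P i j k)) ≅ CohIII.TFun P j :=
  NatIso.ofComponents (fun M =>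
    ((tCompEquiv (P.d i j).hom (P.d j k).hom (d_d_apply P i j k) M (hK M)).trans
      (TEquiv P i j k hi hk M).symm).toModuleIso) (by
    intro M N h
    apply ModuleCat.hom_ext
    apply TensorProduct.ext'
    intro q m
    obtain ⟨z, rfl⟩ := Submodule.Quotient.mk_surjective _ q
    show (TEquiv P i j k hi hk N).symm
        (tComp (P.d i j).hom (P.d j k).hom (d_d_apply P i j k) N
          (Submodule.Quotient.mk z ⊗ₜ h.hom m)) =
      ((CohIII.TFun P j).map h).hom ((TEquiv P i j k hi hk M).symm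
        (tComp (P.d i j).hom (P.d j k).hom (d_d_apply P i j k) M (Submodule.Quotient.mk z ⊗ₜ m)))
    rw [TEquiv_symm_naturality]
    rfl)

/-- The same, from flatness of the next cokernel. -/
noncomputable def tensorIsoT_of_flat (i j k : ι) (hi : c.prev j = i) (hk : c.next j = k)
    (h3 : Module.Flat A (P.X k)) (hW : Module.Flat A (Wq P j k)) :
    tensorLeft (ModuleCat.of A (HP P i j k)) ≅ CohIII.TFun P j :=
  tensorIsoT P i j k hi hk (fun M => kerOKR_of_flat_coker (P.d j k).hom h3 hW M)

end Complex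

section TensorLeft

variable {A : Type u} [CommRing A]

theorem tensorLeft_preservesEpi (N : ModuleCat.{u} A) : (tensorLeft N).PreservesEpimorphisms :=
  ⟨fun {M M'} h hh => by
    rw [ModuleCat.epi_iff_surjective] at hh ⊢
    exact LinearMap.lTensor_surjective N hh⟩

theorem tensorLeft_preservesMono (N : ModuleCat.{u} A) [Module.Flat A N] :
    (tensorLeft N).PreservesMonomorphisms :=
  ⟨fun {M M'} h hh => by
    rw [ModuleCat.mono_iff_injective] at hh ⊢
    exact Module.Flat.lTensor_preserves_injective_linearMap h.hom hh⟩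

theorem flat_of_tensorLeft_preservesMono (N : ModuleCat.{u} A)
    (h : (tensorLeft N).PreservesMonomorphisms) : Module.Flat A N := by
  rw [Module.Flat.iff_lTensor_preserves_injective_linearMap'.{u, u, u}]
  intro M M' _ _ _ _ g hg
  have hm : Mono (ModuleCat.ofHom g) := (ModuleCat.mono_iff_injective _).mpr hg
  have := h.preserves (ModuleCat.ofHom g)
  exact (ModuleCat.mono_iff_injective _).mp this

theorem preservesEpi_of_iso_tensorLeft {T : ModuleCat.{u} A ⥤ ModuleCat.{u} A}
    {N : ModuleCat.{u} A} (e : T ≅ tensorLeft N) : T.PreservesEpimorphisms :=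
  haveI := tensorLeft_preservesEpi N
  Functor.PreservesEpimorphisms.of_iso e.symm

theorem preservesMono_of_iso_tensorLeft {T : ModuleCat.{u} A ⥤ ModuleCat.{u} A}
    {N : ModuleCat.{u} A} [Module.Flat A N] (e : T ≅ tensorLeft N) : T.PreservesMonomorphisms :=
  haveI := tensorLeft_preservesMono N
  Functor.PreservesMonomorphisms.of_iso e.symm

theorem flat_of_iso_tensorLeft {T : ModuleCat.{u} A ⥤ ModuleCat.{u} A}
    {N : ModuleCat.{u} A} (e : T ≅ tensorLeft N) (h : T.PreservesMonomorphisms) :
    Module.Flat A N :=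
  flat_of_tensorLeft_preservesMono N (Functor.PreservesMonomorphisms.of_iso e)

end TensorLeft

end Groth.Agent.H12.FlatCx
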