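import Mathlib
import Groth.Agent.H35.Devissage
import Groth.Agent.H82.TorFlat

/-!
# Finiteness of `Hom_{D(A)}(K, L[i])` (helper12)

Over a Noetherian ring `A`: if `K, L ∈ D(A)` have finite cohomology modules and `L` is represented
by a bounded complex of injectives, then every `Hom(K, L[i])` is a finite `A`-module.

Main tools (all in `D(A) = DerivedCategory (ModuleCat A)` with the standard instance):
* `finite_of_exact`, `finite_hom_obj₂_left/right`: finiteness in the middle of the Hom sequences of a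
  distinguished triangle;
* `finite_hom_of_iso`, `finite_hom_shift`, `finite_hom_shift_left`: transport;
* `isExtClosed_left`, `isExtClosed_right`: the dévissage predicates (for `H35.Devissage`);
* `hom_eq_zero_of_isGE_of_injective`, `hom_shift_eq_zero_of_isGE`: vanishing of maps from `D^{≥ m}` to
  a complex of injectives living in degrees `≤ b < m`;
* `finite_hom_single_int`: `Ext^k(M, N)` finite for finite modules (as Hom in `D(A)`);
* `main`.
-/

set_option autoImplicit false
universe u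
open CategoryTheory CategoryTheory.Limits Pretriangulated
attribute [local instance] HasDerivedCategory.standard

namespace Groth.Agent.H12.FinExt

open DerivedCategory DerivedCategory.TStructure

/-- `D(A)`. -/
abbrev DA (A : Type u) [CommRing A] : Type (u + 1) := DerivedCategory (ModuleCat.{u} A)

section Transport

variable {A : Type u} [CommRing A]

local notation "𝒟" => DA A

theorem finite_hom_of_iso {X X' Y Y' : 𝒟} (e : X ≅ X') (e' : Y ≅ Y')
    (h : Module.Finite A (X ⟶ Y)) : Module.Finite A (X' ⟶ Y') :=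
  haveI := h
  Module.Finite.equiv (Linear.homCongr A e e')

theorem finite_hom_shift {X Y : 𝒟} (k : ℤ) (h : Module.Finite A (X ⟶ Y)) :
    Module.Finite A (X⟦k⟧ ⟶ Y⟦k⟧) := by
  haveI := h
  refine Module.Finite.of_surjective ((shiftFunctor 𝒟 k).mapLinearMap A) ?_
  intro g
  obtain ⟨f, rfl⟩ := (shiftFunctor 𝒟 k).map_surjective g
  exact ⟨f, rfl⟩

theorem finite_hom_shift_left {X Y : 𝒟} (k i j : ℤ) (hj : j + k = i)
    (h : Module.Finite A (X ⟶ Y⟦j⟧)) : Module.Finite A (X⟦k⟧ ⟶ Y⟦i⟧) :=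
  finite_hom_of_iso (Iso.refl _) ((shiftFunctorAdd' 𝒟 j k i hj).app Y).symm (finite_hom_shift k h)

theorem finite_of_subsingleton_hom {X Y : 𝒟} (h : ∀ f : X ⟶ Y, f = 0) :
    Module.Finite A (X ⟶ Y) := by
  haveI : Subsingleton (X ⟶ Y) := ⟨fun f g => by rw [h f, h g]⟩
  infer_instance

end Transport

section Noeth

variable {A : Type u} [CommRing A] [IsNoetherianRing A]

local notation "𝒟" => DA A

theorem finite_of_exact {M₁ M₂ M₃ : Type*} [AddCommGroup M₁] [Module A M₁] [AddCommGroup M₂]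
    [Module A M₂] [AddCommGroup M₃] [Module A M₃] (h₁ : Module.Finite A M₁)
    (h₃ : Module.Finite A M₃) (f : M₁ →ₗ[A] M₂) (g : M₂ →ₗ[A] M₃)
    (h : ∀ y, g y = 0 → ∃ x, f x = y) : Module.Finite A M₂ := by
  haveI : IsNoetherian A M₁ := isNoetherian_of_isNoetherianRing_of_finite A M₁
  haveI : IsNoetherian A M₃ := isNoetherian_of_isNoetherianRing_of_finite A M₃
  refine ⟨Submodule.fg_of_fg_map_of_fg_inf_ker g (IsNoetherian.noetherian _) ?_⟩
  rw [top_inf_eq]
  have hk : LinearMap.ker g = Submodule.map f (Submodule.comap f (LinearMap.ker g)) := by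
    rw [Submodule.map_comap_eq, right_eq_inf]
    intro y hy
    obtain ⟨x, rfl⟩ := h y hy
    exact ⟨x, rfl⟩
  rw [hk]
  exact Submodule.FG.map f (IsNoetherian.noetherian _)

theorem finite_hom_obj₂_left (T : Triangle 𝒟) (hT : T ∈ distTriang 𝒟) (Y : 𝒟)
    (h₁ : Module.Finite A (T.obj₁ ⟶ Y)) (h₃ : Module.Finite A (T.obj₃ ⟶ Y)) :
    Module.Finite A (T.obj₂ ⟶ Y) :=
  finite_of_exact h₃ h₁ (Linear.leftComp A Y T.mor₂) (Linear.leftComp A Y T.mor₁) (by
    intro y hy
    obtain ⟨g, hg⟩ := Triangle.yoneda_exact₂ T hT y hy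
    exact ⟨g, hg.symm⟩)

theorem finite_hom_obj₂_right (T : Triangle 𝒟) (hT : T ∈ distTriang 𝒟) (X : 𝒟)
    (h₁ : Module.Finite A (X ⟶ T.obj₁)) (h₃ : Module.Finite A (X ⟶ T.obj₃)) :
    Module.Finite A (X ⟶ T.obj₂) :=
  finite_of_exact h₁ h₃ (Linear.rightComp A X T.mor₁) (Linear.rightComp A X T.mor₂) (by
    intro y hy
    obtain ⟨g, hg⟩ := Triangle.coyoneda_exact₂ T hT y hy
    exact ⟨g, hg.symm⟩)

theorem isExtClosed_left (L : 𝒟) :
    H35.Devissage.IsExtClosed (fun K : 𝒟 => ∀ i : ℤ, Module.Finite A (K ⟶ L⟦i⟧)) where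
  iso := fun e h i => finite_hom_of_iso e (Iso.refl _) (h i)
  zero := fun hK i => finite_of_subsingleton_hom (fun f => hK.eq_of_src f 0)
  ext := fun T hT h₁ h₃ i => finite_hom_obj₂_left T hT _ (h₁ i) (h₃ i)

theorem isExtClosed_right (M : 𝒟) :
    H35.Devissage.IsExtClosed (fun L : 𝒟 => ∀ i : ℤ, Module.Finite A (M ⟶ L⟦i⟧)) where
  iso := fun e h i => finite_hom_of_iso (Iso.refl _) ((shiftFunctor 𝒟 i).mapIso e) (h i)
  zero := fun hL i => finite_of_subsingleton_hom
    (fun f => ((shiftFunctor 𝒟 i).map_isZero hL).eq_of_tgt f 0)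
  ext := fun T hT h₁ h₃ i =>
    finite_hom_obj₂_right _ (Triangle.shift_distinguished T hT i) M (h₁ i) (h₃ i)

end Noeth

section Vanishing

variable {A : Type u} [CommRing A]

local notation "𝒟" => DA A

theorem hom_eq_zero_of_isGE_of_injective (E : CochainComplex (ModuleCat.{u} A) ℤ) (a b : ℤ)
    (hE : ∀ i : ℤ, i < a ∨ b < i → IsZero (E.X i)) (hinj : ∀ i : ℤ, Injective (E.X i))
    (K : 𝒟) (m : ℤ) (hm : b < m) [K.IsGE m] (f : K ⟶ Q.obj E) : f = 0 := by
  obtain ⟨K', hK', ⟨e⟩⟩ := exists_iso_Q_obj_of_isGE K m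
  haveI : E.IsStrictlyGE a := by
    rw [CochainComplex.isStrictlyGE_iff]
    intro i hi
    exact hE i (Or.inl hi)
  haveI : E.IsKInjective := CochainComplex.isKInjective_of_injective E a
  suffices h : e.inv ≫ f = 0 by
    rw [← cancel_epi e.inv, h, comp_zero]
  obtain ⟨φ, hφ⟩ := (CochainComplex.IsKInjective.Qh_map_bijective
    ((HomotopyCategory.quotient _ _).obj K') E).surjective (e.inv ≫ f)
  obtain ⟨ψ, rfl⟩ := (HomotopyCategory.quotient _ _).map_surjective φ
  have hψ : ψ = 0 := by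
    apply HomologicalComplex.hom_ext
    intro p
    by_cases hp : p < m
    · exact (K'.isZero_of_isStrictlyGE m p hp).eq_of_src _ _
    · exact (hE p (Or.inr (by omega))).eq_of_tgt _ _
  have h0 : Qh.map ((HomotopyCategory.quotient (ModuleCat.{u} A) (ComplexShape.up ℤ)).map ψ) = 0 := by
    rw [hψ, Functor.map_zero, Functor.map_zero]
  exact hφ.symm.trans h0

theorem hom_shift_eq_zero_of_isGE (E : CochainComplex (ModuleCat.{u} A) ℤ) (a b : ℤ)
    (hE : ∀ i : ℤ, i < a ∨ b < i → IsZero (E.X i)) (hinj : ∀ i : ℤ, Injective (E.X i))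
    (K : 𝒟) (m i : ℤ) (hm : b < m + i) [K.IsGE m] (L : 𝒟) (eL : L ≅ Q.obj E)
    (f : K ⟶ L⟦i⟧) : f = 0 := by
  haveI : (K⟦-i⟧).IsGE (m + i) := t.isGE_shift K m (-i) (m + i) (by omega)
  let g : (L⟦i⟧)⟦-i⟧ ≅ Q.obj E := (shiftFunctorCompIsoId 𝒟 i (-i) (by omega)).app L ≪≫ eL
  have h0 := hom_eq_zero_of_isGE_of_injective E a b hE hinj (K⟦-i⟧) (m + i) hm (f⟦-i⟧' ≫ g.hom)
  have h1 : f⟦-i⟧' = 0 := by
    rw [← cancel_mono g.hom, h0, zero_comp]
  exact (shiftFunctor 𝒟 (-i)).map_injective (by rw [h1, Functor.map_zero])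

end Vanishing

section Base

variable {A : Type u} [CommRing A] [IsNoetherianRing A]

local notation "𝒟" => DA A

theorem finite_hom_single_same (M N : Type u) [AddCommGroup M] [Module A M] [Module.Finite A M]
    [AddCommGroup N] [Module A N] [Module.Finite A N] (j : ℤ) :
    Module.Finite A ((singleFunctor (ModuleCat.{u} A) j).obj (ModuleCat.of A M) ⟶
      (singleFunctor (ModuleCat.{u} A) j).obj (ModuleCat.of A N)) := by
  haveI : IsNoetherian A N := isNoetherian_of_isNoetherianRing_of_finite A N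
  haveI : IsNoetherian A (M →ₗ[A] N) := isNoetherian_linearMap A N M
  haveI : Module.Finite A (M →ₗ[A] N) := inferInstance
  haveI : Module.Finite A (ModuleCat.of A M ⟶ ModuleCat.of A N) :=
    Module.Finite.equiv (ModuleCat.homLinearEquiv (S := A)).symm
  refine Module.Finite.of_surjective ((singleFunctor (ModuleCat.{u} A) j).mapLinearMap A) ?_
  intro g
  obtain ⟨f, rfl⟩ := (singleFunctor (ModuleCat.{u} A) j).map_surjective g
  exact ⟨f, rfl⟩

theorem hom_single_projective_eq_zero (P N : ModuleCat.{u} A) [Projective P] (n : ℕ)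
    (f : (singleFunctor (ModuleCat.{u} A) 0).obj P ⟶
      ((singleFunctor (ModuleCat.{u} A) 0).obj N)⟦((n + 1 : ℕ) : ℤ)⟧) : f = 0 := by
  obtain ⟨e, rfl⟩ := (Abelian.Ext.homEquiv (X := P) (Y := N) (n := n + 1) :
    Abelian.Ext.{u} P N (n + 1) ≃ _).surjective f
  rw [Abelian.Ext.eq_zero_of_projective e]
  exact (Abelian.Ext.zero_hom P N (n + 1) : (0 : Abelian.Ext.{u} P N (n + 1)).hom = 0)

theorem finite_hom_single_shift : ∀ (n : ℕ) (M N : Type u) [AddCommGroup M] [Module A M]
    [Module.Finite A M] [AddCommGroup N] [Module A N] [Module.Finite A N],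
    Module.Finite A ((singleFunctor (ModuleCat.{u} A) 0).obj (ModuleCat.of A M) ⟶
      ((singleFunctor (ModuleCat.{u} A) 0).obj (ModuleCat.of A N))⟦(n : ℤ)⟧) := by
  intro n
  induction n with
  | zero =>
    intro M N _ _ _ _ _ _
    exact finite_hom_of_iso (Iso.refl _) ((shiftFunctorZero 𝒟 ℤ).app _).symm
      (finite_hom_single_same M N 0)
  | succ n ih =>
    intro M N _ _ _ _ _ _
    obtain ⟨r, ε, hε⟩ := Module.Finite.exists_fin' A M
    haveI : IsNoetherian A (Fin r → A) := inferInstance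
    haveI : Module.Finite A (LinearMap.ker ε) := inferInstance
    have hS := H82.TorFlat.shortExact_of (A := A) (LinearMap.ker ε).subtype ε
      (Submodule.injective_subtype _) hε (LinearMap.exact_subtype_ker_map ε)
    have hT' := rot_of_distTriang _ hS.singleTriangle_distinguished
    have h₁ : Module.Finite A
        ((singleFunctor (ModuleCat.{u} A) 0).obj (ModuleCat.of A (Fin r → A)) ⟶
          ((singleFunctor (ModuleCat.{u} A) 0).obj (ModuleCat.of A N))⟦((n + 1 : ℕ) : ℤ)⟧) :=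
      finite_of_subsingleton_hom (fun f => hom_single_projective_eq_zero _ _ n f)
    have h₃ : Module.Finite A
        (((singleFunctor (ModuleCat.{u} A) 0).obj (ModuleCat.of A (LinearMap.ker ε)))⟦(1 : ℤ)⟧ ⟶
          ((singleFunctor (ModuleCat.{u} A) 0).obj (ModuleCat.of A N))⟦((n + 1 : ℕ) : ℤ)⟧) :=
      finite_hom_shift_left 1 _ (n : ℤ) (by push_cast; ring) (ih (LinearMap.ker ε) N)
    exact finite_hom_obj₂_left _ hT' _ h₁ h₃

theorem finite_hom_single_int (M N : Type u) [AddCommGroup M] [Module A M] [Module.Finite A M]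
    [AddCommGroup N] [Module A N] [Module.Finite A N] (k : ℤ) :
    Module.Finite A ((singleFunctor (ModuleCat.{u} A) 0).obj (ModuleCat.of A M) ⟶
      ((singleFunctor (ModuleCat.{u} A) 0).obj (ModuleCat.of A N))⟦k⟧) := by
  by_cases hk : 0 ≤ k
  · obtain ⟨n, rfl⟩ := Int.eq_ofNat_of_zero_le hk
    exact finite_hom_single_shift n M N
  · refine finite_of_subsingleton_hom (fun f => ?_)
    haveI : (((singleFunctor (ModuleCat.{u} A) 0).obj (ModuleCat.of A N))⟦k⟧).IsGE (-k) :=
      t.isGE_shift _ 0 k (-k) (by omega)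
    exact t.zero_of_isLE_of_isGE f 0 (-k) (by omega) inferInstance inferInstance

theorem finite_hom_single_single (M N : ModuleCat.{u} A) [Module.Finite A M] [Module.Finite A N]
    (q i : ℤ) :
    Module.Finite A ((singleFunctor (ModuleCat.{u} A) 0).obj M ⟶
      ((singleFunctor (ModuleCat.{u} A) q).obj N)⟦i⟧) := by
  let e₁ : ((singleFunctor (ModuleCat.{u} A) q).obj N)⟦i⟧ ≅
      (singleFunctor (ModuleCat.{u} A) (q - i)).obj N :=
    ((singleFunctors (ModuleCat.{u} A)).shiftIso i (q - i) q (by omega)).app N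
  let e₂ : ((singleFunctor (ModuleCat.{u} A) 0).obj N)⟦i - q⟧ ≅
      (singleFunctor (ModuleCat.{u} A) (q - i)).obj N :=
    ((singleFunctors (ModuleCat.{u} A)).shiftIso (i - q) (q - i) 0 (by omega)).app N
  exact finite_hom_of_iso (Iso.refl _) (e₂ ≪≫ e₁.symm) (finite_hom_single_int M N (i - q))

theorem finite_hom_single_left (L : 𝒟) (a b : ℤ)
    (hLvan : ∀ q, (q < a ∨ b < q) → IsZero ((homologyFunctor (ModuleCat.{u} A) q).obj L))
    (hLfin : ∀ q, Module.Finite A ((homologyFunctor (ModuleCat.{u} A) q).obj L))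
    (M : ModuleCat.{u} A) [Module.Finite A M] (j i : ℤ) :
    Module.Finite A ((singleFunctor (ModuleCat.{u} A) j).obj M ⟶ L⟦i⟧) := by
  have h0 : ∀ i : ℤ, Module.Finite A ((singleFunctor (ModuleCat.{u} A) 0).obj M ⟶ L⟦i⟧) := by
    refine H35.Devissage.of_homology (isExtClosed_right ((singleFunctor (ModuleCat.{u} A) 0).obj M))
      a (b - a + 1).toNat L b hLvan ?_ ?_
    · have := Int.self_le_toNat (b - a + 1)
      omega
    · intro q i
      haveI := hLfin q
      exact finite_hom_single_single M _ q i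
  let e : ((singleFunctor (ModuleCat.{u} A) 0).obj M)⟦-j⟧ ≅
      (singleFunctor (ModuleCat.{u} A) j).obj M :=
    ((singleFunctors (ModuleCat.{u} A)).shiftIso (-j) j 0 (by omega)).app M
  exact finite_hom_of_iso e (Iso.refl _)
    (finite_hom_shift_left (-j) i (i + j) (by omega) (h0 (i + j)))

theorem main (K L : 𝒟)
    (hK : ∀ i : ℤ, Module.Finite A ((homologyFunctor (ModuleCat.{u} A) i).obj K))
    (hL : ∀ i : ℤ, Module.Finite A ((homologyFunctor (ModuleCat.{u} A) i).obj L))
    (E : CochainComplex (ModuleCat.{u} A) ℤ) (a b : ℤ)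
    (hE : ∀ i : ℤ, i < a ∨ b < i → IsZero (E.X i))
    (hinj : ∀ i : ℤ, Module.Injective A (E.X i)) (eL : Q.obj E ≅ L) (i : ℤ) :
    Module.Finite A (K ⟶ L⟦i⟧) := by
  have hinj' : ∀ i : ℤ, Injective (E.X i) := fun i => by
    haveI := hinj i
    exact Module.injective_object_of_injective_module A (E.X i)
  haveI : E.IsStrictlyGE a := by
    rw [CochainComplex.isStrictlyGE_iff]
    intro j hj
    exact hE j (Or.inl hj)
  haveI : E.IsStrictlyLE b := by
    rw [CochainComplex.isStrictlyLE_iff]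
    intro j hj
    exact hE j (Or.inr hj)
  haveI : L.IsGE a := t.isGE_of_iso eL a
  haveI : L.IsLE b := t.isLE_of_iso eL b
  have hLvan : ∀ q, (q < a ∨ b < q) → IsZero ((homologyFunctor (ModuleCat.{u} A) q).obj L) := by
    rintro q (hq | hq)
    · exact isZero_of_isGE L a q hq
    · exact isZero_of_isLE L b q hq
  obtain ⟨N, hN⟩ : ∃ N : ℤ, N = b - i + 1 := ⟨_, rfl⟩
  obtain ⟨n, hn⟩ : ∃ n : ℤ, n = a - i := ⟨_, rfl⟩
  have hT₁ := t.triangleLTGE_distinguished N K
  -- the part of `K` in degrees `≥ N` does not map to `L⟦i⟧`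
  have h₃ : Module.Finite A ((t.truncGE N).obj K ⟶ L⟦i⟧) :=
    finite_of_subsingleton_hom (fun f =>
      hom_shift_eq_zero_of_isGE E a b hE hinj' _ N i (by omega) L eL.symm f)
  suffices h₁ : Module.Finite A ((t.truncLT N).obj K ⟶ L⟦i⟧) from
    finite_hom_obj₂_left _ hT₁ _ h₁ h₃
  obtain ⟨K₁, hK₁⟩ : ∃ K₁ : 𝒟, K₁ = (t.truncLT N).obj K := ⟨_, rfl⟩
  rw [← hK₁]
  haveI : K₁.IsLE (N - 1) := by
    rw [hK₁]
    exact inferInstanceAs (t.IsLE ((t.truncLT N).obj K) (N - 1))
  have hK₁fin : ∀ j : ℤ, Module.Finite A ((homologyFunctor (ModuleCat.{u} A) j).obj K₁) := by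
    intro j
    by_cases hj : j < N
    · haveI := H56.isIso_homologyMap_truncLTι K N j hj
      haveI := hK j
      rw [hK₁]
      have e : (homologyFunctor (ModuleCat.{u} A) j).obj ((t.truncLT N).obj K) ≅
          (homologyFunctor (ModuleCat.{u} A) j).obj K :=
        asIso ((homologyFunctor (ModuleCat.{u} A) j).map ((t.truncLTι N).app K))
      exact Module.Finite.equiv e.symm.toLinearEquiv
    · haveI : Subsingleton ((homologyFunctor (ModuleCat.{u} A) j).obj K₁) :=
        ModuleCat.subsingleton_of_isZero (isZero_of_isLE K₁ (N - 1) j (by omega))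
      infer_instance
  have hT₂ := t.triangleLTGE_distinguished n K₁
  -- the part of `K₁` in degrees `< n` does not map to `L⟦i⟧`
  have h₁' : Module.Finite A ((t.truncLT n).obj K₁ ⟶ L⟦i⟧) := by
    refine finite_of_subsingleton_hom (fun f => ?_)
    haveI : (L⟦i⟧).IsGE n := t.isGE_shift L a i n (by omega)
    haveI : ((t.truncLT n).obj K₁).IsLE (n - 1) :=
      inferInstanceAs (t.IsLE ((t.truncLT n).obj K₁) (n - 1))
    exact t.zero_of_isLE_of_isGE f (n - 1) n (by omega) inferInstance inferInstance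
  suffices h₃' : Module.Finite A ((t.truncGE n).obj K₁ ⟶ L⟦i⟧) from
    finite_hom_obj₂_left _ hT₂ _ h₁' h₃'
  obtain ⟨K₂, hK₂⟩ : ∃ K₂ : 𝒟, K₂ = (t.truncGE n).obj K₁ := ⟨_, rfl⟩
  rw [← hK₂]
  haveI : K₂.IsGE n := by
    rw [hK₂]
    exact inferInstanceAs (t.IsGE ((t.truncGE n).obj K₁) n)
  have hK₂iso : ∀ j : ℤ, n ≤ j →
      Nonempty ((homologyFunctor (ModuleCat.{u} A) j).obj K₁ ≅
        (homologyFunctor (ModuleCat.{u} A) j).obj K₂) := by
    intro j hj
    haveI := H56.isIso_homologyMap_truncGEπ K₁ n j hj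
    rw [hK₂]
    have e : (homologyFunctor (ModuleCat.{u} A) j).obj K₁ ≅
        (homologyFunctor (ModuleCat.{u} A) j).obj ((t.truncGE n).obj K₁) :=
      asIso ((homologyFunctor (ModuleCat.{u} A) j).map ((t.truncGEπ n).app K₁))
    exact ⟨e⟩
  have hK₂van : ∀ j : ℤ, (j < n ∨ N - 1 < j) →
      IsZero ((homologyFunctor (ModuleCat.{u} A) j).obj K₂) := by
    intro j hj
    by_cases hjn : j < n
    · exact isZero_of_isGE K₂ n j hjn
    · obtain ⟨e⟩ := hK₂iso j (by omega)
      exact IsZero.of_iso (isZero_of_isLE K₁ (N - 1) j (by omega)) e.symm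
  have hK₂fin : ∀ j : ℤ, Module.Finite A ((homologyFunctor (ModuleCat.{u} A) j).obj K₂) := by
    intro j
    by_cases hjn : j < n
    · haveI : Subsingleton ((homologyFunctor (ModuleCat.{u} A) j).obj K₂) :=
        ModuleCat.subsingleton_of_isZero (hK₂van j (Or.inl hjn))
      infer_instance
    · obtain ⟨e⟩ := hK₂iso j (by omega)
      haveI := hK₁fin j
      exact Module.Finite.equiv e.toLinearEquiv
  refine H35.Devissage.of_homology (isExtClosed_left L) n (N - 1 - n + 1).toNat K₂ (N - 1)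
    hK₂van ?_ ?_ i
  · have := Int.self_le_toNat (N - 1 - n + 1)
    omega
  · intro j i'
    haveI := hK₂fin j
    exact finite_hom_single_left L a b hLvan hL _ j i'

end Base

end Groth.Agent.H12.FinExt
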