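import Mathlib
import Groth.Agent.H12.FinExt
import Groth.Agent.H56.DerCat7

/-!
# Finiteness of the cohomology of a right adjoint of restriction of scalars (helper12)

For a finite homomorphism `A → B` of Noetherian rings and a right adjoint `R` of the restriction
functor `D(B) ⥤ D(A)`: if `K ∈ D⁺(A)` has finite cohomology modules then so has `R K`.

* `resD_map_smul_id`: restriction of scalars on derived categories is compatible with the scalar actions;
* `finite_hom_of_adj`: `Hom_{D(A)}(res X, K)` finite over `A` ⇒ `Hom_{D(B)}(X, R K)` finite over `B`;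
* `finite_H0_of_finite_hom`: `Hom_{D(B)}(B, Y)` finite ⇒ `H^0(Y)` finite;
* `finite_hom_single_of_bddBelow`: `Hom(M, K[i])` finite for `M` finite, `K ∈ D⁺` with finite cohomology;
* `main`.
-/

set_option autoImplicit false
universe u
open CategoryTheory CategoryTheory.Limits Pretriangulated
attribute [local instance] HasDerivedCategory.standard

namespace Groth.Agent.H12.AdjFin

open DerivedCategory DerivedCategory.TStructure
open Groth.Agent.H12.FinExt (DA)
open Groth.Agent.H12

section Restrict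

variable {A B : Type u} [CommRing A] [CommRing B] (φ : A →+* B)

/-- Restriction of scalars `D(B) ⥤ D(A)`. -/
noncomputable abbrev resD : DA B ⥤ DA A := (ModuleCat.restrictScalars.{u} φ).mapDerivedCategory

theorem restrictScalars_map_smul_id (a : A) (M : ModuleCat.{u} B) :
    (ModuleCat.restrictScalars.{u} φ).map (φ a • 𝟙 M) =
      a • 𝟙 ((ModuleCat.restrictScalars.{u} φ).obj M) := by
  ext x
  rfl

theorem mapHC_smul_id (a : A) (L : CochainComplex (ModuleCat.{u} B) ℤ) :
    ((ModuleCat.restrictScalars.{u} φ).mapHomologicalComplex (ComplexShape.up ℤ)).map (φ a • 𝟙 L) =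
      a • 𝟙 (((ModuleCat.restrictScalars.{u} φ).mapHomologicalComplex (ComplexShape.up ℤ)).obj L) := by
  apply HomologicalComplex.hom_ext
  intro n
  exact restrictScalars_map_smul_id φ a (L.X n)

theorem resD_map_smul_id_Q (a : A) (L : CochainComplex (ModuleCat.{u} B) ℤ) :
    (resD φ).map (φ a • 𝟙 (Q.obj L)) = a • 𝟙 ((resD φ).obj (Q.obj L)) := by
  have h1 : φ a • 𝟙 (Q.obj L) = Q.map (φ a • 𝟙 L) := by
    rw [Functor.map_smul, CategoryTheory.Functor.map_id]
  rw [h1]
  have h2 := (ModuleCat.restrictScalars.{u} φ).mapDerivedCategoryFactors_hom_naturality (φ a • 𝟙 L)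
  have h3 : Q.map (((ModuleCat.restrictScalars.{u} φ).mapHomologicalComplex
      (ComplexShape.up ℤ)).map (φ a • 𝟙 L)) =
      a • 𝟙 (Q.obj (((ModuleCat.restrictScalars.{u} φ).mapHomologicalComplex
        (ComplexShape.up ℤ)).obj L)) := by
    rw [mapHC_smul_id, Functor.map_smul, CategoryTheory.Functor.map_id]
  rw [h3, Linear.comp_smul] at h2
  erw [Category.comp_id] at h2
  rw [← cancel_mono ((ModuleCat.restrictScalars.{u} φ).mapDerivedCategoryFactors.hom.app L), h2,
    Linear.smul_comp, Category.id_comp]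

theorem resD_map_smul_id (a : A) (X : DA B) :
    (resD φ).map (φ a • 𝟙 X) = a • 𝟙 ((resD φ).obj X) := by
  obtain ⟨L, ⟨e⟩⟩ : ∃ L : CochainComplex (ModuleCat.{u} B) ℤ, Nonempty (Q.obj L ≅ X) :=
    ⟨_, ⟨Q.objObjPreimageIso X⟩⟩
  have h1 : φ a • 𝟙 X = e.inv ≫ (φ a • 𝟙 (Q.obj L)) ≫ e.hom := by
    rw [Linear.smul_comp, Linear.comp_smul, Category.id_comp, e.inv_hom_id]
  rw [h1, Functor.map_comp, Functor.map_comp, resD_map_smul_id_Q, Linear.smul_comp,
    Linear.comp_smul, Category.id_comp, ← Functor.map_comp, e.inv_hom_id,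
    CategoryTheory.Functor.map_id]

variable (R : DA A ⥤ DA B) (adj : resD φ ⊣ R)

include adj in
theorem homEquiv_smul (X : DA B) (K : DA A) (a : A) (f : (resD φ).obj X ⟶ K) :
    adj.homEquiv X K (a • f) = φ a • adj.homEquiv X K f := by
  have h : a • f = (resD φ).map (φ a • 𝟙 X) ≫ f := by
    rw [resD_map_smul_id, Linear.smul_comp, Category.id_comp]
  rw [h, Adjunction.homEquiv_naturality_left, Linear.smul_comp, Category.id_comp]

include adj in
theorem finite_hom_of_adj (X : DA B) (K : DA A)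
    (h : Module.Finite A ((resD φ).obj X ⟶ K)) : Module.Finite B (X ⟶ R.obj K) := by
  classical
  obtain ⟨s, hs⟩ := h.fg_top
  refine ⟨⟨s.image (adj.homEquiv X K), ?_⟩⟩
  rw [eq_top_iff]
  intro e _
  have key : ∀ f : (resD φ).obj X ⟶ K, f ∈ Submodule.span A (s : Set ((resD φ).obj X ⟶ K)) →
      adj.homEquiv X K f ∈ Submodule.span B
        ((s.image (adj.homEquiv X K) : Finset (X ⟶ R.obj K)) : Set (X ⟶ R.obj K)) := by
    intro f hf
    induction hf using Submodule.span_induction with
    | mem f hf =>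
      refine Submodule.subset_span ?_
      rw [Finset.coe_image]
      exact ⟨f, hf, rfl⟩
    | zero =>
      rw [Adjunction.homAddEquiv_zero]
      exact Submodule.zero_mem _
    | add f g _ _ hf hg =>
      rw [Adjunction.homAddEquiv_add]
      exact Submodule.add_mem _ hf hg
    | smul a f _ hf =>
      rw [homEquiv_smul φ R adj]
      exact Submodule.smul_mem _ _ hf
  have h2 := key ((adj.homEquiv X K).symm e) (by rw [hs]; exact Submodule.mem_top)
  rwa [Equiv.apply_symm_apply] at h2

end Restrict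

section LemmaA

variable (B : Type u) [CommRing B]

/-- The ring `B` as an object of `D(B)`. -/
noncomputable abbrev sB : DA B := (singleFunctor (ModuleCat.{u} B) 0).obj (ModuleCat.of B B)

variable {B}

theorem finite_of_finite_hom_single [IsNoetherianRing B] (N : ModuleCat.{u} B)
    (h : Module.Finite B (sB B ⟶ (singleFunctor (ModuleCat.{u} B) 0).obj N)) :
    Module.Finite B N := by
  haveI := h
  haveI : IsNoetherian B (sB B ⟶ (singleFunctor (ModuleCat.{u} B) 0).obj N) :=
    isNoetherian_of_isNoetherianRing_of_finite B _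
  let g : N →ₗ[B] (sB B ⟶ (singleFunctor (ModuleCat.{u} B) 0).obj N) :=
    ((singleFunctor (ModuleCat.{u} B) 0).mapLinearMap B).comp
      ((ModuleCat.homLinearEquiv (S := B) (M := ModuleCat.of B B) (N := N)).symm.toLinearMap.comp
        (LinearMap.ringLmapEquivSelf B B N).symm.toLinearMap)
  refine Module.Finite.of_injective g ?_
  have hg : (g : N → _) = (fun f => (singleFunctor (ModuleCat.{u} B) 0).map f) ∘
      ((ModuleCat.homLinearEquiv (S := B) (M := ModuleCat.of B B) (N := N)).symm ∘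
        (LinearMap.ringLmapEquivSelf B B N).symm) := rfl
  rw [hg]
  exact ((singleFunctor (ModuleCat.{u} B) 0).map_injective).comp
    ((LinearEquiv.injective _).comp (LinearEquiv.injective _))

theorem finite_H0_of_finite_hom [IsNoetherianRing B] (Y : DA B)
    (h : Module.Finite B (sB B ⟶ Y)) :
    Module.Finite B ((homologyFunctor (ModuleCat.{u} B) 0).obj Y) := by
  haveI : Projective (ModuleCat.of B B) :=
    (IsProjective.iff_projective (R := B) (P := B)).mp inferInstance
  -- Step 1: `Y₁ = τ_{<1} Y`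
  have hT₁ := inv_rot_of_distTriang _ (t.triangleLTGE_distinguished 1 Y)
  have h₁ : Module.Finite B (sB B ⟶ (t.truncLT 1).obj Y) := by
    refine FinExt.finite_hom_obj₂_right _ hT₁ (sB B) ?_ h
    refine FinExt.finite_of_subsingleton_hom (fun f => ?_)
    have hGE : (((t.truncGE 1).obj Y)⟦(-1 : ℤ)⟧).IsGE 2 := t.isGE_shift _ 1 (-1) 2 (by omega)
    exact t.zero_of_isLE_of_isGE f 0 2 (by omega) inferInstance hGE
  obtain ⟨Y₁, hY₁⟩ : ∃ Y₁ : DA B, Y₁ = (t.truncLT 1).obj Y := ⟨_, rfl⟩
  rw [← hY₁] at h₁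
  haveI : Y₁.IsLE 0 := by
    rw [hY₁]
    exact inferInstanceAs (t.IsLE ((t.truncLT 1).obj Y) (1 - 1))
  have e₁ : (homologyFunctor (ModuleCat.{u} B) 0).obj Y₁ ≅
      (homologyFunctor (ModuleCat.{u} B) 0).obj Y := by
    haveI := H56.isIso_homologyMap_truncLTι Y 1 0 (by omega)
    rw [hY₁]
    exact asIso ((homologyFunctor (ModuleCat.{u} B) 0).map ((t.truncLTι 1).app Y))
  -- Step 2: `Y₂ = τ_{≥0} Y₁`
  have hT₂ := rot_of_distTriang _ (t.triangleLTGE_distinguished 0 Y₁)
  have h₂ : Module.Finite B (sB B ⟶ (t.truncGE 0).obj Y₁) := by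
    refine FinExt.finite_hom_obj₂_right _ hT₂ (sB B) h₁ ?_
    refine FinExt.finite_of_subsingleton_hom (fun f => ?_)
    haveI : ((t.truncLT 0).obj Y₁).IsLE (0 - 1) :=
      inferInstanceAs (t.IsLE ((t.truncLT 0).obj Y₁) (0 - 1))
    haveI : (((t.truncLT 0).obj Y₁)⟦(1 : ℤ)⟧).IsLE (-2) :=
      t.isLE_shift _ (0 - 1) 1 (-2) (by omega)
    exact H56.hom_single_projective_eq_zero (ModuleCat.of B B)
      (((t.truncLT 0).obj Y₁)⟦(1 : ℤ)⟧) (-2) (by omega) f
  have e₂ : (homologyFunctor (ModuleCat.{u} B) 0).obj Y₁ ≅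
      (homologyFunctor (ModuleCat.{u} B) 0).obj ((t.truncGE 0).obj Y₁) := by
    haveI := H56.isIso_homologyMap_truncGEπ Y₁ 0 0 le_rfl
    exact asIso ((homologyFunctor (ModuleCat.{u} B) 0).map ((t.truncGEπ 0).app Y₁))
  obtain ⟨Y₂, hY₂⟩ : ∃ Y₂ : DA B, Y₂ = (t.truncGE 0).obj Y₁ := ⟨_, rfl⟩
  rw [← hY₂] at h₂ e₂
  haveI : Y₂.IsGE 0 := by
    rw [hY₂]
    exact inferInstanceAs (t.IsGE ((t.truncGE 0).obj Y₁) 0)
  haveI : Y₂.IsLE 0 := by
    rw [hY₂]
    exact inferInstanceAs (t.IsLE ((t.truncGE 0).obj Y₁) 0)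
  -- Step 3: `Y₂` is a module in degree `0`
  obtain ⟨e⟩ := H56.nonempty_iso_single Y₂ 0
  have h₃ := FinExt.finite_hom_of_iso (Iso.refl (sB B)) e h₂
  haveI := finite_of_finite_hom_single _ h₃
  exact Module.Finite.equiv (e₂.symm ≪≫ e₁).toLinearEquiv

end LemmaA

section LemmaD

variable {A : Type u} [CommRing A] [IsNoetherianRing A]

theorem finite_hom_single_of_bddBelow (K : DA A) (a : ℤ)
    (hKa : ∀ i : ℤ, i < a → IsZero ((homologyFunctor (ModuleCat.{u} A) i).obj K))
    (hK : ∀ i : ℤ, Module.Finite A ((homologyFunctor (ModuleCat.{u} A) i).obj K))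
    (M : ModuleCat.{u} A) [Module.Finite A M] (i : ℤ) :
    Module.Finite A ((singleFunctor (ModuleCat.{u} A) 0).obj M ⟶ K⟦i⟧) := by
  have hT := Triangle.shift_distinguished _ (t.triangleLTGE_distinguished (i + 1) K) i
  haveI hLE : ((t.truncLT (i + 1)).obj K).IsLE (i + 1 - 1) :=
    inferInstanceAs (t.IsLE ((t.truncLT (i + 1)).obj K) (i + 1 - 1))
  have hiso : ∀ q : ℤ, q < i + 1 →
      Nonempty ((homologyFunctor (ModuleCat.{u} A) q).obj ((t.truncLT (i + 1)).obj K) ≅
        (homologyFunctor (ModuleCat.{u} A) q).obj K) := by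
    intro q hq
    haveI := H56.isIso_homologyMap_truncLTι K (i + 1) q hq
    exact ⟨asIso ((homologyFunctor (ModuleCat.{u} A) q).map ((t.truncLTι (i + 1)).app K))⟩
  refine FinExt.finite_hom_obj₂_right _ hT _ ?_ ?_
  · refine FinExt.finite_hom_single_left ((t.truncLT (i + 1)).obj K) a i ?_ ?_ M 0 i
    · rintro q (hq | hq)
      · by_cases hq' : q < i + 1
        · obtain ⟨e⟩ := hiso q hq'
          exact IsZero.of_iso (hKa q hq) e
        · exact isZero_of_isLE _ (i + 1 - 1) q (by omega)
      · exact isZero_of_isLE _ (i + 1 - 1) q (by omega)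
    · intro q
      by_cases hq' : q < i + 1
      · obtain ⟨e⟩ := hiso q hq'
        haveI := hK q
        exact Module.Finite.equiv e.symm.toLinearEquiv
      · haveI : Subsingleton ((homologyFunctor (ModuleCat.{u} A) q).obj ((t.truncLT (i + 1)).obj K)) :=
          ModuleCat.subsingleton_of_isZero (isZero_of_isLE _ (i + 1 - 1) q (by omega))
        infer_instance
  · refine FinExt.finite_of_subsingleton_hom (fun f => ?_)
    have hGE : (((t.truncGE (i + 1)).obj K)⟦i⟧).IsGE 1 := t.isGE_shift _ (i + 1) i 1 (by omega)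
    exact t.zero_of_isLE_of_isGE f 0 1 (by omega) inferInstance hGE

end LemmaD

section Main

variable (A B : Type u) [CommRing A] [CommRing B] [Algebra A B] [IsNoetherianRing A]
  [IsNoetherianRing B] [Module.Finite A B]

theorem main (R : DA A ⥤ DA B) (adj : resD (algebraMap A B) ⊣ R) (K : DA A) (a : ℤ)
    (hKa : ∀ i : ℤ, i < a → Subsingleton ((homologyFunctor (ModuleCat.{u} A) i).obj K))
    (hK : ∀ i : ℤ, Module.Finite A ((homologyFunctor (ModuleCat.{u} A) i).obj K)) (i : ℤ) :
    Module.Finite B ((homologyFunctor (ModuleCat.{u} B) i).obj (R.obj K)) := by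
  -- the `A`-module `B`
  obtain ⟨BA, hBA⟩ : ∃ BA : ModuleCat.{u} A,
      BA = (ModuleCat.restrictScalars.{u} (algebraMap A B)).obj (ModuleCat.of B B) := ⟨_, rfl⟩
  haveI : Module.Finite A BA := by
    rw [hBA]
    let e : B ≃ₗ[A] ((ModuleCat.restrictScalars.{u} (algebraMap A B)).obj (ModuleCat.of B B)) :=
      { toFun := fun b => b
        invFun := fun b => b
        map_add' := fun _ _ => rfl
        map_smul' := fun a b => by
          show a • b = algebraMap A B a • b
          rw [Algebra.smul_def, smul_eq_mul]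
        left_inv := fun _ => rfl
        right_inv := fun _ => rfl }
    exact Module.Finite.equiv e
  have hD : Module.Finite A ((singleFunctor (ModuleCat.{u} A) 0).obj BA ⟶ K⟦i⟧) :=
    finite_hom_single_of_bddBelow K a
      (fun q hq => by
        haveI := hKa q hq
        exact ModuleCat.isZero_of_subsingleton _) hK BA i
  have hD' : Module.Finite A (((singleFunctor (ModuleCat.{u} A) 0).obj BA)⟦-i⟧ ⟶ K) :=
    FinExt.finite_hom_of_iso (Iso.refl _) ((shiftFunctorZero (DA A) ℤ).app K)
      (FinExt.finite_hom_shift_left (-i) 0 i (by omega) hD)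
  obtain ⟨X, hX⟩ : ∃ X : DA B, X = (sB B)⟦-i⟧ := ⟨_, rfl⟩
  have eX : (resD (algebraMap A B)).obj X ≅ ((singleFunctor (ModuleCat.{u} A) 0).obj BA)⟦-i⟧ := by
    rw [hX, hBA]
    exact ((resD (algebraMap A B)).commShiftIso (-i)).app (sB B) ≪≫
      (shiftFunctor (DA A) (-i)).mapIso
        (((ModuleCat.restrictScalars.{u} (algebraMap A B)).mapDerivedCategorySingleFunctor 0).app
          (ModuleCat.of B B))
  have hB : Module.Finite A ((resD (algebraMap A B)).obj X ⟶ K) :=
    FinExt.finite_hom_of_iso eX.symm (Iso.refl _) hD'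
  have hR : Module.Finite B (X ⟶ R.obj K) := finite_hom_of_adj (algebraMap A B) R adj X K hB
  have hR' : Module.Finite B (sB B ⟶ (R.obj K)⟦i⟧) := by
    rw [hX] at hR
    exact FinExt.finite_hom_of_iso ((shiftFunctorCompIsoId (DA B) (-i) i (by omega)).app (sB B))
      (Iso.refl _) (FinExt.finite_hom_shift i hR)
  haveI := finite_H0_of_finite_hom ((R.obj K)⟦i⟧) hR'
  have eH : (homologyFunctor (ModuleCat.{u} B) 0).obj ((R.obj K)⟦i⟧) ≅
      (homologyFunctor (ModuleCat.{u} B) i).obj (R.obj K) :=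
    ((homologyFunctor (ModuleCat.{u} B) 0).shiftIso i 0 i (by omega)).app (R.obj K)
  exact Module.Finite.equiv eH.toLinearEquiv

end Main

end Groth.Agent.H12.AdjFin
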