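import Mathlib
import Groth.Prelude.Def_DualLC
import Groth.Agent.H12.FinExt

/-!
# The functor `H_T(Y) = colim_{V(J) ⊆ T} Hom_{D(A)}(A/J, Y)` (helper12)

Concrete description of the filtered colimit underlying `Dual2.HDT A T K i = HY T (K⟦i⟧)`:
cocone maps `ι`, joint surjectivity, zero criterion, functoriality `mapH`, exactness on
distinguished triangles, linearity.
-/

set_option autoImplicit false
universe u
open CategoryTheory CategoryTheory.Limits Pretriangulated Opposite
attribute [local instance] HasDerivedCategory.standard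

namespace Groth.Agent.H12.HDT

open DerivedCategory DerivedCategory.TStructure
open Groth.Agent.H12.FinExt (DA)
open Dual2 (IdealsIn idealsInDiagram)

variable {A : Type u} [CommRing A] (T : Set (PrimeSpectrum A))

/-- constructor for objects of `IdealsIn T` -/
def mkI (J : Ideal A) (hJ : PrimeSpectrum.zeroLocus (J : Set A) ⊆ T) : IdealsIn T := ⟨J, hJ⟩

/-- the underlying ideal -/
def idl (J : IdealsIn T) : Ideal A := ObjectProperty.FullSubcategory.obj J

lemma idl_prop (J : IdealsIn T) : PrimeSpectrum.zeroLocus (idl T J : Set A) ⊆ T :=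
  ObjectProperty.FullSubcategory.property J

@[simp] lemma idl_mkI (J : Ideal A) (hJ : PrimeSpectrum.zeroLocus (J : Set A) ⊆ T) :
    idl T (mkI T J hJ) = J := rfl

/-- constructor for morphisms of `IdealsIn T` -/
def homLE {J J' : IdealsIn T} (h : idl T J ≤ idl T J') : J ⟶ J' :=
  ObjectProperty.homMk (homOfLE h)

lemma le_of_hom' {J J' : IdealsIn T} (f : J ⟶ J') : idl T J ≤ idl T J' :=
  leOfHom (InducedCategory.Hom.hom f)

instance hom_subsingleton (J J' : IdealsIn T) : Subsingleton (J ⟶ J') :=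
  ⟨fun _ _ => ObjectProperty.hom_ext _ (Subsingleton.elim _ _)⟩

instance : IsCofiltered (IdealsIn T) where
  cone_objs J J' :=
    ⟨mkI T (idl T J ⊓ idl T J') (by
        rw [PrimeSpectrum.zeroLocus_inf]
        exact Set.union_subset (idl_prop T J) (idl_prop T J')),
      homLE T inf_le_left, homLE T inf_le_right, trivial⟩
  cone_maps J _ _ _ := ⟨J, 𝟙 J, Subsingleton.elim _ _⟩
  nonempty := ⟨mkI T ⊤ (by
    rw [Submodule.top_coe, PrimeSpectrum.zeroLocus_univ]
    exact Set.empty_subset _)⟩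

/-- the diagram `J ↦ A/J` in `D(A)` -/
noncomputable abbrev QD : IdealsIn T ⥤ DA A :=
  localCohomology.ringModIdeals (idealsInDiagram T) ⋙ singleFunctor (ModuleCat.{u} A) 0

/-- the diagram `J ↦ Hom(A/J, Y)` -/
noncomputable abbrev FD (Y : DA A) : (IdealsIn T)ᵒᵖ ⥤ ModuleCat.{u + 1} A :=
  (QD T).op ⋙ (linearYoneda A (DA A)).obj Y

/-- `H_T(Y)` -/
noncomputable abbrev HY (Y : DA A) : ModuleCat.{u + 1} A := colimit (FD T Y)

noncomputable instance forget₂PresBig :
    PreservesFilteredColimitsOfSize.{u + 1, u + 1}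
      (forget₂ (ModuleCat.{u + 1} A) AddCommGrpCat.{u + 1}) where
  preserves_filtered_colimits _ _ _ :=
  { preservesColimit := fun {F} =>
      preservesColimit_of_preserves_colimit_cocone
        (ModuleCat.FilteredColimits.colimitCoconeIsColimit.{u + 1, u} F)
        (AddCommGrpCat.FilteredColimits.colimitCoconeIsColimit
          (F ⋙ forget₂ (ModuleCat.{u + 1} A) AddCommGrpCat.{u + 1})) }

noncomputable instance forgetPresBig :
    PreservesFilteredColimitsOfSize.{u + 1, u + 1} (forget (ModuleCat.{u + 1} A)) :=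
  Limits.comp_preservesFilteredColimits (forget₂ (ModuleCat.{u + 1} A) AddCommGrpCat.{u + 1})
    (forget AddCommGrpCat.{u + 1})

noncomputable instance forgetPres :
    PreservesColimitsOfShape ((IdealsIn T)ᵒᵖ) (forget (ModuleCat.{u + 1} A)) :=
  haveI : PreservesFilteredColimitsOfSize.{u, u} (forget (ModuleCat.{u + 1} A)) :=
    preservesFilteredColimitsOfSize_shrink.{u, u + 1, u, u + 1} _
  PreservesFilteredColimitsOfSize.preserves_filtered_colimits _

instance isLE_QD (J : IdealsIn T) : ((QD T).obj J).IsLE 0 :=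
  inferInstanceAs (((singleFunctor (ModuleCat.{u} A) 0).obj
    ((localCohomology.ringModIdeals (idealsInDiagram T)).obj J)).IsLE 0)

instance isGE_QD (J : IdealsIn T) : ((QD T).obj J).IsGE 0 :=
  inferInstanceAs (((singleFunctor (ModuleCat.{u} A) 0).obj
    ((localCohomology.ringModIdeals (idealsInDiagram T)).obj J)).IsGE 0)

/-- the cocone maps -/
noncomputable def ι (Y : DA A) (J : IdealsIn T) : ((QD T).obj J ⟶ Y) →ₗ[A] HY T Y :=
  (colimit.ι (FD T Y) (op J)).hom

lemma ι_res (Y : DA A) {J J' : IdealsIn T} (h : J' ⟶ J) (y : (QD T).obj J ⟶ Y) :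
    ι T Y J' ((QD T).map h ≫ y) = ι T Y J y := by
  have hw := colimit.w (FD T Y) h.op
  exact congrArg (fun t => t.hom y) hw

theorem exists_rep (Y : DA A) (x : HY T Y) :
    ∃ (J : IdealsIn T) (y : (QD T).obj J ⟶ Y), ι T Y J y = x := by
  obtain ⟨j, y, hy⟩ := Concrete.colimit_exists_rep (FD T Y) x
  exact ⟨j.unop, y, hy⟩

theorem exists_res_eq_zero (Y : DA A) (J : IdealsIn T) (y : (QD T).obj J ⟶ Y)
    (hy : ι T Y J y = 0) : ∃ (J' : IdealsIn T) (h : J' ⟶ J), (QD T).map h ≫ y = 0 := by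
  have h0 : (colimit.ι (FD T Y) (op J)).hom y = (colimit.ι (FD T Y) (op J)).hom 0 := by
    rw [map_zero]; exact hy
  obtain ⟨k, f, g, hfg⟩ :=
    (Concrete.colimit_rep_eq_iff_exists (FD T Y) (i := op J) (j := op J) y 0).1 h0
  refine ⟨k.unop, f.unop, ?_⟩
  have h1 : ((FD T Y).map g).hom (0 : (QD T).obj J ⟶ Y) = 0 := map_zero _
  exact hfg.trans h1

/-- functoriality in `Y` -/
noncomputable def mapH {Y Y' : DA A} (g : Y ⟶ Y') : HY T Y ⟶ HY T Y' :=
  colimMap (Functor.whiskerLeft (QD T).op ((linearYoneda A (DA A)).map g))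

lemma mapH_ι {Y Y' : DA A} (g : Y ⟶ Y') (J : IdealsIn T) (y : (QD T).obj J ⟶ Y) :
    (mapH T g).hom (ι T Y J y) = ι T Y' J (y ≫ g) := by
  have h := ι_colimMap (Functor.whiskerLeft (QD T).op ((linearYoneda A (DA A)).map g)) (op J)
  exact congrArg (fun t => t.hom y) h

lemma mapH_comp_apply {Y Y' Y'' : DA A} (g : Y ⟶ Y') (g' : Y' ⟶ Y'') (x : HY T Y) :
    (mapH T (g ≫ g')).hom x = (mapH T g').hom ((mapH T g).hom x) := by
  obtain ⟨J, y, rfl⟩ := exists_rep T Y x
  rw [mapH_ι, mapH_ι, mapH_ι, Category.assoc]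

lemma mapH_id_apply (Y : DA A) (x : HY T Y) : (mapH T (𝟙 Y)).hom x = x := by
  obtain ⟨J, y, rfl⟩ := exists_rep T Y x
  rw [mapH_ι, Category.comp_id]

lemma mapH_zero_apply {Y Y' : DA A} (x : HY T Y) : (mapH T (0 : Y ⟶ Y')).hom x = 0 := by
  obtain ⟨J, y, rfl⟩ := exists_rep T Y x
  rw [mapH_ι, comp_zero, map_zero]

lemma mapH_smul_id_apply (Y : DA A) (a : A) (x : HY T Y) :
    (mapH T (a • 𝟙 Y)).hom x = a • x := by
  obtain ⟨J, y, rfl⟩ := exists_rep T Y x
  rw [mapH_ι, Linear.comp_smul, Category.comp_id, map_smul]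

/-- an isomorphism induces a linear equivalence -/
noncomputable def equivOfIso {Y Y' : DA A} (e : Y ≅ Y') : HY T Y ≃ₗ[A] HY T Y' where
  toFun := (mapH T e.hom).hom
  map_add' := map_add _
  map_smul' := map_smul _
  invFun := (mapH T e.inv).hom
  left_inv x := by rw [← mapH_comp_apply, e.hom_inv_id, mapH_id_apply]
  right_inv x := by rw [← mapH_comp_apply, e.inv_hom_id, mapH_id_apply]

/-- exactness in the middle for a distinguished triangle -/
theorem exact_of_distTriang (Tr : Triangle (DA A)) (hTr : Tr ∈ distTriang (DA A))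
    (x : HY T Tr.obj₂) (hx : (mapH T Tr.mor₂).hom x = 0) :
    ∃ x₁ : HY T Tr.obj₁, (mapH T Tr.mor₁).hom x₁ = x := by
  obtain ⟨J, y, rfl⟩ := exists_rep T _ x
  rw [mapH_ι] at hx
  obtain ⟨J', h, h0⟩ := exists_res_eq_zero T _ J _ hx
  obtain ⟨z, hz⟩ := Triangle.coyoneda_exact₂ Tr hTr ((QD T).map h ≫ y)
    (by rw [Category.assoc]; exact h0)
  refine ⟨ι T _ J' z, ?_⟩
  rw [mapH_ι, ← hz, ι_res]

lemma mapH_comp_eq_zero (Tr : Triangle (DA A)) (hTr : Tr ∈ distTriang (DA A))
    (x : HY T Tr.obj₁) : (mapH T Tr.mor₂).hom ((mapH T Tr.mor₁).hom x) = 0 := by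
  rw [← mapH_comp_apply, comp_distTriang_mor_zero₁₂ _ hTr, mapH_zero_apply]

/-- the module `A/J` is killed by `J` (in `D(A)`) -/
lemma smul_id_QD_eq_zero (J : IdealsIn T) (a : A) (ha : a ∈ idl T J) :
    a • 𝟙 ((QD T).obj J) = 0 := by
  have h1 : a • 𝟙 ((localCohomology.ringModIdeals (idealsInDiagram T)).obj J) = 0 := by
    refine ModuleCat.hom_ext (LinearMap.ext fun q => ?_)
    obtain ⟨r, rfl⟩ := Submodule.Quotient.mk_surjective _ q
    show a • (Submodule.Quotient.mk r : A ⧸ idl T J) = 0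
    rw [← Submodule.Quotient.mk_smul, Submodule.Quotient.mk_eq_zero, smul_eq_mul]
    exact Ideal.mul_mem_right r _ ha
  have h2 : a • 𝟙 ((QD T).obj J) =
      (singleFunctor (ModuleCat.{u} A) 0).map
        (a • 𝟙 ((localCohomology.ringModIdeals (idealsInDiagram T)).obj J)) := by
    rw [Functor.map_smul, CategoryTheory.Functor.map_id]
    rfl
  rw [h2, h1, Functor.map_zero]

/-- every element of `H_T(Y)` is killed by some ideal of the system -/
theorem smul_ι_eq_zero (Y : DA A) (J : IdealsIn T) (y : (QD T).obj J ⟶ Y) (a : A)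
    (ha : a ∈ idl T J) : a • ι T Y J y = 0 := by
  rw [← map_smul]
  have : a • y = (a • 𝟙 ((QD T).obj J)) ≫ y := by rw [Linear.smul_comp, Category.id_comp]
  rw [this, smul_id_QD_eq_zero T J a ha, zero_comp, map_zero]

/-- vanishing on `D^{≥ 1}` -/
theorem eq_zero_of_isGE (Y : DA A) [Y.IsGE 1] (x : HY T Y) : x = 0 := by
  obtain ⟨J, y, rfl⟩ := exists_rep T Y x
  have hy : y = 0 := t.zero_of_isLE_of_isGE y 0 1 (by omega) inferInstance inferInstance
  rw [hy, map_zero]

end Groth.Agent.H12.HDT
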