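import Mathlib
import Groth.Prelude.Def_DualLC
import Groth.Agent.H12.HDTBasic

/-!
# Elements of cohomology of complexes of modules; the colimit `HDI` (helper12)
-/

set_option autoImplicit false
universe u
open CategoryTheory CategoryTheory.Limits Opposite
attribute [local instance] HasDerivedCategory.standard

namespace Groth.Agent.H12.RGamHDI

open DerivedCategory

section Elements

variable {A : Type u} [CommRing A] (G : CochainComplex (ModuleCat.{u} A) ℤ) (p q r : ℤ)

theorem exists_cycle (hqr : q + 1 = r) (x : G.X q) (hx : (G.d q r).hom x = 0) :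
    ∃ z : G.cycles q, (G.iCycles q).hom z = x := by
  have hn : (ComplexShape.up ℤ).next q = r := by rw [CochainComplex.next]; exact hqr
  have hex : (ShortComplex.mk (G.iCycles q) (G.d q r) (G.iCycles_d q r)).Exact :=
    ShortComplex.exact_of_f_is_kernel _ (G.cyclesIsKernel q r hn)
  exact (ShortComplex.moduleCat_exact_iff _).1 hex x hx

theorem iCycles_injective : Function.Injective (G.iCycles q).hom :=
  (ModuleCat.mono_iff_injective _).1 inferInstance

theorem homologyπ_surjective : Function.Surjective (G.homologyπ q).hom :=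
  (ModuleCat.epi_iff_surjective _).1 inferInstance

theorem homologyπ_eq_zero_iff (hpq : p + 1 = q) (z : G.cycles q) :
    (G.homologyπ q).hom z = 0 ↔ ∃ y : G.X p, (G.toCycles p q).hom y = z := by
  have hn : (ComplexShape.up ℤ).prev q = p := by rw [CochainComplex.prev]; omega
  have hex : (ShortComplex.mk (G.toCycles p q) (G.homologyπ q)
      (G.toCycles_comp_homologyπ p q)).Exact :=
    ShortComplex.exact_of_g_is_cokernel _ (G.homologyIsCokernel p q hn)
  constructor
  · intro hz
    exact (ShortComplex.moduleCat_exact_iff _).1 hex z hz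
  · rintro ⟨y, rfl⟩
    have h0 := G.toCycles_comp_homologyπ p q
    exact congrArg (fun t => t.hom y) h0

theorem iCycles_toCycles (y : G.X p) :
    (G.iCycles q).hom ((G.toCycles p q).hom y) = (G.d p q).hom y :=
  congrArg (fun t => t.hom y) (G.toCycles_i p q)

theorem d_iCycles (z : G.cycles q) : (G.d q r).hom ((G.iCycles q).hom z) = 0 :=
  congrArg (fun t => t.hom z) (G.iCycles_d q r)

end Elements

section HDI

variable {A : Type u} [CommRing A] (I : Ideal A)

/-- the diagram `n ↦ A/I^n` in `D(A)` -/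
noncomputable abbrev QDI : ℕᵒᵖ ⥤ Dual.D A :=
  localCohomology.ringModIdeals (localCohomology.idealPowersDiagram I) ⋙
    singleFunctor (ModuleCat.{u} A) 0

/-- the diagram `n ↦ Hom(A/I^n, Y)` -/
noncomputable abbrev FDI (Y : Dual.D A) : ℕᵒᵖᵒᵖ ⥤ ModuleCat.{u + 1} A :=
  (QDI I).op ⋙ (linearYoneda A (Dual.D A)).obj Y

/-- `colim_n Hom(A/I^n, Y)` -/
noncomputable abbrev HYI (Y : Dual.D A) : ModuleCat.{u + 1} A := colimit (FDI I Y)

noncomputable instance forgetPresNat :
    PreservesColimitsOfShape (ℕᵒᵖᵒᵖ) (forget (ModuleCat.{u + 1} A)) :=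
  haveI : PreservesFilteredColimitsOfSize.{0, 0} (forget (ModuleCat.{u + 1} A)) :=
    preservesFilteredColimitsOfSize_shrink.{0, u + 1, 0, u + 1} _
  PreservesFilteredColimitsOfSize.preserves_filtered_colimits _

/-- the map `A/I^m → A/I^n` in `D(A)`, `n ≤ m` -/
noncomputable abbrev tr {n m : ℕ} (h : n ≤ m) : (QDI I).obj (op m) ⟶ (QDI I).obj (op n) :=
  (QDI I).map (homOfLE h).op

/-- the cocone maps -/
noncomputable def ι (Y : Dual.D A) (n : ℕ) : ((QDI I).obj (op n) ⟶ Y) →ₗ[A] HYI I Y :=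
  (colimit.ι (FDI I Y) (op (op n))).hom

lemma ι_res (Y : Dual.D A) {n m : ℕ} (h : n ≤ m) (y : (QDI I).obj (op n) ⟶ Y) :
    ι I Y m (tr I h ≫ y) = ι I Y n y := by
  have hw := colimit.w (FDI I Y) ((homOfLE h).op.op)
  exact congrArg (fun t => t.hom y) hw

theorem exists_rep (Y : Dual.D A) (x : HYI I Y) :
    ∃ (n : ℕ) (y : (QDI I).obj (op n) ⟶ Y), ι I Y n y = x := by
  obtain ⟨j, y, hy⟩ := Concrete.colimit_exists_rep (FDI I Y) x
  exact ⟨j.unop.unop, y, hy⟩

theorem exists_res_eq_zero (Y : Dual.D A) (n : ℕ) (y : (QDI I).obj (op n) ⟶ Y)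
    (hy : ι I Y n y = 0) : ∃ (m : ℕ) (h : n ≤ m), tr I h ≫ y = 0 := by
  have h0 : (colimit.ι (FDI I Y) (op (op n))).hom y =
      (colimit.ι (FDI I Y) (op (op n))).hom 0 := by
    rw [map_zero]; exact hy
  obtain ⟨k, f, g, hfg⟩ :=
    (Concrete.colimit_rep_eq_iff_exists (FDI I Y) (i := op (op n)) (j := op (op n)) y 0).1 h0
  have hle : n ≤ k.unop.unop := leOfHom f.unop.unop
  refine ⟨k.unop.unop, hle, ?_⟩
  have h1 : ((FDI I Y).map g).hom (0 : (QDI I).obj (op n) ⟶ Y) = 0 := map_zero _
  have h2 : ((FDI I Y).map f).hom y = tr I hle ≫ y := by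
    have : f = (homOfLE hle).op.op := Subsingleton.elim _ _
    rw [this]
    rfl
  rw [← h2]
  exact hfg.trans h1

/-- transport along an isomorphism of targets -/
noncomputable def mapH {Y Y' : Dual.D A} (g : Y ⟶ Y') : HYI I Y ⟶ HYI I Y' :=
  colimMap (Functor.whiskerLeft (QDI I).op ((linearYoneda A (Dual.D A)).map g))

lemma mapH_ι {Y Y' : Dual.D A} (g : Y ⟶ Y') (n : ℕ) (y : (QDI I).obj (op n) ⟶ Y) :
    (mapH I g).hom (ι I Y n y) = ι I Y' n (y ≫ g) := by
  have h := ι_colimMap (Functor.whiskerLeft (QDI I).op ((linearYoneda A (Dual.D A)).map g))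
    (op (op n))
  exact congrArg (fun t => t.hom y) h

theorem mapH_bijective_of_iso {Y Y' : Dual.D A} (e : Y ≅ Y') :
    Function.Bijective (mapH I e.hom).hom := by
  constructor
  · refine (injective_iff_map_eq_zero (mapH I e.hom).hom).2 (fun x hx => ?_)
    obtain ⟨n, y, rfl⟩ := exists_rep I Y x
    rw [mapH_ι] at hx
    obtain ⟨m, h, hm⟩ := exists_res_eq_zero I Y' n _ hx
    have h1 : tr I h ≫ y = 0 := by
      have h2 : (tr I h ≫ y) ≫ e.hom = 0 := by rw [Category.assoc]; exact hm
      rw [← cancel_mono e.hom, h2, zero_comp]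
    rw [← ι_res I Y h y, h1, map_zero]
  · intro x
    obtain ⟨n, y, rfl⟩ := exists_rep I Y' x
    exact ⟨ι I Y n (y ≫ e.inv), by rw [mapH_ι, Category.assoc, e.inv_hom_id, Category.comp_id]⟩

end HDI

end Groth.Agent.H12.RGamHDI
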