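import Mathlib
import Groth.Agent.H46.BD0
import Groth.Agent.H46.HomCxPre
import Groth.Agent.H11.BD_LIN

/-!
# (BASE) biduality for `A[-t]` with values in a K-injective complex `J` with `End_D(J) = A`
(helper12, provider piece for helper46's S1819 squad)
-/

set_option autoImplicit false
universe u
open CategoryTheory CategoryTheory.Limits HomologicalComplex CochainComplex
open CochainComplex.HomComplex
attribute [local instance] HasDerivedCategory.standard
open Groth.Agent.H33.TensorHom Groth.Agent.H33.Bidual Groth.Agent.H46.BD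

namespace Groth.Agent.H12.BD_BASE

variable {A : Type u} [CommRing A]

/-- `A` placed in degree `t`. -/
noncomputable abbrev sgl (A : Type u) [CommRing A] (t : ℤ) : DRing.Cx A :=
  (HomologicalComplex.single (ModuleCat.{u} A) (ComplexShape.up ℤ) t).obj (ModuleCat.of A A)

noncomputable abbrev sglX (A : Type u) [CommRing A] (t : ℤ) :
    (sgl A t).X t ≅ ModuleCat.of A A :=
  HomologicalComplex.singleObjXSelf (ComplexShape.up ℤ) t (ModuleCat.of A A)

/-- the coordinate `A[-t]^t → A`. -/
noncomputable def rr (A : Type u) [CommRing A] (t : ℤ) : (sgl A t).X t →ₗ[A] A :=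
  (sglX A t).hom.hom

/-- the inverse coordinate. -/
noncomputable def ss (A : Type u) [CommRing A] (t : ℤ) : A →ₗ[A] (sgl A t).X t :=
  (sglX A t).inv.hom

/-- the generator of `A[-t]^t`. -/
noncomputable def e1 (A : Type u) [CommRing A] (t : ℤ) : (sgl A t).X t := ss A t 1

lemma ss_rr (t : ℤ) (x : (sgl A t).X t) : ss A t (rr A t x) = x :=
  congrArg (fun f => f.hom x) (sglX A t).hom_inv_id

lemma rr_ss (t : ℤ) (a : A) : rr A t (ss A t a) = a :=
  congrArg (fun f => f.hom a) (sglX A t).inv_hom_id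

lemma eq_smul_e1 (t : ℤ) (x : (sgl A t).X t) : x = rr A t x • e1 A t := by
  calc x = ss A t (rr A t x) := (ss_rr t x).symm
    _ = ss A t (rr A t x • (1 : A)) := by rw [smul_eq_mul, mul_one]
    _ = rr A t x • e1 A t := map_smul _ _ _

lemma subsingleton_sgl_X (t p : ℤ) (hp : p ≠ t) : Subsingleton ((sgl A t).X p) :=
  ModuleCat.subsingleton_of_isZero
    (HomologicalComplex.isZero_single_obj_X (ComplexShape.up ℤ) t (ModuleCat.of A A) p hp)

/-- evaluation at the generator is bijective on cochains out of `A[-t]`. -/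
lemma ev_bijective (J : DRing.Cx A) (t p q : ℤ) (h : t + p = q) :
    Function.Bijective (fun z : Cochain (sgl A t) J p => evc z t q h (e1 A t)) := by
  constructor
  · intro z z' hzz
    have hzz' : evc z t q h (e1 A t) = evc z' t q h (e1 A t) := hzz
    refine cochain_ext_elem z z' (fun p' q' hpq x => ?_)
    by_cases hp : p' = t
    · subst hp
      obtain rfl : q' = q := by omega
      rw [eq_smul_e1 p' x]
      unfold evc at hzz' ⊢
      rw [map_smul, map_smul, hzz']
    · haveI := subsingleton_sgl_X (A := A) t p' hp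
      rw [Subsingleton.elim x 0]
      unfold evc
      rw [map_zero, map_zero]
  · intro y
    refine ⟨Cochain.single ((sglX A t).hom ≫
      ModuleCat.ofHom (LinearMap.toSpanSingleton A (J.X q) y)) p, ?_⟩
    show ((Cochain.single ((sglX A t).hom ≫
      ModuleCat.ofHom (LinearMap.toSpanSingleton A (J.X q) y)) p).v t q h).hom (e1 A t) = y
    rw [Cochain.single_v]
    show LinearMap.toSpanSingleton A (J.X q) y (rr A t (ss A t 1)) = y
    rw [rr_ss, LinearMap.toSpanSingleton_apply, one_smul]

section Main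

variable (J : DRing.Cx A) (t : ℤ)

/-- `F = Hom•(A[-t], J)`. -/
noncomputable abbrev FF : DRing.Cx A := DRing.homCx (sgl A t) J

/-- the cochain `b(e₁)`. -/
noncomputable def cc0 : Cochain (FF J t) J t := toC (((bidual (sgl A t) J).f t).hom (e1 A t))

lemma evc_cc0 (p q : ℤ) (h : p + t = q) (z : Cochain (sgl A t) J p) :
    evc (cc0 J t) p q h z = (t * p).negOnePow • evc z t q (by omega) (e1 A t) :=
  uval_bidual (sgl A t) J t p q (by omega) (e1 A t) z

lemma δ_cc0 : δ t (t + 1) (cc0 J t) = 0 := by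
  have h1 : toC (((bidual (sgl A t) J).f (t + 1)).hom (((sgl A t).d t (t + 1)).hom (e1 A t))) =
      δ t (t + 1) (toC (((bidual (sgl A t) J).f t).hom (e1 A t))) :=
    (congrArg (fun g => g.hom (e1 A t)) ((bidual (sgl A t) J).comm t (t + 1))).symm
  have h2 : ((sgl A t).d t (t + 1)).hom (e1 A t) = 0 := by
    haveI := subsingleton_sgl_X (A := A) t (t + 1) (by omega)
    exact Subsingleton.elim _ _
  rw [h2, map_zero] at h1
  exact h1.symm

/-- the cocycle `b(e₁)`. -/
noncomputable def cc : Cocycle (FF J t) J t := Cocycle.mk (cc0 J t) (t + 1) rfl (δ_cc0 J t)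

/-- the comparison `Hom•(A[-t], J) ⟶ J⟦t⟧`. -/
noncomputable def αα : FF J t ⟶ J⟦t⟧ := Cocycle.equivHomShift.symm (cc J t)

lemma bijective_cc0_v (p q : ℤ) (h : p + t = q) :
    Function.Bijective ((cc0 J t).v p q h).hom := by
  have h1 : ∀ z, ((cc0 J t).v p q h).hom z = (t * p).negOnePow • evc (toC z) t q (by omega) (e1 A t) :=
    fun z => evc_cc0 J t p q h z
  have h2 : (fun z => ((cc0 J t).v p q h).hom z) =
      (fun y : J.X q => (t * p).negOnePow • y) ∘
        (fun z : Cochain (sgl A t) J p => evc z t q (by omega) (e1 A t)) := by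
    funext z
    exact h1 z
  show Function.Bijective (fun z => ((cc0 J t).v p q h).hom z)
  rw [h2]
  exact (MulAction.bijective _).comp (ev_bijective J t p q (by omega))

instance isIso_αα : IsIso (αα J t) := by
  haveI : ∀ p, IsIso ((αα J t).f p) := fun p => by
    have h1 : (αα J t).f p = (cc0 J t).v p (p + t) rfl ≫
        (J.shiftFunctorObjXIso t p (p + t) rfl).inv := by
      unfold αα
      rw [Cocycle.equivHomShift_symm_apply]
      simp [cc, Cochain.rightShift_v _ _ _ _ _ _ _ _ rfl]
    rw [h1]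
    haveI : IsIso ((cc0 J t).v p (p + t) rfl) :=
      (ConcreteCategory.isIso_iff_bijective _).2 (bijective_cc0_v J t p (p + t) rfl)
    infer_instance
  exact HomologicalComplex.Hom.isIso_of_components _

end Main

section Shift

open DerivedCategory

variable (X : DerivedCategory (ModuleCat.{u} A))

lemma shift_hom_eq_zero (hext0 : ∀ i : ℤ, i ≠ 0 → ∀ f : X ⟶ X⟦i⟧, f = 0) (t n : ℤ) (hn : n ≠ t)
    (g : X⟦t⟧ ⟶ X⟦n⟧) : g = 0 := by
  let e : X⟦n⟧ ≅ (X⟦n - t⟧)⟦t⟧ :=
    (CategoryTheory.shiftFunctorAdd' (DerivedCategory (ModuleCat.{u} A)) (n - t) t n (by omega)).app X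
  obtain ⟨h, hh⟩ := (CategoryTheory.shiftFunctor (DerivedCategory (ModuleCat.{u} A)) t).map_surjective (g ≫ e.hom)
  have h0 : h = 0 := hext0 (n - t) (by omega) h
  rw [h0, Functor.map_zero] at hh
  rw [← cancel_mono e.hom, zero_comp]
  exact hh.symm

lemma shift_end (hend : Function.Bijective (fun a : A => a • 𝟙 X)) (t : ℤ) (g : X⟦t⟧ ⟶ X⟦t⟧) :
    ∃ a : A, g = a • 𝟙 (X⟦t⟧) := by
  obtain ⟨h, hh⟩ := (CategoryTheory.shiftFunctor (DerivedCategory (ModuleCat.{u} A)) t).map_surjective g
  obtain ⟨a, ha⟩ := hend.2 h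
  refine ⟨a, ?_⟩
  have ha' : a • 𝟙 X = h := ha
  rw [← hh, ← ha', Functor.map_smul (CategoryTheory.shiftFunctor (DerivedCategory (ModuleCat.{u} A)) t) (R := A),
    CategoryTheory.Functor.map_id]

lemma shift_smul_id_eq_zero (hend : Function.Bijective (fun a : A => a • 𝟙 X)) (t : ℤ) (a : A)
    (h : a • 𝟙 (X⟦t⟧) = 0) : a = 0 := by
  have h1 : (CategoryTheory.shiftFunctor (DerivedCategory (ModuleCat.{u} A)) t).map (a • 𝟙 X) =
      (CategoryTheory.shiftFunctor (DerivedCategory (ModuleCat.{u} A)) t).map 0 := by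
    rw [Functor.map_smul (CategoryTheory.shiftFunctor (DerivedCategory (ModuleCat.{u} A)) t) (R := A),
      CategoryTheory.Functor.map_id, Functor.map_zero]
    exact h
  have h2 : a • 𝟙 X = 0 :=
    (CategoryTheory.shiftFunctor (DerivedCategory (ModuleCat.{u} A)) t).map_injective h1
  apply hend.1
  show a • 𝟙 X = (0 : A) • 𝟙 X
  rw [h2, zero_smul]

end Shift

section Derived

open DerivedCategory Groth.Agent.H11.BD_LIN

variable (J : DRing.Cx A) [J.IsKInjective] (t : ℤ)

/-- the class of `b(e₁)`, an isomorphism. -/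
noncomputable def κ : Q.obj (FF J t) ⟶ (Q.obj J)⟦t⟧ := classOfCocycle (FF J t) J t (cc J t)

instance isIso_κ : IsIso (κ J t) := by
  unfold κ
  rw [classOfCocycle_apply]
  haveI : IsIso (Q.map (Cocycle.equivHomShift.symm (cc J t))) :=
    inferInstanceAs (IsIso (Q.map (αα J t)))
  infer_instance

end Derived

open DerivedCategory Groth.Agent.H11.BD_LIN in
/-- (BASE) -/
theorem quasiIso_bidual_single_ring (J : DRing.Cx A) [J.IsKInjective] (t : ℤ)
    (hext0 : ∀ i : ℤ, i ≠ 0 → ∀ f : DerivedCategory.Q.obj J ⟶ (DerivedCategory.Q.obj J)⟦i⟧, f = 0)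
    (hend : Function.Bijective (fun a : A => a • 𝟙 (DerivedCategory.Q.obj J))) :
    QuasiIso (bidual ((HomologicalComplex.single (ModuleCat.{u} A) (ComplexShape.up ℤ) t).obj
      (ModuleCat.of A A)) J) := by
  have hvan : ∀ n : ℤ, n ≠ t → ∀ f : Q.obj (FF J t) ⟶ (Q.obj J)⟦n⟧, f = 0 := by
    intro n hn f
    have h0 : inv (κ J t) ≫ f = 0 := shift_hom_eq_zero (Q.obj J) hext0 t n hn _
    have hf : f = κ J t ≫ (inv (κ J t) ≫ f) := by rw [IsIso.hom_inv_id_assoc]
    rw [hf, h0, comp_zero]
  apply Groth.Agent.H46.HomCxPre.quasiIso_of_elements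
  · intro n z hz ⟨y', hy'⟩
    by_cases hn : n = t
    · subst hn
      have hz1 : z = rr A n z • e1 A n := eq_smul_e1 n z
      generalize rr A n z = a at hz1
      have hcob : ∃ w : Cochain (FF J n) J (n - 1), δ (n - 1) n w = (a • cc J n).1 := by
        refine ⟨y', ?_⟩
        have hy'' : (δ (n - 1) n y' : Cochain (FF J n) J n) =
            toC (((bidual (sgl A n) J).f n).hom z) := hy'
        rw [hy'', hz1, map_smul]
        rfl
      have h0 : classOfCocycle (FF J n) J n (a • cc J n) = 0 :=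
        (classOfCocycle_eq_zero_iff (FF J n) J n (a • cc J n)).2 hcob
      rw [map_smul] at h0
      have h0' : a • κ J n = 0 := h0
      have h1 : a • 𝟙 ((Q.obj J)⟦n⟧) = 0 := by
        have h2 : a • 𝟙 ((Q.obj J)⟦n⟧) = inv (κ J n) ≫ (a • κ J n) := by
          rw [Linear.comp_smul, IsIso.inv_hom_id]
        rw [h2, h0', comp_zero]
      have ha0 : a = 0 := shift_smul_id_eq_zero (Q.obj J) hend n a h1
      refine ⟨0, ?_⟩
      rw [map_zero, hz1, ha0, zero_smul]
    · haveI := subsingleton_sgl_X (A := A) t n hn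
      exact ⟨0, Subsingleton.elim _ _⟩
  · intro n z' hz'
    by_cases hn : n = t
    · subst hn
      have hz'' : δ n (n + 1) (toC z') = 0 := hz'
      obtain ⟨a, ha⟩ := shift_end (Q.obj J) hend n
        (inv (κ J n) ≫ classOfCocycle (FF J n) J n (Cocycle.mk (toC z') (n + 1) rfl hz''))
      have h1 : classOfCocycle (FF J n) J n (Cocycle.mk (toC z') (n + 1) rfl hz'') =
          a • κ J n := by
        have h3 : classOfCocycle (FF J n) J n (Cocycle.mk (toC z') (n + 1) rfl hz'') =
            κ J n ≫ (inv (κ J n) ≫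
              classOfCocycle (FF J n) J n (Cocycle.mk (toC z') (n + 1) rfl hz'')) := by
          rw [IsIso.hom_inv_id_assoc]
        rw [h3, ha, Linear.comp_smul, Category.comp_id]
      have h2 : classOfCocycle (FF J n) J n
          (Cocycle.mk (toC z') (n + 1) rfl hz'' - a • cc J n) = 0 := by
        rw [map_sub, map_smul, h1]
        exact sub_self _
      obtain ⟨w, hw⟩ := (classOfCocycle_eq_zero_iff (FF J n) J n _).1 h2
      refine ⟨a • e1 A n, w, ?_, ?_⟩
      · haveI := subsingleton_sgl_X (A := A) n (n + 1) (by omega)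
        exact Subsingleton.elim _ _
      · rw [map_smul]
        have hw' : (δ (n - 1) n w : Cochain (FF J n) J n) = toC z' - a • cc0 J n := hw
        show toC z' = a • cc0 J n + δ (n - 1) n w
        rw [hw']
        abel
    · obtain ⟨w, hw⟩ := Groth.Agent.H46.HomCxPre.exists_coboundary_of_hom_eq_zero (FF J t) J n
        (hvan n hn) z' hz'
      refine ⟨0, w, map_zero _, ?_⟩
      rw [map_zero, zero_add]
      exact hw.symm

end Groth.Agent.H12.BD_BASE
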