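import Mathlib
import Groth.Agent.H82.ExtBC

/-!
# A Bass-type injectivity criterion and flat base change of injective modules

* `subsingleton_ext_of_primes`: prime filtration dévissage for vanishing of `Ext^n(-, Y)`.
* `subsingleton_ext_quotient_prime`: if every prime `q` admits an ideal `P ≤ q` with
  `Ext¹(B/P, Y) = 0` and `s ∉ q` with `s q ⊆ P`, then `Ext¹(B/q, Y) = 0` for all primes `q`.
* `injective_of_subsingleton_ext_prime`: `Ext¹(B/q, Q) = 0` for all primes ⇒ `Q` injective.
* `injective_baseChange`: flat `A → B` (Noetherian) with `(q ∩ A) B_q = q B_q` for all primes `q`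
  preserves injective modules under `B ⊗[A] -`.
-/

set_option autoImplicit false
universe u
open CategoryTheory CategoryTheory.Limits TensorProduct

namespace Groth.Agent.H12.InjBC

open CategoryTheory.Abelian Groth.Agent.H82

section Bass

variable {B : Type u} [CommRing B] (Y : ModuleCat.{u} B)

theorem subsingleton_of_forall_eq_zero {G : Type*} [Zero G] (h : ∀ x : G, x = 0) :
    Subsingleton G := ⟨fun a b => by rw [h a, h b]⟩

/-- `Ext^n(-, Y)` vanishing passes to the middle of a short exact sequence. -/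
theorem subsingleton_ext_middle {S : ShortComplex (ModuleCat.{u} B)} (hS : S.ShortExact) (n : ℕ)
    (h₁ : Subsingleton (Ext S.X₁ Y n)) (h₃ : Subsingleton (Ext S.X₃ Y n)) :
    Subsingleton (Ext S.X₂ Y n) := by
  apply subsingleton_of_forall_eq_zero
  intro x
  obtain ⟨x₃, hx₃⟩ := Ext.contravariant_sequence_exact₂ hS Y x (Subsingleton.elim _ _)
  rw [← hx₃, Subsingleton.elim x₃ 0, Ext.comp_zero]

theorem subsingleton_ext_of_iso {X X' : ModuleCat.{u} B} (e : X ≅ X') (n : ℕ)
    (h : Subsingleton (Ext X Y n)) : Subsingleton (Ext X' Y n) :=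
  (ExtBC.extCongr e.symm (Iso.refl Y) n).symm.toEquiv.subsingleton

theorem subsingleton_ext_of_isZero {X : ModuleCat.{u} B} (hX : IsZero X) (n : ℕ) :
    Subsingleton (Ext X Y n) := by
  apply subsingleton_of_forall_eq_zero
  intro x
  have h1 : x = (Ext.mk₀ (𝟙 X)).comp x (zero_add n) := (Ext.mk₀_id_comp x).symm
  rw [h1, hX.eq_of_src (𝟙 X) 0, Ext.mk₀_zero, Ext.zero_comp]

/-- Prime filtration dévissage: if `Ext^n(B/q, Y) = 0` for all primes `q ⊇ J`, then
`Ext^n(N, Y) = 0` for every finite module `N` killed by `J`. -/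
theorem subsingleton_ext_of_primes [IsNoetherianRing B] (n : ℕ) (J : Ideal B)
    (h : ∀ q : Ideal B, q.IsPrime → J ≤ q → Subsingleton (Ext (ModuleCat.of B (B ⧸ q)) Y n))
    (N : Type u) [AddCommGroup N] [Module B N] [hN : Module.Finite B N]
    (hJ : ∀ x ∈ J, ∀ m : N, x • m = 0) :
    Subsingleton (Ext (ModuleCat.of B N) Y n) := by
  revert hJ
  induction hN using IsNoetherianRing.induction_on_isQuotientEquivQuotientPrime B with
  | subsingleton N =>
    intro _
    exact subsingleton_ext_of_isZero Y (ModuleCat.isZero_of_subsingleton _) n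
  | quotient N p f =>
    intro hJ
    have hle : J ≤ p.1 := by
      intro x hx
      have h1 := hJ x hx (f.symm 1)
      rw [← map_smul] at h1
      have h2 : x • (1 : B ⧸ p.1) = 0 := f.symm.injective (h1.trans (map_zero _).symm)
      rw [← Ideal.Quotient.eq_zero_iff_mem]
      rw [Algebra.smul_def, mul_one] at h2
      exact h2
    exact subsingleton_ext_of_iso Y f.symm.toModuleIso n (h p.1 p.2 hle)
  | exact N₁ N₂ N₃ f g hf hg hfg h₁ h₃ =>
    intro hJ
    have hS := TorFlat.shortExact_of f g hf hg hfg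
    refine subsingleton_ext_middle Y hS n (h₁ ?_) (h₃ ?_)
    · intro x hx m
      apply hf
      rw [map_smul, hJ x hx, map_zero]
    · intro x hx m
      obtain ⟨m', rfl⟩ := hg m
      rw [← map_smul, hJ x hx, map_zero]

/-- Key Bass-type step. -/
theorem subsingleton_ext_quotient_prime [IsNoetherianRing B]
    (hloc : ∀ q : Ideal B, q.IsPrime → ∃ P : Ideal B, P ≤ q ∧
      Subsingleton (Ext (ModuleCat.of B (B ⧸ P)) Y 1) ∧ ∃ s : B, s ∉ q ∧ ∀ x ∈ q, s * x ∈ P) :
    ∀ q : Ideal B, q.IsPrime → Subsingleton (Ext (ModuleCat.of B (B ⧸ q)) Y 1) := by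
  intro q
  induction q using WellFoundedGT.induction with
  | ind q ih =>
  intro hq
  obtain ⟨P, hPq, hP, s, hs, hsq⟩ := hloc q hq
  -- Step A: `s` kills `Ext¹(B/q, Y)`.
  have hA : ∀ x : Ext (ModuleCat.of B (B ⧸ q)) Y 1, s • x = 0 := by
    intro x
    let g : (B ⧸ P) →ₗ[B] (B ⧸ q) := Submodule.mapQ P q LinearMap.id hPq
    have hg : Function.Surjective g := by
      intro y
      obtain ⟨b, rfl⟩ := Submodule.Quotient.mk_surjective _ y
      exact ⟨Submodule.Quotient.mk b, rfl⟩
    have hS := TorFlat.shortExact_of (LinearMap.ker g).subtype g (Submodule.injective_subtype _)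
      hg (LinearMap.exact_subtype_ker_map g)
    have h0 : (Ext.mk₀ (ModuleCat.shortComplexOfCompEqZero (LinearMap.ker g).subtype g
        (LinearMap.exact_subtype_ker_map g).linearMap_comp_eq_zero).g).comp x (zero_add 1) = 0 :=
      hP.elim _ _
    obtain ⟨x₁, hx₁⟩ := Ext.contravariant_sequence_exact₃ hS Y x h0 (rfl : 1 + 0 = 1)
    have hk : s • x₁ = 0 := by
      obtain ⟨φ, rfl⟩ := (Ext.mk₀_bijective _ _).2 x₁
      rw [← Ext.mk₀_smul]
      have hφ : s • φ = 0 := by
        apply ModuleCat.hom_ext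
        apply LinearMap.ext
        intro k
        show s • φ.hom k = 0
        rw [← map_smul]
        have hk0 : s • k = 0 := by
          obtain ⟨k, hk⟩ := k
          apply Subtype.ext
          show s • k = 0
          obtain ⟨b, rfl⟩ := Submodule.Quotient.mk_surjective _ k
          have hb : b ∈ q := by
            have h1 : g (Submodule.Quotient.mk b) = 0 := hk
            have h2 : (Submodule.Quotient.mk b : B ⧸ q) = 0 := h1
            exact (Submodule.Quotient.mk_eq_zero q).1 h2
          rw [← Submodule.Quotient.mk_smul, Submodule.Quotient.mk_eq_zero, smul_eq_mul]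
          exact hsq b hb
        rw [hk0, map_zero]
      rw [hφ, Ext.mk₀_zero]
    rw [← hx₁, ← Ext.comp_smul, hk, Ext.comp_zero]
  -- Step B
  apply subsingleton_of_forall_eq_zero
  intro x
  let σ : (B ⧸ q) →ₗ[B] (B ⧸ q) := s • LinearMap.id
  let J : Ideal B := q ⊔ Ideal.span {s}
  let π : (B ⧸ q) →ₗ[B] (B ⧸ J) := Submodule.mapQ q J LinearMap.id le_sup_left
  have hσ : Function.Injective σ := by
    rw [← LinearMap.ker_eq_bot, LinearMap.ker_eq_bot']
    intro y hy
    obtain ⟨b, rfl⟩ := Submodule.Quotient.mk_surjective _ y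
    have h1 : (Submodule.Quotient.mk (s • b) : B ⧸ q) = 0 := hy
    rw [Submodule.Quotient.mk_eq_zero, smul_eq_mul] at h1
    rw [Submodule.Quotient.mk_eq_zero]
    exact (hq.mem_or_mem h1).resolve_left hs
  have hπ : Function.Surjective π := by
    intro y
    obtain ⟨b, rfl⟩ := Submodule.Quotient.mk_surjective _ y
    exact ⟨Submodule.Quotient.mk b, rfl⟩
  have hex : Function.Exact σ π := by
    intro y
    constructor
    · intro hy
      obtain ⟨b, rfl⟩ := Submodule.Quotient.mk_surjective _ y
      have h1 : (Submodule.Quotient.mk b : B ⧸ J) = 0 := hy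
      rw [Submodule.Quotient.mk_eq_zero] at h1
      obtain ⟨c, hc, d, hd, hcd⟩ := Submodule.mem_sup.1 h1
      obtain ⟨e, rfl⟩ := Ideal.mem_span_singleton'.1 hd
      refine ⟨Submodule.Quotient.mk e, ?_⟩
      show s • (Submodule.Quotient.mk e : B ⧸ q) = Submodule.Quotient.mk b
      rw [← Submodule.Quotient.mk_smul, ← hcd, eq_comm, ← sub_eq_zero, ← Submodule.Quotient.mk_sub,
        Submodule.Quotient.mk_eq_zero, smul_eq_mul]
      have : c + e * s - s * e = c := by ring
      rw [this]
      exact hc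
    · rintro ⟨z, rfl⟩
      obtain ⟨b, rfl⟩ := Submodule.Quotient.mk_surjective _ z
      show (Submodule.Quotient.mk (s • b) : B ⧸ J) = 0
      rw [Submodule.Quotient.mk_eq_zero, smul_eq_mul]
      exact J.mul_mem_right _ (le_sup_right (a := q) (Ideal.subset_span rfl))
  have hS' := TorFlat.shortExact_of σ π hσ hπ hex
  have hσx : (Ext.mk₀ (ModuleCat.shortComplexOfCompEqZero σ π
      hex.linearMap_comp_eq_zero).f).comp x (zero_add 1) = 0 := by
    have h1 : (ModuleCat.shortComplexOfCompEqZero σ π hex.linearMap_comp_eq_zero).f =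
        s • 𝟙 (ModuleCat.of B (B ⧸ q)) := rfl
    rw [h1, Ext.mk₀_smul, Ext.smul_comp, Ext.mk₀_id_comp]
    exact hA x
  obtain ⟨x₃, hx₃⟩ := Ext.contravariant_sequence_exact₂ hS' Y x hσx
  have hJ3 : Subsingleton (Ext (ModuleCat.of B (B ⧸ J)) Y 1) := by
    apply subsingleton_ext_of_primes Y 1 J
    · intro q' hq' hle
      have hqq' : q < q' := by
        refine lt_of_le_of_ne (le_sup_left.trans hle) ?_
        rintro rfl
        exact hs (hle (le_sup_right (a := q) (Ideal.subset_span rfl)))
      exact ih q' hqq' hq'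
    · intro y hy m
      obtain ⟨b, rfl⟩ := Submodule.Quotient.mk_surjective _ m
      rw [← Submodule.Quotient.mk_smul, Submodule.Quotient.mk_eq_zero, smul_eq_mul]
      exact J.mul_mem_right _ hy
  rw [← hx₃, hJ3.elim x₃ 0, Ext.comp_zero]

/-- Baer + dévissage: `Ext¹(B/q, Q) = 0` for all primes `q` implies `Q` injective. -/
theorem injective_of_subsingleton_ext_prime [IsNoetherianRing B] (Q : Type u) [AddCommGroup Q]
    [Module B Q]
    (h : ∀ q : Ideal B, q.IsPrime →
      Subsingleton (Ext (ModuleCat.of B (B ⧸ q)) (ModuleCat.of B Q) 1)) :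
    Module.Injective B Q := by
  apply Module.Baer.injective
  intro J g
  have h1 : Subsingleton (Ext (ModuleCat.of B (B ⧸ J)) (ModuleCat.of B Q) 1) :=
    subsingleton_ext_of_primes _ 1 ⊥ (fun q hq _ => h q hq) (B ⧸ J) (fun x hx m => by
      rw [Ideal.mem_bot.1 hx, zero_smul])
  have hS := TorFlat.shortExact_of (A := B) J.subtype J.mkQ J.injective_subtype J.mkQ_surjective
    (LinearMap.exact_subtype_mkQ J)
  obtain ⟨x₂, hx₂⟩ := Ext.contravariant_sequence_exact₁ hS (ModuleCat.of B Q)
    (Ext.mk₀ (ModuleCat.ofHom g)) (rfl : 1 + 0 = 1) (h1.elim _ _)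
  obtain ⟨φ, rfl⟩ := (Ext.mk₀_bijective _ _).2 x₂
  rw [Ext.mk₀_comp_mk₀] at hx₂
  have h2 := (Ext.mk₀_bijective _ _).1 hx₂
  refine ⟨φ.hom, fun x mem => ?_⟩
  have h3 := congrArg (fun ψ => ψ.hom ⟨x, mem⟩) h2
  exact h3

end Bass

section Loc

theorem exists_notMem_mul_mem {B : Type u} [CommRing B] [IsNoetherianRing B] (q P : Ideal B)
    [q.IsPrime]
    (hP : Ideal.map (algebraMap B (Localization.AtPrime q)) P =
      IsLocalRing.maximalIdeal (Localization.AtPrime q)) :
    ∃ s : B, s ∉ q ∧ ∀ x ∈ q, s * x ∈ P := by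
  classical
  have h1 : ∀ x ∈ q, ∃ s : B, s ∉ q ∧ s * x ∈ P := by
    intro x hx
    have hx' : algebraMap B (Localization.AtPrime q) x ∈
        Ideal.map (algebraMap B (Localization.AtPrime q)) P := by
      rw [hP, ← IsLocalization.AtPrime.map_eq_maximalIdeal q (Localization.AtPrime q)]
      exact Ideal.mem_map_of_mem _ hx
    rw [IsLocalization.mem_map_algebraMap_iff q.primeCompl] at hx'
    obtain ⟨⟨a, m⟩, ham⟩ := hx'
    rw [← map_mul, IsLocalization.eq_iff_exists q.primeCompl] at ham
    obtain ⟨c, hc⟩ := ham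
    refine ⟨c * m, q.primeCompl.mul_mem c.2 m.2, ?_⟩
    have h2 : (c : B) * m * x = c * a := by
      rw [← hc]
      ring
    rw [h2]
    exact P.mul_mem_left _ a.2
  obtain ⟨t, ht⟩ := (IsNoetherian.noetherian q : q.FG)
  have hyq : ∀ y ∈ t, y ∈ q := fun y hy => by
    rw [← ht]
    exact Submodule.subset_span hy
  choose! σ hσ1 hσ2 using h1
  refine ⟨∏ y ∈ t, σ y, ?_, ?_⟩
  · have h3 : ∏ y ∈ t, σ y ∈ q.primeCompl :=
      Submonoid.prod_mem _ (fun y hy => hσ1 y (hyq y hy))
    exact h3
  · intro x hx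
    rw [← ht] at hx
    refine Submodule.span_induction ?_ ?_ ?_ ?_ hx
    · intro y hy
      obtain ⟨c, hc⟩ := Finset.dvd_prod_of_mem σ hy
      rw [hc, mul_right_comm]
      exact P.mul_mem_right _ (hσ2 y (hyq y hy))
    · rw [mul_zero]
      exact P.zero_mem
    · intro a b _ _ ha hb
      rw [mul_add]
      exact P.add_mem ha hb
    · intro r a _ ha
      rw [smul_eq_mul, mul_left_comm]
      exact P.mul_mem_left _ ha

end Loc

section Main

attribute [local instance] Groth.Agent.H82.ExtBC.extModule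

open Groth.Agent.H82.TorBC

variable (A B : Type u) [CommRing A] [CommRing B] [Algebra A B] [IsNoetherianRing A]
  [IsNoetherianRing B] [Module.Flat A B]

/-- `Ext^{r+1}_B(B ⊗ N, B ⊗ I) = 0` for `N` finite over `A` and `I` injective over `A`. -/
theorem subsingleton_ext_baseChange (I : Type u) [AddCommGroup I] [Module A I]
    [Module.Injective A I] (N : Type u) [AddCommGroup N] [Module A N] [Module.Finite A N]
    (r : ℕ) :
    Subsingleton (Ext ((E A B).obj (ModuleCat.of A N)) ((E A B).obj (ModuleCat.of A I)) (r + 1)) := by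
  haveI := Module.injective_object_of_injective_module A I
  have hbc := ExtBC.isBaseChange_l A B I (r + 1) N
  apply subsingleton_of_forall_eq_zero
  intro x
  refine hbc.inductionOn x (fun y => y = 0) rfl ?_ ?_ ?_
  · intro m
    rw [Ext.eq_zero_of_injective m, map_zero]
  · intro s y hy
    rw [hy, smul_zero]
  · intro y₁ y₂ h₁ h₂
    rw [h₁, h₂, add_zero]

theorem injective_baseChange
    (h : ∀ q : PrimeSpectrum B,
      Ideal.map (algebraMap B (Localization.AtPrime q.asIdeal))
        ((q.asIdeal.comap (algebraMap A B)).map (algebraMap A B)) =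
      IsLocalRing.maximalIdeal (Localization.AtPrime q.asIdeal))
    (I : Type u) [AddCommGroup I] [Module A I] [Module.Injective A I] :
    Module.Injective B (B ⊗[A] I) := by
  apply injective_of_subsingleton_ext_prime
  apply subsingleton_ext_quotient_prime
  intro q hq
  refine ⟨(q.comap (algebraMap A B)).map (algebraMap A B), Ideal.map_comap_le, ?_, ?_⟩
  · have h0 := subsingleton_ext_baseChange A B I (A ⧸ q.comap (algebraMap A B)) 0
    let iso1 : ModuleCat.of B (B ⧸ (q.comap (algebraMap A B)).map (algebraMap A B)) ≅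
        (E A B).obj (ModuleCat.of A (A ⧸ q.comap (algebraMap A B))) :=
      ((Algebra.TensorProduct.quotIdealMapEquivTensorQuot B
        (q.comap (algebraMap A B))).toLinearEquiv ≪≫ₗ
        bcEquiv A B (A ⧸ q.comap (algebraMap A B))).toModuleIso
    let iso2 : (E A B).obj (ModuleCat.of A I) ≅ ModuleCat.of B (B ⊗[A] I) :=
      (bcEquiv A B I).symm.toModuleIso
    exact (ExtBC.extCongr iso1 iso2 1).symm.toEquiv.subsingleton
  · haveI := hq
    exact exists_notMem_mul_mem q _ (h ⟨q, hq⟩)

end Main

end Groth.Agent.H12.InjBC
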