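import Mathlib
import Groth.Prelude.Def_Wider
import Groth.Agent.H12.InjBC
import Groth.Agent.H56.InjAmp2
import Groth.Agent.S0306
import Groth.Agent.S0302

/-!
# A normalized dualizing complex over an Artinian local ring is `E(κ)[0]`
-/

set_option autoImplicit false
universe u
open CategoryTheory CategoryTheory.Limits DerivedCategory Pretriangulated

namespace Groth.Agent.H12.DualZero

attribute [local instance] HasDerivedCategory.standard

open Groth.Agent.H82 CategoryTheory.Abelian

variable {A : Type u} [CommRing A]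

/-- dévissage for `Hom(-, W)` in `D(A)` along a short exact sequence. -/
theorem hom_eq_zero_of_shortExact {S : ShortComplex (ModuleCat.{u} A)} (hS : S.ShortExact)
    (W : Dual.D A)
    (h₁ : ∀ φ : (singleFunctor (ModuleCat.{u} A) 0).obj S.X₁ ⟶ W, φ = 0)
    (h₃ : ∀ φ : (singleFunctor (ModuleCat.{u} A) 0).obj S.X₃ ⟶ W, φ = 0)
    (φ : (singleFunctor (ModuleCat.{u} A) 0).obj S.X₂ ⟶ W) : φ = 0 := by
  obtain ⟨g, hg⟩ := Triangle.yoneda_exact₂ _ hS.singleTriangle_distinguished φ (h₁ _)
  have hg0 : g = 0 := h₃ g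
  rw [hg, hg0, comp_zero]
  rfl

theorem hom_eq_zero_of_finite [IsNoetherianRing A] [IsLocalRing A] [Ring.KrullDimLE 0 A]
    (W : Dual.D A)
    (hκ : ∀ φ : Dual.inD A (IsLocalRing.ResidueField A) ⟶ W, φ = 0)
    (M : Type u) [AddCommGroup M] [Module A M] [hM : Module.Finite A M] :
    ∀ φ : Dual.inD A M ⟶ W, φ = 0 := by
  induction hM using IsNoetherianRing.induction_on_isQuotientEquivQuotientPrime A with
  | subsingleton N =>
    intro φ
    exact IsZero.eq_of_src ((singleFunctor (ModuleCat.{u} A) 0).map_isZero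
      (ModuleCat.isZero_of_subsingleton _)) _ _
  | quotient N p f =>
    intro φ
    have hp : p.asIdeal = IsLocalRing.maximalIdeal A :=
      IsLocalRing.eq_maximalIdeal (Ideal.isMaximal_of_isPrime p.asIdeal)
    let e : N ≃ₗ[A] IsLocalRing.ResidueField A :=
      f ≪≫ₗ Submodule.quotEquivOfEq p.asIdeal (IsLocalRing.maximalIdeal A) hp
    have h1 := hκ ((singleFunctor (ModuleCat.{u} A) 0).map e.symm.toModuleIso.hom ≫ φ)
    haveI : IsIso ((singleFunctor (ModuleCat.{u} A) 0).map e.symm.toModuleIso.hom) :=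
      Functor.map_isIso _ _
    exact (cancel_epi ((singleFunctor (ModuleCat.{u} A) 0).map e.symm.toModuleIso.hom)).1
      (h1.trans comp_zero.symm)
  | exact N₁ N₂ N₃ f g hf hg hfg h₁ h₃ =>
    intro φ
    exact hom_eq_zero_of_shortExact (TorFlat.shortExact_of f g hf hg hfg) W h₁ h₃ φ

theorem exists_iso_single (W : Dual.D A)
    (h : ∀ i : ℤ, i ≠ 0 → ∀ φ : Dual.inD A A ⟶ W⟦i⟧, φ = 0) :
    ∃ M : ModuleCat.{u} A, Nonempty (W ≅ (singleFunctor (ModuleCat.{u} A) 0).obj M) := by
  obtain ⟨L, ⟨e⟩⟩ : ∃ L : DRing.Cx A, Nonempty (Q.obj L ≅ W) := ⟨_, ⟨Q.objObjPreimageIso W⟩⟩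
  have hex : ∀ i : ℤ, i ≠ 0 → IsZero ((homologyFunctor (ModuleCat.{u} A) i).obj W) := by
    intro i hi
    have hv : ∀ ψ : (singleFunctor (ModuleCat.{u} A) i).obj (ModuleCat.of A A) ⟶ Q.obj L,
        ψ = 0 := by
      intro ψ
      have h1 := (Groth.Agent.H56.single_hom_shift_vanishing_iff (ModuleCat.of A A) W i).1
        (h i hi) (ψ ≫ e.hom)
      exact (cancel_mono e.hom).1 (h1.trans zero_comp.symm)
    have hex := Groth.Agent.H56.exactAt_of_single_ring_hom_eq_zero L i hv
    exact hex.isZero_homology.of_iso ((homologyFunctor (ModuleCat.{u} A) i).mapIso e.symm ≪≫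
      (homologyFunctorFactors (ModuleCat.{u} A) i).app L)
  haveI : W.IsGE 0 := by
    rw [isGE_iff]
    intro i hi
    exact hex i (by omega)
  haveI : W.IsLE 0 := by
    rw [isLE_iff]
    intro i hi
    exact hex i (by omega)
  exact exists_iso_singleFunctor_obj_of_isGE_of_isLE W 0

theorem isIndecomposable_of_end [IsLocalRing A] (W : Type u) [AddCommGroup W] [Module A W]
    (hsurj : ∀ ψ : W →ₗ[A] W, ∃ a : A, ∀ w, ψ w = a • w)
    (hinj : ∀ a : A, (∀ w : W, a • w = 0) → a = 0) :
    InjHull.IsIndecomposable A W := by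
  constructor
  · by_contra hW
    rw [not_nontrivial_iff_subsingleton] at hW
    exact one_ne_zero (hinj 1 (fun w => Subsingleton.elim _ _))
  · intro N N' hc
    obtain ⟨a, ha⟩ := hsurj (N.projection N' hc)
    have hid : ∀ w, N.projection N' hc (N.projection N' hc w) = N.projection N' hc w := by
      intro w
      exact Submodule.projection_apply_left hc ⟨_, Submodule.projection_apply_mem hc w⟩
    have h2 : a * a - a = 0 := hinj _ (fun w => by
      rw [sub_smul, mul_smul, ← ha, ← ha, hid, sub_self])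
    rcases IsLocalRing.isUnit_or_isUnit_one_sub_self a with hu | hu
    · right
      have ha1 : a = 1 := by
        have h3 : a * (a - 1) = a * 0 := by
          rw [mul_zero]
          linear_combination h2
        exact sub_eq_zero.1 (hu.mul_left_cancel h3)
      rw [Submodule.eq_bot_iff]
      intro w hw
      have h3 : N.projection N' hc w = 0 := Submodule.projection_apply_of_mem_right hc hw
      rw [ha w, ha1, one_smul] at h3
      exact h3
    · left
      have ha0 : a = 0 := by
        have h3 : (1 - a) * a = (1 - a) * 0 := by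
          rw [mul_zero]
          linear_combination -h2
        exact hu.mul_left_cancel h3
      rw [Submodule.eq_bot_iff]
      intro w hw
      have h3 : N.projection N' hc w = w := Submodule.projection_apply_left hc ⟨w, hw⟩
      rw [ha w, ha0, zero_smul] at h3
      exact h3.symm

theorem isInjectiveHull_comp_equiv {M M' E : Type u} [AddCommGroup M] [Module A M]
    [AddCommGroup M'] [Module A M'] [AddCommGroup E] [Module A E]
    (g : M →ₗ[A] E) (hg : InjHull.IsInjectiveHull g) (e : M' ≃ₗ[A] M) :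
    InjHull.IsInjectiveHull (g ∘ₗ e.toLinearMap) where
  injective := hg.injective.comp e.injective
  essential := by
    have hr : LinearMap.range (g ∘ₗ e.toLinearMap) = LinearMap.range g :=
      LinearMap.range_comp_of_range_eq_top g (LinearEquiv.range e)
    rw [hr]
    exact hg.essential
  isInjective := hg.isInjective

theorem main [IsLocalRing A] [IsNoetherianRing A] (h0 : ringKrullDim A = 0) (ω : Dual.D A)
    (hω : Dual.IsDualizing A ω) (hn : Dual.IsNormalized A ω) (E : Type u) [AddCommGroup E]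
    [Module A E] (f : IsLocalRing.ResidueField A →ₗ[A] E) (hf : InjHull.IsInjectiveHull f) :
    Nonempty (ω ≅ Dual.inD A E) := by
  haveI : Ring.KrullDimLE 0 A := Ring.krullDimLE_iff.2 (le_of_eq h0)
  -- step 1
  have h1 : ∀ (M : Type u) [AddCommGroup M] [Module A M] [Module.Finite A M] (i : ℤ), i ≠ 0 →
      ∀ φ : Dual.inD A M ⟶ ω⟦i⟧, φ = 0 := fun M _ _ _ i hi =>
    hom_eq_zero_of_finite (ω⟦i⟧) (fun φ => (hn i hi).elim φ 0) M
  -- step 2
  obtain ⟨W, ⟨e⟩⟩ := exists_iso_single ω (fun i hi => h1 A i hi)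
  -- step 3: `W` injective
  have hWinj : Module.Injective A W := by
    apply Groth.Agent.H12.InjBC.injective_of_subsingleton_ext_prime
    intro q hq
    haveI : Subsingleton (ShiftedHom ((singleFunctor (ModuleCat.{u} A) 0).obj
        (ModuleCat.of A (A ⧸ q))) ((singleFunctor (ModuleCat.{u} A) 0).obj (ModuleCat.of A W))
        ((1 : ℕ) : ℤ)) := by
      refine ⟨fun a b => ?_⟩
      have hz : ∀ a : (singleFunctor (ModuleCat.{u} A) 0).obj (ModuleCat.of A (A ⧸ q)) ⟶
          ((singleFunctor (ModuleCat.{u} A) 0).obj W)⟦((1 : ℕ) : ℤ)⟧, a = 0 := by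
        intro a
        have h2 := h1 (A ⧸ q) ((1 : ℕ) : ℤ) (by norm_num) (a ≫ e.inv⟦((1 : ℕ) : ℤ)⟧')
        exact (cancel_mono (e.inv⟦((1 : ℕ) : ℤ)⟧')).1 (h2.trans zero_comp.symm)
      exact (hz a).trans (hz b).symm
    exact (Ext.homEquiv (X := ModuleCat.of A (A ⧸ q)) (Y := ModuleCat.of A W)
      (n := 1)).subsingleton
  -- step 4: endomorphisms
  have hsurj : ∀ ψ : W →ₗ[A] W, ∃ a : A, ∀ w, ψ w = a • w := by
    intro ψ
    obtain ⟨a, ha⟩ := hω.toEnd_bijective.2
      (e.hom ≫ (singleFunctor (ModuleCat.{u} A) 0).map (ModuleCat.ofHom ψ) ≫ e.inv)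
    have ha' : a • 𝟙 ω =
        e.hom ≫ (singleFunctor (ModuleCat.{u} A) 0).map (ModuleCat.ofHom ψ) ≫ e.inv := ha
    have h2 : (singleFunctor (ModuleCat.{u} A) 0).map (ModuleCat.ofHom ψ) =
        (singleFunctor (ModuleCat.{u} A) 0).map (a • 𝟙 W) := by
      have h3 : (singleFunctor (ModuleCat.{u} A) 0).map (ModuleCat.ofHom ψ) =
          e.inv ≫ (a • 𝟙 ω) ≫ e.hom := by
        rw [ha']
        simp
      rw [h3, CategoryTheory.Functor.map_smul, CategoryTheory.Functor.map_id, Linear.smul_comp, Linear.comp_smul,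
        Category.id_comp, e.inv_hom_id]
    have h4 := (singleFunctor (ModuleCat.{u} A) 0).map_injective h2
    refine ⟨a, fun w => ?_⟩
    have h5 := congrArg (fun χ : W ⟶ W => χ.hom w) h4
    exact h5
  have hinj' : ∀ a : A, (∀ w : W, a • w = 0) → a = 0 := by
    intro a ha
    apply hω.toEnd_bijective.1
    show a • 𝟙 ω = (0 : A) • 𝟙 ω
    rw [zero_smul]
    have h4 : a • 𝟙 W = 0 := by
      apply ModuleCat.hom_ext
      apply LinearMap.ext
      intro w
      exact ha w
    have h5 : a • 𝟙 ω = e.hom ≫ (singleFunctor (ModuleCat.{u} A) 0).map (a • 𝟙 W) ≫ e.inv := by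
      rw [CategoryTheory.Functor.map_smul, CategoryTheory.Functor.map_id, Linear.smul_comp, Linear.comp_smul, Category.id_comp,
        e.hom_inv_id]
    rw [h5, h4, Functor.map_zero, zero_comp, comp_zero]
  have hind := isIndecomposable_of_end W hsurj hinj'
  obtain ⟨p, hp, g, hg⟩ := Groth.Agent.S0306.result A W hind hWinj
  have hpm : p = IsLocalRing.maximalIdeal A :=
    IsLocalRing.eq_maximalIdeal (Ideal.isMaximal_of_isPrime p)
  subst hpm
  let eκ : IsLocalRing.ResidueField A ≃ₗ[A] (IsLocalRing.maximalIdeal A).ResidueField :=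
    LinearEquiv.ofBijective
      ((Algebra.linearMap (A ⧸ IsLocalRing.maximalIdeal A)
        (IsLocalRing.maximalIdeal A).ResidueField).restrictScalars A)
      (Ideal.bijective_algebraMap_quotient_residueField (IsLocalRing.maximalIdeal A))
  have hg' := isInjectiveHull_comp_equiv g hg eκ
  obtain ⟨ε, _⟩ := Groth.Agent.S0302.result A (IsLocalRing.ResidueField A) W E _ hg' f hf
  exact ⟨e ≪≫ (singleFunctor (ModuleCat.{u} A) 0).mapIso ε.toModuleIso⟩

end Groth.Agent.H12.DualZero
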