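import Mathlib
import Groth.Prelude.Def_Wider
import Groth.Agent.H12.DualZero
import Groth.Agent.H12.AdjFin
import Groth.Agent.H35.Devissage
import Groth.Agent.H56.ProjAmp

/-!
# `Hom(M, W[i])` in `D(A)` for finite modules `M` over a Noetherian local ring

Dévissage tools for `Van W i M := ∀ φ : M[0] ⟶ W⟦i⟧, φ = 0`:
long exact sequence pieces (`exists_lift`, `van_left`, `van_right`, `van_mid`),
the Nakayama step `van_of_regular`, prime filtration `van_of_primes`, `van_all`,
and the depth characterisation `depth_iff`.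
-/

set_option autoImplicit false
universe u
open CategoryTheory CategoryTheory.Limits DerivedCategory Pretriangulated

namespace Groth.Agent.H12.DualDepth

attribute [local instance] HasDerivedCategory.standard

open Groth.Agent.H82 DerivedCategory.TStructure
open scoped Pointwise

variable {A : Type u} [CommRing A]

/-- `M[0]`. -/
noncomputable abbrev sM (M : ModuleCat.{u} A) : Dual.D A :=
  (singleFunctor (ModuleCat.{u} A) 0).obj M

/-- vanishing of `Hom(M[0], W[i])` -/
def Van (W : Dual.D A) (i : ℤ) (M : ModuleCat.{u} A) : Prop := ∀ φ : sM M ⟶ W⟦i⟧, φ = 0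

theorem van_iff_subsingleton (W : Dual.D A) (i : ℤ) (M : ModuleCat.{u} A) :
    Van W i M ↔ Subsingleton (sM M ⟶ W⟦i⟧) :=
  ⟨fun h => ⟨fun a b => (h a).trans (h b).symm⟩, fun _ φ => Subsingleton.elim φ 0⟩

theorem not_van_iff_nontrivial (W : Dual.D A) (i : ℤ) (M : ModuleCat.{u} A) :
    ¬ Van W i M ↔ Nontrivial (sM M ⟶ W⟦i⟧) := by
  rw [van_iff_subsingleton, not_subsingleton_iff_nontrivial]

theorem van_of_iso {W : Dual.D A} {i : ℤ} {M M' : ModuleCat.{u} A} (e : M ≅ M')
    (h : Van W i M) : Van W i M' := by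
  intro φ
  have h1 := h ((singleFunctor (ModuleCat.{u} A) 0).map e.hom ≫ φ)
  haveI : IsIso ((singleFunctor (ModuleCat.{u} A) 0).map e.hom) := Functor.map_isIso _ _
  exact (cancel_epi ((singleFunctor (ModuleCat.{u} A) 0).map e.hom)).1 (h1.trans comp_zero.symm)

theorem van_of_isZero {W : Dual.D A} {i : ℤ} {M : ModuleCat.{u} A} (h : IsZero M) :
    Van W i M := fun _ =>
  IsZero.eq_of_src ((singleFunctor (ModuleCat.{u} A) 0).map_isZero h) _ _

theorem van_mid {S : ShortComplex (ModuleCat.{u} A)} (hS : S.ShortExact) (W : Dual.D A) (i : ℤ)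
    (h₁ : Van W i S.X₁) (h₃ : Van W i S.X₃) : Van W i S.X₂ :=
  fun φ => DualZero.hom_eq_zero_of_shortExact hS (W⟦i⟧) h₁ h₃ φ

theorem exists_shift_eq (X W : Dual.D A) (i j : ℤ) (h : i + 1 = j) (χ : X⟦(1 : ℤ)⟧ ⟶ W⟦j⟧) :
    ∃ ψ : X ⟶ W⟦i⟧, χ = ψ⟦(1 : ℤ)⟧' ≫ (shiftFunctorAdd' (Dual.D A) i 1 j h).inv.app W := by
  obtain ⟨ψ, hψ⟩ := (shiftFunctor (Dual.D A) (1 : ℤ)).map_surjective
    (χ ≫ (shiftFunctorAdd' (Dual.D A) i 1 j h).hom.app W)
  refine ⟨ψ, ?_⟩
  rw [hψ, Category.assoc, Iso.hom_inv_id_app, Category.comp_id]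

/-- exactness of `Hom(X₂, W[i]) → Hom(X₁, W[i]) → Hom(X₃, W[i+1])` -/
theorem exists_lift {S : ShortComplex (ModuleCat.{u} A)} (hS : S.ShortExact) (W : Dual.D A)
    (i j : ℤ) (h : i + 1 = j) (h₃ : Van W j S.X₃) (ψ : sM S.X₁ ⟶ W⟦i⟧) :
    ∃ φ : sM S.X₂ ⟶ W⟦i⟧, ψ = (singleFunctor (ModuleCat.{u} A) 0).map S.f ≫ φ := by
  have hT := rot_of_distTriang _ hS.singleTriangle_distinguished
  have h0 : hS.singleTriangle.mor₃ ≫
      (ψ⟦(1 : ℤ)⟧' ≫ (shiftFunctorAdd' (Dual.D A) i 1 j h).inv.app W) = 0 := h₃ _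
  obtain ⟨χ', hχ'⟩ := Triangle.yoneda_exact₃ _ hT
    (ψ⟦(1 : ℤ)⟧' ≫ (shiftFunctorAdd' (Dual.D A) i 1 j h).inv.app W) h0
  have hχ'' : ψ⟦(1 : ℤ)⟧' ≫ (shiftFunctorAdd' (Dual.D A) i 1 j h).inv.app W =
      (-((singleFunctor (ModuleCat.{u} A) 0).map S.f)⟦(1 : ℤ)⟧') ≫ χ' := hχ'
  obtain ⟨φ', hφ'⟩ := exists_shift_eq (sM S.X₂) W i j h χ'
  refine ⟨-φ', ?_⟩
  apply (shiftFunctor (Dual.D A) (1 : ℤ)).map_injective
  rw [← cancel_mono ((shiftFunctorAdd' (Dual.D A) i 1 j h).inv.app W), hχ'', hφ']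
  simp only [Functor.map_comp, Functor.map_neg, Preadditive.neg_comp, Preadditive.comp_neg,
    Category.assoc]

theorem van_left {S : ShortComplex (ModuleCat.{u} A)} (hS : S.ShortExact) (W : Dual.D A)
    (i j : ℤ) (h : i + 1 = j) (h₂ : Van W i S.X₂) (h₃ : Van W j S.X₃) : Van W i S.X₁ := by
  intro ψ
  obtain ⟨φ, rfl⟩ := exists_lift hS W i j h h₃ ψ
  rw [h₂ φ, comp_zero]

theorem van_right {S : ShortComplex (ModuleCat.{u} A)} (hS : S.ShortExact) (W : Dual.D A)
    (i j : ℤ) (h : i + 1 = j) (h₂ : Van W j S.X₂) (h₁ : Van W i S.X₁) : Van W j S.X₃ := by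
  intro φ
  have h0 : hS.singleTriangle.mor₂ ≫ φ = 0 := h₂ _
  obtain ⟨g, hg⟩ := Triangle.yoneda_exact₃ _ hS.singleTriangle_distinguished φ h0
  obtain ⟨ψ, hψ⟩ := exists_shift_eq (sM S.X₁) W i j h g
  rw [hg, hψ, h₁ ψ, Functor.map_zero, zero_comp]
  exact comp_zero

/-- Nakayama step. -/
theorem van_of_regular [IsLocalRing A] (W : Dual.D A) (N : Type u) [AddCommGroup N] [Module A N]
    (x : A) (hx : x ∈ IsLocalRing.maximalIdeal A) (hreg : IsSMulRegular N x) (i j : ℤ)
    (h : i + 1 = j) (hfin : Module.Finite A (sM (ModuleCat.of A N) ⟶ W⟦i⟧))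
    (h₃ : Van W j (ModuleCat.of A (QuotSMulTop x N))) : Van W i (ModuleCat.of A N) := by
  have hreg' : IsSMulRegular (ModuleCat.of A N) x := hreg
  have hS := hreg'.smulShortComplex_shortExact
  have key : ∀ ψ : sM (ModuleCat.of A N) ⟶ W⟦i⟧,
      ∃ φ : sM (ModuleCat.of A N) ⟶ W⟦i⟧, ψ = x • φ := by
    intro ψ
    obtain ⟨φ, hφ⟩ := exists_lift hS W i j h h₃ ψ
    refine ⟨φ, ?_⟩
    rw [hφ]
    show (singleFunctor (ModuleCat.{u} A) 0).map (x • 𝟙 (ModuleCat.of A N)) ≫ φ = x • φ
    rw [Functor.map_smul, CategoryTheory.Functor.map_id, Linear.smul_comp, Category.id_comp]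
    rfl
  have htop : (⊤ : Submodule A (sM (ModuleCat.of A N) ⟶ W⟦i⟧)) = ⊥ := by
    refine Submodule.eq_bot_of_le_smul_of_le_jacobson_bot (IsLocalRing.maximalIdeal A) ⊤
      Module.Finite.fg_top ?_ (IsLocalRing.maximalIdeal_le_jacobson ⊥)
    intro ψ _
    obtain ⟨φ, rfl⟩ := key ψ
    exact Submodule.smul_mem_smul hx Submodule.mem_top
  intro ψ0
  have hmem : ψ0 ∈ (⊤ : Submodule A (sM (ModuleCat.of A N) ⟶ W⟦i⟧)) := Submodule.mem_top
  rw [htop] at hmem
  exact (Submodule.mem_bot A).1 hmem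

/-- prime filtration dévissage -/
theorem van_of_primes [IsNoetherianRing A] (W : Dual.D A) (i : ℤ) (J : Ideal A)
    (h : ∀ q : Ideal A, q.IsPrime → J ≤ q → Van W i (ModuleCat.of A (A ⧸ q)))
    (N : Type u) [AddCommGroup N] [Module A N] [hN : Module.Finite A N]
    (hJ : ∀ x ∈ J, ∀ m : N, x • m = 0) : Van W i (ModuleCat.of A N) := by
  revert hJ
  induction hN using IsNoetherianRing.induction_on_isQuotientEquivQuotientPrime A with
  | subsingleton N =>
    intro _
    exact van_of_isZero (ModuleCat.isZero_of_subsingleton _)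
  | quotient N p f =>
    intro hJ
    have hle : J ≤ p.1 := by
      intro x hx
      have h1 := hJ x hx (f.symm 1)
      rw [← map_smul] at h1
      have h2 : x • (1 : A ⧸ p.1) = 0 := f.symm.injective (h1.trans (map_zero _).symm)
      rw [← Ideal.Quotient.eq_zero_iff_mem]
      rw [Algebra.smul_def, mul_one] at h2
      exact h2
    exact van_of_iso f.symm.toModuleIso (h p.1 p.2 hle)
  | exact N₁ N₂ N₃ f g hf hg hfg h₁ h₃ =>
    intro hJ
    have hS := TorFlat.shortExact_of f g hf hg hfg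
    refine van_mid hS W i (h₁ ?_) (h₃ ?_)
    · intro x hx m
      apply hf
      rw [map_smul, hJ x hx, map_zero]
    · intro x hx m
      obtain ⟨m', rfl⟩ := hg m
      rw [← map_smul, hJ x hx, map_zero]

section Local

variable [IsLocalRing A] [IsNoetherianRing A] (W : Dual.D A)
  (hfin : ∀ (N : Type u) [AddCommGroup N] [Module A N] [Module.Finite A N] (i : ℤ),
    Module.Finite A (sM (ModuleCat.of A N) ⟶ W⟦i⟧))

include hfin

theorem regular_quotient_prime (p : Ideal A) [hp : p.IsPrime] (x : A) (hxp : x ∉ p) :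
    IsSMulRegular (A ⧸ p) x := by
  haveI : IsDomain (A ⧸ p) := Ideal.Quotient.isDomain p
  have hx0 : (Ideal.Quotient.mk p x) ≠ 0 := by
    rwa [Ne, Ideal.Quotient.eq_zero_iff_mem]
  intro a b hab
  have hab' : Ideal.Quotient.mk p x * a = Ideal.Quotient.mk p x * b := by
    have := hab
    simp only [Algebra.smul_def, Ideal.Quotient.algebraMap_eq] at this
    exact this
  exact mul_left_cancel₀ hx0 hab'

theorem smul_quotSMulTop_eq_zero (p : Ideal A) (x : A) (y : A) (hy : y ∈ p ⊔ Ideal.span {x})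
    (m : QuotSMulTop x (A ⧸ p)) : y • m = 0 := by
  obtain ⟨n, rfl⟩ := Submodule.Quotient.mk_surjective _ m
  obtain ⟨a, rfl⟩ := Ideal.Quotient.mk_surjective n
  obtain ⟨y₁, hy₁, y₂, hy₂, rfl⟩ := Submodule.mem_sup.1 hy
  obtain ⟨c, rfl⟩ := Ideal.mem_span_singleton'.1 hy₂
  rw [← Submodule.Quotient.mk_smul, Submodule.Quotient.mk_eq_zero, add_smul]
  refine Submodule.add_mem _ ?_ ?_
  · have : y₁ • (Ideal.Quotient.mk p a) = 0 := by
      rw [Algebra.smul_def, Ideal.Quotient.algebraMap_eq, ← map_mul,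
        Ideal.Quotient.eq_zero_iff_mem]
      exact Ideal.mul_mem_right _ _ hy₁
    rw [this]
    exact Submodule.zero_mem _
  · rw [mul_comm, mul_smul]
    exact Submodule.smul_mem_pointwise_smul _ _ _ Submodule.mem_top

/-- vanishing for the residue field in an upward closed set of degrees propagates to all `A/p`. -/
theorem van_quotient_prime (I : Set ℤ) (hI : ∀ i ∈ I, i + 1 ∈ I)
    (hk : ∀ i ∈ I, Van W i (ModuleCat.of A (A ⧸ IsLocalRing.maximalIdeal A))) :
    ∀ p : Ideal A, p.IsPrime → ∀ i ∈ I, Van W i (ModuleCat.of A (A ⧸ p)) := by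
  intro p
  induction p using WellFoundedGT.induction with
  | ind p ih =>
  intro hp i hi
  by_cases hpm : p = IsLocalRing.maximalIdeal A
  · rw [hpm]
    exact hk i hi
  · obtain ⟨x, hxm, hxp⟩ : ∃ x ∈ IsLocalRing.maximalIdeal A, x ∉ p := by
      by_contra hcon
      push_neg at hcon
      exact hpm (le_antisymm (IsLocalRing.le_maximalIdeal hp.ne_top) hcon)
    have hreg : IsSMulRegular (A ⧸ p) x := regular_quotient_prime W hfin p x hxp
    refine van_of_regular W (A ⧸ p) x hxm hreg i (i + 1) rfl (hfin _ i) ?_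
    refine van_of_primes W (i + 1) (p ⊔ Ideal.span {x}) ?_ (QuotSMulTop x (A ⧸ p))
      (fun y hy m => smul_quotSMulTop_eq_zero W hfin p x y hy m)
    intro q hq hle
    have hpq : p < q := by
      refine lt_of_le_of_ne (le_sup_left.trans hle) ?_
      rintro rfl
      exact hxp (hle (Ideal.mem_sup_right (Ideal.subset_span rfl)))
    exact ih q hpq hq (i + 1) (hI i hi)

theorem van_all (I : Set ℤ) (hI : ∀ i ∈ I, i + 1 ∈ I)
    (hk : ∀ i ∈ I, Van W i (ModuleCat.of A (A ⧸ IsLocalRing.maximalIdeal A)))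
    (N : Type u) [AddCommGroup N] [Module A N] [Module.Finite A N] (i : ℤ) (hi : i ∈ I) :
    Van W i (ModuleCat.of A N) :=
  van_of_primes W i ⊥ (fun q hq _ => van_quotient_prime W hfin I hI hk q hq i hi) N
    (fun x hx m => by rw [(Submodule.mem_bot A).1 hx, zero_smul])

omit hfin in
omit [IsLocalRing A] [IsNoetherianRing A] in
theorem isZero_homology_of_van (i : ℤ) (h : Van W i (ModuleCat.of A A)) :
    IsZero ((homologyFunctor (ModuleCat.{u} A) i).obj W) := by
  obtain ⟨L, ⟨e⟩⟩ : ∃ L : CochainComplex (ModuleCat.{u} A) ℤ, Nonempty (Q.obj L ≅ W) :=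
    ⟨_, ⟨Q.objObjPreimageIso W⟩⟩
  have hv : ∀ ψ : (singleFunctor (ModuleCat.{u} A) i).obj (ModuleCat.of A A) ⟶ Q.obj L,
      ψ = 0 := by
    intro ψ
    have h1 := (Groth.Agent.H56.single_hom_shift_vanishing_iff (ModuleCat.of A A) W i).1
      h (ψ ≫ e.hom)
    exact (cancel_mono e.hom).1 (h1.trans zero_comp.symm)
  have hex := Groth.Agent.H56.exactAt_of_single_ring_hom_eq_zero L i hv
  exact hex.isZero_homology.of_iso ((homologyFunctor (ModuleCat.{u} A) i).mapIso e.symm ≪≫
    (homologyFunctorFactors (ModuleCat.{u} A) i).app L)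

omit hfin in
omit [IsLocalRing A] [IsNoetherianRing A] in
theorem van_of_isZero_homology (i : ℤ)
    (h : IsZero ((homologyFunctor (ModuleCat.{u} A) i).obj W)) :
    Van W i (ModuleCat.of A A) := by
  haveI : Projective (ModuleCat.of A A) :=
    (IsProjective.iff_projective (R := A) (P := A)).mp inferInstance
  refine (Groth.Agent.H56.single_hom_shift_vanishing_iff (ModuleCat.of A A) W i).2 ?_
  intro ψ
  have hT := t.triangleLTGE_distinguished i W
  haveI hGE : ((t.truncGE i).obj W).IsGE (i + 1) := by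
    rw [isGE_iff]
    intro j hj
    by_cases hji : j < i
    · haveI : ((t.truncGE i).obj W).IsGE i :=
        inferInstanceAs (t.IsGE ((t.truncGE i).obj W) i)
      exact isZero_of_isGE _ i j hji
    · obtain rfl : j = i := by omega
      haveI := H56.isIso_homologyMap_truncGEπ W j j le_rfl
      exact IsZero.of_iso h
        (asIso ((homologyFunctor (ModuleCat.{u} A) j).map ((t.truncGEπ j).app W))).symm
  have h0 : ψ ≫ (t.truncGEπ i).app W = 0 :=
    t.zero_of_isLE_of_isGE _ i (i + 1) (by omega) inferInstance hGE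
  obtain ⟨ψ', hψ'⟩ := Triangle.coyoneda_exact₂ _ hT ψ h0
  haveI : ((t.truncLT i).obj W).IsLE (i - 1) :=
    inferInstanceAs (t.IsLE ((t.truncLT i).obj W) (i - 1))
  have hz : ψ' = 0 :=
    H56.hom_single_projective_eq_zero' (ModuleCat.of A A) _ i (i - 1) (by omega) ψ'
  rw [hψ', hz]
  exact zero_comp

/-- a nonzero object with `Hom(k, W[i]) = 0` for `i ≠ 0` has `Hom(k, W) ≠ 0`. -/
theorem not_van_zero_residue (hW : ¬ IsZero W)
    (hk : ∀ i : ℤ, i ≠ 0 → Van W i (ModuleCat.of A (A ⧸ IsLocalRing.maximalIdeal A))) :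
    ¬ Van W 0 (ModuleCat.of A (A ⧸ IsLocalRing.maximalIdeal A)) := by
  intro h0
  apply hW
  have hall : ∀ i : ℤ, Van W i (ModuleCat.of A (A ⧸ IsLocalRing.maximalIdeal A)) := by
    intro i
    by_cases hi : i = 0
    · rw [hi]; exact h0
    · exact hk i hi
  have hA : ∀ i : ℤ, IsZero ((homologyFunctor (ModuleCat.{u} A) i).obj W) := fun i =>
    isZero_homology_of_van W i
      (van_all W hfin Set.univ (fun _ _ => Set.mem_univ _) (fun i _ => hall i) A i (Set.mem_univ _))
  haveI : W.IsLE 0 := by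
    rw [isLE_iff]
    intro i _
    exact hA i
  haveI : W.IsGE 1 := by
    rw [isGE_iff]
    intro i _
    exact hA i
  rw [IsZero.iff_id_eq_zero]
  exact t.zero_of_isLE_of_isGE (𝟙 W) 0 1 (by omega) inferInstance inferInstance

section Depth

variable (hpos : ∀ (N : Type u) [AddCommGroup N] [Module A N] [Module.Finite A N] (i : ℤ),
    0 < i → Van W i (ModuleCat.of A N))

include hpos

/-- vanishing below the length of a regular sequence -/
theorem van_of_weaklyRegular :
    ∀ (rs : List A) (M : Type u) [AddCommGroup M] [Module A M] [Module.Finite A M],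
      RingTheory.Sequence.IsWeaklyRegular M rs →
      (∀ r ∈ rs, r ∈ IsLocalRing.maximalIdeal A) →
      ∀ δ : ℕ, δ < rs.length → Van W (-(δ : ℤ)) (ModuleCat.of A M) := by
  intro rs
  induction rs with
  | nil =>
    intro M _ _ _ _ _ δ hδ
    simp at hδ
  | cons x rs ih =>
    intro M _ _ _ hreg hmem δ hδ
    obtain ⟨hx, hrs⟩ := (RingTheory.Sequence.isWeaklyRegular_cons_iff M x rs).1 hreg
    refine van_of_regular W M x (hmem x List.mem_cons_self) hx (-(δ : ℤ)) (-(δ : ℤ) + 1) rfl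
      (hfin _ _) ?_
    cases δ with
    | zero =>
      have := hpos (QuotSMulTop x M) 1 one_pos
      simpa using this
    | succ δ' =>
      have h2 := ih (QuotSMulTop x M) hrs (fun r hr => hmem r (List.mem_cons_of_mem _ hr)) δ'
        (by simpa using hδ)
      have e : (-(((δ' + 1 : ℕ)) : ℤ) + 1) = -(δ' : ℤ) := by push_cast; ring
      rw [e]
      exact h2

omit hfin hpos in
theorem exists_injective_of_no_regular (M : Type u) [AddCommGroup M] [Module A M]
    [Module.Finite A M]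
    (hno : ∀ r ∈ IsLocalRing.maximalIdeal A, ¬ IsSMulRegular M r) :
    ∃ f : (A ⧸ IsLocalRing.maximalIdeal A) →ₗ[A] M, Function.Injective f := by
  have h1 : ¬ Subsingleton ((A ⧸ IsLocalRing.maximalIdeal A) →ₗ[A] M) := by
    rw [IsSMulRegular.subsingleton_linearMap_iff]
    rintro ⟨r, hr, hreg⟩
    have hrm : r ∈ IsLocalRing.maximalIdeal A := by
      have h2 := Module.mem_annihilator.1 hr (1 : A ⧸ IsLocalRing.maximalIdeal A)
      rw [Algebra.smul_def, mul_one, Ideal.Quotient.algebraMap_eq] at h2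
      exact Ideal.Quotient.eq_zero_iff_mem.1 h2
    exact hno r hrm hreg
  rw [not_subsingleton_iff_nontrivial] at h1
  obtain ⟨f, hf⟩ := exists_ne (0 : (A ⧸ IsLocalRing.maximalIdeal A) →ₗ[A] M)
  refine ⟨f, ?_⟩
  rw [← LinearMap.ker_eq_bot]
  by_contra hker
  obtain ⟨y, hy, hy0⟩ := Submodule.exists_mem_ne_zero_of_ne_bot hker
  obtain ⟨a, rfl⟩ := Ideal.Quotient.mk_surjective y
  have ha : a ∉ IsLocalRing.maximalIdeal A := fun h => hy0 (Ideal.Quotient.eq_zero_iff_mem.2 h)
  have hu : IsUnit a := IsLocalRing.notMem_maximalIdeal.1 ha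
  obtain ⟨b, hb⟩ := hu.exists_left_inv
  apply hf
  refine LinearMap.ext fun z => ?_
  obtain ⟨c, rfl⟩ := Ideal.Quotient.mk_surjective z
  have hc : (Ideal.Quotient.mk (IsLocalRing.maximalIdeal A) c) =
      (c * b) • (Ideal.Quotient.mk (IsLocalRing.maximalIdeal A) a) := by
    rw [Algebra.smul_def, Ideal.Quotient.algebraMap_eq, ← map_mul, mul_assoc, hb, mul_one]
  rw [hc, map_smul, LinearMap.mem_ker.1 hy, smul_zero, LinearMap.zero_apply]

omit hfin hpos in
theorem nontrivial_quotSMulTop (M : Type u) [AddCommGroup M] [Module A M] [Module.Finite A M]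
    [Nontrivial M] (x : A) (hx : x ∈ IsLocalRing.maximalIdeal A) :
    Nontrivial (QuotSMulTop x M) := by
  rw [Submodule.Quotient.nontrivial_iff]
  intro htop
  have hle : (⊤ : Submodule A M) ≤ IsLocalRing.maximalIdeal A • (⊤ : Submodule A M) := by
    intro y _
    have hy : y ∈ x • (⊤ : Submodule A M) := by rw [htop]; exact Submodule.mem_top
    obtain ⟨z, _, rfl⟩ := (Submodule.mem_smul_pointwise_iff_exists _ _ _).1 hy
    exact Submodule.smul_mem_smul hx Submodule.mem_top
  have hbot := Submodule.eq_bot_of_le_smul_of_le_jacobson_bot (IsLocalRing.maximalIdeal A)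
    (⊤ : Submodule A M) Module.Finite.fg_top hle (IsLocalRing.maximalIdeal_le_jacobson ⊥)
  exact top_ne_bot hbot

/-- non-vanishing at the length of a maximal regular sequence -/
theorem not_van_of_maximal
    (hk0 : ¬ Van W 0 (ModuleCat.of A (A ⧸ IsLocalRing.maximalIdeal A))) :
    ∀ (n : ℕ) (M : Type u) [AddCommGroup M] [Module A M] [Module.Finite A M] [Nontrivial M]
      (rs : List A), RingTheory.Sequence.IsWeaklyRegular M rs →
      (∀ r ∈ rs, r ∈ IsLocalRing.maximalIdeal A) → rs.length = n →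
      (∀ rs' : List A, RingTheory.Sequence.IsWeaklyRegular M rs' →
        (∀ r ∈ rs', r ∈ IsLocalRing.maximalIdeal A) → rs'.length ≤ n) →
      ¬ Van W (-(n : ℤ)) (ModuleCat.of A M) := by
  intro n
  induction n with
  | zero =>
    intro M _ _ _ _ rs _ _ _ hmax hvan
    have hno : ∀ r ∈ IsLocalRing.maximalIdeal A, ¬ IsSMulRegular M r := by
      intro r hr hreg
      have h1 : RingTheory.Sequence.IsWeaklyRegular M [r] :=
        (RingTheory.Sequence.isWeaklyRegular_cons_iff M r []).2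
          ⟨hreg, RingTheory.Sequence.IsWeaklyRegular.nil A _⟩
      have h2 := hmax [r] h1 (fun r' hr' => by
        rw [List.mem_singleton] at hr'
        rw [hr']
        exact hr)
      simp at h2
    obtain ⟨f, hf⟩ := exists_injective_of_no_regular M hno
    have hS := TorFlat.shortExact_of f (LinearMap.range f).mkQ hf (Submodule.mkQ_surjective _)
      (LinearMap.exact_map_mkQ_range f)
    apply hk0
    intro ψ
    obtain ⟨φ, hφ⟩ := exists_lift hS W 0 1 rfl (hpos (M ⧸ LinearMap.range f) 1 one_pos) ψ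
    have hvan' : Van W 0 (ModuleCat.of A M) := by simpa using hvan
    rw [hφ, hvan' φ, comp_zero]
  | succ n ih =>
    intro M _ _ _ _ rs hreg hmem hlen hmax hvan
    match rs, hreg, hmem, hlen with
    | [], _, _, hlen => simp at hlen
    | x :: rs', hreg, hmem, hlen =>
      obtain ⟨hx, hrs'⟩ := (RingTheory.Sequence.isWeaklyRegular_cons_iff M x rs').1 hreg
      have hxm : x ∈ IsLocalRing.maximalIdeal A := hmem x List.mem_cons_self
      haveI := nontrivial_quotSMulTop M x hxm
      have hlen' : rs'.length = n := by simpa using hlen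
      have hmax' : ∀ rs'' : List A, RingTheory.Sequence.IsWeaklyRegular (QuotSMulTop x M) rs'' →
          (∀ r ∈ rs'', r ∈ IsLocalRing.maximalIdeal A) → rs''.length ≤ n := by
        intro rs'' h1 h2
        have h3 := hmax (x :: rs'')
          ((RingTheory.Sequence.isWeaklyRegular_cons_iff M x rs'').2 ⟨hx, h1⟩)
          (fun r hr => by
            rcases List.mem_cons.1 hr with rfl | hr
            · exact hxm
            · exact h2 r hr)
        simpa using h3
      refine ih (QuotSMulTop x M) rs' hrs' (fun r hr => hmem r (List.mem_cons_of_mem _ hr))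
        hlen' hmax' ?_
      have hx' : IsSMulRegular (ModuleCat.of A M) x := hx
      have hS := hx'.smulShortComplex_shortExact
      have h2 : Van W (-(n : ℤ)) (ModuleCat.of A M) :=
        van_of_weaklyRegular W hfin hpos (x :: rs') M hreg hmem n (by simp [hlen'])
      have e : (-((n + 1 : ℕ) : ℤ)) + 1 = -(n : ℤ) := by push_cast; ring
      exact van_right hS W (-((n + 1 : ℕ) : ℤ)) (-(n : ℤ)) e h2 hvan

omit hfin hpos in
theorem maximalIdeal_smul_top_ne_top (M : Type u) [AddCommGroup M] [Module A M]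
    [Module.Finite A M] [Nontrivial M] :
    IsLocalRing.maximalIdeal A • (⊤ : Submodule A M) ≠ ⊤ := by
  intro htop
  have hbot := Submodule.eq_bot_of_le_smul_of_le_jacobson_bot (IsLocalRing.maximalIdeal A)
    (⊤ : Submodule A M) Module.Finite.fg_top (le_of_eq htop.symm)
    (IsLocalRing.maximalIdeal_le_jacobson ⊥)
  exact top_ne_bot hbot

/-- the depth characterisation -/
theorem depth_iff (hk0 : ¬ Van W 0 (ModuleCat.of A (A ⧸ IsLocalRing.maximalIdeal A)))
    (M : Type u) [AddCommGroup M] [Module A M] [Module.Finite A M] [Nontrivial M] (n : ℕ) :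
    LocCoh.depth A M = n ↔
      ((∀ δ : ℕ, δ < n → Van W (-(δ : ℤ)) (ModuleCat.of A M)) ∧
        ¬ Van W (-(n : ℤ)) (ModuleCat.of A M)) := by
  have hne := maximalIdeal_smul_top_ne_top M (A := A)
  have hdepth : LocCoh.depth A M =
      ⨆ (rs : List A) (_ : RingTheory.Sequence.IsWeaklyRegular M rs ∧
        ∀ r ∈ rs, r ∈ IsLocalRing.maximalIdeal A), (rs.length : ℕ∞) := by
    unfold LocCoh.depth LocCoh.idealDepth
    rw [if_neg hne]
  rw [hdepth]
  constructor
  · intro hD
    have ha : ∀ rs : List A, RingTheory.Sequence.IsWeaklyRegular M rs →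
        (∀ r ∈ rs, r ∈ IsLocalRing.maximalIdeal A) → rs.length ≤ n := by
      intro rs h1 h2
      have h3 : (rs.length : ℕ∞) ≤ ⨆ (rs : List A) (_ : RingTheory.Sequence.IsWeaklyRegular M rs ∧
          ∀ r ∈ rs, r ∈ IsLocalRing.maximalIdeal A), (rs.length : ℕ∞) :=
        le_iSup₂ (f := fun (rs : List A) (_ : RingTheory.Sequence.IsWeaklyRegular M rs ∧
          ∀ r ∈ rs, r ∈ IsLocalRing.maximalIdeal A) => (rs.length : ℕ∞)) rs ⟨h1, h2⟩
      rw [hD] at h3
      exact_mod_cast h3
    have hb : ∃ rs : List A, RingTheory.Sequence.IsWeaklyRegular M rs ∧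
        (∀ r ∈ rs, r ∈ IsLocalRing.maximalIdeal A) ∧ rs.length = n := by
      by_contra hcon
      push_neg at hcon
      have hn0 : n ≠ 0 := by
        intro hn0
        exact hcon [] (RingTheory.Sequence.IsWeaklyRegular.nil A M) (by simp) (by simp [hn0])
      have hle : (⨆ (rs : List A) (_ : RingTheory.Sequence.IsWeaklyRegular M rs ∧
          ∀ r ∈ rs, r ∈ IsLocalRing.maximalIdeal A), (rs.length : ℕ∞)) ≤ ((n - 1 : ℕ) : ℕ∞) := by
        refine iSup₂_le fun rs hrs => ?_
        have h1 := ha rs hrs.1 hrs.2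
        have h2 := hcon rs hrs.1 hrs.2
        have h3 : rs.length ≤ n - 1 := by omega
        exact_mod_cast h3
      rw [hD] at hle
      have h4 : n ≤ n - 1 := by exact_mod_cast hle
      omega
    obtain ⟨rs, h1, h2, h3⟩ := hb
    refine ⟨fun δ hδ => van_of_weaklyRegular W hfin hpos rs M h1 h2 δ (by omega), ?_⟩
    exact not_van_of_maximal W hfin hpos hk0 n M rs h1 h2 h3 ha
  · rintro ⟨hv, hn⟩
    have ha : ∀ rs : List A, RingTheory.Sequence.IsWeaklyRegular M rs →
        (∀ r ∈ rs, r ∈ IsLocalRing.maximalIdeal A) → rs.length ≤ n := by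
      intro rs h1 h2
      by_contra hlt
      exact hn (van_of_weaklyRegular W hfin hpos rs M h1 h2 n (by omega))
    -- a sequence of maximal length
    let S : Set ℕ := {l | ∃ rs : List A, RingTheory.Sequence.IsWeaklyRegular M rs ∧
      (∀ r ∈ rs, r ∈ IsLocalRing.maximalIdeal A) ∧ rs.length = l}
    have hS1 : S.Nonempty := ⟨0, [], RingTheory.Sequence.IsWeaklyRegular.nil A M, by simp, rfl⟩
    have hS2 : BddAbove S := ⟨n, by rintro l ⟨rs, h1, h2, rfl⟩; exact ha rs h1 h2⟩
    obtain ⟨rs₀, h1, h2, h3⟩ := Nat.sSup_mem hS1 hS2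
    have hmax : ∀ rs' : List A, RingTheory.Sequence.IsWeaklyRegular M rs' →
        (∀ r ∈ rs', r ∈ IsLocalRing.maximalIdeal A) → rs'.length ≤ sSup S := by
      intro rs' h1' h2'
      exact le_csSup hS2 ⟨rs', h1', h2', rfl⟩
    have hnv := not_van_of_maximal W hfin hpos hk0 (sSup S) M rs₀ h1 h2 h3 hmax
    have hle : sSup S ≤ n := by rw [← h3]; exact ha rs₀ h1 h2
    have hge : n ≤ sSup S := by
      by_contra hlt
      exact hnv (hv (sSup S) (by omega))
    have heq : sSup S = n := le_antisymm hle hge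
    refine le_antisymm (iSup₂_le fun rs hrs => ?_) ?_
    · exact_mod_cast ha rs hrs.1 hrs.2
    · have h4 : (rs₀.length : ℕ∞) ≤ ⨆ (rs : List A)
          (_ : RingTheory.Sequence.IsWeaklyRegular M rs ∧
          ∀ r ∈ rs, r ∈ IsLocalRing.maximalIdeal A), (rs.length : ℕ∞) :=
        le_iSup₂ (f := fun (rs : List A) (_ : RingTheory.Sequence.IsWeaklyRegular M rs ∧
          ∀ r ∈ rs, r ∈ IsLocalRing.maximalIdeal A) => (rs.length : ℕ∞)) rs₀ ⟨h1, h2⟩
      rw [h3, heq] at h4
      exact h4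

end Depth

end Local

end Groth.Agent.H12.DualDepth
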