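import Mathlib
import Groth.Prelude.Def_Wider
import Groth.Agent.H12.DualDepth
import Groth.Agent.H71.DK.Defs
import Groth.Agent.H56.DerCat

/-!
# S0364 squad (helper71): packages (DK4), (DK5), (DK6)

Truncation dévissage for `VanO X W i := ∀ φ : X ⟶ W⟦i⟧, φ = 0` in `D(A)`.
Also: the linear bijection `shiftSingle : Hom(M[-j], W[i]) ≃ Hom(M[0], W[i+j])`,
and the two exactness lemmas `exists_extension`, `eq_zero_of_comp_mor₂` for the first variable
of a distinguished triangle.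
-/

set_option autoImplicit false
universe u
open CategoryTheory CategoryTheory.Limits DerivedCategory Pretriangulated

namespace Groth.Agent.H12.DK456

attribute [local instance] HasDerivedCategory.standard

open Groth.Agent.H12.DualDepth DerivedCategory.TStructure Groth.Agent.H71.DK

variable {A : Type u} [CommRing A]

/-- (DK4) amplitude -/
theorem vanO_self_of_amplitude (X : Dual.D A) (j₀ j₁ : ℤ) [X.IsGE j₀] [X.IsLE j₁] (i : ℤ)
    (hi : i < j₀ - j₁) : VanO X X i := by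
  intro φ
  haveI : t.IsGE (X⟦i⟧) (j₀ - i) := t.isGE_shift X j₀ i (j₀ - i) (by omega)
  exact t.zero_of_isLE_of_isGE φ j₁ (j₀ - i) (by omega) inferInstance inferInstance

/-- `Hom(M[-j], W[i]) → Hom(M[0], W[i+j])` -/
noncomputable def shiftSingle (M : ModuleCat.{u} A) (W : Dual.D A) (i j p : ℤ) (h : i + j = p) :
    ((singleFunctor (ModuleCat.{u} A) j).obj M ⟶ W⟦i⟧) →ₗ[A] (sM M ⟶ W⟦p⟧) :=
  (Linear.rightComp A (sM M) ((shiftFunctorAdd' (Dual.D A) i j p h).inv.app W)) ∘ₗ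
    (Linear.leftComp A ((W⟦i⟧)⟦j⟧)
      (((singleFunctors (ModuleCat.{u} A)).shiftIso j 0 j (by simp)).inv.app M)) ∘ₗ
    ((shiftFunctor (Dual.D A) j).mapLinearMap A)

theorem shiftSingle_apply (M : ModuleCat.{u} A) (W : Dual.D A) (i j p : ℤ) (h : i + j = p)
    (ψ : (singleFunctor (ModuleCat.{u} A) j).obj M ⟶ W⟦i⟧) :
    shiftSingle M W i j p h ψ =
      (((singleFunctors (ModuleCat.{u} A)).shiftIso j 0 j (by simp)).inv.app M ≫ ψ⟦j⟧') ≫
        (shiftFunctorAdd' (Dual.D A) i j p h).inv.app W := rfl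

theorem shiftSingle_injective (M : ModuleCat.{u} A) (W : Dual.D A) (i j p : ℤ) (h : i + j = p) :
    Function.Injective (shiftSingle M W i j p h) := by
  intro ψ ψ' hh
  rw [shiftSingle_apply, shiftSingle_apply] at hh
  have h2 := (cancel_mono _).1 hh
  have h3 := (cancel_epi _).1 h2
  exact (shiftFunctor (Dual.D A) j).map_injective h3

theorem shiftSingle_surjective (M : ModuleCat.{u} A) (W : Dual.D A) (i j p : ℤ) (h : i + j = p) :
    Function.Surjective (shiftSingle M W i j p h) := by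
  intro χ
  obtain ⟨ψ, hψ⟩ := (shiftFunctor (Dual.D A) j).map_surjective
    (((singleFunctors (ModuleCat.{u} A)).shiftIso j 0 j (by simp)).hom.app M ≫ χ ≫
      (shiftFunctorAdd' (Dual.D A) i j p h).hom.app W)
  refine ⟨ψ, ?_⟩
  rw [shiftSingle_apply, hψ]
  simp only [Category.assoc, Iso.hom_inv_id_app, Category.comp_id, Iso.inv_hom_id_app_assoc]

theorem eq_zero_of_van_single (M : ModuleCat.{u} A) (W : Dual.D A) (i j p : ℤ) (h : i + j = p)
    (hv : Van W p M) (ψ : (singleFunctor (ModuleCat.{u} A) j).obj M ⟶ W⟦i⟧) : ψ = 0 := by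
  apply shiftSingle_injective M W i j p h
  rw [map_zero]
  exact hv _

/-- exactness of `Hom(T₂, W[i]) → Hom(T₁, W[i]) → Hom(T₃, W[i+1])` -/
theorem exists_extension {T : Triangle (Dual.D A)} (hT : T ∈ distTriang (Dual.D A))
    (W : Dual.D A) (i j : ℤ) (h : i + 1 = j) (h₃ : VanO T.obj₃ W j) (ψ : T.obj₁ ⟶ W⟦i⟧) :
    ∃ φ : T.obj₂ ⟶ W⟦i⟧, ψ = T.mor₁ ≫ φ := by
  have hT' := rot_of_distTriang _ hT
  have h0 : T.mor₃ ≫ (ψ⟦(1 : ℤ)⟧' ≫ (shiftFunctorAdd' (Dual.D A) i 1 j h).inv.app W) = 0 := h₃ _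
  obtain ⟨χ', hχ'⟩ := Triangle.yoneda_exact₃ _ hT'
    (ψ⟦(1 : ℤ)⟧' ≫ (shiftFunctorAdd' (Dual.D A) i 1 j h).inv.app W) h0
  have hχ'' : ψ⟦(1 : ℤ)⟧' ≫ (shiftFunctorAdd' (Dual.D A) i 1 j h).inv.app W =
      (-(T.mor₁)⟦(1 : ℤ)⟧') ≫ χ' := hχ'
  obtain ⟨φ', hφ'⟩ := exists_shift_eq T.obj₂ W i j h χ'
  refine ⟨-φ', ?_⟩
  apply (shiftFunctor (Dual.D A) (1 : ℤ)).map_injective
  rw [← cancel_mono ((shiftFunctorAdd' (Dual.D A) i 1 j h).inv.app W), hχ'', hφ']
  simp only [Functor.map_comp, Functor.map_neg, Preadditive.neg_comp, Preadditive.comp_neg,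
    Category.assoc]

/-- exactness of `Hom(T₁, W[i-1]) → Hom(T₃, W[i]) → Hom(T₂, W[i])` -/
theorem eq_zero_of_comp_mor₂ {T : Triangle (Dual.D A)} (hT : T ∈ distTriang (Dual.D A))
    (W : Dual.D A) (i' i : ℤ) (h : i' + 1 = i) (h₁ : VanO T.obj₁ W i') (g : T.obj₃ ⟶ W⟦i⟧)
    (hg : T.mor₂ ≫ g = 0) : g = 0 := by
  obtain ⟨θ, hθ⟩ := Triangle.yoneda_exact₃ _ hT g hg
  obtain ⟨ψ, hψ⟩ := exists_shift_eq T.obj₁ W i' i h θ
  rw [hθ, hψ, h₁ ψ, Functor.map_zero, zero_comp, comp_zero]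

theorem vanO_aux (W : Dual.D A) :
    ∀ (n : ℕ) (X : Dual.D A) (j₀ j₁ i : ℤ), j₁ - j₀ < n → X.IsGE j₀ → X.IsLE j₁ →
      (∀ j, j₀ ≤ j → j ≤ j₁ →
        Van W (i + j) ((homologyFunctor (ModuleCat.{u} A) j).obj X)) → VanO X W i := by
  intro n
  induction n with
  | zero =>
    intro X j₀ j₁ i hn hGE hLE _ φ
    have : IsZero X := t.isZero X j₁ j₀ (by omega)
    exact this.eq_of_src _ _
  | succ n ih =>
    intro X j₀ j₁ i hn hGE hLE hyp φ
    by_cases hc : j₁ < j₀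
    · have : IsZero X := t.isZero X j₁ j₀ hc
      exact this.eq_of_src _ _
    · have hT := t.triangleLTGE_distinguished j₁ X
      have h1 : (t.truncLTι j₁).app X ≫ φ = 0 := by
        apply ih ((t.truncLT j₁).obj X) j₀ (j₁ - 1) i (by omega) inferInstance inferInstance
        intro j hj0 hj1
        haveI := Groth.Agent.H56.isIso_homologyMap_truncLTι X j₁ j (by omega)
        exact van_of_iso
          (asIso ((homologyFunctor (ModuleCat.{u} A) j).map ((t.truncLTι j₁).app X))).symm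
          (hyp j hj0 (by omega))
      obtain ⟨g, hg⟩ := Triangle.yoneda_exact₂ _ hT φ h1
      obtain ⟨e⟩ := Groth.Agent.H56.nonempty_iso_single ((t.truncGE j₁).obj X) j₁
      haveI := Groth.Agent.H56.isIso_homologyMap_truncGEπ X j₁ j₁ le_rfl
      have hv : Van W (i + j₁)
          ((homologyFunctor (ModuleCat.{u} A) j₁).obj ((t.truncGE j₁).obj X)) :=
        van_of_iso (asIso ((homologyFunctor (ModuleCat.{u} A) j₁).map ((t.truncGEπ j₁).app X)))
          (hyp j₁ (by omega) le_rfl)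
      have hg0 : e.inv ≫ g = 0 := eq_zero_of_van_single _ W i j₁ _ rfl hv _
      have hgz : g = 0 := (cancel_epi e.inv).1 (hg0.trans comp_zero.symm)
      rw [hg, hgz]
      exact comp_zero

/-- (DK5) dévissage along the canonical truncations -/
theorem vanO_of_van_homology (X W : Dual.D A) (j₀ j₁ : ℤ) [X.IsGE j₀] [X.IsLE j₁] (i : ℤ)
    (h : ∀ j, j₀ ≤ j → j ≤ j₁ →
      Van W (i + j) ((homologyFunctor (ModuleCat.{u} A) j).obj X)) : VanO X W i :=
  vanO_aux W (j₁ - j₀ + 1).toNat X j₀ j₁ i (by omega) inferInstance inferInstance h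

/-- (DK6a) surjection onto `Hom` from the bottom cohomology -/
theorem exists_surjective_bottom (X W : Dual.D A) (j₀ j₁ : ℤ) [X.IsGE j₀] [X.IsLE j₁] (i p : ℤ)
    (hip : i + j₀ = p)
    (h : ∀ j, j₀ < j → j ≤ j₁ →
      Van W (i + 1 + j) ((homologyFunctor (ModuleCat.{u} A) j).obj X)) :
    ∃ q : (X ⟶ W⟦i⟧) →ₗ[A]
        (sM ((homologyFunctor (ModuleCat.{u} A) j₀).obj X) ⟶ W⟦p⟧), Function.Surjective q := by
  have hT := t.triangleLTGE_distinguished (j₀ + 1) X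
  obtain ⟨e⟩ := Groth.Agent.H56.nonempty_iso_single ((t.truncLT (j₀ + 1)).obj X) j₀
  haveI := Groth.Agent.H56.isIso_homologyMap_truncLTι X (j₀ + 1) j₀ (by omega)
  let e' : (singleFunctor (ModuleCat.{u} A) j₀).obj
      ((homologyFunctor (ModuleCat.{u} A) j₀).obj X) ≅ (t.truncLT (j₀ + 1)).obj X :=
    (singleFunctor (ModuleCat.{u} A) j₀).mapIso
      (asIso ((homologyFunctor (ModuleCat.{u} A) j₀).map ((t.truncLTι (j₀ + 1)).app X))).symm ≪≫
      e.symm
  have hv3 : VanO ((t.truncGE (j₀ + 1)).obj X) W (i + 1) := by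
    apply vanO_of_van_homology _ W (j₀ + 1) j₁
    intro j hj0 hj1
    haveI := Groth.Agent.H56.isIso_homologyMap_truncGEπ X (j₀ + 1) j hj0
    exact van_of_iso
      (asIso ((homologyFunctor (ModuleCat.{u} A) j).map ((t.truncGEπ (j₀ + 1)).app X)))
      (h j (by omega) hj1)
  refine ⟨(shiftSingle _ W i j₀ p hip) ∘ₗ
    (Linear.leftComp A (W⟦i⟧) (e'.hom ≫ (t.truncLTι (j₀ + 1)).app X)), ?_⟩
  intro χ
  obtain ⟨ψ, hψ⟩ := shiftSingle_surjective _ W i j₀ p hip χ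
  obtain ⟨φ, hφ⟩ := exists_extension hT W i (i + 1) rfl hv3 (e'.inv ≫ ψ)
  refine ⟨φ, ?_⟩
  have hφ' : e'.inv ≫ ψ = (t.truncLTι (j₀ + 1)).app X ≫ φ := hφ
  have h1 : (e'.hom ≫ (t.truncLTι (j₀ + 1)).app X) ≫ φ = ψ := by
    rw [Category.assoc, ← hφ', Iso.hom_inv_id_assoc]
  show shiftSingle _ W i j₀ p hip ((e'.hom ≫ (t.truncLTι (j₀ + 1)).app X) ≫ φ) = χ
  rw [h1, hψ]

/-- (DK6b) nonvanishing from the top cohomology -/
theorem not_vanO_of_top (X W : Dual.D A) (j₀ j₁ : ℤ) [X.IsGE j₀] [X.IsLE j₁] (i p : ℤ)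
    (hip : i + j₁ = p)
    (h : ∀ j, j₀ ≤ j → j < j₁ →
      Van W (i - 1 + j) ((homologyFunctor (ModuleCat.{u} A) j).obj X))
    (hp : ¬ Van W p ((homologyFunctor (ModuleCat.{u} A) j₁).obj X)) : ¬ VanO X W i := by
  intro hV
  apply hp
  intro χ
  have hT := t.triangleLTGE_distinguished j₁ X
  obtain ⟨e⟩ := Groth.Agent.H56.nonempty_iso_single ((t.truncGE j₁).obj X) j₁
  haveI := Groth.Agent.H56.isIso_homologyMap_truncGEπ X j₁ j₁ le_rfl
  let e' : (t.truncGE j₁).obj X ≅ (singleFunctor (ModuleCat.{u} A) j₁).obj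
      ((homologyFunctor (ModuleCat.{u} A) j₁).obj X) :=
    e ≪≫ (singleFunctor (ModuleCat.{u} A) j₁).mapIso
      (asIso ((homologyFunctor (ModuleCat.{u} A) j₁).map ((t.truncGEπ j₁).app X))).symm
  have hv1 : VanO ((t.truncLT j₁).obj X) W (i - 1) := by
    apply vanO_of_van_homology _ W j₀ (j₁ - 1)
    intro j hj0 hj1
    haveI := Groth.Agent.H56.isIso_homologyMap_truncLTι X j₁ j (by omega)
    exact van_of_iso
      (asIso ((homologyFunctor (ModuleCat.{u} A) j).map ((t.truncLTι j₁).app X))).symm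
      (h j hj0 (by omega))
  obtain ⟨ψ, hψ⟩ := shiftSingle_surjective _ W i j₁ p hip χ
  have h0 : e'.hom ≫ ψ = 0 := eq_zero_of_comp_mor₂ hT W (i - 1) i (by omega) hv1 _ (hV _)
  have hz : ψ = 0 := (cancel_epi e'.hom).1 (h0.trans comp_zero.symm)
  rw [← hψ, hz, map_zero]

end Groth.Agent.H12.DK456
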