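import Mathlib
import Groth.Prelude.Def_Wider
import Groth.Agent.H12.FinExt
import Groth.Agent.H12.DK456
import Groth.Agent.H82.TorFlat

/-!
# The complex `Hom_A(M, J)` and evaluation maps (helper12)

For a cochain complex `J` of `A`-modules and an `A`-module `M`: the complex `homCx J M` with terms
`Hom_A(M, J^n)`, contravariantly functorial in `M` (`homCxMap`), the evaluation chain maps
`evCx J M m : homCx J M ⟶ J`, and exactness in `M` when the terms of `J` are injective.
-/

set_option autoImplicit false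
universe u
open CategoryTheory CategoryTheory.Limits Opposite

namespace Groth.Agent.H12.Bidual

variable {A : Type u} [CommRing A]

/-- `Hom_A(M, -)` -/
noncomputable abbrev HomF (M : ModuleCat.{u} A) : ModuleCat.{u} A ⥤ ModuleCat.{u} A :=
  (linearCoyoneda A (ModuleCat.{u} A)).obj (op M)

/-- `Hom_A(f, -)` -/
noncomputable abbrev HomFmap {M N : ModuleCat.{u} A} (f : M ⟶ N) : HomF N ⟶ HomF M :=
  (linearCoyoneda A (ModuleCat.{u} A)).map f.op

/-- cast -/
def toH {M E : ModuleCat.{u} A} (g : (HomF M).obj E) : M ⟶ E := g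

/-- cast -/
def ofH {M E : ModuleCat.{u} A} (g : M ⟶ E) : (HomF M).obj E := g

theorem HomF_map_apply {M E E' : ModuleCat.{u} A} (d : E ⟶ E') (g : (HomF M).obj E) :
    toH (((HomF M).map d).hom g) = toH g ≫ d := rfl

theorem HomFmap_apply {M N E : ModuleCat.{u} A} (f : M ⟶ N) (g : (HomF N).obj E) :
    toH (((HomFmap f).app E).hom g) = f ≫ toH g := rfl

/-- evaluation at `m` -/
noncomputable def evMod (M E : ModuleCat.{u} A) (m : M) : (HomF M).obj E ⟶ E :=
  ModuleCat.ofHom
    { toFun := fun g => (toH g).hom m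
      map_add' := fun _ _ => rfl
      map_smul' := fun _ _ => rfl }

theorem evMod_apply (M E : ModuleCat.{u} A) (m : M) (g : (HomF M).obj E) :
    (evMod M E m).hom g = (toH g).hom m := rfl

theorem evMod_nat (M : ModuleCat.{u} A) {E E' : ModuleCat.{u} A} (d : E ⟶ E') (m : M) :
    (HomF M).map d ≫ evMod M E' m = evMod M E m ≫ d := by
  ext g
  rfl

theorem evMod_map {M N : ModuleCat.{u} A} (E : ModuleCat.{u} A) (f : M ⟶ N) (m : M) :
    (HomFmap f).app E ≫ evMod M E m = evMod N E (f.hom m) := by
  ext g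
  rfl

theorem evMod_add (M E : ModuleCat.{u} A) (m m' : M) :
    evMod M E (m + m') = evMod M E m + evMod M E m' := by
  ext g
  exact map_add (toH g).hom m m'

theorem evMod_smul (M E : ModuleCat.{u} A) (a : A) (m : M) :
    evMod M E (a • m) = a • evMod M E m := by
  ext g
  exact map_smul (toH g).hom a m

theorem bijective_evMod_one (E : ModuleCat.{u} A) :
    Function.Bijective (evMod (ModuleCat.of A A) E (1 : A)).hom := by
  constructor
  · intro g g' h
    have h' : (toH g).hom (1 : A) = (toH g').hom (1 : A) := h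
    have h2 : toH g = toH g' := by
      apply ModuleCat.hom_ext
      apply LinearMap.ext_ring
      exact h'
    exact h2
  · intro x
    refine ⟨ofH (ModuleCat.ofHom (LinearMap.toSpanSingleton A E x)), ?_⟩
    show (LinearMap.toSpanSingleton A E x) (1 : A) = x
    rw [LinearMap.toSpanSingleton_apply, one_smul]

instance isIso_evMod_one (E : ModuleCat.{u} A) : IsIso (evMod (ModuleCat.of A A) E (1 : A)) :=
  (ConcreteCategory.isIso_iff_bijective _).2 (bijective_evMod_one E)

theorem HomF_zero (S : ShortComplex (ModuleCat.{u} A)) (E : ModuleCat.{u} A) :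
    (HomFmap S.g).app E ≫ (HomFmap S.f).app E = 0 := by
  ext g
  show S.f ≫ (S.g ≫ toH g) = 0
  rw [← Category.assoc, S.zero, zero_comp]

theorem shortExact_HomF {S : ShortComplex (ModuleCat.{u} A)} (hS : S.ShortExact)
    (E : ModuleCat.{u} A) [Injective E] :
    (ShortComplex.mk ((HomFmap S.g).app E) ((HomFmap S.f).app E) (HomF_zero S E)).ShortExact where
  exact := by
    rw [ShortComplex.moduleCat_exact_iff]
    intro x₂ hx₂
    have hx : S.f ≫ toH x₂ = 0 := hx₂
    haveI := hS.epi_g
    refine ⟨ofH (hS.exact.desc (toH x₂) hx), ?_⟩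
    exact hS.exact.g_desc (toH x₂) hx
  mono_f := by
    rw [ModuleCat.mono_iff_injective]
    intro g g' h
    haveI := hS.epi_g
    have h' : S.g ≫ toH g = S.g ≫ toH g' := h
    exact (cancel_epi S.g).1 h'
  epi_g := by
    rw [ModuleCat.epi_iff_surjective]
    intro x₁
    haveI := hS.mono_f
    refine ⟨ofH (Injective.factorThru (toH x₁) S.f), ?_⟩
    exact Injective.comp_factorThru (toH x₁) S.f

section Cx

variable (J : CochainComplex (ModuleCat.{u} A) ℤ)

/-- the complex `Hom_A(M, J)` -/
noncomputable def homCx (M : ModuleCat.{u} A) : CochainComplex (ModuleCat.{u} A) ℤ :=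
  ((HomF M).mapHomologicalComplex (ComplexShape.up ℤ)).obj J

/-- `Hom_A(f, J)` -/
noncomputable def homCxMap {M N : ModuleCat.{u} A} (f : M ⟶ N) : homCx J N ⟶ homCx J M :=
  (NatTrans.mapHomologicalComplex (HomFmap f) (ComplexShape.up ℤ)).app J

theorem homCxMap_f {M N : ModuleCat.{u} A} (f : M ⟶ N) (n : ℤ) :
    (homCxMap J f).f n = (HomFmap f).app (J.X n) := rfl

theorem homCxMap_id (M : ModuleCat.{u} A) : homCxMap J (𝟙 M) = 𝟙 (homCx J M) := by
  ext n : 1
  rw [homCxMap_f]
  ext g
  exact Category.id_comp (toH (M := M) (E := J.X n) g)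

theorem homCxMap_comp {M N P : ModuleCat.{u} A} (f : M ⟶ N) (g : N ⟶ P) :
    homCxMap J (f ≫ g) = homCxMap J g ≫ homCxMap J f := by
  ext n : 1
  rw [HomologicalComplex.comp_f, homCxMap_f, homCxMap_f, homCxMap_f]
  ext x
  exact Category.assoc f g (toH (M := P) (E := J.X n) x)

/-- evaluation at `m` as a chain map -/
noncomputable def evCx (M : ModuleCat.{u} A) (m : M) : homCx J M ⟶ J where
  f n := evMod M (J.X n) m
  comm' i j _ := (evMod_nat M (J.d i j) m).symm

theorem evCx_f (M : ModuleCat.{u} A) (m : M) (n : ℤ) : (evCx J M m).f n = evMod M (J.X n) m := rfl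

theorem evCx_nat {M N : ModuleCat.{u} A} (f : M ⟶ N) (m : M) :
    homCxMap J f ≫ evCx J M m = evCx J N (f.hom m) := by
  ext n : 1
  exact evMod_map (J.X n) f m

theorem evCx_add (M : ModuleCat.{u} A) (m m' : M) :
    evCx J M (m + m') = evCx J M m + evCx J M m' := by
  ext n : 1
  exact evMod_add M (J.X n) m m'

theorem evCx_smul (M : ModuleCat.{u} A) (a : A) (m : M) :
    evCx J M (a • m) = a • evCx J M m := by
  ext n : 1
  exact evMod_smul M (J.X n) a m

instance isIso_evCx_one : IsIso (evCx J (ModuleCat.of A A) (1 : A)) := by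
  haveI : ∀ n : ℤ, IsIso ((evCx J (ModuleCat.of A A) (1 : A)).f n) := fun n =>
    isIso_evMod_one (J.X n)
  exact HomologicalComplex.Hom.isIso_of_components _

/-- the short complex `Hom(X₃, J) → Hom(X₂, J) → Hom(X₁, J)` -/
noncomputable def homSC (S : ShortComplex (ModuleCat.{u} A)) :
    ShortComplex (CochainComplex (ModuleCat.{u} A) ℤ) :=
  ShortComplex.mk (homCxMap J S.g) (homCxMap J S.f) (by
    ext n : 1
    exact HomF_zero S (J.X n))

theorem shortExact_homSC {S : ShortComplex (ModuleCat.{u} A)} (hS : S.ShortExact)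
    [∀ n, Injective (J.X n)] : (homSC J S).ShortExact :=
  HomologicalComplex.shortExact_of_degreewise_shortExact _
    (fun i => shortExact_HomF hS (J.X i))

theorem isZero_homCx_X_of_isZero_src {M : ModuleCat.{u} A} (hM : IsZero M) (n : ℤ) :
    IsZero ((homCx J M).X n) := by
  haveI : Subsingleton ((homCx J M).X n) :=
    ⟨fun g g' => hM.eq_of_src (toH (M := M) (E := J.X n) g) (toH (M := M) (E := J.X n) g')⟩
  exact ModuleCat.isZero_of_subsingleton _

theorem isZero_homCx_X_of_isZero_tgt (M : ModuleCat.{u} A) (n : ℤ) (h : IsZero (J.X n)) :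
    IsZero ((homCx J M).X n) := by
  haveI : Subsingleton ((homCx J M).X n) :=
    ⟨fun g g' => h.eq_of_tgt (toH (M := M) (E := J.X n) g) (toH (M := M) (E := J.X n) g')⟩
  exact ModuleCat.isZero_of_subsingleton _

theorem isZero_homCx {M : ModuleCat.{u} A} (hM : IsZero M) : IsZero (homCx J M) := by
  rw [IsZero.iff_id_eq_zero]
  ext n : 1
  exact (isZero_homCx_X_of_isZero_src J hM n).eq_of_src _ _

end Cx

end Groth.Agent.H12.Bidual
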