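import Groth.Agent.H12.BidualA

/-!
# The duality functor `DD J M = Q(Hom_A(M, J))` in `D(A)` (helper12)

`DD J` is a contravariant functor from `A`-modules to `D(A)` sending short exact sequences to
distinguished triangles (when the terms of `J` are injective); `eta : M → Hom(DD J M, ω)` is the
evaluation map, natural and additive in `M`.
-/

set_option autoImplicit false
universe u
open CategoryTheory CategoryTheory.Limits Opposite DerivedCategory Pretriangulated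

namespace Groth.Agent.H12.Bidual

attribute [local instance] HasDerivedCategory.standard

open DerivedCategory.TStructure

variable {A : Type u} [CommRing A]

theorem comp_smul' {X Y Z : Dual.D A} (f : X ⟶ Y) (c : A) (g : Y ⟶ Z) :
    f ≫ (c • g) = c • (f ≫ g) := Linear.comp_smul _ _ _ f c g

theorem smul_comp' {X Y Z : Dual.D A} (c : A) (f : X ⟶ Y) (g : Y ⟶ Z) :
    (c • f) ≫ g = c • (f ≫ g) := Linear.smul_comp _ _ _ c f g

/-- exactness of `Hom(T₂, V) → Hom(T₁, V) → Hom(T₃, V[1])`, in the form: if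
`Hom(T₃, V[1]) → Hom(T₂, V[1])` is injective then `Hom(T₂, V) → Hom(T₁, V)` is surjective. -/
theorem exists_extension_gen {T : Triangle (Dual.D A)} (hT : T ∈ distTriang (Dual.D A))
    (V V' : Dual.D A) (κ : V⟦(1 : ℤ)⟧ ≅ V')
    (hinj : ∀ ψ : T.obj₃ ⟶ V', T.mor₂ ≫ ψ = 0 → ψ = 0) (ψ : T.obj₁ ⟶ V) :
    ∃ φ : T.obj₂ ⟶ V, ψ = T.mor₁ ≫ φ := by
  have hT' := rot_of_distTriang _ hT
  have h0 : T.mor₃ ≫ (ψ⟦(1 : ℤ)⟧' ≫ κ.hom) = 0 := by
    apply hinj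
    rw [← Category.assoc, comp_distTriang_mor_zero₂₃ _ hT, zero_comp]
  have h0' : T.mor₃ ≫ ψ⟦(1 : ℤ)⟧' = 0 := by
    rw [← cancel_mono κ.hom, Category.assoc, h0, zero_comp]
  obtain ⟨χ', hχ'⟩ : ∃ χ' : (T.obj₂)⟦(1 : ℤ)⟧ ⟶ V⟦(1 : ℤ)⟧,
      ψ⟦(1 : ℤ)⟧' = (-(T.mor₁)⟦(1 : ℤ)⟧') ≫ χ' :=
    Triangle.yoneda_exact₃ _ hT' (ψ⟦(1 : ℤ)⟧') h0'
  obtain ⟨φ', hφ'⟩ : ∃ φ' : T.obj₂ ⟶ V, φ'⟦(1 : ℤ)⟧' = χ' :=
    (shiftFunctor (Dual.D A) (1 : ℤ)).map_surjective χ'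
  refine ⟨-φ', ?_⟩
  apply (shiftFunctor (Dual.D A) (1 : ℤ)).map_injective
  have h3 : (T.mor₁ ≫ (-φ'))⟦(1 : ℤ)⟧' = (-(T.mor₁)⟦(1 : ℤ)⟧') ≫ φ'⟦(1 : ℤ)⟧' := by
    rw [Functor.map_comp, Functor.map_neg, Preadditive.neg_comp, Preadditive.comp_neg]
  rw [h3, hφ']
  exact hχ'

variable (J : CochainComplex (ModuleCat.{u} A) ℤ)

/-- `Q(Hom_A(M, J))` -/
noncomputable def DD (M : ModuleCat.{u} A) : Dual.D A := Q.obj (homCx J M)

/-- contravariant functoriality -/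
noncomputable def DDmap {M N : ModuleCat.{u} A} (f : M ⟶ N) : DD J N ⟶ DD J M :=
  Q.map (homCxMap J f)

theorem DDmap_id (M : ModuleCat.{u} A) : DDmap J (𝟙 M) = 𝟙 (DD J M) := by
  show Q.map (homCxMap J (𝟙 M)) = 𝟙 (Q.obj (homCx J M))
  rw [homCxMap_id, CategoryTheory.Functor.map_id]

theorem DDmap_comp {M N P : ModuleCat.{u} A} (f : M ⟶ N) (g : N ⟶ P) :
    DDmap J (f ≫ g) = DDmap J g ≫ DDmap J f := by
  show Q.map (homCxMap J (f ≫ g)) = Q.map (homCxMap J g) ≫ Q.map (homCxMap J f)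
  rw [homCxMap_comp, Functor.map_comp]

theorem isZero_DD {M : ModuleCat.{u} A} (hM : IsZero M) : IsZero (DD J M) :=
  Functor.map_isZero Q (isZero_homCx J hM)

theorem van_of_isZero {M : ModuleCat.{u} A} (hM : IsZero M) (V : Dual.D A) (φ : DD J M ⟶ V) :
    φ = 0 := (isZero_DD J hM).eq_of_src _ _

theorem van_of_iso {X Y : ModuleCat.{u} A} (ε : X ≅ Y) (V : Dual.D A)
    (h : ∀ φ : DD J Y ⟶ V, φ = 0) : ∀ φ : DD J X ⟶ V, φ = 0 := by
  intro φ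
  have h1 : DDmap J ε.inv ≫ DDmap J ε.hom = 𝟙 (DD J X) := by
    rw [← DDmap_comp, ε.hom_inv_id, DDmap_id]
  calc φ = (DDmap J ε.inv ≫ DDmap J ε.hom) ≫ φ := by rw [h1, Category.id_comp]
    _ = 0 := by rw [Category.assoc, h (DDmap J ε.hom ≫ φ), comp_zero]

theorem isGE_DD (M : ModuleCat.{u} A) (a : ℤ) (hJ : ∀ i : ℤ, i < a → IsZero (J.X i)) :
    (DD J M).IsGE a := by
  haveI : (homCx J M).IsStrictlyGE a := by
    rw [CochainComplex.isStrictlyGE_iff]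
    intro i hi
    exact isZero_homCx_X_of_isZero_tgt J M i (hJ i hi)
  show (Q.obj (homCx J M)).IsGE a
  infer_instance

section SES

variable {S : ShortComplex (ModuleCat.{u} A)} (hS : S.ShortExact) [∀ n, Injective (J.X n)]

include hS

theorem exists_dist :
    ∃ w : DD J S.X₁ ⟶ (DD J S.X₃)⟦(1 : ℤ)⟧,
      Triangle.mk (DDmap J S.g) (DDmap J S.f) w ∈ distTriang (Dual.D A) :=
  ⟨triangleOfSESδ (shortExact_homSC J hS),
    DerivedCategory.triangleOfSES_distinguished (shortExact_homSC J hS)⟩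

theorem exact_mid (V : Dual.D A) (φ₂ : DD J S.X₂ ⟶ V) (h : DDmap J S.g ≫ φ₂ = 0) :
    ∃ φ₁ : DD J S.X₁ ⟶ V, φ₂ = DDmap J S.f ≫ φ₁ := by
  obtain ⟨w, hw⟩ := exists_dist J hS
  exact Triangle.yoneda_exact₂ _ hw φ₂ h

theorem exists_ext (V V' : Dual.D A) (κ : V⟦(1 : ℤ)⟧ ≅ V')
    (hinj : ∀ ψ : DD J S.X₁ ⟶ V', DDmap J S.f ≫ ψ = 0 → ψ = 0) (φ₃ : DD J S.X₃ ⟶ V) :
    ∃ φ₂ : DD J S.X₂ ⟶ V, φ₃ = DDmap J S.g ≫ φ₂ := by
  obtain ⟨w, hw⟩ := exists_dist J hS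
  exact exists_extension_gen hw V V' κ hinj φ₃

theorem van_mid (V : Dual.D A) (h₁ : ∀ φ : DD J S.X₁ ⟶ V, φ = 0)
    (h₃ : ∀ φ : DD J S.X₃ ⟶ V, φ = 0) : ∀ φ : DD J S.X₂ ⟶ V, φ = 0 := by
  intro φ
  obtain ⟨φ₁, rfl⟩ := exact_mid J hS V φ (h₃ _)
  rw [h₁ φ₁, comp_zero]

end SES

variable (ω : Dual.D A) (e : Q.obj J ≅ ω)

/-- evaluation `M → Hom(DD J M, ω)` -/
noncomputable def eta (M : ModuleCat.{u} A) (m : M) : DD J M ⟶ ω :=
  Q.map (evCx J M m) ≫ e.hom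

theorem eta_nat {M N : ModuleCat.{u} A} (f : M ⟶ N) (m : M) :
    DDmap J f ≫ eta J ω e M m = eta J ω e N (f.hom m) := by
  show Q.map (homCxMap J f) ≫ Q.map (evCx J M m) ≫ e.hom = Q.map (evCx J N (f.hom m)) ≫ e.hom
  rw [← Category.assoc, ← Functor.map_comp, evCx_nat]

theorem eta_add (M : ModuleCat.{u} A) (m m' : M) :
    eta J ω e M (m + m') = eta J ω e M m + eta J ω e M m' := by
  show Q.map (evCx J M (m + m')) ≫ e.hom =
    Q.map (evCx J M m) ≫ e.hom + Q.map (evCx J M m') ≫ e.hom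
  rw [evCx_add, Functor.map_add, Preadditive.add_comp]

theorem eta_smul (M : ModuleCat.{u} A) (a : A) (m : M) :
    eta J ω e M (a • m) = a • eta J ω e M m := by
  show Q.map (evCx J M (a • m)) ≫ e.hom = a • (Q.map (evCx J M m) ≫ e.hom)
  rw [evCx_smul, Functor.map_smul, smul_comp']

/-- `eta` as an additive map -/
noncomputable def etaHom (M : ModuleCat.{u} A) : M →+ (DD J M ⟶ ω) :=
  AddMonoidHom.mk' (eta J ω e M) (eta_add J ω e M)

theorem etaHom_apply (M : ModuleCat.{u} A) (m : M) : etaHom J ω e M m = eta J ω e M m := rfl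

theorem eta_zero (M : ModuleCat.{u} A) : eta J ω e M 0 = 0 := (etaHom J ω e M).map_zero

theorem eta_sub (M : ModuleCat.{u} A) (m m' : M) :
    eta J ω e M (m - m') = eta J ω e M m - eta J ω e M m' := (etaHom J ω e M).map_sub m m'

include e in
theorem van_large (a b : ℤ) (hJ : ∀ i : ℤ, i < a ∨ b < i → IsZero (J.X i))
    (hinj : ∀ i : ℤ, Injective (J.X i)) (M : ModuleCat.{u} A) (i : ℤ) (hi : b - a < i)
    (φ : DD J M ⟶ ω⟦i⟧) : φ = 0 := by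
  haveI := isGE_DD J M a (fun i hi => hJ i (Or.inl hi))
  exact FinExt.hom_shift_eq_zero_of_isGE J a b hJ hinj (DD J M) a i (by omega) ω e.symm φ

/-- `DD J A ≅ ω` -/
noncomputable def uA : DD J (ModuleCat.of A A) ≅ ω :=
  Q.mapIso (@asIso _ _ _ _ (evCx J (ModuleCat.of A A) (1 : A)) (isIso_evCx_one J)) ≪≫ e

theorem eta_A (a : A) : eta J ω e (ModuleCat.of A A) a = a • (uA J ω e).hom := by
  have h1 : eta J ω e (ModuleCat.of A A) (a • (1 : A)) =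
      a • eta J ω e (ModuleCat.of A A) (1 : A) := eta_smul J ω e (ModuleCat.of A A) a (1 : A)
  have h2 : a • (1 : A) = a := by rw [smul_eq_mul, mul_one]
  rw [h2] at h1
  exact h1

include e in
theorem van_A (hω : ∀ i : ℤ, i ≠ 0 → ∀ f : ω ⟶ ω⟦i⟧, f = 0) (i : ℤ) (hi : i ≠ 0)
    (φ : DD J (ModuleCat.of A A) ⟶ ω⟦i⟧) : φ = 0 := by
  have h := hω i hi ((uA J ω e).inv ≫ φ)
  exact (cancel_epi (uA J ω e).inv).1 (h.trans comp_zero.symm)

theorem eta_A_bijective (hb : Function.Bijective (fun a : A => a • 𝟙 ω)) :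
    Function.Bijective (eta J ω e (ModuleCat.of A A)) := by
  constructor
  · intro a a' h
    rw [eta_A, eta_A] at h
    apply hb.1
    show a • 𝟙 ω = a' • 𝟙 ω
    have h2 : (uA J ω e).inv ≫ (a • (uA J ω e).hom) = (uA J ω e).inv ≫ (a' • (uA J ω e).hom) := by
      rw [h]
    rw [comp_smul', comp_smul', Iso.inv_hom_id] at h2
    exact h2
  · intro φ
    obtain ⟨a, ha⟩ := hb.2 ((uA J ω e).inv ≫ φ)
    refine ⟨a, ?_⟩
    rw [eta_A]
    have ha' : a • 𝟙 ω = (uA J ω e).inv ≫ φ := ha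
    calc a • (uA J ω e).hom = (uA J ω e).hom ≫ (a • 𝟙 ω) := by
          rw [comp_smul', Category.comp_id]
      _ = φ := by rw [ha', Iso.hom_inv_id_assoc]

end Groth.Agent.H12.Bidual
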