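import Groth.Agent.H12.BidualB

/-!
# Biduality for finite modules, in `Hom`-form (helper12)

`A` Noetherian, `J` a bounded complex of injective `A`-modules with `Q(J) ≅ ω`,
`A → End(ω)` bijective and `Hom(ω, ω[i]) = 0` for `i ≠ 0`.  Then for every finite `A`-module `N`:
`Hom(DD J N, ω[i]) = 0` for `i ≠ 0` and `eta : N → Hom(DD J N, ω)` is bijective
(`biduality`).
-/

set_option autoImplicit false
universe u
open CategoryTheory CategoryTheory.Limits Opposite DerivedCategory Pretriangulated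

namespace Groth.Agent.H12.Bidual

attribute [local instance] HasDerivedCategory.standard

variable {A : Type u} [CommRing A]

/-- dévissage for finite modules over a Noetherian ring -/
theorem devissage [IsNoetherianRing A] (P : ModuleCat.{u} A → Prop)
    (hiso : ∀ X Y : ModuleCat.{u} A, (X ≅ Y) → P Y → P X)
    (hzero : ∀ X : ModuleCat.{u} A, IsZero X → P X)
    (hquot : ∀ p : Ideal A, p.IsPrime → P (ModuleCat.of A (A ⧸ p)))
    (hext : ∀ S : ShortComplex (ModuleCat.{u} A), S.ShortExact → P S.X₁ → P S.X₃ → P S.X₂)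
    (N : Type u) [AddCommGroup N] [Module A N] [hN : Module.Finite A N] :
    P (ModuleCat.of A N) := by
  induction hN using IsNoetherianRing.induction_on_isQuotientEquivQuotientPrime A with
  | subsingleton N => exact hzero _ (ModuleCat.isZero_of_subsingleton _)
  | quotient N p f => exact hiso _ _ f.toModuleIso (hquot p.1 p.2)
  | exact N₁ N₂ N₃ f g hf hg hfg h₁ h₃ =>
    exact hext _ (Groth.Agent.H82.TorFlat.shortExact_of f g hf hg hfg) h₁ h₃

/-- `0 → p → A → A/p → 0` -/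
noncomputable def quotS (p : Ideal A) : ShortComplex (ModuleCat.{u} A) :=
  ModuleCat.shortComplexOfCompEqZero (Submodule.subtype p) (Submodule.mkQ p)
    (LinearMap.exact_subtype_mkQ p).linearMap_comp_eq_zero

theorem quotS_shortExact (p : Ideal A) : (quotS p).ShortExact :=
  Groth.Agent.H82.TorFlat.shortExact_of (Submodule.subtype p) (Submodule.mkQ p)
    (Submodule.subtype_injective p) (Submodule.mkQ_surjective p) (LinearMap.exact_subtype_mkQ p)

section Main

variable [IsNoetherianRing A] (J : CochainComplex (ModuleCat.{u} A) ℤ) [∀ n, Injective (J.X n)]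
  (ω : Dual.D A) (e : Q.obj J ≅ ω)
  (hext0 : ∀ i : ℤ, i ≠ 0 → ∀ f : ω ⟶ ω⟦i⟧, f = 0)
  (hend : Function.Bijective (fun a : A => a • 𝟙 ω))

/-- vanishing passes from `A` to `A/p` -/
theorem van_quot (p : Ideal A) (V V' : Dual.D A) (κ : V⟦(1 : ℤ)⟧ ≅ V')
    (hinj : ∀ ψ : DD J (ModuleCat.of A p) ⟶ V', DDmap J (quotS p).f ≫ ψ = 0 → ψ = 0)
    (hA : ∀ φ : DD J (ModuleCat.of A A) ⟶ V, φ = 0) :
    ∀ φ : DD J (ModuleCat.of A (A ⧸ p)) ⟶ V, φ = 0 := by
  intro φ
  obtain ⟨φ₂, hφ₂⟩ := exists_ext J (quotS_shortExact p) V V' κ hinj φ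
  have h2 : φ₂ = 0 := hA φ₂
  exact hφ₂.trans ((congrArg (fun t => DDmap J (quotS p).g ≫ t) h2).trans comp_zero)

theorem van_devissage (V : Dual.D A)
    (hq : ∀ p : Ideal A, p.IsPrime → ∀ φ : DD J (ModuleCat.of A (A ⧸ p)) ⟶ V, φ = 0)
    (N : Type u) [AddCommGroup N] [Module A N] [Module.Finite A N] :
    ∀ φ : DD J (ModuleCat.of A N) ⟶ V, φ = 0 :=
  devissage (fun X => ∀ φ : DD J X ⟶ V, φ = 0)
    (fun _ _ ε h => van_of_iso J ε V h)
    (fun _ hX φ => van_of_isZero J hX V φ)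
    hq
    (fun _ hS h₁ h₃ => van_mid J hS V h₁ h₃) N

include e hext0 in
theorem step (i : ℤ) (hi : i ≠ 0)
    (IH : ∀ (N : Type u) [AddCommGroup N] [Module A N] [Module.Finite A N],
      ∀ φ : DD J (ModuleCat.of A N) ⟶ ω⟦i + 1⟧, φ = 0)
    (N : Type u) [AddCommGroup N] [Module A N] [Module.Finite A N] :
    ∀ φ : DD J (ModuleCat.of A N) ⟶ ω⟦i⟧, φ = 0 := by
  apply van_devissage J (ω⟦i⟧)
  intro p hp
  exact van_quot J p (ω⟦i⟧) (ω⟦i + 1⟧)
    ((shiftFunctorAdd' (Dual.D A) i 1 (i + 1) rfl).symm.app ω)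
    (fun ψ _ => IH p ψ) (van_A J ω e hext0 i hi)

include e hext0 in
theorem pos_aux (a b : ℤ) (hJ : ∀ i : ℤ, i < a ∨ b < i → IsZero (J.X i)) :
    ∀ (k : ℕ) (i : ℤ), 1 ≤ i → b - a < i + k →
      ∀ (N : Type u) [AddCommGroup N] [Module A N] [Module.Finite A N],
        ∀ φ : DD J (ModuleCat.of A N) ⟶ ω⟦i⟧, φ = 0 := by
  intro k
  induction k with
  | zero =>
    intro i hi hk N _ _ _ φ
    exact van_large J ω e a b hJ (fun i => inferInstance) _ i (by simpa using hk) φ
  | succ k ih =>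
    intro i hi hk N _ _ _
    exact step J ω e hext0 i (by omega)
      (fun N' _ _ _ => ih (i + 1) (by omega) (by push_cast at hk ⊢; omega) N') N

include hend in
theorem eta_surj
    (h1 : ∀ (N : Type u) [AddCommGroup N] [Module A N] [Module.Finite A N],
      ∀ φ : DD J (ModuleCat.of A N) ⟶ ω⟦(1 : ℤ)⟧, φ = 0)
    (N : Type u) [AddCommGroup N] [Module A N] [Module.Finite A N] :
    Function.Surjective (eta J ω e (ModuleCat.of A N)) := by
  refine devissage (fun X => Function.Surjective (eta J ω e X)) ?_ ?_ ?_ ?_ N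
  · intro X Y ε h φ
    obtain ⟨y, hy⟩ := h (DDmap J ε.hom ≫ φ)
    refine ⟨ε.inv.hom y, ?_⟩
    have h1 : DDmap J ε.inv ≫ DDmap J ε.hom = 𝟙 (DD J X) := by
      rw [← DDmap_comp, ε.hom_inv_id, DDmap_id]
    calc eta J ω e X (ε.inv.hom y) = DDmap J ε.inv ≫ eta J ω e Y y :=
          (eta_nat J ω e ε.inv y).symm
      _ = (DDmap J ε.inv ≫ DDmap J ε.hom) ≫ φ := by rw [hy, Category.assoc]
      _ = φ := by rw [h1, Category.id_comp]
  · intro X hX φ
    exact ⟨0, (van_of_isZero J hX ω _).trans (van_of_isZero J hX ω φ).symm⟩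
  · intro p hp φ
    obtain ⟨φ₂, hφ₂⟩ := exists_ext J (quotS_shortExact p) ω (ω⟦(1 : ℤ)⟧) (Iso.refl _)
      (fun ψ _ => h1 p ψ) φ
    obtain ⟨a, ha⟩ := (eta_A_bijective J ω e hend).2 φ₂
    refine ⟨(quotS p).g.hom a, ?_⟩
    exact ((eta_nat J ω e (quotS p).g a).symm.trans
      ((congrArg (fun t => DDmap J (quotS p).g ≫ t) ha).trans hφ₂.symm))
  · intro S hS h₁ h₃ φ
    obtain ⟨x₃, hx₃⟩ := h₃ (DDmap J S.g ≫ φ)
    obtain ⟨x₂, hx₂⟩ := (ModuleCat.epi_iff_surjective S.g).1 hS.epi_g x₃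
    have hx₂' : S.g.hom x₂ = x₃ := hx₂
    have h0 : DDmap J S.g ≫ (φ - eta J ω e S.X₂ x₂) = 0 := by
      rw [Preadditive.comp_sub, eta_nat, hx₂', hx₃, sub_self]
    obtain ⟨φ₁, hφ₁⟩ := exact_mid J hS ω _ h0
    obtain ⟨x₁, hx₁⟩ := h₁ φ₁
    refine ⟨x₂ + S.f.hom x₁, ?_⟩
    rw [eta_add, ← eta_nat J ω e S.f x₁, hx₁, ← hφ₁]
    abel

include hend in
theorem eta_inj_free (n : ℕ) :
    Function.Injective (eta J ω e (ModuleCat.of A (Fin n → A))) := by
  intro x y h
  funext k
  let pk : ModuleCat.of A (Fin n → A) ⟶ ModuleCat.of A A :=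
    ModuleCat.ofHom (LinearMap.proj k)
  have h1 : eta J ω e (ModuleCat.of A A) (pk.hom x) = eta J ω e (ModuleCat.of A A) (pk.hom y) := by
    rw [← eta_nat J ω e pk x, ← eta_nat J ω e pk y, h]
  exact (eta_A_bijective J ω e hend).1 h1

include hend in
theorem eta_inj
    (hsurj : ∀ (N : Type u) [AddCommGroup N] [Module A N] [Module.Finite A N],
      Function.Surjective (eta J ω e (ModuleCat.of A N)))
    (N : Type u) [AddCommGroup N] [Module A N] [Module.Finite A N] :
    Function.Injective (eta J ω e (ModuleCat.of A N)) := by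
  obtain ⟨n, g, hg⟩ := Module.Finite.exists_fin' A N
  have hS := Groth.Agent.H82.TorFlat.shortExact_of (Submodule.subtype (LinearMap.ker g)) g
    (Submodule.subtype_injective _) hg (LinearMap.exact_subtype_ker_map g)
  obtain ⟨S, hSdef⟩ : ∃ S : ShortComplex (ModuleCat.{u} A), S =
      ModuleCat.shortComplexOfCompEqZero (Submodule.subtype (LinearMap.ker g)) g
        (LinearMap.exact_subtype_ker_map g).linearMap_comp_eq_zero := ⟨_, rfl⟩
  have key : ∀ z : N, eta J ω e (ModuleCat.of A N) z = 0 → z = 0 := by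
    intro z hz
    obtain ⟨w, rfl⟩ := hg z
    have h1 : DDmap J (ModuleCat.ofHom g) ≫ eta J ω e (ModuleCat.of A (Fin n → A)) w = 0 :=
      (eta_nat J ω e (ModuleCat.ofHom g) w).trans hz
    obtain ⟨φ₁, hφ₁⟩ := exact_mid J hS ω _ h1
    obtain ⟨k, hk⟩ := hsurj (LinearMap.ker g) φ₁
    have h2 : eta J ω e (ModuleCat.of A (Fin n → A)) w =
        eta J ω e (ModuleCat.of A (Fin n → A)) (k : Fin n → A) :=
      hφ₁.trans ((congrArg (fun t => DDmap J
        (ModuleCat.ofHom (Submodule.subtype (LinearMap.ker g))) ≫ t) hk.symm).trans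
        (eta_nat J ω e (ModuleCat.ofHom (Submodule.subtype (LinearMap.ker g))) k))
    have h3 : w = (k : Fin n → A) := eta_inj_free J ω e hend n h2
    rw [h3]
    exact k.2
  intro x y h
  have h0 := key (x - y) (by rw [eta_sub, h, sub_self])
  exact sub_eq_zero.1 h0

include e hext0 hend in
theorem neg_one
    (hbij : ∀ (N : Type u) [AddCommGroup N] [Module A N] [Module.Finite A N],
      Function.Bijective (eta J ω e (ModuleCat.of A N)))
    (N : Type u) [AddCommGroup N] [Module A N] [Module.Finite A N] :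
    ∀ φ : DD J (ModuleCat.of A N) ⟶ ω⟦(-1 : ℤ)⟧, φ = 0 := by
  apply van_devissage J (ω⟦(-1 : ℤ)⟧)
  intro p hp
  refine van_quot J p (ω⟦(-1 : ℤ)⟧) ω
    ((shiftFunctorCompIsoId (Dual.D A) (-1 : ℤ) 1 (by omega)).app ω) ?_
    (van_A J ω e hext0 (-1) (by omega))
  intro ψ hψ
  obtain ⟨x, rfl⟩ := (hbij p).2 ψ
  have h1 : eta J ω e (ModuleCat.of A A) ((quotS p).f.hom x) = 0 :=
    (eta_nat J ω e (quotS p).f x).symm.trans hψ
  have h2 : (quotS p).f.hom x = 0 :=
    (eta_A_bijective J ω e hend).1 (h1.trans (eta_zero J ω e _).symm)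
  have h3 : x = 0 := Subtype.ext h2
  rw [h3]
  exact eta_zero J ω e _

include e hext0 hend in
theorem neg_aux
    (hbij : ∀ (N : Type u) [AddCommGroup N] [Module A N] [Module.Finite A N],
      Function.Bijective (eta J ω e (ModuleCat.of A N))) :
    ∀ (k : ℕ) (i : ℤ), i = -1 - k →
      ∀ (N : Type u) [AddCommGroup N] [Module A N] [Module.Finite A N],
        ∀ φ : DD J (ModuleCat.of A N) ⟶ ω⟦i⟧, φ = 0 := by
  intro k
  induction k with
  | zero =>
    intro i hi N _ _ _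
    have hi' : i = -1 := by simpa using hi
    subst hi'
    exact neg_one J ω e hext0 hend hbij N
  | succ k ih =>
    intro i hi N _ _ _
    exact step J ω e hext0 i (by push_cast at hi; omega)
      (fun N' _ _ _ => ih (i + 1) (by push_cast at hi ⊢; omega) N') N

include hext0 hend in
/-- biduality for finite modules -/
theorem biduality (a b : ℤ) (hJ : ∀ i : ℤ, i < a ∨ b < i → IsZero (J.X i))
    (N : Type u) [AddCommGroup N] [Module A N] [Module.Finite A N] :
    (∀ i : ℤ, i ≠ 0 → ∀ φ : DD J (ModuleCat.of A N) ⟶ ω⟦i⟧, φ = 0) ∧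
      Function.Bijective (eta J ω e (ModuleCat.of A N)) := by
  have hpos : ∀ i : ℤ, 1 ≤ i →
      ∀ (N : Type u) [AddCommGroup N] [Module A N] [Module.Finite A N],
        ∀ φ : DD J (ModuleCat.of A N) ⟶ ω⟦i⟧, φ = 0 := by
    intro i hi N _ _ _
    exact pos_aux J ω e hext0 a b hJ (b - a + 1 - i).toNat i hi (by omega) N
  have hsurj := fun (N : Type u) [AddCommGroup N] [Module A N] [Module.Finite A N] =>
    eta_surj J ω e hend (hpos 1 le_rfl) N
  have hbij : ∀ (N : Type u) [AddCommGroup N] [Module A N] [Module.Finite A N],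
      Function.Bijective (eta J ω e (ModuleCat.of A N)) := fun N _ _ _ =>
    ⟨eta_inj J ω e hend (fun N' _ _ _ => hsurj N') N, hsurj N⟩
  refine ⟨fun i hi => ?_, hbij N⟩
  rcases lt_or_gt_of_ne hi with h | h
  · exact neg_aux J ω e hext0 hend hbij (-1 - i).toNat i (by omega) N
  · exact hpos i (by omega) N

end Main

end Groth.Agent.H12.Bidual
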