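import Groth.Agent.H12.BidualC
import Groth.Agent.H12.AdjFin
import Groth.Agent.H5.KInj.DerivedAdj
import Groth.Prelude.Def_DDual2

/-!
# `R(ω)|_A ≅ DD J B` for a right adjoint `R` of restriction of scalars (helper12)

For `A → B` and any right adjoint `R` of `D(B) ⥤ D(A)`: if `J` is a K-injective complex with
`Q(J) ≅ ω`, then `R(ω)` restricted to `A` is `Q(Hom_A(B, J))`, compatibly with the `B`-action and the
counit (`exists_model`).
-/

set_option autoImplicit false
universe u
open CategoryTheory CategoryTheory.Limits Opposite DerivedCategory Pretriangulated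

namespace Groth.Agent.H12.Bidual

attribute [local instance] HasDerivedCategory.standard

section Mod

variable (A B : Type u) [CommRing A] [CommRing B] [Algebra A B]

/-- restriction of scalars -/
noncomputable abbrev Fr : ModuleCat.{u} B ⥤ ModuleCat.{u} A :=
  ModuleCat.restrictScalars.{u} (algebraMap A B)

/-- coextension of scalars -/
noncomputable abbrev Gc : ModuleCat.{u} A ⥤ ModuleCat.{u} B :=
  ModuleCat.coextendScalars.{u, u, u} (algebraMap A B)

/-- the adjunction -/
noncomputable abbrev adjM : Fr A B ⊣ Gc A B :=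
  ModuleCat.restrictCoextendScalarsAdj.{u, u, u} (algebraMap A B)

instance : (Gc A B).Additive := (adjM A B).right_adjoint_additive

/-- `B` as an `A`-module -/
noncomputable def BA : ModuleCat.{u} A :=
  (ModuleCat.restrictScalars.{u} (algebraMap A B)).obj (ModuleCat.of B B)

variable {A B}

/-- cast -/
def ofB (b : B) : BA A B := b

/-- cast -/
def toB (x : BA A B) : B := x

theorem smul_ofB (a : A) (b : B) : a • ofB (A := A) b = ofB (algebraMap A B a * b) := rfl

/-- cast -/
def toCo (E : ModuleCat.{u} A) (g : (Fr A B).obj ((Gc A B).obj E)) : BA A B →ₗ[A] E := g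

/-- cast -/
def ofCo (E : ModuleCat.{u} A) (g : BA A B →ₗ[A] E) : (Fr A B).obj ((Gc A B).obj E) := g

theorem toCo_smulB (E : ModuleCat.{u} A) (b : B) (g : (Gc A B).obj E) (x : B) :
    toCo E (show (Fr A B).obj ((Gc A B).obj E) from b • g) (ofB x) =
      toCo E (show (Fr A B).obj ((Gc A B).obj E) from g) (ofB (x * b)) := rfl

theorem toCo_smulA (E : ModuleCat.{u} A) (a : A) (g : (Fr A B).obj ((Gc A B).obj E)) (x : B) :
    toCo E (a • g) (ofB x) = toCo E g (ofB (x * algebraMap A B a)) := rfl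

/-- `Hom_A(B, E)|_A ≅ Hom_A(B_A, E)` -/
noncomputable def kLin (E : ModuleCat.{u} A) :
    (Fr A B).obj ((Gc A B).obj E) ≃ₗ[A] (HomF (BA A B)).obj E where
  toFun g := ofH (ModuleCat.ofHom (X := BA A B) (Y := E) (toCo E g))
  invFun h := ofCo E (toH h).hom
  map_add' := fun _ _ => rfl
  map_smul' := fun a g => by
    show ofH (ModuleCat.ofHom (X := BA A B) (Y := E) (toCo E (a • g))) = a • ofH (ModuleCat.ofHom (X := BA A B) (Y := E) (toCo E g))
    have h1 : toCo E (a • g) = a • toCo E g := by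
      apply LinearMap.ext
      intro x
      obtain ⟨x, rfl⟩ : ∃ x' : B, ofB x' = x := ⟨toB x, rfl⟩
      rw [toCo_smulA, LinearMap.smul_apply, ← map_smul, smul_ofB, mul_comm]
    rw [h1]
    rfl
  left_inv := fun _ => rfl
  right_inv := fun _ => rfl

theorem kLin_apply (E : ModuleCat.{u} A) (g : (Fr A B).obj ((Gc A B).obj E)) :
    toH (kLin E g) = ModuleCat.ofHom (X := BA A B) (Y := E) (toCo E g) := rfl

theorem kLin_nat {E E' : ModuleCat.{u} A} (d : E ⟶ E') :
    (Fr A B).map ((Gc A B).map d) ≫ (kLin (B := B) E').toModuleIso.hom =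
      (kLin (B := B) E).toModuleIso.hom ≫ (HomF (BA A B)).map d := by
  apply ModuleCat.hom_ext
  apply LinearMap.ext
  intro g
  rfl

theorem key_mod (E : ModuleCat.{u} A) (b : B) :
    (Fr A B).map (b • 𝟙 ((Gc A B).obj E)) ≫ (adjM A B).counit.app E =
      (kLin (B := B) E).toModuleIso.hom ≫ evMod (BA A B) E (ofB b) := by
  apply ModuleCat.hom_ext
  apply LinearMap.ext
  intro g
  show toCo E (show (Fr A B).obj ((Gc A B).obj E) from
      b • (show (Gc A B).obj E from g)) (ofB 1) = toCo E g (ofB b)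
  rw [toCo_smulB, one_mul]

end Mod

section Cx

variable {A B : Type u} [CommRing A] [CommRing B] [Algebra A B]
  (J : CochainComplex (ModuleCat.{u} A) ℤ)

/-- `Hom_A(B, J)` with its `B`-module structure -/
noncomputable abbrev GJ : CochainComplex (ModuleCat.{u} B) ℤ :=
  ((Gc A B).mapHomologicalComplex (ComplexShape.up ℤ)).obj J

/-- `Hom_A(B, J)|_A ≅ homCx J B_A` -/
noncomputable def kap :
    ((Fr A B).mapHomologicalComplex (ComplexShape.up ℤ)).obj (GJ (B := B) J) ≅
      homCx J (BA A B) :=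
  HomologicalComplex.Hom.isoOfComponents (fun n => (kLin (B := B) (J.X n)).toModuleIso)
    (fun i j _ => (kLin_nat (B := B) (J.d i j)).symm)

theorem key_cx (b : B) :
    ((Fr A B).mapHomologicalComplex (ComplexShape.up ℤ)).map (b • 𝟙 (GJ (B := B) J)) ≫
      (H5.KInjDer.adjC (adjM A B) (ComplexShape.up ℤ)).counit.app J =
      (kap (B := B) J).hom ≫ evCx J (BA A B) (ofB b) := by
  ext n : 1
  exact key_mod (J.X n) b

end Cx

theorem assemble {C : Type*} [Category C] {X0 X1 X2 X3 X4 : C}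
    (k : X0 ⟶ X1) (fi : X1 ⟶ X2) (fh : X2 ⟶ X1) (t : X2 ⟶ X3) (s : X3 ⟶ X3) (s' : X2 ⟶ X2)
    (c : X3 ⟶ X4) (m : X1 ⟶ X1) (n : X1 ⟶ X4)
    (hfi : fi ≫ fh = 𝟙 X1) (H1 : t ≫ s = s' ≫ t) (H2 : t ≫ c = fh ≫ n)
    (H3 : s' ≫ fh = fh ≫ m) :
    (k ≫ fi ≫ t) ≫ s ≫ c = k ≫ m ≫ n := by
  calc (k ≫ fi ≫ t) ≫ s ≫ c = k ≫ fi ≫ (t ≫ s) ≫ c := by simp only [Category.assoc]
    _ = k ≫ fi ≫ s' ≫ (t ≫ c) := by rw [H1]; simp only [Category.assoc]
    _ = k ≫ fi ≫ (s' ≫ fh) ≫ n := by rw [H2]; simp only [Category.assoc]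
    _ = k ≫ (fi ≫ fh) ≫ m ≫ n := by rw [H3]; simp only [Category.assoc]
    _ = k ≫ m ≫ n := by rw [hfi, Category.id_comp]

section Derived

variable {A B : Type u} [CommRing A] [CommRing B] [Algebra A B]

theorem exists_model (R : Dual.D A ⥤ Dual.D B)
    (adj : DRing.restrictD (algebraMap A B) ⊣ R) (ω : Dual.D A)
    (J : CochainComplex (ModuleCat.{u} A) ℤ) [J.IsKInjective] (e : Q.obj J ≅ ω) :
    ∃ z : DD J (BA A B) ≅ (DRing.restrictD (algebraMap A B)).obj (R.obj ω),
      ∀ b : B, z.hom ≫ (DRing.restrictD (algebraMap A B)).map (b • 𝟙 (R.obj ω)) ≫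
        adj.counit.app ω = eta J ω e (BA A B) (ofB b) := by
  let X : CochainComplex (ModuleCat.{u} A) ℤ ⥤ Dual.D B :=
    (Gc A B).mapHomologicalComplex (ComplexShape.up ℤ) ⋙ Q
  have hX := H5.KInjDer.inverts_map_Q (A := ModuleCat.{u} B) (Gc A B)
  haveI := (H5.KInjDer.derives X hX).hasPointwiseRightDerivedFunctor
  let RG := X.totalRightDerived Q (H5.KInjDer.Wq (ModuleCat.{u} A))
  let α : X ⟶ Q ⋙ RG := X.totalRightDerivedUnit Q (H5.KInjDer.Wq (ModuleCat.{u} A))
  obtain ⟨adjD, hfac⟩ := H5.KInjDer.exists_derivedAdj (adjM A B) RG α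
  let uniq : R ≅ RG := adj.rightAdjointUniq adjD
  haveI : IsIso (α.app J) := H5.KInjDer.isIso_app_of_isKInjective X hX α J
  let θ : Q.obj (GJ (B := B) J) ≅ R.obj ω :=
    (asIso (α.app J)) ≪≫ RG.mapIso e ≪≫ (uniq.app ω).symm
  let fac := (Fr A B).mapDerivedCategoryFactors
  let z : DD J (BA A B) ≅ (DRing.restrictD (algebraMap A B)).obj (R.obj ω) :=
    Q.mapIso (kap (B := B) J).symm ≪≫ (fac.app (GJ (B := B) J)).symm ≪≫
      (DRing.restrictD (algebraMap A B)).mapIso θ
  refine ⟨z, fun b => ?_⟩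
  -- H1
  have H1 : (DRing.restrictD (algebraMap A B)).map θ.hom ≫
      (DRing.restrictD (algebraMap A B)).map (b • 𝟙 (R.obj ω)) =
      (DRing.restrictD (algebraMap A B)).map (b • 𝟙 (Q.obj (GJ (B := B) J))) ≫
        (DRing.restrictD (algebraMap A B)).map θ.hom := by
    rw [← Functor.map_comp, ← Functor.map_comp]
    congr 1
    rw [comp_smul', smul_comp', Category.comp_id, Category.id_comp]
  -- H2
  have h2a : (DRing.restrictD (algebraMap A B)).map (uniq.inv.app ω) ≫ adj.counit.app ω =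
      adjD.counit.app ω := by
    have h := Adjunction.rightAdjointUniq_hom_app_counit adj adjD ω
    rw [← h, ← Category.assoc, ← Functor.map_comp]
    have h' : uniq.inv.app ω ≫ (adj.rightAdjointUniq adjD).hom.app ω = 𝟙 _ :=
      uniq.inv_hom_id_app ω
    rw [h', CategoryTheory.Functor.map_id, Category.id_comp]
  have h2b : (DRing.restrictD (algebraMap A B)).map (RG.map e.hom) ≫ adjD.counit.app ω =
      adjD.counit.app (Q.obj J) ≫ e.hom := adjD.counit.naturality e.hom
  have H2 : (DRing.restrictD (algebraMap A B)).map θ.hom ≫ adj.counit.app ω =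
      (fac.app (GJ (B := B) J)).hom ≫
        (Q.map ((H5.KInjDer.adjC (adjM A B) (ComplexShape.up ℤ)).counit.app J) ≫ e.hom) := by
    have hθ : θ.hom = α.app J ≫ RG.map e.hom ≫ uniq.inv.app ω := rfl
    rw [hθ, Functor.map_comp, Functor.map_comp, Category.assoc, Category.assoc, h2a, h2b,
      ← Category.assoc, hfac J, Category.assoc]
    rfl
  -- H3
  have hb : b • 𝟙 (Q.obj (GJ (B := B) J)) = Q.map (b • 𝟙 (GJ (B := B) J)) := by
    rw [Functor.map_smul, CategoryTheory.Functor.map_id]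
  have H3 : (DRing.restrictD (algebraMap A B)).map (b • 𝟙 (Q.obj (GJ (B := B) J))) ≫
      (fac.app (GJ (B := B) J)).hom = (fac.app (GJ (B := B) J)).hom ≫
        Q.map (((Fr A B).mapHomologicalComplex (ComplexShape.up ℤ)).map
          (b • 𝟙 (GJ (B := B) J))) := by
    rw [hb]
    exact fac.hom.naturality (b • 𝟙 (GJ (B := B) J))
  have hfinal := assemble (Q.map (kap (B := B) J).inv) (fac.app (GJ (B := B) J)).inv
    (fac.app (GJ (B := B) J)).hom ((DRing.restrictD (algebraMap A B)).map θ.hom)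
    ((DRing.restrictD (algebraMap A B)).map (b • 𝟙 (R.obj ω)))
    ((DRing.restrictD (algebraMap A B)).map (b • 𝟙 (Q.obj (GJ (B := B) J))))
    (adj.counit.app ω)
    (Q.map (((Fr A B).mapHomologicalComplex (ComplexShape.up ℤ)).map (b • 𝟙 (GJ (B := B) J))))
    (Q.map ((H5.KInjDer.adjC (adjM A B) (ComplexShape.up ℤ)).counit.app J) ≫ e.hom)
    (fac.app (GJ (B := B) J)).inv_hom_id H1 H2 H3
  refine Eq.trans (show z.hom ≫ _ ≫ _ = _ from hfinal) ?_
  show _ = Q.map (evCx J (BA A B) (ofB b)) ≫ e.hom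
  rw [← Category.assoc (Q.map _) (Q.map _) e.hom, ← Functor.map_comp, ← Category.assoc,
    ← Functor.map_comp, key_cx, Iso.inv_hom_id_assoc]

end Derived

end Groth.Agent.H12.Bidual
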