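import Groth.Agent.H12.BidualD
import Groth.Agent.S12537

/-!
# `R(ω)` is dualizing for a finite homomorphism `A → B` (helper12)
-/

set_option autoImplicit false
universe u
open CategoryTheory CategoryTheory.Limits Opposite DerivedCategory Pretriangulated

namespace Groth.Agent.H12.Bidual

attribute [local instance] HasDerivedCategory.standard

open DerivedCategory.TStructure

variable {A B : Type u} [CommRing A] [CommRing B] [Algebra A B]

theorem hom_R_shift_eq_zero (R : Dual.D A ⥤ Dual.D B)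
    (adj : DRing.restrictD (algebraMap A B) ⊣ R) (Y : Dual.D B) (K : Dual.D A) (i : ℤ)
    (h : ∀ f : (DRing.restrictD (algebraMap A B)).obj Y ⟶ K⟦i⟧, f = 0)
    (g : Y ⟶ (R.obj K)⟦i⟧) : g = 0 := by
  let c : ((R.obj K)⟦i⟧)⟦-i⟧ ≅ R.obj K :=
    (shiftFunctorCompIsoId (Dual.D B) i (-i) (by omega)).app (R.obj K)
  let cs : (DRing.restrictD (algebraMap A B)).obj (Y⟦-i⟧) ≅
      ((DRing.restrictD (algebraMap A B)).obj Y)⟦-i⟧ :=
    ((DRing.restrictD (algebraMap A B)).commShiftIso (-i)).app Y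
  let d : (((DRing.restrictD (algebraMap A B)).obj Y)⟦-i⟧)⟦i⟧ ≅
      (DRing.restrictD (algebraMap A B)).obj Y :=
    (shiftFunctorCompIsoId (Dual.D A) (-i) i (by omega)).app _
  obtain ⟨g', hg'⟩ : ∃ g' : Y⟦-i⟧ ⟶ R.obj K, g' = g⟦-i⟧' ≫ c.hom := ⟨_, rfl⟩
  obtain ⟨g'', hg''⟩ : ∃ g'' : (DRing.restrictD (algebraMap A B)).obj (Y⟦-i⟧) ⟶ K,
      g'' = (adj.homEquiv _ _).symm g' := ⟨_, rfl⟩
  have h4 : d.inv ≫ (cs.inv ≫ g'')⟦i⟧' = 0 := h _
  have h5 : (cs.inv ≫ g'')⟦i⟧' = 0 := (cancel_epi d.inv).1 (h4.trans comp_zero.symm)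
  have h6 : cs.inv ≫ g'' = 0 :=
    (shiftFunctor (Dual.D A) i).map_injective (h5.trans (Functor.map_zero _ _ _).symm)
  have h7 : g'' = 0 := (cancel_epi cs.inv).1 (h6.trans comp_zero.symm)
  have h8 : g' = 0 := by
    apply (adj.homEquiv _ _).symm.injective
    rw [← hg'', h7, adj.homEquiv_counit, Functor.map_zero, zero_comp]
  have h9 : g⟦-i⟧' = 0 := by
    rw [hg'] at h8
    exact (cancel_mono c.hom).1 (h8.trans zero_comp.symm)
  exact (shiftFunctor (Dual.D B) (-i)).map_injective (h9.trans (Functor.map_zero _ _ _).symm)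

theorem finite_BA [Module.Finite A B] : Module.Finite A (BA A B) := by
  let eq : B ≃ₗ[A] (BA A B) :=
    { toFun := ofB
      invFun := toB
      map_add' := fun _ _ => rfl
      map_smul' := fun a b => by
        show ofB (a • b) = a • ofB b
        rw [smul_ofB, Algebra.smul_def]
      left_inv := fun _ => rfl
      right_inv := fun _ => rfl }
  exact Module.Finite.equiv eq

theorem main [IsNoetherianRing A] [IsNoetherianRing B] [Module.Finite A B]
    (R : Dual.D A ⥤ Dual.D B) (adj : DRing.restrictD (algebraMap A B) ⊣ R) (ω : Dual.D A)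
    (hω : Dual.IsDualizing A ω) : Dual.IsDualizing B (R.obj ω) := by
  obtain ⟨a, b, hab⟩ := hω.finite_injective_dimension
  have hvan : ∀ (F : ModuleCat.{u} A) (i : ℤ), (i < a ∨ max a b < i) →
      ∀ φ : (DerivedCategory.singleFunctor (ModuleCat.{u} A) 0).obj F ⟶
        (shiftFunctor (DerivedCategory (ModuleCat.{u} A)) i).obj ω, φ = 0 := by
    intro F i hi φ
    haveI := hab F i (by
      rcases hi with h | h
      · exact Or.inl h
      · exact Or.inr (lt_of_le_of_lt (le_max_right a b) h))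
    exact Subsingleton.elim (α := Dual.inD A F ⟶ ω⟦i⟧) φ 0
  obtain ⟨J, hJinj, hJz, ⟨e⟩⟩ :=
    (Groth.Agent.S12537.result (ModuleCat.{u} A) ω a (max a b) (le_max_left a b)).1 hvan
  haveI : ∀ n, Injective (J.X n) := hJinj
  haveI : J.IsStrictlyGE a := by
    rw [CochainComplex.isStrictlyGE_iff]
    intro i hi
    exact hJz i (Or.inl hi)
  haveI : J.IsKInjective := CochainComplex.isKInjective_of_injective J a
  obtain ⟨z, hz⟩ := exists_model R adj ω J e
  have hext0 : ∀ i : ℤ, i ≠ 0 → ∀ f : ω ⟶ ω⟦i⟧, f = 0 := fun i hi f => by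
    haveI := hω.ext_self_subsingleton i hi
    exact Subsingleton.elim _ _
  haveI : Module.Finite A (BA A B) := finite_BA
  have hbd := biduality J ω e hext0 hω.toEnd_bijective a (max a b) hJz (BA A B)
  refine ⟨inferInstance, ?_, ?_, ?_, ?_⟩
  · refine ⟨a, b, fun N _ _ i hi => ⟨fun f g => ?_⟩⟩
    have key : ∀ f : Dual.inD B N ⟶ (R.obj ω)⟦i⟧, f = 0 := by
      intro f
      apply hom_R_shift_eq_zero R adj (Dual.inD B N) ω i _ f
      intro f'
      let ε : (DRing.restrictD (algebraMap A B)).obj (Dual.inD B N) ≅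
          Dual.inD A ((Fr A B).obj (ModuleCat.of B N)) :=
        ((ModuleCat.restrictScalars.{u} (algebraMap A B)).mapDerivedCategorySingleFunctor 0).app
          (ModuleCat.of B N)
      haveI := hab ((Fr A B).obj (ModuleCat.of B N)) i hi
      have h0 : ε.inv ≫ f' = 0 := Subsingleton.elim _ _
      exact (cancel_epi ε.inv).1 (h0.trans comp_zero.symm)
    rw [key f, key g]
  · intro i
    haveI : ω.IsGE a := t.isGE_of_iso e a
    exact AdjFin.main A B R adj ω a
      (fun q hq => ModuleCat.subsingleton_of_isZero (isZero_of_isGE ω a q hq))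
      hω.finite_cohomology i
  · have hΦ : Function.Bijective (fun ψ : R.obj ω ⟶ R.obj ω =>
        z.hom ≫ (DRing.restrictD (algebraMap A B)).map ψ ≫ adj.counit.app ω) := by
      constructor
      · intro ψ ψ' h
        have h1 := (cancel_epi z.hom).1 h
        apply (adj.homEquiv _ _).symm.injective
        rw [adj.homEquiv_counit, adj.homEquiv_counit]
        exact h1
      · intro χ
        refine ⟨adj.homEquiv (R.obj ω) ω (z.inv ≫ χ), ?_⟩
        have hc : (DRing.restrictD (algebraMap A B)).map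
            (adj.homEquiv (R.obj ω) ω (z.inv ≫ χ)) ≫ adj.counit.app ω = z.inv ≫ χ :=
          (adj.homEquiv_counit _ _ _).symm.trans
            ((adj.homEquiv (R.obj ω) ω).symm_apply_apply (z.inv ≫ χ))
        show z.hom ≫ (DRing.restrictD (algebraMap A B)).map
          (adj.homEquiv (R.obj ω) ω (z.inv ≫ χ)) ≫ adj.counit.app ω = χ
        rw [hc, Iso.hom_inv_id_assoc]
    have hcomp : (fun ψ : R.obj ω ⟶ R.obj ω =>
        z.hom ≫ (DRing.restrictD (algebraMap A B)).map ψ ≫ adj.counit.app ω) ∘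
        (fun b : B => b • 𝟙 (R.obj ω)) = (eta J ω e (BA A B)) ∘ (ofB (A := A)) := funext hz
    have hofB : Function.Bijective (ofB (A := A) : B → BA A B) :=
      ⟨fun _ _ h => h, fun x => ⟨toB x, rfl⟩⟩
    have h1 : Function.Bijective ((eta J ω e (BA A B)) ∘ (ofB (A := A))) := hbd.2.comp hofB
    rw [← hcomp] at h1
    exact (Function.Bijective.of_comp_iff' hΦ _).1 h1
  · intro i hi
    refine ⟨fun f g => ?_⟩
    have key : ∀ f : R.obj ω ⟶ (R.obj ω)⟦i⟧, f = 0 := by
      intro f
      apply hom_R_shift_eq_zero R adj (R.obj ω) ω i _ f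
      intro f'
      have h0 := hbd.1 i hi (z.hom ≫ f')
      exact (cancel_epi z.hom).1 (h0.trans comp_zero.symm)
    rw [key f, key g]

end Groth.Agent.H12.Bidual
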