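import Groth.Agent.H12.BidualE
import Groth.Agent.H12.DualDepth

/-!
# `R(ω)` is normalized for a finite local homomorphism `A → B` (helper12)
-/

set_option autoImplicit false
universe u
open CategoryTheory CategoryTheory.Limits Opposite DerivedCategory Pretriangulated

namespace Groth.Agent.H12.Bidual

attribute [local instance] HasDerivedCategory.standard

variable {A B : Type u} [CommRing A] [CommRing B] [Algebra A B]

theorem normalized [IsLocalRing A] [IsLocalRing B] [IsLocalHom (algebraMap A B)]
    [IsNoetherianRing A] [Module.Finite A B]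
    (R : Dual.D A ⥤ Dual.D B) (adj : DRing.restrictD (algebraMap A B) ⊣ R) (ω : Dual.D A)
    (hn : Dual.IsNormalized A ω) : Dual.IsNormalized B (R.obj ω) := by
  intro i hi
  refine ⟨fun f g => ?_⟩
  have key : ∀ f : Dual.inD B (IsLocalRing.ResidueField B) ⟶ (R.obj ω)⟦i⟧, f = 0 := by
    intro f
    apply hom_R_shift_eq_zero R adj _ ω i _ f
    intro f'
    obtain ⟨κB, hκB⟩ : ∃ κB : ModuleCat.{u} B,
        κB = ModuleCat.of B (IsLocalRing.ResidueField B) := ⟨_, rfl⟩
    let ε : (DRing.restrictD (algebraMap A B)).obj (Dual.inD B (IsLocalRing.ResidueField B)) ≅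
        Dual.inD A ((Fr A B).obj (ModuleCat.of B (IsLocalRing.ResidueField B))) :=
      ((ModuleCat.restrictScalars.{u} (algebraMap A B)).mapDerivedCategorySingleFunctor 0).app
        (ModuleCat.of B (IsLocalRing.ResidueField B))
    haveI : Module.Finite A ((Fr A B).obj (ModuleCat.of B (IsLocalRing.ResidueField B))) := by
      haveI : Module.Finite A (BA A B) := finite_BA
      let π : BA A B ⟶ (Fr A B).obj (ModuleCat.of B (IsLocalRing.ResidueField B)) :=
        (Fr A B).map (ModuleCat.ofHom (Algebra.linearMap B (IsLocalRing.ResidueField B)))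
      refine Module.Finite.of_surjective π.hom ?_
      intro y
      obtain ⟨b, hb⟩ := IsLocalRing.residue_surjective (show IsLocalRing.ResidueField B from y)
      exact ⟨ofB b, hb⟩
    have hv : DualDepth.Van ω i
        (ModuleCat.of A ((Fr A B).obj (ModuleCat.of B (IsLocalRing.ResidueField B)))) := by
      apply DualDepth.van_of_primes ω i (IsLocalRing.maximalIdeal A)
      · intro q hq hle
        have hqm : q = IsLocalRing.maximalIdeal A :=
          ((IsLocalRing.maximalIdeal.isMaximal A).eq_of_le hq.ne_top hle).symm
        subst hqm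
        intro φ
        haveI := hn i hi
        exact Subsingleton.elim
          (α := Dual.inD A (IsLocalRing.ResidueField A) ⟶ ω⟦i⟧) φ 0
      · intro x hx m
        have h1 : algebraMap A B x ∈ IsLocalRing.maximalIdeal B := by
          rw [IsLocalRing.mem_maximalIdeal, mem_nonunits_iff] at hx ⊢
          exact fun h => hx (isUnit_of_map_unit (algebraMap A B) x h)
        show (algebraMap A B x) • (show IsLocalRing.ResidueField B from m) = 0
        rw [Algebra.smul_def]
        have h2 : algebraMap B (IsLocalRing.ResidueField B) (algebraMap A B x) = 0 :=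
          (IsLocalRing.residue_eq_zero_iff _).2 h1
        rw [h2, zero_mul]
    have h0 : ε.inv ≫ f' = 0 := hv _
    exact (cancel_epi ε.inv).1 (h0.trans comp_zero.symm)
  rw [key f, key g]

end Groth.Agent.H12.Bidual
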