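import Mathlib
import Groth.Prelude.Def_Wider
import Groth.Agent.H12.DualDepth

/-!
# Depth, dimension and a normalized dualizing complex (helper12)

For a Noetherian local ring `A` with normalized dualizing complex `ω`:
* `dualizing_hfin`, `dualizing_hk`, `dualizing_hpos`, `dualizing_hk0`: the inputs of `DualDepth`;
* `depth_iff_dualizing`: depth of `M` = least `δ` with `Hom(M, ω[-δ]) ≠ 0`;
* `depth_self_iff_dualizing`: depth of `A` = least `δ` with `H^{-δ}(ω) ≠ 0`;
* `hom_shift_pos_eq_zero`: `Hom(N, ω[i]) = 0` for `i > 0`, `N ∈ D^b_{fg}` in degrees `≥ 0`;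
* `van_of_supportDim_lt`: `Hom(M, ω[-δ]) = 0` for `δ > dim M`;
* `cm_iff_dualizing`: `M` Cohen–Macaulay iff `Hom(M, ω[-i]) = 0` for `i ≠ dim M`.
-/

set_option autoImplicit false
universe u
open CategoryTheory CategoryTheory.Limits DerivedCategory Pretriangulated

namespace Groth.Agent.H12.DualDepth

attribute [local instance] HasDerivedCategory.standard

open DerivedCategory.TStructure

section Ring

variable {A : Type u} [CommRing A]

theorem ringKrullDim_quotient_succ_le_of_lt {p q : Ideal A} [hp : p.IsPrime] (hpq : p < q) :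
    ringKrullDim (A ⧸ q) + 1 ≤ ringKrullDim (A ⧸ p) := by
  obtain ⟨y, hyq, hyp⟩ := SetLike.exists_of_lt hpq
  haveI : IsDomain (A ⧸ p) := Ideal.Quotient.isDomain p
  have hr0 : (Ideal.Quotient.mk p y) ≠ 0 := by
    rwa [Ne, Ideal.Quotient.eq_zero_iff_mem]
  have hr : (Ideal.Quotient.mk p y) ∈ nonZeroDivisors (A ⧸ p) := mem_nonZeroDivisors_of_ne_zero hr0
  have h1 := ringKrullDim_quotient_succ_le_of_nonZeroDivisor hr
  refine le_trans ?_ h1
  have hfac : ∀ a ∈ Ideal.span {Ideal.Quotient.mk p y}, Ideal.Quotient.factor hpq.le a = 0 := by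
    intro a ha
    obtain ⟨c, rfl⟩ := Ideal.mem_span_singleton'.1 ha
    rw [map_mul, Ideal.Quotient.factor_mk, Ideal.Quotient.eq_zero_iff_mem.2 hyq, mul_zero]
  have hsurj : Function.Surjective
      (Ideal.Quotient.lift (Ideal.span {Ideal.Quotient.mk p y}) (Ideal.Quotient.factor hpq.le)
        hfac) := by
    intro z
    obtain ⟨a, rfl⟩ := Ideal.Quotient.mk_surjective z
    refine ⟨Ideal.Quotient.mk _ (Ideal.Quotient.mk p a), ?_⟩
    rw [Ideal.Quotient.lift_mk, Ideal.Quotient.factor_mk]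
  have h2 := ringKrullDim_le_of_surjective _ hsurj
  gcongr

end Ring

section Main

variable {A : Type u} [CommRing A] [IsLocalRing A] [IsNoetherianRing A] (ω : Dual.D A)

theorem dualizing_hfin (hω : Dual.IsDualizing A ω) :
    ∀ (N : Type u) [AddCommGroup N] [Module A N] [Module.Finite A N] (i : ℤ),
      Module.Finite A (sM (ModuleCat.of A N) ⟶ ω⟦i⟧) := by
  obtain ⟨a, b, hab⟩ := hω.finite_injective_dimension
  intro N _ _ _ i
  refine AdjFin.finite_hom_single_of_bddBelow ω a ?_ hω.finite_cohomology (ModuleCat.of A N) i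
  intro j hj
  refine isZero_homology_of_van ω j ?_
  rw [van_iff_subsingleton]
  exact hab A j (Or.inl hj)

/-- `ResidueField A` and `A ⧸ m` as objects of `ModuleCat A`. -/
noncomputable def residueIso :
    ModuleCat.of A (IsLocalRing.ResidueField A) ≅
      ModuleCat.of A (A ⧸ IsLocalRing.maximalIdeal A) :=
  LinearEquiv.toModuleIso
    { toFun := fun x => x
      invFun := fun x => x
      map_add' := fun _ _ => rfl
      map_smul' := fun _ _ => rfl
      left_inv := fun _ => rfl
      right_inv := fun _ => rfl }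

theorem dualizing_hk (hn : Dual.IsNormalized A ω) (i : ℤ) (hi : i ≠ 0) :
    Van ω i (ModuleCat.of A (A ⧸ IsLocalRing.maximalIdeal A)) :=
  van_of_iso residueIso ((van_iff_subsingleton _ _ _).2 (hn i hi))

theorem dualizing_not_isZero (hω : Dual.IsDualizing A ω) : ¬ IsZero ω := by
  intro h
  exact one_ne_zero (α := A) (hω.toEnd_bijective.1 (h.eq_of_src _ _))

theorem dualizing_hpos (hω : Dual.IsDualizing A ω) (hn : Dual.IsNormalized A ω) :
    ∀ (N : Type u) [AddCommGroup N] [Module A N] [Module.Finite A N] (i : ℤ),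
      0 < i → Van ω i (ModuleCat.of A N) := by
  intro N _ _ _ i hi
  exact van_all ω (dualizing_hfin ω hω) {j | 0 < j}
    (fun j hj => by
      simp only [Set.mem_setOf_eq] at hj ⊢
      omega)
    (fun j hj => dualizing_hk ω hn j (by
      simp only [Set.mem_setOf_eq] at hj
      omega)) N i hi

theorem dualizing_hk0 (hω : Dual.IsDualizing A ω) (hn : Dual.IsNormalized A ω) :
    ¬ Van ω 0 (ModuleCat.of A (A ⧸ IsLocalRing.maximalIdeal A)) :=
  not_van_zero_residue ω (dualizing_hfin ω hω) (dualizing_not_isZero ω hω)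
    (fun i hi => dualizing_hk ω hn i hi)

/-- depth of `M` = least `δ` with `Hom(M, ω[-δ]) ≠ 0`. -/
theorem depth_iff_dualizing (hω : Dual.IsDualizing A ω) (hn : Dual.IsNormalized A ω)
    (M : Type u) [AddCommGroup M] [Module A M] [Module.Finite A M] [Nontrivial M] (n : ℕ) :
    LocCoh.depth A M = n ↔
      ((∀ δ : ℕ, δ < n → Subsingleton (Dual.inD A M ⟶ ω⟦(-(δ : ℤ))⟧)) ∧
        Nontrivial (Dual.inD A M ⟶ ω⟦(-(n : ℤ))⟧)) := by
  refine (depth_iff ω (dualizing_hfin ω hω) (dualizing_hpos ω hω hn)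
    (dualizing_hk0 ω hω hn) M n).trans ?_
  exact and_congr
    (forall_congr' fun δ => forall_congr' fun _ => van_iff_subsingleton _ _ _)
    (not_van_iff_nontrivial _ _ _)

omit [IsLocalRing A] [IsNoetherianRing A] in
theorem van_self_iff (i : ℤ) :
    Van ω i (ModuleCat.of A A) ↔ Subsingleton (Dual.HD A ω i) := by
  constructor
  · intro h
    exact ModuleCat.subsingleton_of_isZero (isZero_homology_of_van ω i h)
  · intro h
    exact van_of_isZero_homology ω i (ModuleCat.isZero_of_subsingleton _)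

/-- depth of `A` = least `δ` with `H^{-δ}(ω) ≠ 0`. -/
theorem depth_self_iff_dualizing (hω : Dual.IsDualizing A ω) (hn : Dual.IsNormalized A ω)
    (n : ℕ) :
    LocCoh.depth A A = n ↔
      ((∀ δ : ℕ, δ < n → Subsingleton (Dual.HD A ω (-(δ : ℤ)))) ∧
        Nontrivial (Dual.HD A ω (-(n : ℤ)))) := by
  refine (depth_iff ω (dualizing_hfin ω hω) (dualizing_hpos ω hω hn)
    (dualizing_hk0 ω hω hn) A n).trans ?_
  refine and_congr
    (forall_congr' fun δ => forall_congr' fun _ => van_self_iff ω _) ?_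
  rw [van_self_iff, not_subsingleton_iff_nontrivial]

/-- vanishing of all `Hom(K, ω[i])`, `i > 0`. -/
def PosVan (ω K : Dual.D A) : Prop := ∀ i : ℤ, 0 < i → ∀ f : K ⟶ ω⟦i⟧, f = 0

omit [IsLocalRing A] [IsNoetherianRing A] in
theorem posVan_isExtClosed : H35.Devissage.IsExtClosed (PosVan ω) where
  iso := fun {K L} e hK i hi f => by
    have h1 := hK i hi (e.hom ≫ f)
    exact (cancel_epi e.hom).1 (h1.trans comp_zero.symm)
  zero := fun {K} hK i hi f => hK.eq_of_src _ _
  ext := fun T hT h₁ h₃ i hi f => by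
    obtain ⟨g, hg⟩ := Triangle.yoneda_exact₂ T hT f (h₁ i hi _)
    rw [hg, h₃ i hi g, comp_zero]

/-- `Hom(N, ω[i]) = 0` for `i > 0` and `N` bounded with finite cohomology in degrees `≥ 0`. -/
theorem hom_shift_pos_eq_zero (hω : Dual.IsDualizing A ω) (hn : Dual.IsNormalized A ω)
    (N : Dual.D A) (hfin : ∀ i : ℤ, Module.Finite A (Dual.HD A N i))
    (b : ℤ) (hb : ∀ i : ℤ, b < i → Subsingleton (Dual.HD A N i))
    (hge : ∀ i : ℤ, i < 0 → Subsingleton (Dual.HD A N i)) : PosVan ω N := by
  have hPr := posVan_isExtClosed ω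
  have hvan : ∀ j, (j < 0 ∨ b < j) →
      IsZero ((homologyFunctor (ModuleCat.{u} A) j).obj N) := by
    intro j hj
    haveI : Subsingleton (Dual.HD A N j) := hj.elim (hge j) (hb j)
    exact ModuleCat.isZero_of_subsingleton _
  have hsingle : ∀ j, PosVan ω ((singleFunctor (ModuleCat.{u} A) j).obj
      ((homologyFunctor (ModuleCat.{u} A) j).obj N)) := by
    intro j
    by_cases hj : j < 0
    · exact hPr.zero ((singleFunctor (ModuleCat.{u} A) j).map_isZero (hvan j (Or.inl hj)))
    · intro i hi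
      refine (H56.single_hom_shift_vanishing_iff _ (ω⟦i⟧) j).1 ?_
      intro φ
      haveI := hfin j
      have h0 := dualizing_hpos ω hω hn (Dual.HD A N j) (i + j) (by omega)
        (φ ≫ ((shiftFunctorAdd' (Dual.D A) i j (i + j) rfl).app ω).inv)
      exact (cancel_mono ((shiftFunctorAdd' (Dual.D A) i j (i + j) rfl).app ω).inv).1
        (h0.trans zero_comp.symm)
  exact H35.Devissage.of_homology hPr 0 (b + 1).toNat N b hvan (by omega) hsingle

/-- vanishing of `Hom(A/p, ω[-δ])` for `δ > dim A/p`. -/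
theorem van_quotient_prime_of_dim_lt (hω : Dual.IsDualizing A ω)
    (hn : Dual.IsNormalized A ω) :
    ∀ p : Ideal A, p.IsPrime → ∀ δ : ℕ, ringKrullDim (A ⧸ p) < (δ : WithBot ℕ∞) →
      Van ω (-(δ : ℤ)) (ModuleCat.of A (A ⧸ p)) := by
  have hfin := dualizing_hfin ω hω
  intro p
  induction p using WellFoundedGT.induction with
  | ind p ih =>
  intro hp δ hδ
  haveI : IsDomain (A ⧸ p) := Ideal.Quotient.isDomain p
  have h0 : (0 : WithBot ℕ∞) ≤ ringKrullDim (A ⧸ p) := ringKrullDim_nonneg_of_nontrivial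
  have hδpos : (0 : WithBot ℕ∞) < (δ : WithBot ℕ∞) := lt_of_le_of_lt h0 hδ
  have hδ0 : δ ≠ 0 := by
    rintro rfl
    simp at hδpos
  by_cases hpm : p = IsLocalRing.maximalIdeal A
  · rw [hpm]
    exact dualizing_hk ω hn _ (by omega)
  · obtain ⟨x, hxm, hxp⟩ : ∃ x ∈ IsLocalRing.maximalIdeal A, x ∉ p := by
      by_contra hcon
      push_neg at hcon
      exact hpm (le_antisymm (IsLocalRing.le_maximalIdeal hp.ne_top) hcon)
    have hreg : IsSMulRegular (A ⧸ p) x := regular_quotient_prime ω hfin p x hxp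
    obtain ⟨δ', rfl⟩ : ∃ δ' : ℕ, δ = δ' + 1 := ⟨δ - 1, by omega⟩
    refine van_of_regular ω (A ⧸ p) x hxm hreg (-((δ' + 1 : ℕ) : ℤ)) (-(δ' : ℤ))
      (by push_cast; ring) (hfin _ _) ?_
    refine van_of_primes ω (-(δ' : ℤ)) (p ⊔ Ideal.span {x}) ?_ (QuotSMulTop x (A ⧸ p))
      (fun y hy m => smul_quotSMulTop_eq_zero ω hfin p x y hy m)
    intro q hq hle
    have hpq : p < q := by
      refine lt_of_le_of_ne (le_sup_left.trans hle) ?_
      rintro rfl
      exact hxp (hle (Ideal.mem_sup_right (Ideal.subset_span rfl)))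
    refine ih q hpq hq δ' ?_
    have h1 := ringKrullDim_quotient_succ_le_of_lt hpq
    by_contra hcon
    rw [not_lt] at hcon
    have h2 : ((δ' + 1 : ℕ) : WithBot ℕ∞) ≤ ringKrullDim (A ⧸ q) + 1 := by
      push_cast
      gcongr
    exact absurd (lt_of_le_of_lt (h2.trans h1) hδ) (lt_irrefl _)

/-- vanishing of `Hom(N, ω[-δ])` for `δ > dim N`. -/
theorem van_of_supportDim_lt (hω : Dual.IsDualizing A ω) (hn : Dual.IsNormalized A ω)
    (N : Type u) [AddCommGroup N] [Module A N] [Module.Finite A N] (δ : ℕ)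
    (h : Module.supportDim A N < (δ : WithBot ℕ∞)) :
    Van ω (-(δ : ℤ)) (ModuleCat.of A N) := by
  refine van_of_primes ω _ (Module.annihilator A N) ?_ N
    (fun x hx m => Module.mem_annihilator.1 hx m)
  intro q hq hle
  refine van_quotient_prime_of_dim_lt ω hω hn q hq δ (lt_of_le_of_lt ?_ h)
  rw [Module.supportDim_eq_ringKrullDim_quotient_annihilator]
  exact ringKrullDim_le_of_surjective (Ideal.Quotient.factor hle)
    (Ideal.Quotient.factor_surjective hle)

omit ω in
/-- the length of a regular sequence in the maximal ideal is at most the dimension. -/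
theorem length_le_supportDim :
    ∀ (rs : List A) (M : Type u) [AddCommGroup M] [Module A M] [Module.Finite A M]
      [Nontrivial M],
      RingTheory.Sequence.IsWeaklyRegular M rs →
      (∀ r ∈ rs, r ∈ IsLocalRing.maximalIdeal A) →
      ((rs.length : ℕ∞) : WithBot ℕ∞) ≤ Module.supportDim A M := by
  intro rs
  induction rs with
  | nil =>
    intro M _ _ _ _ _ _
    haveI : Nonempty (Module.support A M) :=
      (Module.nonempty_support_of_nontrivial (R := A) (M := M)).to_subtype
    have h0 : (0 : WithBot ℕ∞) ≤ Module.supportDim A M := Order.krullDim_nonneg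
    simpa using h0
  | cons x rs ih =>
    intro M _ _ _ _ hreg hmem
    obtain ⟨hx, hrs⟩ := (RingTheory.Sequence.isWeaklyRegular_cons_iff M x rs).1 hreg
    have hxm := hmem x List.mem_cons_self
    haveI := nontrivial_quotSMulTop M x hxm
    have h1 := ih (QuotSMulTop x M) hrs (fun r hr => hmem r (List.mem_cons_of_mem _ hr))
    have h2 := Module.supportDim_quotSMulTop_succ_eq_supportDim hx hxm
    rw [← h2, List.length_cons]
    push_cast
    gcongr
    exact_mod_cast h1

/-- `M` is Cohen–Macaulay iff `Hom(M, ω[-i]) = 0` for all `i ≠ dim M`. -/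
theorem cm_iff_dualizing (hω : Dual.IsDualizing A ω) (hn : Dual.IsNormalized A ω)
    (M : Type u) [AddCommGroup M] [Module A M] [Module.Finite A M] [Nontrivial M] (d : ℕ)
    (hd : Module.supportDim A M = d) :
    LocCoh.IsCohenMacaulayModule A M ↔
      ∀ i : ℤ, i ≠ d → Subsingleton (Dual.inD A M ⟶ ω⟦(-i)⟧) := by
  have hfin := dualizing_hfin ω hω
  have hpos := dualizing_hpos ω hω hn
  have hk0 := dualizing_hk0 ω hω hn
  have hne := maximalIdeal_smul_top_ne_top M (A := A)
  have hdepth : LocCoh.depth A M =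
      ⨆ (rs : List A) (_ : RingTheory.Sequence.IsWeaklyRegular M rs ∧
        ∀ r ∈ rs, r ∈ IsLocalRing.maximalIdeal A), (rs.length : ℕ∞) := by
    unfold LocCoh.depth LocCoh.idealDepth
    rw [if_neg hne]
  have hd' : Module.supportDim A M = ((d : ℕ∞) : WithBot ℕ∞) := hd
  have hle : LocCoh.depth A M ≤ (d : ℕ∞) := by
    rw [hdepth]
    refine iSup₂_le ?_
    rintro rs ⟨hreg, hmem⟩
    have h1 := length_le_supportDim rs M hreg hmem
    rw [hd'] at h1
    exact WithBot.coe_le_coe.1 h1
  unfold LocCoh.IsCohenMacaulayModule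
  rw [hd']
  constructor
  · intro hcm
    have hdep : LocCoh.depth A M = (d : ℕ∞) := (WithBot.coe_injective hcm).symm
    obtain ⟨h1, _⟩ := (depth_iff ω hfin hpos hk0 M d).1 hdep
    intro i hi
    refine (van_iff_subsingleton ω (-i) (ModuleCat.of A M)).1 ?_
    rcases lt_trichotomy i (d : ℤ) with hlt | heq | hgt
    · by_cases hi0 : i < 0
      · exact hpos M (-i) (by omega)
      · obtain ⟨δ, rfl⟩ : ∃ δ : ℕ, i = (δ : ℤ) := ⟨i.toNat, by omega⟩
        exact h1 δ (by omega)
    · exact absurd heq hi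
    · obtain ⟨δ, rfl⟩ : ∃ δ : ℕ, i = (δ : ℤ) := ⟨i.toNat, by omega⟩
      refine van_of_supportDim_lt ω hω hn M δ ?_
      rw [hd']
      have hdδ : d < δ := by omega
      exact WithBot.coe_lt_coe.2 (by exact_mod_cast hdδ)
  · intro h
    obtain ⟨n, hn'⟩ : ∃ n : ℕ, LocCoh.depth A M = (n : ℕ∞) := by
      have hne_top : LocCoh.depth A M ≠ ⊤ := ne_top_of_le_ne_top (ENat.natCast_ne_top d) hle
      exact ⟨(LocCoh.depth A M).toNat, (ENat.natCast_toNat hne_top).symm⟩
    obtain ⟨_, h2⟩ := (depth_iff ω hfin hpos hk0 M n).1 hn'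
    have hnd : n = d := by
      by_contra hne'
      apply h2
      refine (van_iff_subsingleton ω (-(n : ℤ)) (ModuleCat.of A M)).2 ?_
      exact h (n : ℤ) (by exact_mod_cast hne')
    rw [hn', hnd]

end Main

end Groth.Agent.H12.DualDepth
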