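import Mathlib
import Groth.Prelude.Def_Wider
import Groth.Agent.H12.DualDepthMain
import Groth.Agent.H82.TorFlat

/-!
# Dimension of the supports of `Ext^i(M, ω)` (helper12)

* `exists_factor`, `eq_zero_of_comp_g_eq_zero`, `connₗ`, `exists_lift_of_connₗ_eq_zero`:
  more pieces of the long exact sequence of `Hom(-, W[i])`, with linear structure;
* `smul_hom_eq_zero_of_kills`: `Hom(N, W)` is killed by the annihilator of `N`;
* `exists_torsion_submodule`: a submodule `Γ` supported at the closed point with `M/Γ` of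
  positive depth;
* `supportDim_hom_le`: `dim Supp Hom(M, ω[-j]) ≤ j` for a normalized dualizing complex `ω`.
-/

set_option autoImplicit false
universe u
open CategoryTheory CategoryTheory.Limits DerivedCategory Pretriangulated

namespace Groth.Agent.H12.DualDepth

attribute [local instance] HasDerivedCategory.standard

open DerivedCategory.TStructure
open scoped Pointwise

section General

variable {A : Type u} [CommRing A]

/-- exactness of `Hom(X₃, W) → Hom(X₂, W) → Hom(X₁, W)` -/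
theorem exists_factor {S : ShortComplex (ModuleCat.{u} A)} (hS : S.ShortExact) (W : Dual.D A)
    (φ : sM S.X₂ ⟶ W) (h0 : (singleFunctor (ModuleCat.{u} A) 0).map S.f ≫ φ = 0) :
    ∃ φ' : sM S.X₃ ⟶ W, φ = (singleFunctor (ModuleCat.{u} A) 0).map S.g ≫ φ' :=
  Triangle.yoneda_exact₂ _ hS.singleTriangle_distinguished φ h0

/-- injectivity of `Hom(X₃, W[j]) → Hom(X₂, W[j])` when `Hom(X₁, W[j-1]) = 0` -/
theorem eq_zero_of_comp_g_eq_zero {S : ShortComplex (ModuleCat.{u} A)} (hS : S.ShortExact)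
    (W : Dual.D A) (i j : ℤ) (h : i + 1 = j) (h₁ : Van W i S.X₁) (φ : sM S.X₃ ⟶ W⟦j⟧)
    (h0 : (singleFunctor (ModuleCat.{u} A) 0).map S.g ≫ φ = 0) : φ = 0 := by
  obtain ⟨g, hg⟩ := Triangle.yoneda_exact₃ _ hS.singleTriangle_distinguished φ h0
  obtain ⟨ψ, hψ⟩ := exists_shift_eq (sM S.X₁) W i j h g
  rw [hg, hψ, h₁ ψ, Functor.map_zero, zero_comp]
  exact comp_zero

/-- the connecting map `Hom(X₁, W[i]) → Hom(X₃, W[i+1])` as a linear map -/
noncomputable def connₗ {S : ShortComplex (ModuleCat.{u} A)} (hS : S.ShortExact) (W : Dual.D A)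
    (i j : ℤ) (h : i + 1 = j) : (sM S.X₁ ⟶ W⟦i⟧) →ₗ[A] (sM S.X₃ ⟶ W⟦j⟧) :=
  (Linear.leftComp A (W⟦j⟧) (hS.singleTriangle.mor₃ : sM S.X₃ ⟶ (sM S.X₁)⟦(1 : ℤ)⟧)).comp
    ((Linear.rightComp A ((sM S.X₁)⟦(1 : ℤ)⟧)
        ((shiftFunctorAdd' (Dual.D A) i 1 j h).inv.app W)).comp
      ((shiftFunctor (Dual.D A) (1 : ℤ)).mapLinearMap A))

theorem connₗ_apply {S : ShortComplex (ModuleCat.{u} A)} (hS : S.ShortExact) (W : Dual.D A)
    (i j : ℤ) (h : i + 1 = j) (ψ : sM S.X₁ ⟶ W⟦i⟧) :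
    connₗ hS W i j h ψ = hS.singleTriangle.mor₃ ≫
      (ψ⟦(1 : ℤ)⟧' ≫ (shiftFunctorAdd' (Dual.D A) i 1 j h).inv.app W) := rfl

theorem exists_lift_of_connₗ_eq_zero {S : ShortComplex (ModuleCat.{u} A)} (hS : S.ShortExact)
    (W : Dual.D A) (i j : ℤ) (h : i + 1 = j) (ψ : sM S.X₁ ⟶ W⟦i⟧)
    (h0 : connₗ hS W i j h ψ = 0) :
    ∃ φ : sM S.X₂ ⟶ W⟦i⟧, ψ = (singleFunctor (ModuleCat.{u} A) 0).map S.f ≫ φ := by
  have hT := rot_of_distTriang _ hS.singleTriangle_distinguished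
  have h0' : hS.singleTriangle.mor₃ ≫
      (ψ⟦(1 : ℤ)⟧' ≫ (shiftFunctorAdd' (Dual.D A) i 1 j h).inv.app W) = 0 := h0
  obtain ⟨χ', hχ'⟩ := Triangle.yoneda_exact₃ _ hT
    (ψ⟦(1 : ℤ)⟧' ≫ (shiftFunctorAdd' (Dual.D A) i 1 j h).inv.app W) h0'
  have hχ'' : ψ⟦(1 : ℤ)⟧' ≫ (shiftFunctorAdd' (Dual.D A) i 1 j h).inv.app W =
      (-((singleFunctor (ModuleCat.{u} A) 0).map S.f)⟦(1 : ℤ)⟧') ≫ χ' := hχ'
  obtain ⟨φ', hφ'⟩ := exists_shift_eq (sM S.X₂) W i j h χ'
  refine ⟨-φ', ?_⟩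
  apply (shiftFunctor (Dual.D A) (1 : ℤ)).map_injective
  rw [← cancel_mono ((shiftFunctorAdd' (Dual.D A) i 1 j h).inv.app W), hχ'', hφ']
  simp only [Functor.map_comp, Functor.map_neg, Preadditive.neg_comp, Preadditive.comp_neg,
    Category.assoc]

/-- `Hom(N, W)` is killed by the annihilator of `N`. -/
theorem smul_hom_eq_zero_of_kills (N : ModuleCat.{u} A) (W : Dual.D A) (s : A)
    (hs : ∀ n : N, s • n = 0) (φ : sM N ⟶ W) : s • φ = 0 := by
  have h1 : s • 𝟙 N = 0 := by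
    ext n
    exact hs n
  have h2 : s • φ = (singleFunctor (ModuleCat.{u} A) 0).map (s • 𝟙 N) ≫ φ := by
    rw [Functor.map_smul, CategoryTheory.Functor.map_id, Linear.smul_comp, Category.id_comp] <;>
      rfl
  rw [h2, h1, Functor.map_zero, zero_comp]

/-- `single.map (x • 𝟙) ≫ φ = x • φ` -/
theorem smulShortComplex_f_comp (N : ModuleCat.{u} A) (W : Dual.D A) (x : A) (φ : sM N ⟶ W) :
    (singleFunctor (ModuleCat.{u} A) 0).map (N.smulShortComplex x).f ≫ φ = x • φ := by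
  show (singleFunctor (ModuleCat.{u} A) 0).map (x • 𝟙 N) ≫ φ = x • φ
  rw [Functor.map_smul, CategoryTheory.Functor.map_id, Linear.smul_comp, Category.id_comp] <;>
    rfl

theorem smul_quotSMulTop_eq_zero' (N : Type u) [AddCommGroup N] [Module A N] (x : A)
    (n : QuotSMulTop x N) : x • n = 0 := by
  obtain ⟨n₀, rfl⟩ := Submodule.Quotient.mk_surjective _ n
  rw [← Submodule.Quotient.mk_smul, Submodule.Quotient.mk_eq_zero]
  exact Submodule.smul_mem_pointwise_smul _ _ _ Submodule.mem_top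

theorem ringKrullDim_quotient_le_zero [IsLocalRing A] (I : Ideal A)
    (h : ∀ q : Ideal A, q.IsPrime → I ≤ q → q = IsLocalRing.maximalIdeal A) :
    ringKrullDim (A ⧸ I) ≤ 0 := by
  rw [ringKrullDim_quotient]
  haveI : Subsingleton (PrimeSpectrum.zeroLocus (R := A) (I : Set A)) :=
    ⟨fun a b => Subtype.ext (PrimeSpectrum.ext (by
      rw [h a.1.asIdeal a.1.2 a.2, h b.1.asIdeal b.1.2 b.2]))⟩
  exact Order.krullDim_nonpos_of_subsingleton

end General

section Local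

variable {A : Type u} [CommRing A] [IsLocalRing A] [IsNoetherianRing A]

/-- a submodule supported at the closed point with quotient of positive depth -/
theorem exists_torsion_submodule (M : Type u) [AddCommGroup M] [Module A M]
    [Module.Finite A M] :
    ∃ Γ : Submodule A M,
      (∀ q : Ideal A, q.IsPrime → Γ.annihilator ≤ q → q = IsLocalRing.maximalIdeal A) ∧
      ∃ x ∈ IsLocalRing.maximalIdeal A, IsSMulRegular (M ⧸ Γ) x := by
  haveI : IsNoetherian A M := isNoetherian_of_isNoetherianRing_of_finite A M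
  let 𝒮 : Set (Submodule A M) :=
    {Γ | ∀ q : Ideal A, q.IsPrime → Γ.annihilator ≤ q → q = IsLocalRing.maximalIdeal A}
  have hne : 𝒮.Nonempty := ⟨⊥, fun q hq hle => by
    exfalso
    rw [Submodule.annihilator_bot] at hle
    exact hq.ne_top (top_le_iff.1 hle)⟩
  obtain ⟨Γ, hΓ, hmax⟩ := (wellFounded_gt (α := Submodule A M)).has_min 𝒮 hne
  refine ⟨Γ, hΓ, ?_⟩
  by_contra hcon
  push_neg at hcon
  obtain ⟨f, hf⟩ := exists_injective_of_no_regular (M ⧸ Γ) hcon
  obtain ⟨y₀, hy₀⟩ := Submodule.Quotient.mk_surjective Γ (f 1)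
  have hy₀Γ : y₀ ∉ Γ := by
    intro hmem
    have h1 : f 1 = 0 := by
      rw [← hy₀]
      exact (Submodule.Quotient.mk_eq_zero Γ).2 hmem
    have h10 : (1 : A ⧸ IsLocalRing.maximalIdeal A) = 0 := hf (h1.trans (map_zero f).symm)
    exact one_ne_zero h10
  have hm : ∀ c ∈ IsLocalRing.maximalIdeal A, c • y₀ ∈ Γ := by
    intro c hc
    rw [← Submodule.Quotient.mk_eq_zero Γ, Submodule.Quotient.mk_smul, hy₀, ← map_smul]
    have h1 : c • (1 : A ⧸ IsLocalRing.maximalIdeal A) = 0 := by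
      rw [Algebra.smul_def, mul_one, Ideal.Quotient.algebraMap_eq,
        Ideal.Quotient.eq_zero_iff_mem]
      exact hc
    rw [h1, map_zero]
  have hlt : Γ < Γ ⊔ Submodule.span A {y₀} := by
    refine lt_of_le_of_ne le_sup_left ?_
    intro heq
    apply hy₀Γ
    rw [heq]
    exact (le_sup_right : Submodule.span A {y₀} ≤ Γ ⊔ Submodule.span A {y₀})
      (Submodule.subset_span rfl)
  refine hmax (Γ ⊔ Submodule.span A {y₀}) ?_ hlt
  intro q hq hle
  by_cases hmq : IsLocalRing.maximalIdeal A ≤ q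
  · exact le_antisymm (IsLocalRing.le_maximalIdeal hq.ne_top) hmq
  · refine hΓ q hq ?_
    intro a ha
    obtain ⟨c, hcm, hcq⟩ := Set.not_subset.1 hmq
    have hac : a * c ∈ (Γ ⊔ Submodule.span A {y₀}).annihilator := by
      rw [Submodule.mem_annihilator]
      intro g hg
      obtain ⟨g₁, hg₁, g₂, hg₂, rfl⟩ := Submodule.mem_sup.1 hg
      obtain ⟨r, rfl⟩ := Submodule.mem_span_singleton.1 hg₂
      have h1 : a • (c • g₁) = 0 :=
        (Submodule.mem_annihilator.1 ha) _ (Γ.smul_mem c hg₁)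
      have h2 : a • (c • (r • y₀)) = 0 := by
        rw [smul_comm c r y₀]
        exact (Submodule.mem_annihilator.1 ha) _ (Γ.smul_mem r (hm c hcm))
      rw [smul_add, mul_smul, mul_smul, h1, h2, add_zero]
    exact (hq.mem_or_mem (hle hac)).resolve_right hcq

variable (ω : Dual.D A)

/-- `dim Supp Hom(M, ω[i]) ≤ -i`. -/
theorem supportDim_hom_le (hω : Dual.IsDualizing A ω) (hn : Dual.IsNormalized A ω) :
    ∀ (j : ℕ) (i : ℤ), i + j = 0 → ∀ (M : Type u) [AddCommGroup M] [Module A M]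
      [Module.Finite A M],
      Module.supportDim A (sM (ModuleCat.of A M) ⟶ ω⟦i⟧) ≤ (j : WithBot ℕ∞) := by
  have hfin := dualizing_hfin ω hω
  have hpos := dualizing_hpos ω hω hn
  intro j
  induction j with
  | zero =>
    intro i hi M _ _ _
    obtain rfl : i = 0 := by simpa using hi
    obtain ⟨Γ, hΓ, x, hxm, hreg⟩ := exists_torsion_submodule (A := A) M
    have hS := Groth.Agent.H82.TorFlat.shortExact_of Γ.subtype Γ.mkQ Γ.injective_subtype
      (Submodule.mkQ_surjective Γ) (LinearMap.exact_subtype_mkQ Γ)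
    have hv : Van ω 0 (ModuleCat.of A (M ⧸ Γ)) :=
      van_of_regular ω (M ⧸ Γ) x hxm hreg 0 1 rfl (hfin _ _)
        (hpos (QuotSMulTop x (M ⧸ Γ)) 1 one_pos)
    let r : (sM (ModuleCat.of A M) ⟶ ω⟦(0 : ℤ)⟧) →ₗ[A] (sM (ModuleCat.of A Γ) ⟶ ω⟦(0 : ℤ)⟧) :=
      Linear.leftComp A (ω⟦(0 : ℤ)⟧)
        ((singleFunctor (ModuleCat.{u} A) 0).map (ModuleCat.ofHom Γ.subtype))
    have hr : Function.Injective r := by
      rw [injective_iff_map_eq_zero]
      intro φ hφ
      obtain ⟨φ', rfl⟩ := exists_factor hS (ω⟦(0 : ℤ)⟧) φ hφ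
      rw [hv φ', comp_zero]
    refine (Module.supportDim_le_of_injective r hr).trans ?_
    haveI := hfin Γ 0
    rw [Module.supportDim_eq_ringKrullDim_quotient_annihilator]
    simp only [Nat.cast_zero]
    refine ringKrullDim_quotient_le_zero _ (fun q hq hle => hΓ q hq (le_trans ?_ hle))
    intro a ha
    rw [Module.mem_annihilator]
    intro φ
    exact smul_hom_eq_zero_of_kills (ModuleCat.of A Γ) _ a
      (fun g => Module.mem_annihilator.1 ha g) φ
  | succ j ih =>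
    intro i hi M _ _ _
    obtain ⟨Γ, hΓ, x, hxm, hreg⟩ := exists_torsion_submodule (A := A) M
    have hS := Groth.Agent.H82.TorFlat.shortExact_of Γ.subtype Γ.mkQ Γ.injective_subtype
      (Submodule.mkQ_surjective Γ) (LinearMap.exact_subtype_mkQ Γ)
    -- `Hom(Γ, ω[i]) = 0`
    have hvΓ : Van ω i (ModuleCat.of A Γ) :=
      van_of_primes ω i Γ.annihilator
        (fun q hq hle => by
          rw [hΓ q hq hle]
          exact dualizing_hk ω hn i (by push_cast at hi; omega)) Γ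
        (fun a ha g => Module.mem_annihilator.1 ha g)
    -- surjection `Hom(M/Γ, ω[i]) → Hom(M, ω[i])`
    let π : (sM (ModuleCat.of A (M ⧸ Γ)) ⟶ ω⟦i⟧) →ₗ[A] (sM (ModuleCat.of A M) ⟶ ω⟦i⟧) :=
      Linear.leftComp A (ω⟦i⟧)
        ((singleFunctor (ModuleCat.{u} A) 0).map (ModuleCat.ofHom Γ.mkQ))
    have hπ : Function.Surjective π := by
      intro φ
      obtain ⟨φ', hφ'⟩ := exists_factor hS (ω⟦i⟧) φ (hvΓ _)
      exact ⟨φ', hφ'.symm⟩
    refine (Module.supportDim_le_of_surjective π hπ).trans ?_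
    -- the regular element
    have hreg' : IsSMulRegular (ModuleCat.of A (M ⧸ Γ)) x := hreg
    have hSx := hreg'.smulShortComplex_shortExact
    haveI := hfin (M ⧸ Γ) i
    refine (Module.supportDim_le_supportDim_quotSMulTop_succ hxm).trans ?_
    obtain ⟨c, hc⟩ : ∃ c : (sM (ModuleCat.of A (M ⧸ Γ)) ⟶ ω⟦i⟧) →ₗ[A]
        (sM (ModuleCat.of A (QuotSMulTop x (M ⧸ Γ))) ⟶ ω⟦i + 1⟧),
        ∀ ψ, c ψ = connₗ hSx ω i (i + 1) rfl ψ := ⟨connₗ hSx ω i (i + 1) rfl, fun _ => rfl⟩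
    have hle : x • (⊤ : Submodule A (sM (ModuleCat.of A (M ⧸ Γ)) ⟶ ω⟦i⟧)) ≤
        LinearMap.ker c := by
      intro ψ hψ
      obtain ⟨φ, -, rfl⟩ := (Submodule.mem_smul_pointwise_iff_exists _ _ _).1 hψ
      refine LinearMap.mem_ker.2 ?_
      rw [map_smul]
      exact smul_hom_eq_zero_of_kills (ModuleCat.of A (QuotSMulTop x (M ⧸ Γ))) _ x
        (smul_quotSMulTop_eq_zero' (M ⧸ Γ) x) _
    have hker : LinearMap.ker c ≤
        x • (⊤ : Submodule A (sM (ModuleCat.of A (M ⧸ Γ)) ⟶ ω⟦i⟧)) := by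
      intro ψ hψ
      have hψ0 : connₗ hSx ω i (i + 1) rfl ψ = 0 := (hc ψ).symm.trans (LinearMap.mem_ker.1 hψ)
      obtain ⟨φ, hφ⟩ := exists_lift_of_connₗ_eq_zero hSx ω i (i + 1) rfl ψ hψ0
      have hφ' : ψ = x • φ := hφ.trans (smulShortComplex_f_comp _ _ x φ)
      rw [hφ']
      exact Submodule.smul_mem_pointwise_smul _ _ _ Submodule.mem_top
    have hinj : Function.Injective
        (Submodule.liftQ (x • (⊤ : Submodule A (sM (ModuleCat.of A (M ⧸ Γ)) ⟶ ω⟦i⟧))) c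
          hle) := by
      rw [← LinearMap.ker_eq_bot]
      exact Submodule.ker_liftQ_eq_bot _ _ _ hker
    have h1 := Module.supportDim_le_of_injective _ hinj
    have h2 := ih (i + 1) (by push_cast at hi ⊢; omega) (QuotSMulTop x (M ⧸ Γ))
    push_cast
    exact add_le_add (h1.trans h2) le_rfl

end Local

end Groth.Agent.H12.DualDepth
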