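import Mathlib
import Groth.Prelude.Def_Wider
import Groth.Agent.H12.DualDim

/-!
# Non-vanishing of `Ext^{-d}(M, ω)` for `d = dim M` (helper12)

For a Noetherian local ring `A` with normalized dualizing complex `ω`:
* `smul_injective_hom_quotient_prime`: `Hom(A/q, ω[-e])`, `e = dim A/q`, is torsion-free over `A/q`;
* `exists_prime_dim_ge`: a prime of the support realizing the dimension;
* `not_van_quotient_prime`: `Hom(A/p, ω[-d]) ≠ 0` for `d = dim A/p`
  (finiteness of `Ass` + prime avoidance);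
* `exists_hom_not_killed`, `nontrivial_hom_of_supportDim_eq`: `Hom(M, ω[-d]) ≠ 0` for `d = dim M`.
-/

set_option autoImplicit false
universe u
open CategoryTheory CategoryTheory.Limits DerivedCategory Pretriangulated

namespace Groth.Agent.H12.DualDepth

attribute [local instance] HasDerivedCategory.standard

open DerivedCategory.TStructure
open scoped Pointwise

theorem natCast_succ_not_le (d : ℕ) (x : WithBot ℕ∞) (h1 : ((d + 1 : ℕ) : WithBot ℕ∞) ≤ x)
    (h2 : x ≤ (d : WithBot ℕ∞)) : False := by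
  have h3 : (((d + 1 : ℕ) : ℕ∞) : WithBot ℕ∞) ≤ ((d : ℕ∞) : WithBot ℕ∞) := h1.trans h2
  have h4 : ((d + 1 : ℕ) : ℕ∞) ≤ (d : ℕ∞) := WithBot.coe_le_coe.1 h3
  have h5 : d + 1 ≤ d := by exact_mod_cast h4
  omega

theorem natCast_lt_succ (d : ℕ) : (d : WithBot ℕ∞) < ((d + 1 : ℕ) : WithBot ℕ∞) := by
  have h : ((d : ℕ∞) : WithBot ℕ∞) < (((d + 1 : ℕ) : ℕ∞) : WithBot ℕ∞) :=
    WithBot.coe_lt_coe.2 (by exact_mod_cast Nat.lt_succ_self d)
  exact h

theorem natCast_zero_le (d : ℕ) : (0 : WithBot ℕ∞) ≤ (d : WithBot ℕ∞) := by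
  have h : ((0 : ℕ∞) : WithBot ℕ∞) ≤ ((d : ℕ∞) : WithBot ℕ∞) := WithBot.coe_le_coe.2 (by simp)
  exact h

section Local

variable {A : Type u} [CommRing A] [IsLocalRing A] [IsNoetherianRing A] (ω : Dual.D A)

theorem smul_quotient_eq_zero (q : Ideal A) (a : A) (ha : a ∈ q) (n : A ⧸ q) : a • n = 0 := by
  obtain ⟨b, rfl⟩ := Ideal.Quotient.mk_surjective n
  rw [Algebra.smul_def, Ideal.Quotient.algebraMap_eq, ← map_mul, Ideal.Quotient.eq_zero_iff_mem]
  exact Ideal.mul_mem_right _ _ ha

/-- `Hom(A/q, ω[-e])` is torsion-free over `A/q` for `e = dim A/q`. -/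
theorem smul_injective_hom_quotient_prime (hω : Dual.IsDualizing A ω)
    (hn : Dual.IsNormalized A ω) (q : Ideal A) [hq : q.IsPrime] (e : ℕ)
    (he : ringKrullDim (A ⧸ q) = (e : WithBot ℕ∞)) (y : A) (hy : y ∉ q)
    (φ : sM (ModuleCat.of A (A ⧸ q)) ⟶ ω⟦(-(e : ℤ))⟧) (h0 : y • φ = 0) : φ = 0 := by
  by_cases hym : y ∈ IsLocalRing.maximalIdeal A
  · have hreg : IsSMulRegular (A ⧸ q) y :=
      regular_quotient_prime ω (dualizing_hfin ω hω) q y hy
    have hreg' : IsSMulRegular (ModuleCat.of A (A ⧸ q)) y := hreg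
    have hS := hreg'.smulShortComplex_shortExact
    have h1 : (singleFunctor (ModuleCat.{u} A) 0).map
        ((ModuleCat.of A (A ⧸ q)).smulShortComplex y).f ≫ φ = 0 :=
      (smulShortComplex_f_comp _ _ y φ).trans h0
    obtain ⟨φ', rfl⟩ := exists_factor hS _ φ h1
    have hv : Van ω (-(e : ℤ)) (ModuleCat.of A (QuotSMulTop y (A ⧸ q))) := by
      refine van_of_supportDim_lt ω hω hn _ e ?_
      have h2 := Module.supportDim_quotSMulTop_succ_eq_supportDim hreg hym
      rw [Module.supportDim_quotient_eq_ringKrullDim, he] at h2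
      by_contra hcon
      rw [not_lt] at hcon
      refine natCast_succ_not_le e (Module.supportDim A (QuotSMulTop y (A ⧸ q)) + 1) ?_
        (le_of_eq h2)
      rw [Nat.cast_succ]
      exact ENat.WithBot.add_le_add_one_right_iff.2 hcon
    rw [hv φ']
    exact comp_zero
  · have hu : IsUnit y := by
      by_contra hnu
      exact hym ((IsLocalRing.mem_maximalIdeal y).2 hnu)
    obtain ⟨u, rfl⟩ := hu
    have h1 : φ = (↑u⁻¹ : A) • ((u : A) • φ) := by
      rw [smul_smul, Units.inv_mul, one_smul]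
    rw [h1, h0, smul_zero]

omit [IsLocalRing A] in
/-- a prime in the support realizing the dimension -/
theorem exists_prime_dim_ge (N : Type u) [AddCommGroup N] [Module A N] [Module.Finite A N]
    (n : ℕ) (h : (n : WithBot ℕ∞) ≤ Module.supportDim A N) :
    ∃ q : Ideal A, q.IsPrime ∧ Module.annihilator A N ≤ q ∧
      (n : WithBot ℕ∞) ≤ ringKrullDim (A ⧸ q) := by
  obtain ⟨l, hl⟩ := (Order.le_krullDim_iff (α := Module.support A N)).1 h
  refine ⟨l.head.1.asIdeal, l.head.1.2, Module.mem_support_iff_of_finite.1 l.head.2, ?_⟩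
  rw [ringKrullDim_quotient]
  have hmem : ∀ i, (l i).1 ∈ PrimeSpectrum.zeroLocus (R := A) (l.head.1.asIdeal : Set A) := by
    intro i
    have h1 : l.head ≤ l i := l.head_le i
    exact (PrimeSpectrum.mem_zeroLocus _ _).2 (SetLike.coe_subset_coe.2 h1)
  have hlen := Order.LTSeries.length_le_krullDim (LTSeries.mk l.length
    (fun i => (⟨(l i).1, hmem i⟩ :
      PrimeSpectrum.zeroLocus (R := A) (l.head.1.asIdeal : Set A)))
    (fun i j hij => l.strictMono hij))
  rw [← hl]
  exact hlen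

/-- `Hom(A/p, ω[-d]) ≠ 0` for `d = dim A/p`. -/
theorem not_van_quotient_prime (hω : Dual.IsDualizing A ω) (hn : Dual.IsNormalized A ω) :
    ∀ (d : ℕ) (p : Ideal A), p.IsPrime → ringKrullDim (A ⧸ p) = (d : WithBot ℕ∞) →
      ¬ Van ω (-(d : ℤ)) (ModuleCat.of A (A ⧸ p)) := by
  have hfin := dualizing_hfin ω hω
  have hpos := dualizing_hpos ω hω hn
  have hk0 := dualizing_hk0 ω hω hn
  have hm0 : ringKrullDim (A ⧸ IsLocalRing.maximalIdeal A) ≤ 0 :=
    ringKrullDim_quotient_le_zero _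
      (fun q hq hle => le_antisymm (IsLocalRing.le_maximalIdeal hq.ne_top) hle)
  haveI : Nontrivial (A ⧸ IsLocalRing.maximalIdeal A) :=
    Ideal.Quotient.nontrivial_iff.2 (IsLocalRing.maximalIdeal.isMaximal A).ne_top
  intro d
  induction d with
  | zero =>
    intro p hp hdim
    haveI := hp
    have hpm : p = IsLocalRing.maximalIdeal A := by
      by_contra hne
      have hlt : p < IsLocalRing.maximalIdeal A :=
        lt_of_le_of_ne (IsLocalRing.le_maximalIdeal hp.ne_top) hne
      have h1 := ringKrullDim_quotient_succ_le_of_lt hlt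
      rw [hdim] at h1
      have h0 : ((0 : ℕ) : WithBot ℕ∞) ≤ ringKrullDim (A ⧸ IsLocalRing.maximalIdeal A) := by
        rw [Nat.cast_zero]
        exact ringKrullDim_nonneg_of_nontrivial
      refine natCast_succ_not_le 0 _ ?_ h1
      rw [Nat.cast_succ]
      exact ENat.WithBot.add_le_add_one_right_iff.2 h0
    rw [hpm]
    simpa using hk0
  | succ d ih =>
    intro p hp hdim hvan
    haveI := hp
    have hdd : (-((d + 1 : ℕ) : ℤ)) + 1 = -(d : ℤ) := by push_cast; ring
    have hpm : p ≠ IsLocalRing.maximalIdeal A := by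
      rintro rfl
      rw [hdim] at hm0
      exact natCast_succ_not_le d _ le_rfl (hm0.trans (natCast_zero_le d))
    -- the key construction
    have key : ∀ x ∈ IsLocalRing.maximalIdeal A, x ∉ p → ∃ q : Ideal A, q.IsPrime ∧ x ∈ q ∧
        ringKrullDim (A ⧸ q) = (d : WithBot ℕ∞) ∧
        ∃ g : (sM (ModuleCat.of A (A ⧸ q)) ⟶ ω⟦(-(d : ℤ))⟧) →ₗ[A]
          (sM (ModuleCat.of A (A ⧸ p)) ⟶ ω⟦(-(d : ℤ))⟧), Function.Injective g := by
      intro x hxm hxp
      have hreg : IsSMulRegular (A ⧸ p) x := regular_quotient_prime ω hfin p x hxp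
      have h2 := Module.supportDim_quotSMulTop_succ_eq_supportDim hreg hxm
      rw [Module.supportDim_quotient_eq_ringKrullDim, hdim, Nat.cast_succ] at h2
      have hdQ : (d : WithBot ℕ∞) ≤ Module.supportDim A (QuotSMulTop x (A ⧸ p)) :=
        ENat.WithBot.add_le_add_one_right_iff.1 (le_of_eq h2.symm)
      have hsQ : Module.supportDim A (QuotSMulTop x (A ⧸ p)) ≤ (d : WithBot ℕ∞) :=
        ENat.WithBot.add_le_add_one_right_iff.1 (le_of_eq h2)
      obtain ⟨q, hq, hannq, hdq⟩ := exists_prime_dim_ge (QuotSMulTop x (A ⧸ p)) d hdQ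
      haveI := hq
      have hle : p ⊔ Ideal.span {x} ≤ q := fun y hy =>
        hannq (Module.mem_annihilator.2 (fun m => smul_quotSMulTop_eq_zero ω hfin p x y hy m))
      have hxq : x ∈ q := hle (Ideal.mem_sup_right (Ideal.subset_span rfl))
      have hpq : p < q := by
        refine lt_of_le_of_ne (le_sup_left.trans hle) ?_
        rintro rfl
        exact hxp hxq
      have hdq' : ringKrullDim (A ⧸ q) = (d : WithBot ℕ∞) := by
        refine le_antisymm ?_ hdq
        have h3 := ringKrullDim_quotient_succ_le_of_lt hpq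
        rw [hdim, Nat.cast_succ] at h3
        exact ENat.WithBot.add_le_add_one_right_iff.1 h3
      refine ⟨q, hq, hxq, hdq', ?_⟩
      -- the surjection `(A/p)/x → A/q`
      let f₀ : (A ⧸ p) →ₗ[A] (A ⧸ q) := (Ideal.Quotient.factorₐ A hpq.le).toLinearMap
      have hf₀ : ∀ b : A, f₀ (Ideal.Quotient.mk p b) = Ideal.Quotient.mk q b := fun b => rfl
      have hker : x • (⊤ : Submodule A (A ⧸ p)) ≤ LinearMap.ker f₀ := by
        intro z hz
        obtain ⟨w, -, rfl⟩ := (Submodule.mem_smul_pointwise_iff_exists _ _ _).1 hz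
        obtain ⟨b, rfl⟩ := Ideal.Quotient.mk_surjective w
        refine LinearMap.mem_ker.2 ?_
        rw [map_smul, hf₀]
        exact smul_quotient_eq_zero q x hxq _
      obtain ⟨g₁, hg₁⟩ : ∃ g₁ : QuotSMulTop x (A ⧸ p) →ₗ[A] (A ⧸ q),
          ∀ w, g₁ (Submodule.Quotient.mk w) = f₀ w :=
        ⟨Submodule.liftQ _ f₀ hker, fun w => rfl⟩
      have hg₁s : Function.Surjective g₁ := by
        intro z
        obtain ⟨b, rfl⟩ := Ideal.Quotient.mk_surjective z
        exact ⟨Submodule.Quotient.mk (Ideal.Quotient.mk p b), (hg₁ _).trans (hf₀ b)⟩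
      have hS₁ := Groth.Agent.H82.TorFlat.shortExact_of (LinearMap.ker g₁).subtype g₁
        (Submodule.injective_subtype _) hg₁s (LinearMap.exact_subtype_ker_map g₁)
      have hvK : Van ω (-((d + 1 : ℕ) : ℤ)) (ModuleCat.of A (LinearMap.ker g₁)) :=
        van_of_supportDim_lt ω hω hn _ (d + 1)
          (lt_of_le_of_lt ((Module.supportDim_le_of_injective _
            (Submodule.injective_subtype _)).trans hsQ) (natCast_lt_succ d))
      let r₁ : (sM (ModuleCat.of A (A ⧸ q)) ⟶ ω⟦(-(d : ℤ))⟧) →ₗ[A]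
          (sM (ModuleCat.of A (QuotSMulTop x (A ⧸ p))) ⟶ ω⟦(-(d : ℤ))⟧) :=
        Linear.leftComp A _ ((singleFunctor (ModuleCat.{u} A) 0).map (ModuleCat.ofHom g₁))
      have hr₁ : Function.Injective r₁ := by
        rw [injective_iff_map_eq_zero]
        intro φ hφ
        exact eq_zero_of_comp_g_eq_zero hS₁ ω _ _ hdd hvK φ hφ
      have hreg' : IsSMulRegular (ModuleCat.of A (A ⧸ p)) x := hreg
      have hS₂ := hreg'.smulShortComplex_shortExact
      let r₂ : (sM (ModuleCat.of A (QuotSMulTop x (A ⧸ p))) ⟶ ω⟦(-(d : ℤ))⟧) →ₗ[A]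
          (sM (ModuleCat.of A (A ⧸ p)) ⟶ ω⟦(-(d : ℤ))⟧) :=
        Linear.leftComp A _ ((singleFunctor (ModuleCat.{u} A) 0).map
          ((ModuleCat.of A (A ⧸ p)).smulShortComplex x).g)
      have hr₂ : Function.Injective r₂ := by
        rw [injective_iff_map_eq_zero]
        intro φ hφ
        exact eq_zero_of_comp_g_eq_zero hS₂ ω _ _ hdd hvan φ hφ
      exact ⟨r₂.comp r₁, hr₂.comp hr₁⟩
    -- an element of `m \ p`
    have hex : ∃ x ∈ IsLocalRing.maximalIdeal A, x ∉ p := by
      by_contra hcon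
      push_neg at hcon
      exact hpm (le_antisymm (IsLocalRing.le_maximalIdeal hp.ne_top) hcon)
    rcases Nat.eq_zero_or_pos d with rfl | hdpos
    · -- `d = 0`: `Hom(A/p, ω) = 0` since `A/p` has positive depth
      obtain ⟨x, hxm, hxp⟩ := hex
      obtain ⟨q, hq, -, hdq, g, hg⟩ := key x hxm hxp
      have hreg : IsSMulRegular (A ⧸ p) x := regular_quotient_prime ω hfin p x hxp
      have hv0 : Van ω (-((0 : ℕ) : ℤ)) (ModuleCat.of A (A ⧸ p)) := by
        simpa using van_of_regular ω (A ⧸ p) x hxm hreg 0 1 rfl (hfin _ _)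
          (hpos (QuotSMulTop x (A ⧸ p)) 1 one_pos)
      apply ih q hq hdq
      intro e₀
      exact hg ((hv0 (g e₀)).trans (map_zero g).symm)
    · -- `d ≥ 1`: associated primes and prime avoidance
      haveI : Module.Finite A (sM (ModuleCat.of A (A ⧸ p)) ⟶ ω⟦(-(d : ℤ))⟧) := hfin _ _
      have hAss : ∀ x ∈ IsLocalRing.maximalIdeal A, x ∉ p →
          ∃ q ∈ associatedPrimes A (sM (ModuleCat.of A (A ⧸ p)) ⟶ ω⟦(-(d : ℤ))⟧),
            q ≠ IsLocalRing.maximalIdeal A ∧ x ∈ q := by
        intro x hxm hxp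
        obtain ⟨q, hq, hxq, hdq, g, hg⟩ := key x hxm hxp
        haveI := hq
        obtain ⟨e₀, he₀⟩ : ∃ e₀ : sM (ModuleCat.of A (A ⧸ q)) ⟶ ω⟦(-(d : ℤ))⟧, e₀ ≠ 0 := by
          by_contra hcon
          push_neg at hcon
          exact ih q hq hdq hcon
        refine ⟨q, ?_, ?_, hxq⟩
        · rw [AssociatedPrimes.mem_iff, isAssociatedPrime_iff]
          refine ⟨hq, g e₀, ?_⟩
          ext a
          rw [Submodule.mem_colon_singleton, Submodule.mem_bot]
          constructor
          · intro ha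
            rw [← map_smul, smul_hom_eq_zero_of_kills (ModuleCat.of A (A ⧸ q)) _ a
              (fun n => smul_quotient_eq_zero q a ha n) e₀, map_zero]
          · intro ha
            by_contra haq
            rw [← map_smul] at ha
            have h1 : a • e₀ = 0 := hg (ha.trans (map_zero g).symm)
            exact he₀ (smul_injective_hom_quotient_prime ω hω hn q d hdq a haq e₀ h1)
        · rintro rfl
          obtain ⟨d', rfl⟩ : ∃ d', d = d' + 1 := ⟨d - 1, by omega⟩
          rw [hdq] at hm0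
          exact natCast_succ_not_le d' _ le_rfl (hm0.trans (natCast_zero_le d'))
      have hSfin : ({I | I ∈ associatedPrimes A (sM (ModuleCat.of A (A ⧸ p)) ⟶ ω⟦(-(d : ℤ))⟧) ∧
          I ≠ IsLocalRing.maximalIdeal A} ∪ {p} : Set (Ideal A)).Finite :=
        ((associatedPrimes.finite A _).subset (fun I hI => hI.1)).union (Set.finite_singleton p)
      have hSprime : ∀ I ∈ ({I | I ∈ associatedPrimes A
          (sM (ModuleCat.of A (A ⧸ p)) ⟶ ω⟦(-(d : ℤ))⟧) ∧
          I ≠ IsLocalRing.maximalIdeal A} ∪ {p} : Set (Ideal A)), I.IsPrime := by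
        rintro I (⟨hI, -⟩ | hI)
        · exact hI.isPrime
        · rw [Set.mem_singleton_iff.1 hI]
          exact hp
      have hnot : ¬ ((IsLocalRing.maximalIdeal A : Set A) ⊆
          ⋃ I ∈ ({I | I ∈ associatedPrimes A (sM (ModuleCat.of A (A ⧸ p)) ⟶ ω⟦(-(d : ℤ))⟧) ∧
            I ≠ IsLocalRing.maximalIdeal A} ∪ {p} : Set (Ideal A)), (I : Set A)) := by
        intro hsub
        obtain ⟨I, hIS, hmI⟩ := (Ideal.subset_union_prime_finite hSfin (f := fun I => I) p p
          (fun I hI _ _ => hSprime I hI)).1 hsub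
        have hIm : I = IsLocalRing.maximalIdeal A :=
          le_antisymm (IsLocalRing.le_maximalIdeal (hSprime I hIS).ne_top) hmI
        rcases hIS with ⟨-, hne⟩ | hIp
        · exact hne hIm
        · exact hpm ((Set.mem_singleton_iff.1 hIp).symm.trans hIm)
      obtain ⟨x, hxm, hxS⟩ := Set.not_subset.1 hnot
      have hxp : x ∉ p := fun h =>
        hxS (Set.mem_biUnion (Or.inr (Set.mem_singleton p)) h)
      obtain ⟨q, hqAss, hqm, hxq⟩ := hAss x hxm hxp
      exact hxS (Set.mem_biUnion (Or.inl ⟨hqAss, hqm⟩) hxq)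

/-- for `p` in the support of `M` with `dim A/p = d ≥ dim M`, there is an element of
`Hom(M, ω[-d])` not killed by any element outside `p`. -/
theorem exists_hom_not_killed (hω : Dual.IsDualizing A ω) (hn : Dual.IsNormalized A ω)
    (d : ℕ) (p : Ideal A) [hp : p.IsPrime] (hdim : ringKrullDim (A ⧸ p) = (d : WithBot ℕ∞)) :
    ∀ (M : Type u) [AddCommGroup M] [Module A M] [Module.Finite A M],
      Module.annihilator A M ≤ p → Module.supportDim A M ≤ (d : WithBot ℕ∞) →
      ∃ φ : sM (ModuleCat.of A M) ⟶ ω⟦(-(d : ℤ))⟧, ∀ s : A, s ∉ p → s • φ ≠ 0 := by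
  have hdd : (-((d + 1 : ℕ) : ℤ)) + 1 = -(d : ℤ) := by push_cast; ring
  intro M _ _ hM
  induction hM using IsNoetherianRing.induction_on_isQuotientEquivQuotientPrime A with
  | subsingleton N =>
    intro hann _
    exfalso
    have h1 : (1 : A) ∈ Module.annihilator A N :=
      Module.mem_annihilator.2 (fun n => Subsingleton.elim _ _)
    exact hp.ne_top ((Ideal.eq_top_iff_one _).2 (hann h1))
  | quotient N q f =>
    intro hann hdimN
    have hqp : q.asIdeal ≤ p := by
      intro a ha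
      apply hann
      rw [Module.mem_annihilator]
      intro n
      apply f.injective
      rw [map_smul, map_zero]
      exact smul_quotient_eq_zero q.asIdeal a ha _
    have hqeq : q.asIdeal = p := by
      by_contra hne
      have hlt : q.asIdeal < p := lt_of_le_of_ne hqp hne
      haveI := q.2
      have h1 := ringKrullDim_quotient_succ_le_of_lt hlt
      have h2 : ringKrullDim (A ⧸ q.asIdeal) ≤ (d : WithBot ℕ∞) := by
        rw [← Module.supportDim_quotient_eq_ringKrullDim, ← Module.supportDim_eq_of_equiv f]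
        exact hdimN
      rw [hdim, ← Nat.cast_succ] at h1
      exact natCast_succ_not_le d _ h1 h2
    subst hqeq
    have hnv := not_van_quotient_prime ω hω hn d q.asIdeal hp hdim
    obtain ⟨φ₀, hφ₀⟩ : ∃ φ₀ : sM (ModuleCat.of A (A ⧸ q.asIdeal)) ⟶ ω⟦(-(d : ℤ))⟧, φ₀ ≠ 0 := by
      by_contra hcon
      push_neg at hcon
      exact hnv hcon
    refine ⟨(singleFunctor (ModuleCat.{u} A) 0).map f.toModuleIso.hom ≫ φ₀, ?_⟩
    intro s hs h0
    rw [← Linear.comp_smul] at h0
    haveI : IsIso ((singleFunctor (ModuleCat.{u} A) 0).map f.toModuleIso.hom) :=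
      Functor.map_isIso _ _
    have h1 : s • φ₀ = 0 :=
      (cancel_epi ((singleFunctor (ModuleCat.{u} A) 0).map f.toModuleIso.hom)).1
        (h0.trans comp_zero.symm)
    exact hφ₀ (smul_injective_hom_quotient_prime ω hω hn q.asIdeal d hdim s hs φ₀ h1)
  | exact N₁ N₂ N₃ f g hf hg hfg h₁ h₃ =>
    intro hann hdimN
    have hS := Groth.Agent.H82.TorFlat.shortExact_of f g hf hg hfg
    have hd₁ : Module.supportDim A N₁ ≤ (d : WithBot ℕ∞) :=
      (Module.supportDim_le_of_injective f hf).trans hdimN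
    have hd₃ : Module.supportDim A N₃ ≤ (d : WithBot ℕ∞) :=
      (Module.supportDim_le_of_surjective g hg).trans hdimN
    by_cases h3 : Module.annihilator A N₃ ≤ p
    · obtain ⟨φ₃, hφ₃⟩ := h₃ h3 hd₃
      refine ⟨(singleFunctor (ModuleCat.{u} A) 0).map (ModuleCat.ofHom g) ≫ φ₃, ?_⟩
      intro s hs h0
      apply hφ₃ s hs
      rw [← Linear.comp_smul] at h0
      have hv₁ : Van ω (-((d + 1 : ℕ) : ℤ)) (ModuleCat.of A N₁) :=
        van_of_supportDim_lt ω hω hn N₁ (d + 1) (lt_of_le_of_lt hd₁ (natCast_lt_succ d))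
      exact eq_zero_of_comp_g_eq_zero hS ω _ _ hdd hv₁ _ h0
    · obtain ⟨s₀, hs₀ann, hs₀p⟩ := Set.not_subset.1 h3
      have h1 : Module.annihilator A N₁ ≤ p := by
        intro a ha
        have hmem : a * s₀ ∈ Module.annihilator A N₂ := by
          rw [Module.mem_annihilator]
          intro n
          have hgn : g (s₀ • n) = 0 := by
            rw [map_smul]
            exact Module.mem_annihilator.1 hs₀ann _
          obtain ⟨n₁, hn₁⟩ := (hfg (s₀ • n)).1 hgn
          rw [mul_smul, ← hn₁, ← map_smul, Module.mem_annihilator.1 ha, map_zero]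
        exact (hp.mem_or_mem (hann hmem)).resolve_right hs₀p
      obtain ⟨φ₁, hφ₁⟩ := h₁ h1 hd₁
      have hc : connₗ hS ω (-(d : ℤ)) (-(d : ℤ) + 1) rfl (s₀ • φ₁) = 0 := by
        rw [map_smul]
        exact smul_hom_eq_zero_of_kills (ModuleCat.of A N₃) _ s₀
          (fun n => Module.mem_annihilator.1 hs₀ann n) _
      obtain ⟨φ₂, hφ₂⟩ := exists_lift_of_connₗ_eq_zero hS ω _ _ rfl (s₀ • φ₁) hc
      refine ⟨φ₂, ?_⟩
      intro s hs h0
      apply hφ₁ (s * s₀) (fun hmem => (hp.mem_or_mem hmem).elim hs hs₀p)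
      rw [mul_smul, hφ₂, ← Linear.comp_smul, h0, comp_zero]

/-- `Hom(M, ω[-d]) ≠ 0` for `d = dim M`. -/
theorem nontrivial_hom_of_supportDim_eq (hω : Dual.IsDualizing A ω)
    (hn : Dual.IsNormalized A ω) (M : Type u) [AddCommGroup M] [Module A M]
    [Module.Finite A M] (d : ℕ) (hd : Module.supportDim A M = (d : WithBot ℕ∞)) :
    Nontrivial (Dual.inD A M ⟶ ω⟦(-(d : ℤ))⟧) := by
  obtain ⟨p, hp, hann, hdp⟩ := exists_prime_dim_ge M d (le_of_eq hd.symm)
  haveI := hp
  have hdim : ringKrullDim (A ⧸ p) = (d : WithBot ℕ∞) := by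
    refine le_antisymm ?_ hdp
    rw [← hd, Module.supportDim_eq_ringKrullDim_quotient_annihilator]
    exact ringKrullDim_le_of_surjective (Ideal.Quotient.factor hann)
      (Ideal.Quotient.factor_surjective hann)
  obtain ⟨φ, hφ⟩ := exists_hom_not_killed ω hω hn d p hdim M hann (le_of_eq hd)
  have hφ0 : φ ≠ 0 := by
    intro h0
    apply hφ 1 (fun h1 => hp.ne_top ((Ideal.eq_top_iff_one _).2 h1))
    rw [h0, smul_zero]
  exact ⟨⟨φ, 0, hφ0⟩⟩

end Local

end Groth.Agent.H12.DualDepth
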