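import Mathlib
import Groth.Agent.H12.AdjFin
import Groth.Agent.H56.DerCat7

/-!
# `Hom_{D(A)}(A[0], W[i]) ≃ₗ[A] H^i(W)` (helper12)

* `homSingleEquiv N : N ≃ₗ[A] (A[0] ⟶ N[0])`;
* `nonempty_linearEquiv_H0 Y : Nonempty ((A[0] ⟶ Y) ≃ₗ[A] H^0(Y))`;
* `nonempty_linearEquiv_Hi W i : Nonempty ((A[0] ⟶ W⟦i⟧) ≃ₗ[A] H^i(W))`.
-/

set_option autoImplicit false
universe u
open CategoryTheory CategoryTheory.Limits Pretriangulated
attribute [local instance] HasDerivedCategory.standard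

namespace Groth.Agent.H12.HomSingleRing

open DerivedCategory DerivedCategory.TStructure
open Groth.Agent.H12.FinExt (DA)

variable {A : Type u} [CommRing A]

/-- `A[0]` -/
noncomputable abbrev sA (A : Type u) [CommRing A] : DA A :=
  (singleFunctor (ModuleCat.{u} A) 0).obj (ModuleCat.of A A)

/-- `N ≃ Hom(A[0], N[0])` -/
noncomputable def homSingleEquiv (N : ModuleCat.{u} A) :
    N ≃ₗ[A] (sA A ⟶ (singleFunctor (ModuleCat.{u} A) 0).obj N) := by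
  let g : N →ₗ[A] (sA A ⟶ (singleFunctor (ModuleCat.{u} A) 0).obj N) :=
    ((singleFunctor (ModuleCat.{u} A) 0).mapLinearMap A).comp
      ((ModuleCat.homLinearEquiv (S := A) (M := ModuleCat.of A A) (N := N)).symm.toLinearMap.comp
        (LinearMap.ringLmapEquivSelf A A N).symm.toLinearMap)
  have hg : (g : N → _) = (fun f => (singleFunctor (ModuleCat.{u} A) 0).map f) ∘
      ((ModuleCat.homLinearEquiv (S := A) (M := ModuleCat.of A A) (N := N)).symm ∘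
        (LinearMap.ringLmapEquivSelf A A N).symm) := rfl
  refine LinearEquiv.ofBijective g ?_
  rw [hg]
  refine ⟨((singleFunctor (ModuleCat.{u} A) 0).map_injective).comp
    ((LinearEquiv.injective _).comp (LinearEquiv.injective _)), ?_⟩
  exact ((singleFunctor (ModuleCat.{u} A) 0).map_surjective).comp
    ((LinearEquiv.surjective _).comp (LinearEquiv.surjective _))

theorem step₁ (Y : DA A) :
    ∃ Y₁ : DA A, Y₁.IsLE 0 ∧ Nonempty ((sA A ⟶ Y₁) ≃ₗ[A] (sA A ⟶ Y)) ∧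
      Nonempty ((homologyFunctor (ModuleCat.{u} A) 0).obj Y₁ ≅
        (homologyFunctor (ModuleCat.{u} A) 0).obj Y) := by
  have hT₁ := t.triangleLTGE_distinguished 1 Y
  have hL₁ : Function.Bijective (Linear.rightComp A (sA A) ((t.truncLTι 1).app Y)) := by
    constructor
    · rw [injective_iff_map_eq_zero]
      intro f hf
      obtain ⟨g, hg⟩ := Triangle.coyoneda_exact₂ _ (inv_rot_of_distTriang _ hT₁) f hf
      have hGE : (((t.truncGE 1).obj Y)⟦(-1 : ℤ)⟧).IsGE 2 := t.isGE_shift _ 1 (-1) 2 (by omega)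
      have hg0 : g = 0 := t.zero_of_isLE_of_isGE g 0 2 (by omega) inferInstance hGE
      rw [hg, hg0]
      exact zero_comp
    · intro h
      have h0 : h ≫ (t.truncGEπ 1).app Y = 0 :=
        t.zero_of_isLE_of_isGE _ 0 1 (by omega) inferInstance inferInstance
      obtain ⟨g, hg⟩ := Triangle.coyoneda_exact₂ _ hT₁ h h0
      exact ⟨g, hg.symm⟩
  refine ⟨(t.truncLT 1).obj Y, inferInstanceAs (t.IsLE ((t.truncLT 1).obj Y) (1 - 1)),
    ⟨LinearEquiv.ofBijective _ hL₁⟩, ?_⟩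
  haveI := H56.isIso_homologyMap_truncLTι Y 1 0 (by omega)
  exact ⟨asIso ((homologyFunctor (ModuleCat.{u} A) 0).map ((t.truncLTι 1).app Y))⟩

theorem step₂ (Y₁ : DA A) [Y₁.IsLE 0] :
    ∃ Y₂ : DA A, Y₂.IsLE 0 ∧ Y₂.IsGE 0 ∧ Nonempty ((sA A ⟶ Y₁) ≃ₗ[A] (sA A ⟶ Y₂)) ∧
      Nonempty ((homologyFunctor (ModuleCat.{u} A) 0).obj Y₁ ≅
        (homologyFunctor (ModuleCat.{u} A) 0).obj Y₂) := by
  haveI : Projective (ModuleCat.of A A) :=
    (IsProjective.iff_projective (R := A) (P := A)).mp inferInstance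
  have hT₂ := t.triangleLTGE_distinguished 0 Y₁
  haveI hLE₀ : ((t.truncLT 0).obj Y₁).IsLE (-1) :=
    inferInstanceAs (t.IsLE ((t.truncLT 0).obj Y₁) (0 - 1))
  have hL₂ : Function.Bijective (Linear.rightComp A (sA A) ((t.truncGEπ 0).app Y₁)) := by
    constructor
    · rw [injective_iff_map_eq_zero]
      intro f hf
      obtain ⟨g, hg⟩ := Triangle.coyoneda_exact₂ _ hT₂ f hf
      have hg0 : g = 0 :=
        H56.hom_single_projective_eq_zero (ModuleCat.of A A) ((t.truncLT 0).obj Y₁) (-1)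
          (by omega) g
      rw [hg, hg0]
      exact zero_comp
    · intro h
      haveI : (((t.truncLT 0).obj Y₁)⟦(1 : ℤ)⟧).IsLE (-2) :=
        t.isLE_shift _ (-1) 1 (-2) (by omega)
      have h0 : h ≫ ((t.triangleLTGE 0).obj Y₁).mor₃ = 0 :=
        H56.hom_single_projective_eq_zero (ModuleCat.of A A)
          (((t.truncLT 0).obj Y₁)⟦(1 : ℤ)⟧) (-2) (by omega) _
      obtain ⟨g, hg⟩ := Triangle.coyoneda_exact₃ _ hT₂ h h0
      exact ⟨g, hg.symm⟩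
  refine ⟨(t.truncGE 0).obj Y₁, inferInstanceAs (t.IsLE ((t.truncGE 0).obj Y₁) 0),
    inferInstanceAs (t.IsGE ((t.truncGE 0).obj Y₁) 0), ⟨LinearEquiv.ofBijective _ hL₂⟩, ?_⟩
  haveI := H56.isIso_homologyMap_truncGEπ Y₁ 0 0 le_rfl
  exact ⟨asIso ((homologyFunctor (ModuleCat.{u} A) 0).map ((t.truncGEπ 0).app Y₁))⟩

theorem nonempty_linearEquiv_H0 (Y : DA A) :
    Nonempty ((sA A ⟶ Y) ≃ₗ[A] ((homologyFunctor (ModuleCat.{u} A) 0).obj Y)) := by
  obtain ⟨Y₁, hY₁, ⟨E₁⟩, ⟨e₁⟩⟩ := step₁ Y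
  haveI := hY₁
  obtain ⟨Y₂, hLE, hGE, ⟨E₂⟩, ⟨e₂⟩⟩ := step₂ Y₁
  haveI := hLE
  haveI := hGE
  obtain ⟨e⟩ := H56.nonempty_iso_single Y₂ 0
  let L₃ : (sA A ⟶ Y₂) ≃ₗ[A]
      (sA A ⟶ (singleFunctor (ModuleCat.{u} A) 0).obj
        ((homologyFunctor (ModuleCat.{u} A) 0).obj Y₂)) :=
    LinearEquiv.ofLinear (Linear.rightComp A (sA A) e.hom) (Linear.rightComp A (sA A) e.inv)
      (by ext f; simp) (by ext f; simp)
  exact ⟨E₁.symm ≪≫ₗ E₂ ≪≫ₗ L₃ ≪≫ₗ
    (homSingleEquiv ((homologyFunctor (ModuleCat.{u} A) 0).obj Y₂)).symm ≪≫ₗ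
    e₂.symm.toLinearEquiv ≪≫ₗ e₁.toLinearEquiv⟩

theorem nonempty_linearEquiv_Hi (W : DA A) (i : ℤ) :
    Nonempty ((sA A ⟶ W⟦i⟧) ≃ₗ[A] ((homologyFunctor (ModuleCat.{u} A) i).obj W)) := by
  obtain ⟨e₀⟩ := nonempty_linearEquiv_H0 (W⟦i⟧)
  have eH : (homologyFunctor (ModuleCat.{u} A) 0).obj (W⟦i⟧) ≅
      (homologyFunctor (ModuleCat.{u} A) i).obj W :=
    ((homologyFunctor (ModuleCat.{u} A) 0).shiftIso i 0 i (by omega)).app W
  exact ⟨e₀ ≪≫ₗ eH.toLinearEquiv⟩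

end Groth.Agent.H12.HomSingleRing
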