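import Mathlib
import Groth.Prelude.Def_Wider
import Groth.Agent.H12.DualNonvan
import Groth.Agent.H12.HomSingleRing

/-!
# The cohomology of a normalized dualizing complex at a minimal prime (helper12)

For a Noetherian local ring `A` with normalized dualizing complex `ω` and a minimal prime `p`
with `dim A/p = e`: `H^i(ω)_p ≠ 0 ↔ i = -e`.
-/

set_option autoImplicit false
universe u
open CategoryTheory CategoryTheory.Limits DerivedCategory Pretriangulated

namespace Groth.Agent.H12.DualDepth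

attribute [local instance] HasDerivedCategory.standard

open DerivedCategory.TStructure
open scoped Pointwise

theorem natCast_le_imp (a b : ℕ) (h : (a : WithBot ℕ∞) ≤ (b : WithBot ℕ∞)) : a ≤ b := by
  have h3 : ((a : ℕ∞) : WithBot ℕ∞) ≤ ((b : ℕ∞) : WithBot ℕ∞) := h
  have h4 : (a : ℕ∞) ≤ (b : ℕ∞) := WithBot.coe_le_coe.1 h3
  exact_mod_cast h4

section General

variable {A : Type u} [CommRing A]

/-- exactness of `Hom(X₁, W[i]) → Hom(X₃, W[i+1]) → Hom(X₂, W[i+1])` -/
theorem exists_connₗ_eq {S : ShortComplex (ModuleCat.{u} A)} (hS : S.ShortExact) (W : Dual.D A)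
    (i j : ℤ) (h : i + 1 = j) (φ : sM S.X₃ ⟶ W⟦j⟧)
    (h0 : (singleFunctor (ModuleCat.{u} A) 0).map S.g ≫ φ = 0) :
    ∃ ψ : sM S.X₁ ⟶ W⟦i⟧, φ = connₗ hS W i j h ψ := by
  obtain ⟨g, hg⟩ := Triangle.yoneda_exact₃ _ hS.singleTriangle_distinguished φ h0
  obtain ⟨ψ, hψ⟩ := exists_shift_eq (sM S.X₁) W i j h g
  refine ⟨ψ, ?_⟩
  rw [connₗ_apply, hg, hψ]
  rfl

end General

section Local

variable {A : Type u} [CommRing A] [IsLocalRing A] [IsNoetherianRing A] (ω : Dual.D A)

/-- above the dimension of `A/p`, `Hom(M, ω[-j])` is killed by an element outside the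
minimal prime `p`. -/
theorem killedOutside_of_dim_lt (hω : Dual.IsDualizing A ω) (hn : Dual.IsNormalized A ω)
    (p : Ideal A) [hp : p.IsPrime] (hmin : ∀ q : Ideal A, q.IsPrime → q ≤ p → q = p)
    (e : ℕ) (he : ringKrullDim (A ⧸ p) = (e : WithBot ℕ∞)) (j : ℕ) (hj : e < j) :
    ∀ (M : Type u) [AddCommGroup M] [Module A M] [Module.Finite A M],
      ∃ s : A, s ∉ p ∧ ∀ φ : sM (ModuleCat.of A M) ⟶ ω⟦(-(j : ℤ))⟧, s • φ = 0 := by
  have h1p : (1 : A) ∉ p := fun h1 => hp.ne_top ((Ideal.eq_top_iff_one _).2 h1)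
  intro M _ _ hM
  induction hM using IsNoetherianRing.induction_on_isQuotientEquivQuotientPrime A with
  | subsingleton N =>
    refine ⟨1, h1p, fun φ => ?_⟩
    rw [van_of_isZero (ModuleCat.isZero_of_subsingleton _) φ, smul_zero]
  | quotient N q f =>
    by_cases hqp : q.asIdeal = p
    · refine ⟨1, h1p, fun φ => ?_⟩
      have hv : Van ω (-(j : ℤ)) (ModuleCat.of A (A ⧸ q.asIdeal)) := by
        refine van_of_supportDim_lt ω hω hn _ j ?_
        rw [Module.supportDim_quotient_eq_ringKrullDim, hqp, he]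
        have h : ((e : ℕ∞) : WithBot ℕ∞) < ((j : ℕ∞) : WithBot ℕ∞) :=
          WithBot.coe_lt_coe.2 (by exact_mod_cast hj)
        exact h
      rw [van_of_iso f.symm.toModuleIso hv φ, smul_zero]
    · have hnle : ¬ q.asIdeal ≤ p := fun hle => hqp (hmin q.asIdeal q.2 hle)
      obtain ⟨s, hsq, hsp⟩ := Set.not_subset.1 hnle
      refine ⟨s, hsp, fun φ => ?_⟩
      refine smul_hom_eq_zero_of_kills (ModuleCat.of A N) _ s (fun n => ?_) φ
      apply f.injective
      rw [map_smul, map_zero]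
      exact smul_quotient_eq_zero q.asIdeal s hsq _
  | exact N₁ N₂ N₃ f g hf hg hfg h₁ h₃ =>
    have hS := Groth.Agent.H82.TorFlat.shortExact_of f g hf hg hfg
    obtain ⟨s₁, hs₁p, hs₁⟩ := h₁
    obtain ⟨s₃, hs₃p, hs₃⟩ := h₃
    refine ⟨s₃ * s₁, fun hmem => (hp.mem_or_mem hmem).elim hs₃p hs₁p, fun φ => ?_⟩
    have h0 : (singleFunctor (ModuleCat.{u} A) 0).map (ModuleCat.ofHom f) ≫ (s₁ • φ) = 0 := by
      rw [Linear.comp_smul]
      exact hs₁ _
    obtain ⟨φ', hφ'⟩ := exists_factor hS _ (s₁ • φ) h0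
    rw [mul_smul, hφ']
    have h2 : s₃ • ((singleFunctor (ModuleCat.{u} A) 0).map (ModuleCat.ofHom g) ≫ φ') =
        (singleFunctor (ModuleCat.{u} A) 0).map (ModuleCat.ofHom g) ≫ (s₃ • φ') := by
      rw [Linear.comp_smul]
    refine h2.trans ?_
    rw [hs₃ φ']
    exact comp_zero

/-- for a minimal prime `p` in the support of `M`, with `e = dim A/p`, there is an element of
`Hom(M, ω[-e])` not killed by any element outside `p`. -/
theorem exists_hom_not_killed_min (hω : Dual.IsDualizing A ω) (hn : Dual.IsNormalized A ω)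
    (p : Ideal A) [hp : p.IsPrime] (hmin : ∀ q : Ideal A, q.IsPrime → q ≤ p → q = p)
    (e : ℕ) (he : ringKrullDim (A ⧸ p) = (e : WithBot ℕ∞)) :
    ∀ (M : Type u) [AddCommGroup M] [Module A M] [Module.Finite A M],
      Module.annihilator A M ≤ p →
      ∃ φ : sM (ModuleCat.of A M) ⟶ ω⟦(-(e : ℤ))⟧, ∀ s : A, s ∉ p → s • φ ≠ 0 := by
  have hdd : (-((e + 1 : ℕ) : ℤ)) + 1 = -(e : ℤ) := by push_cast; ring
  intro M _ _ hM
  induction hM using IsNoetherianRing.induction_on_isQuotientEquivQuotientPrime A with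
  | subsingleton N =>
    intro hann
    exfalso
    have h1 : (1 : A) ∈ Module.annihilator A N :=
      Module.mem_annihilator.2 (fun n => Subsingleton.elim _ _)
    exact hp.ne_top ((Ideal.eq_top_iff_one _).2 (hann h1))
  | quotient N q f =>
    intro hann
    have hqp : q.asIdeal ≤ p := by
      intro a ha
      apply hann
      rw [Module.mem_annihilator]
      intro n
      apply f.injective
      rw [map_smul, map_zero]
      exact smul_quotient_eq_zero q.asIdeal a ha _
    have hqeq : q.asIdeal = p := hmin q.asIdeal q.2 hqp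
    subst hqeq
    have hnv := not_van_quotient_prime ω hω hn e q.asIdeal hp he
    obtain ⟨φ₀, hφ₀⟩ : ∃ φ₀ : sM (ModuleCat.of A (A ⧸ q.asIdeal)) ⟶ ω⟦(-(e : ℤ))⟧, φ₀ ≠ 0 := by
      by_contra hcon
      push_neg at hcon
      exact hnv hcon
    refine ⟨(singleFunctor (ModuleCat.{u} A) 0).map f.toModuleIso.hom ≫ φ₀, ?_⟩
    intro s hs h0
    rw [← Linear.comp_smul] at h0
    haveI : IsIso ((singleFunctor (ModuleCat.{u} A) 0).map f.toModuleIso.hom) :=
      Functor.map_isIso _ _
    have h1 : s • φ₀ = 0 :=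
      (cancel_epi ((singleFunctor (ModuleCat.{u} A) 0).map f.toModuleIso.hom)).1
        (h0.trans comp_zero.symm)
    exact hφ₀ (smul_injective_hom_quotient_prime ω hω hn q.asIdeal e he s hs φ₀ h1)
  | exact N₁ N₂ N₃ f g hf hg hfg h₁ h₃ =>
    intro hann
    have hS := Groth.Agent.H82.TorFlat.shortExact_of f g hf hg hfg
    by_cases h3 : Module.annihilator A N₃ ≤ p
    · obtain ⟨φ₃, hφ₃⟩ := h₃ h3
      refine ⟨(singleFunctor (ModuleCat.{u} A) 0).map (ModuleCat.ofHom g) ≫ φ₃, ?_⟩
      intro s hs h0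
      rw [← Linear.comp_smul] at h0
      obtain ⟨χ, hχ⟩ := exists_connₗ_eq hS ω _ _ hdd (s • φ₃) h0
      obtain ⟨s₁, hs₁p, hs₁⟩ := killedOutside_of_dim_lt ω hω hn p hmin e he (e + 1)
        (Nat.lt_succ_self e) N₁
      apply hφ₃ (s₁ * s) (fun hmem => (hp.mem_or_mem hmem).elim hs₁p hs)
      rw [mul_smul, hχ, ← map_smul, hs₁ χ, map_zero]
    · obtain ⟨s₀, hs₀ann, hs₀p⟩ := Set.not_subset.1 h3
      have h1 : Module.annihilator A N₁ ≤ p := by
        intro a ha
        have hmem : a * s₀ ∈ Module.annihilator A N₂ := by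
          rw [Module.mem_annihilator]
          intro n
          have hgn : g (s₀ • n) = 0 := by
            rw [map_smul]
            exact Module.mem_annihilator.1 hs₀ann _
          obtain ⟨n₁, hn₁⟩ := (hfg (s₀ • n)).1 hgn
          rw [mul_smul, ← hn₁, ← map_smul, Module.mem_annihilator.1 ha, map_zero]
        exact (hp.mem_or_mem (hann hmem)).resolve_right hs₀p
      obtain ⟨φ₁, hφ₁⟩ := h₁ h1
      have hc : connₗ hS ω (-(e : ℤ)) (-(e : ℤ) + 1) rfl (s₀ • φ₁) = 0 := by
        rw [map_smul]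
        exact smul_hom_eq_zero_of_kills (ModuleCat.of A N₃) _ s₀
          (fun n => Module.mem_annihilator.1 hs₀ann n) _
      obtain ⟨φ₂, hφ₂⟩ := exists_lift_of_connₗ_eq_zero hS ω _ _ rfl (s₀ • φ₁) hc
      refine ⟨φ₂, ?_⟩
      intro s hs h0
      apply hφ₁ (s * s₀) (fun hmem => (hp.mem_or_mem hmem).elim hs hs₀p)
      rw [mul_smul, hφ₂, ← Linear.comp_smul, h0, comp_zero]

/-- `H^i(ω)_p ≠ 0 ↔ i = -dim A/p` for a minimal prime `p`. -/
theorem nontrivial_localized_homology_iff (hω : Dual.IsDualizing A ω)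
    (hn : Dual.IsNormalized A ω) (p : Ideal A) (hp : p ∈ minimalPrimes A) (e : ℕ)
    (he : ringKrullDim (A ⧸ p) = (e : WithBot ℕ∞)) (i : ℤ) :
    Nontrivial (LocalizedModule (Ideal.primeCompl p (hp := hp.1.1)) (Dual.HD A ω i)) ↔
      i = -(e : ℤ) := by
  haveI hpp : p.IsPrime := hp.1.1
  have hmin : ∀ q : Ideal A, q.IsPrime → q ≤ p → q = p := fun q hq hle =>
    le_antisymm hle (hp.2 ⟨hq, bot_le⟩ hle)
  have h1p : (1 : A) ∉ p := fun h1 => hpp.ne_top ((Ideal.eq_top_iff_one _).2 h1)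
  obtain ⟨L⟩ := HomSingleRing.nonempty_linearEquiv_Hi ω i
  have hsupp : Nontrivial (LocalizedModule (Ideal.primeCompl p (hp := hp.1.1)) (Dual.HD A ω i)) ↔
      ∃ m : Dual.HD A ω i, ∀ r : A, r ∉ p → r • m ≠ 0 :=
    Module.mem_support_iff' (p := (⟨p, hp.1.1⟩ : PrimeSpectrum A))
  rw [hsupp]
  constructor
  · rintro ⟨m, hm⟩
    by_contra hne
    have hkill : ∃ s : A, s ∉ p ∧ ∀ φ : sM (ModuleCat.of A A) ⟶ ω⟦i⟧, s • φ = 0 := by
      rcases lt_trichotomy i (-(e : ℤ)) with hlt | heq | hgt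
      · obtain ⟨j, rfl⟩ : ∃ j : ℕ, i = -(j : ℤ) := ⟨(-i).toNat, by omega⟩
        exact killedOutside_of_dim_lt ω hω hn p hmin e he j (by omega) A
      · exact absurd heq hne
      · by_cases hi0 : 0 < i
        · exact ⟨1, h1p, fun φ => by rw [dualizing_hpos ω hω hn A i hi0 φ, smul_zero]⟩
        · obtain ⟨j, rfl⟩ : ∃ j : ℕ, i = -(j : ℤ) := ⟨(-i).toNat, by omega⟩
          have hsd := supportDim_hom_le ω hω hn j (-(j : ℤ)) (by omega) A
          haveI := dualizing_hfin ω hω A (-(j : ℤ))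
          by_contra hcon
          push_neg at hcon
          have hle : Module.annihilator A (sM (ModuleCat.of A A) ⟶ ω⟦(-(j : ℤ))⟧) ≤ p := by
            intro a ha
            by_contra hap
            obtain ⟨φ, hφ⟩ := hcon a hap
            exact hφ (Module.mem_annihilator.1 ha φ)
          have h1 : ringKrullDim (A ⧸ p) ≤
              Module.supportDim A (sM (ModuleCat.of A A) ⟶ ω⟦(-(j : ℤ))⟧) := by
            rw [Module.supportDim_eq_ringKrullDim_quotient_annihilator]
            exact ringKrullDim_le_of_surjective (Ideal.Quotient.factor hle)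
              (Ideal.Quotient.factor_surjective hle)
          rw [he] at h1
          have h2 := natCast_le_imp e j (h1.trans hsd)
          omega
    obtain ⟨s, hsp, hs⟩ := hkill
    apply hm s hsp
    have h3 : s • L.symm m = 0 := hs (L.symm m)
    have h4 : L.symm (s • m) = 0 := by rw [map_smul]; exact h3
    exact L.symm.injective (h4.trans (map_zero L.symm).symm)
  · rintro rfl
    have hA : Module.annihilator A A ≤ p := by
      intro a ha
      have h := Module.mem_annihilator.1 ha (1 : A)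
      rw [smul_eq_mul, mul_one] at h
      rw [h]
      exact p.zero_mem
    obtain ⟨φ, hφ⟩ := exists_hom_not_killed_min ω hω hn p hmin e he A hA
    refine ⟨L φ, fun r hr h0 => hφ r hr ?_⟩
    rw [← map_smul] at h0
    exact L.injective (h0.trans (map_zero L).symm)

end Local

end Groth.Agent.H12.DualDepth
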