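import Mathlib
import Groth.Agent.H12.HDTBasic
import Groth.Agent.H58.LCTors
import Groth.Agent.H35.Devissage
import Groth.Agent.H56.DerCat

/-!
# `H_T` of objects with torsion cohomology (helper12)

* `homologyFunctor_map_smul_id`: the cohomology functors on `D(A)` are `A`-linear;
* `finite_HY_single`: `H_T(N[p])` is finite for a finite module `N` killed by an ideal of the system
  (it vanishes for `p ≠ 0`);
* `finite_HY_of_torsion`: `H_T(L[i])` is finite for `L ∈ D⁺` with finite cohomology modules all killed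
  by one ideal of the system.
-/

set_option autoImplicit false
universe u
open CategoryTheory CategoryTheory.Limits Pretriangulated Opposite
attribute [local instance] HasDerivedCategory.standard

namespace Groth.Agent.H12.HDT

open DerivedCategory DerivedCategory.TStructure
open Groth.Agent.H12.FinExt (DA)
open Groth.Agent.H12
open Dual2 (IdealsIn idealsInDiagram)

section Linear

variable {A : Type u} [CommRing A]

lemma homologyMap_smul' {L L' : CochainComplex (ModuleCat.{u} A) ℤ} (a : A) (f : L ⟶ L') (j : ℤ) :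
    HomologicalComplex.homologyMap (a • f) j = a • HomologicalComplex.homologyMap f j := by
  have h : (HomologicalComplex.shortComplexFunctor (ModuleCat.{u} A) (ComplexShape.up ℤ) j).map
      (a • f) = a • (HomologicalComplex.shortComplexFunctor (ModuleCat.{u} A)
        (ComplexShape.up ℤ) j).map f := by
    ext <;> rfl
  show ShortComplex.homologyMap ((HomologicalComplex.shortComplexFunctor (ModuleCat.{u} A)
      (ComplexShape.up ℤ) j).map (a • f)) = a • ShortComplex.homologyMap
        ((HomologicalComplex.shortComplexFunctor (ModuleCat.{u} A) (ComplexShape.up ℤ) j).map f)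
  rw [h]
  exact ShortComplex.homologyMap_smul _ _

theorem homologyFunctor_map_smul_id_Q (a : A) (L : CochainComplex (ModuleCat.{u} A) ℤ) (j : ℤ) :
    (homologyFunctor (ModuleCat.{u} A) j).map (a • 𝟙 (Q.obj L)) =
      a • 𝟙 ((homologyFunctor (ModuleCat.{u} A) j).obj (Q.obj L)) := by
  have h1 : a • 𝟙 (Q.obj L) = Q.map (a • 𝟙 L) := by
    rw [Functor.map_smul, CategoryTheory.Functor.map_id]
  rw [h1]
  let φ : (homologyFunctor (ModuleCat.{u} A) j).obj (Q.obj L) ≅ L.homology j :=
    (homologyFunctorFactors (ModuleCat.{u} A) j).app L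
  have h2 : (homologyFunctor (ModuleCat.{u} A) j).map (Q.map (a • 𝟙 L)) ≫ φ.hom =
      φ.hom ≫ HomologicalComplex.homologyMap (a • 𝟙 L) j :=
    homologyFunctorFactors_hom_naturality (C := ModuleCat.{u} A) (a • 𝟙 L) j
  have h3 : HomologicalComplex.homologyMap (a • 𝟙 L) j = a • 𝟙 (L.homology j) := by
    rw [homologyMap_smul', HomologicalComplex.homologyMap_id]
  rw [h3, Linear.comp_smul, Category.comp_id] at h2
  have h4 : (homologyFunctor (ModuleCat.{u} A) j).map (Q.map (a • 𝟙 L)) =
      ((homologyFunctor (ModuleCat.{u} A) j).map (Q.map (a • 𝟙 L)) ≫ φ.hom) ≫ φ.inv := by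
    rw [Category.assoc, φ.hom_inv_id, Category.comp_id]
  rw [h4, h2, Linear.smul_comp, φ.hom_inv_id]

theorem homologyFunctor_map_smul_id (a : A) (K : DA A) (j : ℤ) :
    (homologyFunctor (ModuleCat.{u} A) j).map (a • 𝟙 K) =
      a • 𝟙 ((homologyFunctor (ModuleCat.{u} A) j).obj K) := by
  obtain ⟨L, ⟨e⟩⟩ : ∃ L : CochainComplex (ModuleCat.{u} A) ℤ, Nonempty (Q.obj L ≅ K) :=
    ⟨_, ⟨Q.objObjPreimageIso K⟩⟩
  have h1 : a • 𝟙 K = e.inv ≫ (a • 𝟙 (Q.obj L)) ≫ e.hom := by
    rw [Linear.smul_comp, Linear.comp_smul, Category.id_comp, e.inv_hom_id]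
  rw [h1, Functor.map_comp, Functor.map_comp, homologyFunctor_map_smul_id_Q, Linear.smul_comp,
    Linear.comp_smul, Category.id_comp, ← Functor.map_comp, e.inv_hom_id,
    CategoryTheory.Functor.map_id]

theorem homologyFunctor_map_smul_id_apply (a : A) (K : DA A) (j : ℤ)
    (x : (homologyFunctor (ModuleCat.{u} A) j).obj K) :
    ((homologyFunctor (ModuleCat.{u} A) j).map (a • 𝟙 K)).hom x = a • x := by
  rw [homologyFunctor_map_smul_id]
  rfl

/-- naturality of the scalar action -/
theorem homologyFunctor_map_smul_apply {K K' : DA A} (g : K ⟶ K') (a : A) (j : ℤ)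
    (x : (homologyFunctor (ModuleCat.{u} A) j).obj K) :
    ((homologyFunctor (ModuleCat.{u} A) j).map (a • g)).hom x =
      a • ((homologyFunctor (ModuleCat.{u} A) j).map g).hom x := by
  have h : a • g = (a • 𝟙 K) ≫ g := by rw [Linear.smul_comp, Category.id_comp]
  rw [h, Functor.map_comp, ModuleCat.hom_comp, LinearMap.comp_apply,
    homologyFunctor_map_smul_id_apply, map_smul]

end Linear

section Vanish

variable {A : Type u} [CommRing A] (T : Set (PrimeSpectrum A))

theorem eq_zero_of_isGE' (Y : DA A) (n : ℤ) (hn : 0 < n) [Y.IsGE n] (x : HY T Y) : x = 0 := by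
  obtain ⟨J, y, rfl⟩ := exists_rep T Y x
  have hy : y = 0 := t.zero_of_isLE_of_isGE y 0 n hn inferInstance inferInstance
  rw [hy, map_zero]

theorem eq_zero_of_isZero (Y : DA A) (hY : IsZero Y) (x : HY T Y) : x = 0 := by
  obtain ⟨J, y, rfl⟩ := exists_rep T Y x
  rw [hY.eq_of_tgt y 0, map_zero]

theorem finite_of_forall_eq_zero (Y : DA A) (h : ∀ x : HY T Y, x = 0) :
    Module.Finite A (HY T Y) := by
  haveI : Subsingleton (HY T Y) := ⟨fun x y => by rw [h x, h y]⟩
  infer_instance

theorem finite_of_iso {Y Y' : DA A} (e : Y ≅ Y') (h : Module.Finite A (HY T Y)) :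
    Module.Finite A (HY T Y') :=
  haveI := h
  Module.Finite.equiv (equivOfIso T e)

/-- finiteness in the middle of a distinguished triangle -/
theorem finite_obj₂ [IsNoetherianRing A] (Tr : Triangle (DA A)) (hTr : Tr ∈ distTriang (DA A))
    (h₁ : Module.Finite A (HY T Tr.obj₁)) (h₃ : Module.Finite A (HY T Tr.obj₃)) :
    Module.Finite A (HY T Tr.obj₂) :=
  FinExt.finite_of_exact h₁ h₃ (mapH T Tr.mor₁).hom (mapH T Tr.mor₂).hom
    (fun y hy => exact_of_distTriang T Tr hTr y hy)

theorem isExtClosed_finite [IsNoetherianRing A] :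
    H35.Devissage.IsExtClosed (fun X : DA A => ∀ i : ℤ, Module.Finite A (HY T (X⟦i⟧))) where
  iso := fun e h i => finite_of_iso T ((shiftFunctor (DA A) i).mapIso e) (h i)
  zero := fun hK i => finite_of_forall_eq_zero T _
    (eq_zero_of_isZero T _ ((shiftFunctor (DA A) i).map_isZero hK))
  ext := fun Tr hTr h₁ h₃ i =>
    finite_obj₂ T _ (Triangle.shift_distinguished Tr hTr i) (h₁ i) (h₃ i)

end Vanish

end Groth.Agent.H12.HDT
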