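import Mathlib
import Groth.Prelude.Def_Wider
import Groth.Agent.H35.Devissage
import Groth.Agent.H12.DualDepth

/-!
# Maps of `Hom` modules in `D(A)` which are isomorphisms up to `S`-torsion (helper12)

* `SInj S h`, `SSurj S h`: a linear map whose kernel (resp. cokernel) is `S`-torsion;
* `sInj_of_five`, `sSurj_of_five`: the five lemma for these;
* `conn`: the connecting map `Hom(T₁, W[i]) → Hom(T₃, W[i+1])` of a triangle, with the pieces of the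
  long exact sequence of `Hom(-, W[•])`;
* `Pr S γ K`: postcomposition with `γ : W ⟶ W'` is an isomorphism up to `S`-torsion on
  `Hom(K, W[n])` for all `n`; `isExtClosed` (two-out-of-three in `K`), and the variants
  `sInj_obj₃`, `sSurj_obj₃` centred at the third vertex.
-/

set_option autoImplicit false
universe u
open CategoryTheory CategoryTheory.Limits DerivedCategory Pretriangulated

namespace Groth.Agent.H12.LocHom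

attribute [local instance] HasDerivedCategory.standard

section Abstract

variable {A : Type*} [CommRing A] (S : Submonoid A)

/-- the kernel is `S`-torsion -/
def SInj {X Y : Type*} [AddCommGroup X] [Module A X] [AddCommGroup Y] [Module A Y]
    (h : X →ₗ[A] Y) : Prop := ∀ x : X, h x = 0 → ∃ s ∈ S, s • x = 0

/-- the cokernel is `S`-torsion -/
def SSurj {X Y : Type*} [AddCommGroup X] [Module A X] [AddCommGroup Y] [Module A Y]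
    (h : X →ₗ[A] Y) : Prop := ∀ y : Y, ∃ s ∈ S, ∃ x : X, h x = s • y

variable {X₁ X₂ X₃ X₄ X₅ Y₁ Y₂ Y₃ Y₄ Y₅ : Type*}
  [AddCommGroup X₁] [Module A X₁] [AddCommGroup X₂] [Module A X₂] [AddCommGroup X₃] [Module A X₃]
  [AddCommGroup X₄] [Module A X₄] [AddCommGroup X₅] [Module A X₅]
  [AddCommGroup Y₁] [Module A Y₁] [AddCommGroup Y₂] [Module A Y₂] [AddCommGroup Y₃] [Module A Y₃]
  [AddCommGroup Y₄] [Module A Y₄] [AddCommGroup Y₅] [Module A Y₅]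

theorem sInj_of_five (f₁ : X₁ →ₗ[A] X₂) (f₂ : X₂ →ₗ[A] X₃) (f₃ : X₃ →ₗ[A] X₄)
    (g₁ : Y₁ →ₗ[A] Y₂) (g₂ : Y₂ →ₗ[A] Y₃) (g₃ : Y₃ →ₗ[A] Y₄)
    (h₁ : X₁ →ₗ[A] Y₁) (h₂ : X₂ →ₗ[A] Y₂) (h₃ : X₃ →ₗ[A] Y₃) (h₄ : X₄ →ₗ[A] Y₄)
    (c₁ : ∀ x, h₂ (f₁ x) = g₁ (h₁ x)) (c₂ : ∀ x, h₃ (f₂ x) = g₂ (h₂ x))
    (c₃ : ∀ x, h₄ (f₃ x) = g₃ (h₃ x))
    (zf : ∀ x, f₂ (f₁ x) = 0)
    (ef : ∀ x, f₃ x = 0 → ∃ x', f₂ x' = x)
    (eg : ∀ y, g₂ y = 0 → ∃ y', g₁ y' = y)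
    (s₁ : SSurj S h₁) (i₂ : SInj S h₂) (i₄ : SInj S h₄) : SInj S h₃ := by
  intro x₃ hx₃
  obtain ⟨s, hs, hs0⟩ := i₄ (f₃ x₃) (by rw [c₃, hx₃, map_zero])
  obtain ⟨x₂, hx₂⟩ := ef (s • x₃) (by rw [map_smul, hs0])
  obtain ⟨y₁, hy₁⟩ := eg (h₂ x₂) (by rw [← c₂, hx₂, map_smul, hx₃, smul_zero])
  obtain ⟨t, ht, x₁, hx₁⟩ := s₁ y₁
  obtain ⟨u, hu, hu0⟩ := i₂ (t • x₂ - f₁ x₁)
    (by rw [map_sub, map_smul, c₁, hx₁, map_smul, hy₁, sub_self])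
  refine ⟨u * (t * s), S.mul_mem hu (S.mul_mem ht hs), ?_⟩
  have h1 : u • t • x₂ = f₁ (u • x₁) := by
    rw [smul_sub, sub_eq_zero] at hu0
    rw [hu0, map_smul]
  calc (u * (t * s)) • x₃ = u • t • (s • x₃) := by rw [mul_smul, mul_smul]
    _ = f₂ (u • t • x₂) := by rw [← hx₂, map_smul, map_smul]
    _ = 0 := by rw [h1, zf]

theorem sSurj_of_five (f₂ : X₂ →ₗ[A] X₃) (f₃ : X₃ →ₗ[A] X₄) (f₄ : X₄ →ₗ[A] X₅)
    (g₂ : Y₂ →ₗ[A] Y₃) (g₃ : Y₃ →ₗ[A] Y₄) (g₄ : Y₄ →ₗ[A] Y₅)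
    (h₂ : X₂ →ₗ[A] Y₂) (h₃ : X₃ →ₗ[A] Y₃) (h₄ : X₄ →ₗ[A] Y₄) (h₅ : X₅ →ₗ[A] Y₅)
    (c₂ : ∀ x, h₃ (f₂ x) = g₂ (h₂ x)) (c₃ : ∀ x, h₄ (f₃ x) = g₃ (h₃ x))
    (c₄ : ∀ x, h₅ (f₄ x) = g₄ (h₄ x))
    (zg : ∀ y, g₄ (g₃ y) = 0)
    (ef : ∀ x, f₄ x = 0 → ∃ x', f₃ x' = x)
    (eg : ∀ y, g₃ y = 0 → ∃ y', g₂ y' = y)
    (s₂ : SSurj S h₂) (s₄ : SSurj S h₄) (i₅ : SInj S h₅) : SSurj S h₃ := by
  intro y₃
  obtain ⟨s, hs, x₄, hx₄⟩ := s₄ (g₃ y₃)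
  obtain ⟨t, ht, ht0⟩ := i₅ (f₄ x₄) (by rw [c₄, hx₄, map_smul, zg, smul_zero])
  obtain ⟨x₃, hx₃⟩ := ef (t • x₄) (by rw [map_smul, ht0])
  obtain ⟨y₂, hy₂⟩ := eg (h₃ x₃ - (t * s) • y₃) (by
    rw [map_sub, ← c₃, hx₃, map_smul, hx₄, map_smul, mul_smul, sub_self])
  obtain ⟨u, hu, x₂, hx₂⟩ := s₂ y₂
  refine ⟨u * (t * s), S.mul_mem hu (S.mul_mem ht hs), u • x₃ - f₂ x₂, ?_⟩
  rw [map_sub, map_smul, c₂, hx₂, map_smul, hy₂, smul_sub, sub_sub_cancel]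
  exact (mul_smul u (t * s) y₃).symm

end Abstract

section Tri

variable {A : Type u} [CommRing A]

/-- the connecting map `Hom(T₁, W[i]) → Hom(T₃, W[i+1])` -/
noncomputable def conn (T : Triangle (Dual.D A)) (W : Dual.D A) (i j : ℤ) (h : i + 1 = j) :
    (T.obj₁ ⟶ W⟦i⟧) →ₗ[A] (T.obj₃ ⟶ W⟦j⟧) :=
  (Linear.leftComp A (W⟦j⟧) T.mor₃).comp
    ((Linear.rightComp A (T.obj₁⟦(1 : ℤ)⟧)
        ((shiftFunctorAdd' (Dual.D A) i 1 j h).inv.app W)).comp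
      ((shiftFunctor (Dual.D A) (1 : ℤ)).mapLinearMap A))

theorem conn_apply (T : Triangle (Dual.D A)) (W : Dual.D A) (i j : ℤ) (h : i + 1 = j)
    (ψ : T.obj₁ ⟶ W⟦i⟧) :
    conn T W i j h ψ =
      T.mor₃ ≫ (ψ⟦(1 : ℤ)⟧' ≫ (shiftFunctorAdd' (Dual.D A) i 1 j h).inv.app W) := rfl

theorem conn_natural (T : Triangle (Dual.D A)) {W W' : Dual.D A} (γ : W ⟶ W') (i j : ℤ)
    (h : i + 1 = j) (ψ : T.obj₁ ⟶ W⟦i⟧) :
    conn T W' i j h (ψ ≫ γ⟦i⟧') = conn T W i j h ψ ≫ γ⟦j⟧' := by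
  rw [conn_apply, conn_apply, Functor.map_comp, Category.assoc, Category.assoc, Category.assoc]
  congr 2
  exact (shiftFunctorAdd' (Dual.D A) i 1 j h).inv.naturality γ

variable (T : Triangle (Dual.D A)) (hT : T ∈ distTriang (Dual.D A))
include hT

theorem exists_of_mor₁_comp {W' : Dual.D A} (φ : T.obj₂ ⟶ W') (h0 : T.mor₁ ≫ φ = 0) :
    ∃ χ : T.obj₃ ⟶ W', T.mor₂ ≫ χ = φ := by
  obtain ⟨χ, hχ⟩ := Triangle.yoneda_exact₂ T hT φ h0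
  exact ⟨χ, hχ.symm⟩

theorem exists_of_conn_eq_zero (W : Dual.D A) (i j : ℤ) (h : i + 1 = j) (ψ : T.obj₁ ⟶ W⟦i⟧)
    (h0 : conn T W i j h ψ = 0) : ∃ φ : T.obj₂ ⟶ W⟦i⟧, T.mor₁ ≫ φ = ψ := by
  have hT' := rot_of_distTriang _ hT
  have h0' : T.mor₃ ≫ (ψ⟦(1 : ℤ)⟧' ≫ (shiftFunctorAdd' (Dual.D A) i 1 j h).inv.app W) = 0 := h0
  obtain ⟨χ', hχ'⟩ := Triangle.yoneda_exact₃ _ hT'
    (ψ⟦(1 : ℤ)⟧' ≫ (shiftFunctorAdd' (Dual.D A) i 1 j h).inv.app W) h0'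
  have hχ'' : ψ⟦(1 : ℤ)⟧' ≫ (shiftFunctorAdd' (Dual.D A) i 1 j h).inv.app W =
      (-(T.mor₁)⟦(1 : ℤ)⟧') ≫ χ' := hχ'
  obtain ⟨φ', hφ'⟩ := DualDepth.exists_shift_eq T.obj₂ W i j h χ'
  refine ⟨-φ', ?_⟩
  apply (shiftFunctor (Dual.D A) (1 : ℤ)).map_injective
  rw [← cancel_mono ((shiftFunctorAdd' (Dual.D A) i 1 j h).inv.app W), hχ'', hφ']
  simp only [Functor.map_comp, Functor.map_neg, Preadditive.neg_comp, Preadditive.comp_neg,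
    Category.assoc]

theorem exists_conn_eq (W : Dual.D A) (i j : ℤ) (h : i + 1 = j) (χ : T.obj₃ ⟶ W⟦j⟧)
    (h0 : T.mor₂ ≫ χ = 0) : ∃ ψ : T.obj₁ ⟶ W⟦i⟧, conn T W i j h ψ = χ := by
  obtain ⟨g, hg⟩ := Triangle.yoneda_exact₃ T hT χ h0
  obtain ⟨ψ, hψ⟩ := DualDepth.exists_shift_eq T.obj₁ W i j h g
  refine ⟨ψ, ?_⟩
  rw [conn_apply, hg, hψ]

theorem conn_mor₁_comp (W : Dual.D A) (i j : ℤ) (h : i + 1 = j) (φ : T.obj₂ ⟶ W⟦i⟧) :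
    conn T W i j h (T.mor₁ ≫ φ) = 0 := by
  rw [conn_apply, Functor.map_comp, Category.assoc, ← Category.assoc,
    comp_distTriang_mor_zero₃₁ T hT, zero_comp]

theorem mor₂_comp_conn (W : Dual.D A) (i j : ℤ) (h : i + 1 = j) (ψ : T.obj₁ ⟶ W⟦i⟧) :
    T.mor₂ ≫ conn T W i j h ψ = 0 := by
  rw [conn_apply, ← Category.assoc, comp_distTriang_mor_zero₂₃ T hT, zero_comp]

theorem mor₁_comp_mor₂_comp {W' : Dual.D A} (χ : T.obj₃ ⟶ W') : T.mor₁ ≫ T.mor₂ ≫ χ = 0 := by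
  rw [← Category.assoc, comp_distTriang_mor_zero₁₂ T hT, zero_comp]

end Tri

section Pr

variable {A : Type u} [CommRing A] (S : Submonoid A) {W W' : Dual.D A} (γ : W ⟶ W')

/-- postcomposition with `γ[n]` -/
noncomputable abbrev post (K : Dual.D A) (n : ℤ) : (K ⟶ W⟦n⟧) →ₗ[A] (K ⟶ W'⟦n⟧) :=
  Linear.rightComp A K (γ⟦n⟧')

/-- postcomposition with `γ` is an isomorphism up to `S`-torsion on `Hom(K, W[n])`, all `n` -/
def Pr (K : Dual.D A) : Prop := ∀ n : ℤ, SInj S (post γ K n) ∧ SSurj S (post γ K n)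

variable (T : Triangle (Dual.D A)) (hT : T ∈ distTriang (Dual.D A))
include hT

theorem sInj_obj₂ (n m : ℤ) (hm : m + 1 = n)
    (s₁ : SSurj S (post γ T.obj₁ m)) (i₃ : SInj S (post γ T.obj₃ n))
    (i₁ : SInj S (post γ T.obj₁ n)) : SInj S (post γ T.obj₂ n) :=
  sInj_of_five S (conn T W m n hm) (Linear.leftComp A (W⟦n⟧) T.mor₂)
    (Linear.leftComp A (W⟦n⟧) T.mor₁)
    (conn T W' m n hm) (Linear.leftComp A (W'⟦n⟧) T.mor₂) (Linear.leftComp A (W'⟦n⟧) T.mor₁)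
    (post γ T.obj₁ m) (post γ T.obj₃ n) (post γ T.obj₂ n) (post γ T.obj₁ n)
    (fun x => (conn_natural T γ m n hm x).symm)
    (fun x => Category.assoc T.mor₂ x (γ⟦n⟧')) (fun x => Category.assoc T.mor₁ x (γ⟦n⟧'))
    (fun x => mor₂_comp_conn T hT W m n hm x)
    (fun x hx => exists_of_mor₁_comp T hT x hx)
    (fun y hy => exists_conn_eq T hT W' m n hm y hy)
    s₁ i₃ i₁

theorem sSurj_obj₂ (n p : ℤ) (hp : n + 1 = p)
    (s₃ : SSurj S (post γ T.obj₃ n)) (s₁ : SSurj S (post γ T.obj₁ n))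
    (i₃ : SInj S (post γ T.obj₃ p)) : SSurj S (post γ T.obj₂ n) :=
  sSurj_of_five S (Linear.leftComp A (W⟦n⟧) T.mor₂) (Linear.leftComp A (W⟦n⟧) T.mor₁)
    (conn T W n p hp)
    (Linear.leftComp A (W'⟦n⟧) T.mor₂) (Linear.leftComp A (W'⟦n⟧) T.mor₁) (conn T W' n p hp)
    (post γ T.obj₃ n) (post γ T.obj₂ n) (post γ T.obj₁ n) (post γ T.obj₃ p)
    (fun x => Category.assoc T.mor₂ x (γ⟦n⟧')) (fun x => Category.assoc T.mor₁ x (γ⟦n⟧'))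
    (fun x => (conn_natural T γ n p hp x).symm)
    (fun y => conn_mor₁_comp T hT W' n p hp y)
    (fun x hx => exists_of_conn_eq_zero T hT W n p hp x hx)
    (fun y hy => exists_of_mor₁_comp T hT y hy)
    s₃ s₁ i₃

theorem sInj_obj₃ (n m : ℤ) (hm : m + 1 = n)
    (s₂ : SSurj S (post γ T.obj₂ m)) (i₁ : SInj S (post γ T.obj₁ m))
    (i₂ : SInj S (post γ T.obj₂ n)) : SInj S (post γ T.obj₃ n) :=
  sInj_of_five S (Linear.leftComp A (W⟦m⟧) T.mor₁) (conn T W m n hm)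
    (Linear.leftComp A (W⟦n⟧) T.mor₂)
    (Linear.leftComp A (W'⟦m⟧) T.mor₁) (conn T W' m n hm) (Linear.leftComp A (W'⟦n⟧) T.mor₂)
    (post γ T.obj₂ m) (post γ T.obj₁ m) (post γ T.obj₃ n) (post γ T.obj₂ n)
    (fun x => Category.assoc T.mor₁ x (γ⟦m⟧'))
    (fun x => (conn_natural T γ m n hm x).symm)
    (fun x => Category.assoc T.mor₂ x (γ⟦n⟧'))
    (fun x => conn_mor₁_comp T hT W m n hm x)
    (fun x hx => exists_conn_eq T hT W m n hm x hx)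
    (fun y hy => exists_of_conn_eq_zero T hT W' m n hm y hy)
    s₂ i₁ i₂

theorem sSurj_obj₃ (n m : ℤ) (hm : m + 1 = n)
    (s₁ : SSurj S (post γ T.obj₁ m)) (s₂ : SSurj S (post γ T.obj₂ n))
    (i₁ : SInj S (post γ T.obj₁ n)) : SSurj S (post γ T.obj₃ n) :=
  sSurj_of_five S (conn T W m n hm) (Linear.leftComp A (W⟦n⟧) T.mor₂)
    (Linear.leftComp A (W⟦n⟧) T.mor₁)
    (conn T W' m n hm) (Linear.leftComp A (W'⟦n⟧) T.mor₂) (Linear.leftComp A (W'⟦n⟧) T.mor₁)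
    (post γ T.obj₁ m) (post γ T.obj₃ n) (post γ T.obj₂ n) (post γ T.obj₁ n)
    (fun x => (conn_natural T γ m n hm x).symm)
    (fun x => Category.assoc T.mor₂ x (γ⟦n⟧')) (fun x => Category.assoc T.mor₁ x (γ⟦n⟧'))
    (fun y => mor₁_comp_mor₂_comp T hT y)
    (fun x hx => exists_of_mor₁_comp T hT x hx)
    (fun y hy => exists_conn_eq T hT W' m n hm y hy)
    s₁ s₂ i₁

end Pr

section Closed

variable {A : Type u} [CommRing A] (S : Submonoid A) {W W' : Dual.D A} (γ : W ⟶ W')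

theorem pr_of_iso {K K' : Dual.D A} (e : K ≅ K') (h : Pr S γ K) : Pr S γ K' := by
  intro n
  constructor
  · intro x hx
    have hx' : x ≫ γ⟦n⟧' = 0 := hx
    obtain ⟨s, hs, hs0⟩ := (h n).1 (e.hom ≫ x) (by
      show (e.hom ≫ x) ≫ γ⟦n⟧' = 0
      rw [Category.assoc, hx', comp_zero])
    refine ⟨s, hs, ?_⟩
    rw [← cancel_epi e.hom, Linear.comp_smul, hs0, comp_zero]
  · intro y
    obtain ⟨s, hs, x, hx⟩ := (h n).2 (e.hom ≫ y)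
    have hx' : x ≫ γ⟦n⟧' = s • (e.hom ≫ y) := hx
    refine ⟨s, hs, e.inv ≫ x, ?_⟩
    show (e.inv ≫ x) ≫ γ⟦n⟧' = s • y
    rw [Category.assoc, hx', Linear.comp_smul, e.inv_hom_id_assoc]

theorem pr_of_isZero {K : Dual.D A} (hK : IsZero K) : Pr S γ K := by
  intro n
  constructor
  · intro x _
    exact ⟨1, S.one_mem, hK.eq_of_src _ _⟩
  · intro y
    exact ⟨1, S.one_mem, 0, hK.eq_of_src _ _⟩

theorem isExtClosed : H35.Devissage.IsExtClosed (Pr S γ) where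
  iso := fun e h => pr_of_iso S γ e h
  zero := fun hK => pr_of_isZero S γ hK
  ext := fun T hT h₁ h₃ n =>
    ⟨sInj_obj₂ S γ T hT n (n - 1) (by omega) (h₁ (n - 1)).2 (h₃ n).1 (h₁ n).1,
      sSurj_obj₂ S γ T hT n (n + 1) rfl (h₃ n).2 (h₁ n).2 (h₃ (n + 1)).1⟩

end Closed

end Groth.Agent.H12.LocHom
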