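import Mathlib
import Groth.Agent.H12.LocHomA
import Groth.Agent.H35.TorIndBC
import Groth.Agent.H35.LBC
import Groth.Agent.H82.TorBC

/-!
# The unit `N ⟶ (N ⊗^L S⁻¹A)|_A` is a localization on cohomology (helper12)

* `SIsoM S f`: a morphism of `A`-modules whose kernel and cokernel are `S`-torsion;
* `unit_sIsoM`: the unit `H ⟶ (S⁻¹A ⊗ H)|_A` of extension/restriction of scalars;
* `homologyMap_unitCx_sIsoM`: the termwise unit of a complex, on cohomology (flatness of `S⁻¹A`);
* `homology_unit_sIsoM`: the unit of `LBaseChange ⊣ restrictD` on cohomology.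
-/

set_option autoImplicit false
universe u
open CategoryTheory CategoryTheory.Limits DerivedCategory Pretriangulated TensorProduct

namespace Groth.Agent.H12.LocHom

attribute [local instance] HasDerivedCategory.standard

section ModuleLevel

variable {A : Type u} [CommRing A] (S : Submonoid A)

/-- kernel and cokernel are `S`-torsion -/
def SIsoM {X Y : ModuleCat.{u} A} (f : X ⟶ Y) : Prop := SInj S f.hom ∧ SSurj S f.hom

theorem sIsoM_comp_iso {X X' Y' Y : ModuleCat.{u} A} (a : X ⟶ X') [IsIso a] (g : X' ⟶ Y')
    (b : Y' ⟶ Y) [IsIso b] (hg : SIsoM S g) : SIsoM S (a ≫ g ≫ b) := by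
  have hb : Function.Injective b.hom := by
    intro y y' h
    have h2 : (b ≫ inv b).hom y = (b ≫ inv b).hom y' := congrArg (inv b).hom h
    rwa [IsIso.hom_inv_id] at h2
  have ha : Function.Injective a.hom := by
    intro y y' h
    have h2 : (a ≫ inv a).hom y = (a ≫ inv a).hom y' := congrArg (inv a).hom h
    rwa [IsIso.hom_inv_id] at h2
  constructor
  · intro x hx
    have hx' : b.hom (g.hom (a.hom x)) = 0 := hx
    have h1 : g.hom (a.hom x) = 0 := hb (hx'.trans (map_zero _).symm)
    obtain ⟨s, hs, hs0⟩ := hg.1 (a.hom x) h1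
    refine ⟨s, hs, ha ?_⟩
    rw [map_smul, hs0, map_zero]
  · intro y
    obtain ⟨s, hs, x', hx'⟩ := hg.2 ((inv b).hom y)
    refine ⟨s, hs, (inv a).hom x', ?_⟩
    show b.hom (g.hom (a.hom ((inv a).hom x'))) = s • y
    have h1 : a.hom ((inv a).hom x') = x' := by
      have : (inv a ≫ a).hom x' = x' := by rw [IsIso.inv_hom_id]; rfl
      exact this
    rw [h1, hx', map_smul]
    have h2 : b.hom ((inv b).hom y) = y := by
      have : (inv b ≫ b).hom y = y := by rw [IsIso.inv_hom_id]; rfl
      exact this
    rw [h2]

/-- the standard base change, as a localization -/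
theorem isLocalizedModule_mk (H : Type u) [AddCommGroup H] [Module A H] :
    IsLocalizedModule S (TensorProduct.mk A (Localization S) H 1) :=
  (isLocalizedModule_iff_isBaseChange S (Localization S) _).2
    (TensorProduct.isBaseChange A H (Localization S))

theorem bcEquiv_one_tmul (H : ModuleCat.{u} A) (x : H) :
    H82.TorBC.bcEquiv A (Localization S) H ((1 : Localization S) ⊗ₜ[A] x) =
      ((ModuleCat.extendRestrictScalarsAdj.{u, u, u}
        (algebraMap A (Localization S))).unit.app H).hom x := rfl

theorem unit_sIsoM (H : ModuleCat.{u} A) :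
    SIsoM S ((ModuleCat.extendRestrictScalarsAdj.{u, u, u}
      (algebraMap A (Localization S))).unit.app H) := by
  haveI := isLocalizedModule_mk S H
  constructor
  · intro x hx
    have h1 : H82.TorBC.bcEquiv A (Localization S) H ((1 : Localization S) ⊗ₜ[A] x) = 0 :=
      (bcEquiv_one_tmul S H x).trans hx
    have h2 : TensorProduct.mk A (Localization S) H 1 x = 0 :=
      (H82.TorBC.bcEquiv A (Localization S) H).injective (h1.trans (map_zero _).symm)
    obtain ⟨c, hc⟩ :=
      (IsLocalizedModule.eq_zero_iff S (TensorProduct.mk A (Localization S) H 1)).1 h2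
    exact ⟨c, c.2, hc⟩
  · intro y
    obtain ⟨⟨x, s⟩, hxs⟩ := IsLocalizedModule.surj S (TensorProduct.mk A (Localization S) H 1)
      ((H82.TorBC.bcEquiv A (Localization S) H).symm y)
    refine ⟨s, s.2, x, ?_⟩
    have hxs' : ((s : A) • ((H82.TorBC.bcEquiv A (Localization S) H).symm y)) =
        (1 : Localization S) ⊗ₜ[A] x := hxs
    rw [← bcEquiv_one_tmul, ← hxs', ← algebraMap_smul (Localization S) (s : A), map_smul,
      LinearEquiv.apply_symm_apply]
    rfl

end ModuleLevel

section Complexes

variable {A : Type u} [CommRing A] (S : Submonoid A)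

local notation "φ" => algebraMap A (Localization S)

theorem flat_algebraMap : (algebraMap A (Localization S)).Flat :=
  RingHom.flat_algebraMap_iff.2 inferInstance

theorem homologyMap_unitCx_sIsoM (P : DRing.Cx A) (n : ℤ) :
    SIsoM S (HomologicalComplex.homologyMap ((DTen.unitCx (algebraMap A (Localization S))).app P)
      n) := by
  haveI : PreservesFiniteLimits (ModuleCat.extendScalars.{u, u, u} (algebraMap A (Localization S))) :=
    ModuleCat.preservesFiniteLimits_extendScalars_of_flat (flat_algebraMap S)
  have h1 : HomologicalComplex.homologyMap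
      ((DTen.unitCx (algebraMap A (Localization S))).app P) n =
      ShortComplex.homologyMap ((P.sc n).mapNatTrans
        (ModuleCat.extendRestrictScalarsAdj.{u, u, u} (algebraMap A (Localization S))).unit) := rfl
  rw [h1, ShortComplex.homologyMap_mapNatTrans]
  exact sIsoM_comp_iso S _ _ _ (unit_sIsoM S _)

end Complexes

section Derived

variable {A : Type u} [CommRing A] (S : Submonoid A)
  [DRing.HasLBaseChange (algebraMap A (Localization S))]

/-- the adjunction `LBaseChange ⊣ restrictD` -/
noncomputable abbrev adjL :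
    DRing.LBaseChange (algebraMap A (Localization S)) ⊣
      DRing.restrictD (algebraMap A (Localization S)) :=
  H35.TorIndBC.adj₀ (algebraMap A (Localization S))

/-- `N ↦ (N ⊗^L S⁻¹A)|_A` -/
noncomputable abbrev TL : Dual.D A ⥤ Dual.D A :=
  DRing.LBaseChange (algebraMap A (Localization S)) ⋙
    DRing.restrictD (algebraMap A (Localization S))

/-- the unit `N ⟶ (N ⊗^L S⁻¹A)|_A` -/
noncomputable abbrev ηL (N : Dual.D A) : N ⟶ (TL S).obj N := (adjL S).unit.app N

theorem homology_Q_map_sIsoM {P P' : DRing.Cx A} (u : P ⟶ P') (n : ℤ)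
    (h : SIsoM S (HomologicalComplex.homologyMap u n)) :
    SIsoM S ((homologyFunctor (ModuleCat.{u} A) n).map (Q.map u)) := by
  let φP : (homologyFunctor (ModuleCat.{u} A) n).obj (Q.obj P) ≅ P.homology n :=
    (homologyFunctorFactors (ModuleCat.{u} A) n).app P
  let φP' : (homologyFunctor (ModuleCat.{u} A) n).obj (Q.obj P') ≅ P'.homology n :=
    (homologyFunctorFactors (ModuleCat.{u} A) n).app P'
  have h2 : (homologyFunctor (ModuleCat.{u} A) n).map (Q.map u) ≫ φP'.hom =
      φP.hom ≫ HomologicalComplex.homologyMap u n :=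
    homologyFunctorFactors_hom_naturality (C := ModuleCat.{u} A) u n
  have h3 : (homologyFunctor (ModuleCat.{u} A) n).map (Q.map u) =
      φP.hom ≫ HomologicalComplex.homologyMap u n ≫ φP'.inv := by
    rw [← Category.assoc, ← h2, Category.assoc, φP'.hom_inv_id, Category.comp_id]
  rw [h3]
  exact sIsoM_comp_iso S φP.hom _ φP'.inv h

theorem homology_unit_sIsoM (N : Dual.D A) (n : ℤ) :
    SIsoM S ((homologyFunctor (ModuleCat.{u} A) n).map (ηL S N)) := by
  obtain ⟨P, hP, -, ⟨e⟩⟩ := H35.LBC.exists_kflat_model N
  have hnat : e.hom ≫ ηL S N = ηL S (DRing.toD P) ≫ (TL S).map e.hom :=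
    (adjL S).unit.naturality e.hom
  have hfac := H35.TorIndBC.adj₀_unit_fac (algebraMap A (Localization S)) P
  haveI := H35.TorIndBC.isIso_aLB_app (algebraMap A (Localization S)) P hP
  have h1 : ηL S (DRing.toD P) =
      Q.map ((DTen.unitCx (algebraMap A (Localization S))).app P) ≫
        ((DTen.resFactors (algebraMap A (Localization S))).inv.app
          ((DTen.extCx (algebraMap A (Localization S))).obj P) ≫
        inv ((DRing.restrictD (algebraMap A (Localization S))).map
          ((H35.TorIndBC.aLB (algebraMap A (Localization S))).app P))) := by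
    rw [← Category.assoc, ← hfac, Category.assoc, IsIso.hom_inv_id]
    exact (Category.comp_id _).symm
  have h2 : ηL S N = e.inv ≫ ηL S (DRing.toD P) ≫ (TL S).map e.hom := by
    rw [← hnat, e.inv_hom_id_assoc]
  rw [h2, h1, Functor.map_comp, Functor.map_comp, Functor.map_comp, Category.assoc]
  have h3 := homology_Q_map_sIsoM S ((DTen.unitCx (algebraMap A (Localization S))).app P) n
    (homologyMap_unitCx_sIsoM S P n)
  exact sIsoM_comp_iso S _ _ _ h3

end Derived

end Groth.Agent.H12.LocHom
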