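import Mathlib
import Groth.Agent.H12.LocHomB
import Groth.Agent.H12.HomSingleRing
import Groth.Agent.H12.HDTTors
import Groth.Agent.H56.RestrictPC

/-!
# `Hom(K, N) → Hom(K, (N ⊗^L S⁻¹A)|_A)` is a localization for `K ∈ D^b_coh`, `N ∈ D⁺` (helper12)

* `ev`: the natural bijection `Hom(A[0], W) ≃ H^0(W)`;
* `pr_sA`, `pr_fin`: the case of `A[0]` and of finite free modules;
* `pr_module`: finite modules, by induction on the degree;
* `pr_shift`, `pr_of_bounded_finite`: dévissage;
* `pr_unit`: the statement for the unit of `LBaseChange ⊣ restrictD`.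
-/

set_option autoImplicit false
universe u
open CategoryTheory CategoryTheory.Limits DerivedCategory Pretriangulated

namespace Groth.Agent.H12.LocHom

attribute [local instance] HasDerivedCategory.standard

open DerivedCategory.TStructure
open Groth.Agent.H12.HomSingleRing (sA)
open Groth.Agent.H12.DualDepth (sM)

section Ev

variable {A : Type u} [CommRing A]

/-- the generator of `H^0(A[0])` -/
noncomputable def gen : (homologyFunctor (ModuleCat.{u} A) 0).obj (sA A) :=
  ((singleFunctorCompHomologyFunctorIso (ModuleCat.{u} A) 0).inv.app (ModuleCat.of A A)).hom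
    (1 : A)

/-- evaluation at the generator -/
noncomputable def ev (W : Dual.D A) (f : sA A ⟶ W) : (homologyFunctor (ModuleCat.{u} A) 0).obj W :=
  ((homologyFunctor (ModuleCat.{u} A) 0).map f).hom gen

theorem ev_comp {W W' : Dual.D A} (f : sA A ⟶ W) (g : W ⟶ W') :
    ev W' (f ≫ g) = ((homologyFunctor (ModuleCat.{u} A) 0).map g).hom (ev W f) := by
  unfold ev
  rw [Functor.map_comp]
  rfl

theorem ev_zero (W : Dual.D A) : ev W 0 = 0 := by
  unfold ev
  rw [Functor.map_zero]
  rfl

theorem ev_smul (W : Dual.D A) (a : A) (f : sA A ⟶ W) : ev W (a • f) = a • ev W f :=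
  HDT.homologyFunctor_map_smul_apply f a 0 gen

theorem ev_bijective_iff {Y W : Dual.D A} (g : Y ⟶ W)
    (hg : Function.Bijective (fun f : sA A ⟶ Y => f ≫ g))
    [IsIso ((homologyFunctor (ModuleCat.{u} A) 0).map g)] :
    Function.Bijective (ev Y) ↔ Function.Bijective (ev W) := by
  have hH : Function.Bijective ((homologyFunctor (ModuleCat.{u} A) 0).map g).hom :=
    ConcreteCategory.bijective_of_isIso ((homologyFunctor (ModuleCat.{u} A) 0).map g)
  have hc : (ev W) ∘ (fun f : sA A ⟶ Y => f ≫ g) =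
      ((homologyFunctor (ModuleCat.{u} A) 0).map g).hom ∘ (ev Y) := by
    funext f
    exact ev_comp f g
  constructor
  · intro h
    have h1 : Function.Bijective ((ev W) ∘ (fun f : sA A ⟶ Y => f ≫ g)) := by
      rw [hc]
      exact hH.comp h
    exact (Function.Bijective.of_comp_iff (ev W) hg).1 h1
  · intro h
    have h1 : Function.Bijective (((homologyFunctor (ModuleCat.{u} A) 0).map g).hom ∘ (ev Y)) := by
      rw [← hc]
      exact h.comp hg
    exact (Function.Bijective.of_comp_iff' hH (ev Y)).1 h1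

theorem ev_single_bijective (Hm : ModuleCat.{u} A) :
    Function.Bijective (ev ((singleFunctor (ModuleCat.{u} A) 0).obj Hm)) := by
  have key : ∀ g : ModuleCat.of A A ⟶ Hm,
      ((singleFunctorCompHomologyFunctorIso (ModuleCat.{u} A) 0).hom.app Hm).hom
        (ev _ ((singleFunctor (ModuleCat.{u} A) 0).map g)) = g.hom (1 : A) := by
    intro g
    have h1 := (singleFunctorCompHomologyFunctorIso (ModuleCat.{u} A) 0).hom.naturality g
    have h2 := congrArg (fun k => k.hom (gen (A := A))) h1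
    have h3 : ((singleFunctorCompHomologyFunctorIso (ModuleCat.{u} A) 0).hom.app
        (ModuleCat.of A A)).hom (gen (A := A)) = (1 : A) := by
      have h4 : ((singleFunctorCompHomologyFunctorIso (ModuleCat.{u} A) 0).inv.app
          (ModuleCat.of A A) ≫
          (singleFunctorCompHomologyFunctorIso (ModuleCat.{u} A) 0).hom.app
            (ModuleCat.of A A)).hom (1 : A) = (1 : A) := by
        rw [Iso.inv_hom_id_app]
        rfl
      exact h4
    have h5 : ((singleFunctorCompHomologyFunctorIso (ModuleCat.{u} A) 0).hom.app Hm).hom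
        (ev _ ((singleFunctor (ModuleCat.{u} A) 0).map g)) =
        g.hom (((singleFunctorCompHomologyFunctorIso (ModuleCat.{u} A) 0).hom.app
          (ModuleCat.of A A)).hom (gen (A := A))) := h2
    rw [h5, h3]
  have hι : Function.Bijective
      ((singleFunctorCompHomologyFunctorIso (ModuleCat.{u} A) 0).hom.app Hm).hom :=
    ConcreteCategory.bijective_of_isIso _
  constructor
  · intro f f' hff
    obtain ⟨g, rfl⟩ := (singleFunctor (ModuleCat.{u} A) 0).map_surjective f
    obtain ⟨g', rfl⟩ := (singleFunctor (ModuleCat.{u} A) 0).map_surjective f'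
    have h1 : g.hom (1 : A) = g'.hom (1 : A) := by
      rw [← key g, ← key g', hff]
    have h2 : g = g' := by
      apply ModuleCat.hom_ext
      exact LinearMap.ext_ring h1
    rw [h2]
  · intro y
    obtain ⟨m, hm⟩ : ∃ m : Hm,
        m = ((singleFunctorCompHomologyFunctorIso (ModuleCat.{u} A) 0).hom.app Hm).hom y :=
      ⟨_, rfl⟩
    refine ⟨(singleFunctor (ModuleCat.{u} A) 0).map
      (ModuleCat.ofHom (LinearMap.toSpanSingleton A Hm m)), hι.1 ?_⟩
    rw [key, ← hm]
    show (1 : A) • m = m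
    exact one_smul A m

theorem ev_bijective (W : Dual.D A) : Function.Bijective (ev W) := by
  -- step 1: `τ_{<1} W → W`
  have hT₁ := t.triangleLTGE_distinguished 1 W
  have hL₁ : Function.Bijective (fun f : sA A ⟶ (t.truncLT 1).obj W => f ≫ (t.truncLTι 1).app W) := by
    constructor
    · intro f f' hff
      have hf : (f - f') ≫ (t.truncLTι 1).app W = 0 := by
        rw [Preadditive.sub_comp]
        exact sub_eq_zero.2 hff
      obtain ⟨g, hg⟩ := Triangle.coyoneda_exact₂ _ (inv_rot_of_distTriang _ hT₁) (f - f') hf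
      have hGE : (((t.truncGE 1).obj W)⟦(-1 : ℤ)⟧).IsGE 2 := t.isGE_shift _ 1 (-1) 2 (by omega)
      have hg0 : g = 0 := t.zero_of_isLE_of_isGE g 0 2 (by omega) inferInstance hGE
      rw [hg0] at hg
      exact sub_eq_zero.1 (hg.trans zero_comp)
    · intro h
      have h0 : h ≫ (t.truncGEπ 1).app W = 0 :=
        t.zero_of_isLE_of_isGE _ 0 1 (by omega) inferInstance inferInstance
      obtain ⟨g, hg⟩ := Triangle.coyoneda_exact₂ _ hT₁ h h0
      exact ⟨g, hg.symm⟩
  haveI := H56.isIso_homologyMap_truncLTι W 1 0 (by omega)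
  refine (ev_bijective_iff (W := W) ((t.truncLTι 1).app W) hL₁).1 ?_
  obtain ⟨Y₁, hY₁⟩ : ∃ Y₁ : Dual.D A, Y₁ = (t.truncLT 1).obj W := ⟨_, rfl⟩
  rw [← hY₁]
  haveI : Y₁.IsLE 0 := by
    rw [hY₁]
    exact inferInstanceAs (t.IsLE ((t.truncLT 1).obj W) (1 - 1))
  -- step 2: `Y₁ → τ_{≥0} Y₁`
  haveI : Projective (ModuleCat.of A A) :=
    (IsProjective.iff_projective (R := A) (P := A)).mp inferInstance
  have hT₂ := t.triangleLTGE_distinguished 0 Y₁
  haveI hLE₀ : ((t.truncLT 0).obj Y₁).IsLE (-1) :=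
    inferInstanceAs (t.IsLE ((t.truncLT 0).obj Y₁) (0 - 1))
  have hL₂ : Function.Bijective (fun f : sA A ⟶ Y₁ => f ≫ (t.truncGEπ 0).app Y₁) := by
    constructor
    · intro f f' hff
      have hf : (f - f') ≫ (t.truncGEπ 0).app Y₁ = 0 := by
        rw [Preadditive.sub_comp]
        exact sub_eq_zero.2 hff
      obtain ⟨g, hg⟩ := Triangle.coyoneda_exact₂ _ hT₂ (f - f') hf
      have hg0 : g = 0 :=
        H56.hom_single_projective_eq_zero (ModuleCat.of A A) ((t.truncLT 0).obj Y₁) (-1)
          (by omega) g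
      rw [hg0] at hg
      exact sub_eq_zero.1 (hg.trans zero_comp)
    · intro h
      haveI : (((t.truncLT 0).obj Y₁)⟦(1 : ℤ)⟧).IsLE (-2) :=
        t.isLE_shift _ (-1) 1 (-2) (by omega)
      have h0 : h ≫ ((t.triangleLTGE 0).obj Y₁).mor₃ = 0 :=
        H56.hom_single_projective_eq_zero (ModuleCat.of A A)
          (((t.truncLT 0).obj Y₁)⟦(1 : ℤ)⟧) (-2) (by omega) _
      obtain ⟨g, hg⟩ := Triangle.coyoneda_exact₃ _ hT₂ h h0
      exact ⟨g, hg.symm⟩
  haveI := H56.isIso_homologyMap_truncGEπ Y₁ 0 0 le_rfl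
  refine (ev_bijective_iff (Y := Y₁) ((t.truncGEπ 0).app Y₁) hL₂).2 ?_
  obtain ⟨Y₂, hY₂⟩ : ∃ Y₂ : Dual.D A, Y₂ = (t.truncGE 0).obj Y₁ := ⟨_, rfl⟩
  rw [← hY₂]
  haveI : Y₂.IsLE 0 := by
    rw [hY₂]
    exact inferInstanceAs (t.IsLE ((t.truncGE 0).obj Y₁) 0)
  haveI : Y₂.IsGE 0 := by
    rw [hY₂]
    exact inferInstanceAs (t.IsGE ((t.truncGE 0).obj Y₁) 0)
  -- step 3: `Y₂` is a module
  obtain ⟨e⟩ := H56.nonempty_iso_single Y₂ 0
  have hL₃ : Function.Bijective (fun f : sA A ⟶ Y₂ => f ≫ e.hom) :=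
    ⟨fun f f' hff => (cancel_mono e.hom).1 hff, fun h => ⟨h ≫ e.inv, by simp⟩⟩
  exact (ev_bijective_iff e.hom hL₃).2 (ev_single_bijective _)

end Ev

section Base

variable {A : Type u} [CommRing A] (S : Submonoid A) {W W' : Dual.D A} (γ : W ⟶ W')

theorem homology_shift_sIsoM (h : ∀ n : ℤ, SIsoM S ((homologyFunctor (ModuleCat.{u} A) n).map γ))
    (n : ℤ) : SIsoM S ((homologyFunctor (ModuleCat.{u} A) 0).map (γ⟦n⟧')) := by
  let eW : (homologyFunctor (ModuleCat.{u} A) 0).obj (W⟦n⟧) ≅
      (homologyFunctor (ModuleCat.{u} A) n).obj W :=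
    ((homologyFunctor (ModuleCat.{u} A) 0).shiftIso n 0 n (by omega)).app W
  let eW' : (homologyFunctor (ModuleCat.{u} A) 0).obj (W'⟦n⟧) ≅
      (homologyFunctor (ModuleCat.{u} A) n).obj W' :=
    ((homologyFunctor (ModuleCat.{u} A) 0).shiftIso n 0 n (by omega)).app W'
  have h2 : (homologyFunctor (ModuleCat.{u} A) 0).map (γ⟦n⟧') ≫ eW'.hom =
      eW.hom ≫ (homologyFunctor (ModuleCat.{u} A) n).map γ :=
    ((homologyFunctor (ModuleCat.{u} A) 0).shiftIso n 0 n (by omega)).hom.naturality γ
  have h3 : (homologyFunctor (ModuleCat.{u} A) 0).map (γ⟦n⟧') =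
      eW.hom ≫ (homologyFunctor (ModuleCat.{u} A) n).map γ ≫ eW'.inv := by
    rw [← Category.assoc, ← h2, Category.assoc, eW'.hom_inv_id, Category.comp_id]
  rw [h3]
  exact sIsoM_comp_iso S eW.hom _ eW'.inv (h n)

theorem pr_sA (h : ∀ n : ℤ, SIsoM S ((homologyFunctor (ModuleCat.{u} A) n).map γ)) :
    Pr S γ (sA A) := by
  intro n
  have hn := homology_shift_sIsoM S γ h n
  constructor
  · intro f hf
    have hf' : f ≫ γ⟦n⟧' = 0 := hf
    have h1 : ((homologyFunctor (ModuleCat.{u} A) 0).map (γ⟦n⟧')).hom (ev _ f) = 0 := by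
      rw [← ev_comp, hf', ev_zero]
    obtain ⟨s, hs, hs0⟩ := hn.1 _ h1
    refine ⟨s, hs, (ev_bijective _).1 ?_⟩
    rw [ev_smul, hs0, ev_zero]
  · intro g
    obtain ⟨s, hs, x, hx⟩ := hn.2 (ev _ g)
    obtain ⟨f, rfl⟩ := (ev_bijective _).2 x
    refine ⟨s, hs, f, (ev_bijective _).1 ?_⟩
    show ev _ (f ≫ γ⟦n⟧') = ev _ (s • g)
    rw [ev_comp, hx, ev_smul]

/-- `0 → A → A^{r+1} → A^r → 0` -/
noncomputable def finSC (r : ℕ) : ShortComplex (ModuleCat.{u} A) :=
  ShortComplex.mk
    (ModuleCat.ofHom (LinearMap.single A (fun _ : Fin (r + 1) => A) 0) :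
      ModuleCat.of A A ⟶ ModuleCat.of A (Fin (r + 1) → A))
    (ModuleCat.ofHom (LinearMap.funLeft A A Fin.succ) :
      ModuleCat.of A (Fin (r + 1) → A) ⟶ ModuleCat.of A (Fin r → A))
    (by
      apply ModuleCat.hom_ext
      apply LinearMap.ext
      intro a
      funext i
      show (Pi.single (0 : Fin (r + 1)) a : Fin (r + 1) → A) (Fin.succ i) = 0
      exact Pi.single_eq_of_ne (Fin.succ_ne_zero i) a)

theorem finSC_shortExact (r : ℕ) : (finSC (A := A) r).ShortExact := by
  have hex : Function.Exact (finSC (A := A) r).f.hom (finSC (A := A) r).g.hom := by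
    intro y
    constructor
    · intro hy
      refine ⟨y 0, ?_⟩
      funext i
      show (Pi.single (0 : Fin (r + 1)) (y 0) : Fin (r + 1) → A) i = y i
      refine Fin.cases ?_ (fun j => ?_) i
      · simp
      · rw [Pi.single_eq_of_ne (Fin.succ_ne_zero j)]
        exact (congrFun hy j).symm
    · rintro ⟨a, rfl⟩
      funext i
      show (Pi.single (0 : Fin (r + 1)) a : Fin (r + 1) → A) (Fin.succ i) = 0
      exact Pi.single_eq_of_ne (Fin.succ_ne_zero i) a
  have hinj : Function.Injective (finSC (A := A) r).f.hom := by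
    intro a b hab
    have h1 := congrFun hab 0
    have h2 : (Pi.single (0 : Fin (r + 1)) a : Fin (r + 1) → A) 0 =
        (Pi.single (0 : Fin (r + 1)) b : Fin (r + 1) → A) 0 := h1
    rwa [Pi.single_eq_same, Pi.single_eq_same] at h2
  have hsurj : Function.Surjective (finSC (A := A) r).g.hom := by
    intro z
    refine ⟨Fin.cons 0 z, ?_⟩
    funext i
    show (Fin.cons 0 z : Fin (r + 1) → A) (Fin.succ i) = z i
    exact Fin.cons_succ _ _ _
  exact
    { exact := (ShortComplex.ShortExact.moduleCat_exact_iff_function_exact _).mpr hex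
      mono_f := (ModuleCat.mono_iff_injective _).mpr hinj
      epi_g := (ModuleCat.epi_iff_surjective _).mpr hsurj }

theorem pr_fin (h : ∀ n : ℤ, SIsoM S ((homologyFunctor (ModuleCat.{u} A) n).map γ)) :
    ∀ r : ℕ, Pr S γ (sM (ModuleCat.of A (Fin r → A))) := by
  intro r
  induction r with
  | zero =>
    refine pr_of_isZero S γ ((singleFunctor (ModuleCat.{u} A) 0).map_isZero ?_)
    exact ModuleCat.isZero_of_subsingleton _
  | succ r ih =>
    exact (isExtClosed S γ).ext _ (finSC_shortExact (A := A) r).singleTriangle_distinguished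
      (pr_sA S γ h) ih

end Base

section Module

variable {A : Type u} [CommRing A] [IsNoetherianRing A] (S : Submonoid A) {W W' : Dual.D A}
  (γ : W ⟶ W')

theorem pr_module (h : ∀ n : ℤ, SIsoM S ((homologyFunctor (ModuleCat.{u} A) n).map γ))
    (a : ℤ) [W.IsGE a] [W'.IsGE a] :
    ∀ (k : ℕ) (n : ℤ), n < a + k → ∀ (M : Type u) [AddCommGroup M] [Module A M]
      [Module.Finite A M],
      SInj S (post γ (sM (ModuleCat.of A M)) n) ∧ SSurj S (post γ (sM (ModuleCat.of A M)) n) := by
  intro k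
  induction k with
  | zero =>
    intro n hn M _ _ _
    have hz : ∀ (V : Dual.D A) [V.IsGE a] (x : sM (ModuleCat.of A M) ⟶ V⟦n⟧), x = 0 := by
      intro V _ x
      haveI : (V⟦n⟧).IsGE (a - n) := t.isGE_shift V a n (a - n) (by omega)
      exact t.zero_of_isLE_of_isGE x 0 (a - n) (by push_cast at hn; omega) inferInstance
        inferInstance
    exact ⟨fun x _ => ⟨1, S.one_mem, by rw [hz W x, smul_zero]⟩,
      fun y => ⟨1, S.one_mem, 0, by rw [hz W' y, smul_zero, map_zero]⟩⟩
  | succ k ih =>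
    intro n hn
    by_cases hn' : n < a + k
    · exact ih n hn'
    -- the exact sequence `0 → M' → A^r → M → 0`
    have hses : ∀ (M : Type u) [AddCommGroup M] [Module A M] [Module.Finite A M],
        ∃ (r : ℕ) (M' : Type u) (_ : AddCommGroup M') (_ : Module A M') (_ : Module.Finite A M'),
          (∀ (n m : ℤ) (_ : m + 1 = n),
            SSurj S (post γ (sM (ModuleCat.of A (Fin r → A))) m) →
            SInj S (post γ (sM (ModuleCat.of A M')) m) →
            SInj S (post γ (sM (ModuleCat.of A (Fin r → A))) n) →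
            SInj S (post γ (sM (ModuleCat.of A M)) n)) ∧
          (∀ (n m : ℤ) (_ : m + 1 = n),
            SSurj S (post γ (sM (ModuleCat.of A M')) m) →
            SSurj S (post γ (sM (ModuleCat.of A (Fin r → A))) n) →
            SInj S (post γ (sM (ModuleCat.of A M')) n) →
            SSurj S (post γ (sM (ModuleCat.of A M)) n)) := by
      intro M _ _ _
      obtain ⟨r, p, hp⟩ := Module.Finite.exists_fin' A M
      have hSc : (ShortComplex.mk (ModuleCat.ofHom (LinearMap.ker p).subtype) (ModuleCat.ofHom p)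
          (by
            apply ModuleCat.hom_ext
            apply LinearMap.ext
            intro x
            exact x.2)).ShortExact :=
        { exact := (ShortComplex.ShortExact.moduleCat_exact_iff_function_exact _).mpr
            (fun y => ⟨fun hy => ⟨⟨y, hy⟩, rfl⟩, fun ⟨x, hx⟩ => hx ▸ x.2⟩)
          mono_f := (ModuleCat.mono_iff_injective _).mpr (Submodule.injective_subtype _)
          epi_g := (ModuleCat.epi_iff_surjective _).mpr hp }
      exact ⟨r, LinearMap.ker p, inferInstance, inferInstance, inferInstance,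
        fun n m hm => sInj_obj₃ S γ _ hSc.singleTriangle_distinguished n m hm,
        fun n m hm => sSurj_obj₃ S γ _ hSc.singleTriangle_distinguished n m hm⟩
    have hInj : ∀ (M : Type u) [AddCommGroup M] [Module A M] [Module.Finite A M],
        SInj S (post γ (sM (ModuleCat.of A M)) n) := by
      intro M _ _ _
      obtain ⟨r, M', _, _, _, key, -⟩ := hses M
      have hF := pr_fin S γ h r
      exact key n (n - 1) (by omega) (hF (n - 1)).2 (ih (n - 1) (by omega) M').1 (hF n).1
    intro M _ _ _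
    refine ⟨hInj M, ?_⟩
    obtain ⟨r, M', _, _, _, -, key⟩ := hses M
    have hF := pr_fin S γ h r
    exact key n (n - 1) (by omega) (ih (n - 1) (by omega) M').2 (hF n).2 (hInj M')

theorem pr_single_module (h : ∀ n : ℤ, SIsoM S ((homologyFunctor (ModuleCat.{u} A) n).map γ))
    (a : ℤ) [W.IsGE a] [W'.IsGE a] (M : ModuleCat.{u} A) [Module.Finite A M] :
    Pr S γ (sM M) := by
  intro n
  exact pr_module S γ h a (n - a + 1).toNat n (by
    have := Int.self_le_toNat (n - a + 1)
    omega) M

end Module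

section Shift

variable {A : Type u} [CommRing A] (S : Submonoid A) {W W' : Dual.D A} (γ : W ⟶ W')

theorem exists_shift_eq' (X V : Dual.D A) (m j n : ℤ) (h : m + j = n) (χ : X⟦j⟧ ⟶ V⟦n⟧) :
    ∃ ψ : X ⟶ V⟦m⟧, χ = ψ⟦j⟧' ≫ (shiftFunctorAdd' (Dual.D A) m j n h).inv.app V := by
  obtain ⟨ψ, hψ⟩ := (shiftFunctor (Dual.D A) j).map_surjective
    (χ ≫ (shiftFunctorAdd' (Dual.D A) m j n h).hom.app V)
  refine ⟨ψ, ?_⟩
  rw [hψ, Category.assoc, Iso.hom_inv_id_app, Category.comp_id]

theorem pr_shift {K : Dual.D A} (hK : Pr S γ K) (j : ℤ) : Pr S γ (K⟦j⟧) := by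
  intro n
  have hm : (n - j) + j = n := by omega
  have hnat : ∀ y : K ⟶ W⟦n - j⟧,
      (y⟦j⟧' ≫ (shiftFunctorAdd' (Dual.D A) (n - j) j n hm).inv.app W) ≫ γ⟦n⟧' =
        (y ≫ γ⟦n - j⟧')⟦j⟧' ≫ (shiftFunctorAdd' (Dual.D A) (n - j) j n hm).inv.app W' := by
    intro y
    rw [Functor.map_comp, Category.assoc, Category.assoc]
    congr 1
    exact ((shiftFunctorAdd' (Dual.D A) (n - j) j n hm).inv.naturality γ).symm
  constructor
  · intro x hx
    have hx' : x ≫ γ⟦n⟧' = 0 := hx
    obtain ⟨y, rfl⟩ := exists_shift_eq' K W (n - j) j n hm x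
    rw [hnat] at hx'
    have h1 : (y ≫ γ⟦n - j⟧')⟦j⟧' = 0 := by
      rw [← cancel_mono ((shiftFunctorAdd' (Dual.D A) (n - j) j n hm).inv.app W'), hx', zero_comp]
    have h2 : y ≫ γ⟦n - j⟧' = 0 := by
      apply (shiftFunctor (Dual.D A) j).map_injective
      rw [h1, Functor.map_zero]
    obtain ⟨s, hs, hs0⟩ := (hK (n - j)).1 y h2
    refine ⟨s, hs, ?_⟩
    rw [← Linear.smul_comp, ← Functor.map_smul, hs0, Functor.map_zero, zero_comp]
  · intro z
    obtain ⟨y', rfl⟩ := exists_shift_eq' K W' (n - j) j n hm z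
    obtain ⟨s, hs, y, hy⟩ := (hK (n - j)).2 y'
    have hy' : y ≫ γ⟦n - j⟧' = s • y' := hy
    refine ⟨s, hs, y⟦j⟧' ≫ (shiftFunctorAdd' (Dual.D A) (n - j) j n hm).inv.app W, ?_⟩
    show (y⟦j⟧' ≫ (shiftFunctorAdd' (Dual.D A) (n - j) j n hm).inv.app W) ≫ γ⟦n⟧' = _
    rw [hnat, hy', Functor.map_smul, Linear.smul_comp]

end Shift

section Main

variable {A : Type u} [CommRing A] [IsNoetherianRing A] (S : Submonoid A) {W W' : Dual.D A}
  (γ : W ⟶ W')

theorem pr_of_bounded_finite
    (h : ∀ n : ℤ, SIsoM S ((homologyFunctor (ModuleCat.{u} A) n).map γ))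
    (a : ℤ) [W.IsGE a] [W'.IsGE a] (K : Dual.D A) (c d : ℤ)
    (hK : ∀ i : ℤ, (i < c ∨ d < i) → IsZero ((homologyFunctor (ModuleCat.{u} A) i).obj K))
    (hfin : ∀ i : ℤ, Module.Finite A ((homologyFunctor (ModuleCat.{u} A) i).obj K)) :
    Pr S γ K := by
  refine H35.Devissage.of_homology (isExtClosed S γ) c (d - c + 1).toNat K d hK ?_ ?_
  · have := Int.self_le_toNat (d - c + 1)
    omega
  · intro i
    haveI := hfin i
    have h1 := pr_shift S γ (pr_single_module S γ h a
      ((homologyFunctor (ModuleCat.{u} A) i).obj K)) (-i)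
    let e : (sM ((homologyFunctor (ModuleCat.{u} A) i).obj K))⟦-i⟧ ≅
        (singleFunctor (ModuleCat.{u} A) i).obj ((homologyFunctor (ModuleCat.{u} A) i).obj K) :=
      ((singleFunctors (ModuleCat.{u} A)).shiftIso (-i) i 0 (by omega)).app _
    exact pr_of_iso S γ e h1

end Main

section Unit

variable {A : Type u} [CommRing A] [IsNoetherianRing A] (S : Submonoid A)
  [DRing.HasLBaseChange (algebraMap A (Localization S))]

theorem isGE_TL (N : Dual.D A) (a : ℤ) [N.IsGE a] : ((TL S).obj N).IsGE a := by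
  rw [isGE_iff]
  intro i hi
  have hN : IsZero ((homologyFunctor (ModuleCat.{u} A) i).obj N) := isZero_of_isGE N a i hi
  let e : (homologyFunctor (ModuleCat.{u} A) i).obj ((TL S).obj N) ≅
      (ModuleCat.restrictScalars.{u} (algebraMap A (Localization S))).obj
        ((homologyFunctor (ModuleCat.{u} (Localization S)) i).obj
          ((DRing.LBaseChange (algebraMap A (Localization S))).obj N)) :=
    (H56.mapDerivedCategoryHomologyIso
      (ModuleCat.restrictScalars.{u} (algebraMap A (Localization S))) i).app _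
  haveI : Subsingleton ((homologyFunctor (ModuleCat.{u} A) i).obj ((TL S).obj N)) := by
    refine ⟨fun z z' => ?_⟩
    have hz : ∀ z : (homologyFunctor (ModuleCat.{u} A) i).obj ((TL S).obj N), z = 0 := by
      intro z
      obtain ⟨s, hs, x, hx⟩ := (homology_unit_sIsoM S N i).2 z
      have hx0 : x = 0 := (ModuleCat.subsingleton_of_isZero hN).elim _ _
      rw [hx0, map_zero] at hx
      have h1 : e.hom.hom (s • z) = 0 := by rw [← hx, map_zero]
      rw [map_smul] at h1
      have h2 : (algebraMap A (Localization S) s) • (e.hom.hom z :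
          (homologyFunctor (ModuleCat.{u} (Localization S)) i).obj
            ((DRing.LBaseChange (algebraMap A (Localization S))).obj N)) = 0 := h1
      have hu : IsUnit (algebraMap A (Localization S) s) :=
        IsLocalization.map_units (Localization S) ⟨s, hs⟩
      have h3 : (e.hom.hom z : (homologyFunctor (ModuleCat.{u} (Localization S)) i).obj
            ((DRing.LBaseChange (algebraMap A (Localization S))).obj N)) = 0 :=
        hu.smul_eq_zero.1 h2
      have h4 : e.hom.hom z = e.hom.hom 0 := by rw [map_zero]; exact h3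
      exact (ConcreteCategory.bijective_of_isIso e.hom).1 h4
    rw [hz z, hz z']
  exact ModuleCat.isZero_of_subsingleton _

theorem pr_unit (N : Dual.D A) (a : ℤ) [N.IsGE a] (K : Dual.D A) (c d : ℤ)
    (hK : ∀ i : ℤ, (i < c ∨ d < i) → IsZero ((homologyFunctor (ModuleCat.{u} A) i).obj K))
    (hfin : ∀ i : ℤ, Module.Finite A ((homologyFunctor (ModuleCat.{u} A) i).obj K)) :
    Pr S (ηL S N) K := by
  haveI := isGE_TL S N a
  exact pr_of_bounded_finite S (ηL S N) (fun n => homology_unit_sIsoM S N n) a K c d hK hfin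

end Unit

end Groth.Agent.H12.LocHom
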