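import Mathlib
import Groth.Agent.H12.LocHomC
import Groth.Agent.H12.AdjFin
import Groth.Agent.H56.InjAmp2

/-!
# Dualizing complexes are detected locally (helper12)

* `L_map_smul`: derived base change along `A → S⁻¹A` is semilinear;
* `pr_zero_inj`, `pr_zero_surj`: the degree `0` part of `Pr`;
* `exists_smul_eq_of_L_map_eq`: morphisms `K ⟶ N` (`K ∈ D^b_coh`, `N ∈ D⁺`) that agree after
  localization agree after multiplication by some `s ∈ S`;
* `isDualizing_of_local`: a bounded coherent complex of finite injective dimension that is dualizing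
  after localizing at (a multiplicative set avoiding) each maximal ideal is dualizing.
-/

set_option autoImplicit false
universe u
open CategoryTheory CategoryTheory.Limits DerivedCategory Pretriangulated

namespace Groth.Agent.H12.LocHom

attribute [local instance] HasDerivedCategory.standard

open DerivedCategory.TStructure

section SemiLinear

variable {A : Type u} [CommRing A] (S : Submonoid A)
  [DRing.HasLBaseChange (algebraMap A (Localization S))]

theorem L_additive : (DRing.LBaseChange (algebraMap A (Localization S))).Additive :=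
  (adjL S).left_adjoint_additive

theorem homEquiv_smul' (K : Dual.D A) (X : Dual.D (Localization S)) (a : A)
    (g : (DRing.LBaseChange (algebraMap A (Localization S))).obj K ⟶ X) :
    (adjL S).homEquiv K X (algebraMap A (Localization S) a • g) =
      a • (adjL S).homEquiv K X g := by
  have h : algebraMap A (Localization S) a • g =
      g ≫ (algebraMap A (Localization S) a • 𝟙 X) := by
    rw [Linear.comp_smul, Category.comp_id]
  have h2 : (DRing.restrictD (algebraMap A (Localization S))).map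
      (algebraMap A (Localization S) a • 𝟙 X) =
      a • 𝟙 ((DRing.restrictD (algebraMap A (Localization S))).obj X) :=
    AdjFin.resD_map_smul_id (algebraMap A (Localization S)) a X
  rw [h, Adjunction.homEquiv_naturality_right, h2, Linear.comp_smul, Category.comp_id]

theorem L_map_smul (a : A) {K K' : Dual.D A} (f : K ⟶ K') :
    (DRing.LBaseChange (algebraMap A (Localization S))).map (a • f) =
      algebraMap A (Localization S) a •
        (DRing.LBaseChange (algebraMap A (Localization S))).map f := by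
  apply ((adjL S).homEquiv K _).injective
  rw [homEquiv_smul', Adjunction.homEquiv_unit, Adjunction.homEquiv_unit,
    Adjunction.unit_naturality, Adjunction.unit_naturality, Linear.smul_comp]

end SemiLinear

section Zero

variable {A : Type u} [CommRing A] (S : Submonoid A) {W W' : Dual.D A} (γ : W ⟶ W')

theorem pr_zero_inj {K : Dual.D A} (h : Pr S γ K) (f : K ⟶ W) (hf : f ≫ γ = 0) :
    ∃ s ∈ S, s • f = 0 := by
  have hnat : (shiftFunctorZero (Dual.D A) ℤ).inv.app W ≫ γ⟦(0 : ℤ)⟧' =
      γ ≫ (shiftFunctorZero (Dual.D A) ℤ).inv.app W' :=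
    ((shiftFunctorZero (Dual.D A) ℤ).inv.naturality γ).symm
  have h0 : post γ K 0 (f ≫ (shiftFunctorZero (Dual.D A) ℤ).inv.app W) = 0 := by
    show (f ≫ (shiftFunctorZero (Dual.D A) ℤ).inv.app W) ≫ γ⟦(0 : ℤ)⟧' = 0
    rw [Category.assoc, hnat, ← Category.assoc, hf, zero_comp]
  obtain ⟨s, hs, hs0⟩ := (h 0).1 _ h0
  refine ⟨s, hs, ?_⟩
  have h1 : f = (f ≫ (shiftFunctorZero (Dual.D A) ℤ).inv.app W) ≫
      (shiftFunctorZero (Dual.D A) ℤ).hom.app W := by
    rw [Category.assoc, Iso.inv_hom_id_app]
    exact (Category.comp_id f).symm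
  rw [h1, ← Linear.smul_comp, hs0, zero_comp]

theorem pr_zero_inj' {K : Dual.D A} (h : Pr S γ K) (f₁ f₂ : K ⟶ W) (hf : f₁ ≫ γ = f₂ ≫ γ) :
    ∃ s ∈ S, s • f₁ = s • f₂ := by
  obtain ⟨s, hs, h0⟩ := pr_zero_inj S γ h (f₁ - f₂) (by rw [Preadditive.sub_comp, hf, sub_self])
  refine ⟨s, hs, ?_⟩
  rw [smul_sub] at h0
  exact sub_eq_zero.1 h0

theorem pr_zero_surj {K : Dual.D A} (h : Pr S γ K) (g : K ⟶ W') :
    ∃ s ∈ S, ∃ f : K ⟶ W, f ≫ γ = s • g := by
  have hnat : (shiftFunctorZero (Dual.D A) ℤ).hom.app W ≫ γ =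
      γ⟦(0 : ℤ)⟧' ≫ (shiftFunctorZero (Dual.D A) ℤ).hom.app W' :=
    ((shiftFunctorZero (Dual.D A) ℤ).hom.naturality γ).symm
  obtain ⟨s, hs, f', hf'⟩ := (h 0).2 (g ≫ (shiftFunctorZero (Dual.D A) ℤ).inv.app W')
  have hf'' : f' ≫ γ⟦(0 : ℤ)⟧' = s • (g ≫ (shiftFunctorZero (Dual.D A) ℤ).inv.app W') := hf'
  refine ⟨s, hs, f' ≫ (shiftFunctorZero (Dual.D A) ℤ).hom.app W, ?_⟩
  rw [Category.assoc, hnat, ← Category.assoc, hf'', Linear.smul_comp, Category.assoc,
    Iso.inv_hom_id_app]
  exact congrArg (fun z => s • z) (Category.comp_id g)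

end Zero

section Local

variable {A : Type u} [CommRing A] [IsNoetherianRing A] (S : Submonoid A)
  [DRing.HasLBaseChange (algebraMap A (Localization S))]

theorem exists_smul_eq_of_L_map_eq (N : Dual.D A) (a : ℤ) [N.IsGE a] (K : Dual.D A)
    (c d : ℤ)
    (hK : ∀ i : ℤ, (i < c ∨ d < i) → IsZero ((homologyFunctor (ModuleCat.{u} A) i).obj K))
    (hfin : ∀ i : ℤ, Module.Finite A ((homologyFunctor (ModuleCat.{u} A) i).obj K))
    (f₁ f₂ : K ⟶ N)
    (hf : (DRing.LBaseChange (algebraMap A (Localization S))).map f₁ =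
      (DRing.LBaseChange (algebraMap A (Localization S))).map f₂) :
    ∃ s ∈ S, s • f₁ = s • f₂ := by
  refine pr_zero_inj' S (ηL S N) (pr_unit S N a K c d hK hfin) f₁ f₂ ?_
  have h1 : f₁ ≫ ηL S N = ηL S K ≫ (DRing.restrictD (algebraMap A (Localization S))).map
      ((DRing.LBaseChange (algebraMap A (Localization S))).map f₁) :=
    ((adjL S).unit_naturality f₁).symm
  have h2 : f₂ ≫ ηL S N = ηL S K ≫ (DRing.restrictD (algebraMap A (Localization S))).map
      ((DRing.LBaseChange (algebraMap A (Localization S))).map f₂) :=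
    ((adjL S).unit_naturality f₂).symm
  rw [h1, h2, hf]

theorem exists_smul_eq_zero_of_L_map_eq_zero (N : Dual.D A) (a : ℤ) [N.IsGE a] (K : Dual.D A)
    (c d : ℤ)
    (hK : ∀ i : ℤ, (i < c ∨ d < i) → IsZero ((homologyFunctor (ModuleCat.{u} A) i).obj K))
    (hfin : ∀ i : ℤ, Module.Finite A ((homologyFunctor (ModuleCat.{u} A) i).obj K))
    (f : K ⟶ N)
    (hf : (DRing.LBaseChange (algebraMap A (Localization S))).map f = 0) :
    ∃ s ∈ S, s • f = 0 := by
  haveI := L_additive S
  obtain ⟨s, hs, h⟩ := exists_smul_eq_of_L_map_eq S N a K c d hK hfin f 0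
    (by rw [hf, Functor.map_zero])
  exact ⟨s, hs, by rw [h, smul_zero]⟩

theorem local_ext (K : Dual.D A) (c d : ℤ)
    (hK : ∀ i : ℤ, (i < c ∨ d < i) → IsZero ((homologyFunctor (ModuleCat.{u} A) i).obj K))
    (hfin : ∀ i : ℤ, Module.Finite A ((homologyFunctor (ModuleCat.{u} A) i).obj K))
    (hd : Dual.IsDualizing (Localization S)
      ((DRing.LBaseChange (algebraMap A (Localization S))).obj K))
    (i : ℤ) (hi : i ≠ 0) (f : K ⟶ K⟦i⟧) : ∃ s ∈ S, s • f = 0 := by
  haveI : K.IsGE c := (isGE_iff K c).2 (fun j hj => hK j (Or.inl hj))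
  haveI : (K⟦i⟧).IsGE (c - i) := t.isGE_shift K c i (c - i) (by omega)
  refine exists_smul_eq_zero_of_L_map_eq_zero S (K⟦i⟧) (c - i) K c d hK hfin f ?_
  let e : (DRing.LBaseChange (algebraMap A (Localization S))).obj (K⟦i⟧) ≅
      ((DRing.LBaseChange (algebraMap A (Localization S))).obj K)⟦i⟧ :=
    (Adjunction.LeftAdjointCommShift.iso (adjL S) i).app K
  haveI := hd.ext_self_subsingleton i hi
  rw [← cancel_mono e.hom, zero_comp]
  exact Subsingleton.elim _ _

theorem local_toEnd_inj (K : Dual.D A)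
    (hd : Dual.IsDualizing (Localization S)
      ((DRing.LBaseChange (algebraMap A (Localization S))).obj K))
    (a : A) (ha : a • 𝟙 K = 0) : ∃ s ∈ S, s * a = 0 := by
  haveI := L_additive S
  have h1 : algebraMap A (Localization S) a •
      𝟙 ((DRing.LBaseChange (algebraMap A (Localization S))).obj K) = 0 := by
    rw [← CategoryTheory.Functor.map_id, ← L_map_smul, ha, Functor.map_zero]
  have h2 : algebraMap A (Localization S) a = 0 := by
    apply hd.toEnd_bijective.1
    show algebraMap A (Localization S) a •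
      𝟙 ((DRing.LBaseChange (algebraMap A (Localization S))).obj K) =
      (0 : Localization S) • 𝟙 ((DRing.LBaseChange (algebraMap A (Localization S))).obj K)
    rw [h1, zero_smul]
  obtain ⟨m, hm⟩ := (IsLocalization.map_eq_zero_iff S (Localization S) a).1 h2
  exact ⟨m.1, m.2, hm⟩

theorem local_toEnd_surj (K : Dual.D A) (c d : ℤ)
    (hK : ∀ i : ℤ, (i < c ∨ d < i) → IsZero ((homologyFunctor (ModuleCat.{u} A) i).obj K))
    (hfin : ∀ i : ℤ, Module.Finite A ((homologyFunctor (ModuleCat.{u} A) i).obj K))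
    (hd : Dual.IsDualizing (Localization S)
      ((DRing.LBaseChange (algebraMap A (Localization S))).obj K))
    (f : K ⟶ K) : ∃ s ∈ S, ∃ a : A, s • f = a • 𝟙 K := by
  haveI : K.IsGE c := (isGE_iff K c).2 (fun j hj => hK j (Or.inl hj))
  obtain ⟨x, hx⟩ := hd.toEnd_bijective.2
    ((DRing.LBaseChange (algebraMap A (Localization S))).map f)
  have hx' : x • 𝟙 ((DRing.LBaseChange (algebraMap A (Localization S))).obj K) =
      (DRing.LBaseChange (algebraMap A (Localization S))).map f := hx
  obtain ⟨⟨a, s⟩, has⟩ := IsLocalization.surj S x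
  have has' : x * algebraMap A (Localization S) s.1 = algebraMap A (Localization S) a := has
  have h1 : (DRing.LBaseChange (algebraMap A (Localization S))).map (s.1 • f) =
      (DRing.LBaseChange (algebraMap A (Localization S))).map (a • 𝟙 K) := by
    rw [L_map_smul, L_map_smul, CategoryTheory.Functor.map_id, ← hx', smul_smul,
      mul_comm (algebraMap A (Localization S) s.1) x, has']
  obtain ⟨t', ht', h2⟩ := exists_smul_eq_of_L_map_eq S K c K c d hK hfin _ _ h1
  refine ⟨t' * s.1, S.mul_mem ht' s.2, t' * a, ?_⟩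
  rw [mul_smul, h2, mul_smul]

end Local

section Global

variable {A : Type u} [CommRing A] [IsNoetherianRing A]

omit [IsNoetherianRing A] in
theorem ideal_eq_top_of_forall_maximal (J : Ideal A)
    (h : ∀ m : Ideal A, m.IsMaximal → ∃ s ∈ J, s ∉ m) : J = ⊤ := by
  by_contra hJ
  obtain ⟨m, hm, hJm⟩ := Ideal.exists_le_maximal J hJ
  obtain ⟨s, hs, hsm⟩ := h m hm
  exact hsm (hJm hs)

/-- a bounded coherent complex of finite injective dimension which is dualizing after localizing
at each maximal ideal is dualizing -/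
theorem isDualizing_of_local (K : Dual.D A) (c d : ℤ)
    (hK : ∀ i : ℤ, (i < c ∨ d < i) → IsZero ((homologyFunctor (ModuleCat.{u} A) i).obj K))
    (hfin : ∀ i : ℤ, Module.Finite A ((homologyFunctor (ModuleCat.{u} A) i).obj K))
    (hinj : ∃ a b : ℤ, ∀ (M : Type u) [AddCommGroup M] [Module A M] (i : ℤ),
      (i < a ∨ b < i) → Subsingleton (Dual.inD A M ⟶ K⟦i⟧))
    (hloc : ∀ m : Ideal A, m.IsMaximal → ∃ (S : Submonoid A)
      (_ : DRing.HasLBaseChange (algebraMap A (Localization S))),
      (∀ s ∈ S, s ∉ m) ∧ Dual.IsDualizing (Localization S)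
        ((DRing.LBaseChange (algebraMap A (Localization S))).obj K)) :
    Dual.IsDualizing A K := by
  refine ⟨inferInstance, hinj, hfin, ⟨?_, ?_⟩, ?_⟩
  · intro a b hab
    have hab2 : a • 𝟙 K = b • 𝟙 K := hab
    have hab' : (a - b) • 𝟙 K = 0 := by rw [sub_smul]; exact sub_eq_zero.2 hab2
    have hJ : LinearMap.ker (LinearMap.toSpanSingleton A A (a - b)) = ⊤ := by
      apply ideal_eq_top_of_forall_maximal
      intro m hm
      obtain ⟨S, inst, hS, hd⟩ := hloc m hm
      haveI := inst
      obtain ⟨s, hs, hsa⟩ := local_toEnd_inj S K hd (a - b) hab'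
      refine ⟨s, ?_, hS s hs⟩
      rw [LinearMap.mem_ker, LinearMap.toSpanSingleton_apply, smul_eq_mul, hsa]
    have h1 : (1 : A) ∈ LinearMap.ker (LinearMap.toSpanSingleton A A (a - b)) := by
      rw [hJ]; trivial
    rw [LinearMap.mem_ker, LinearMap.toSpanSingleton_apply, one_smul] at h1
    exact sub_eq_zero.1 h1
  · intro f
    have hJ : Submodule.comap (LinearMap.toSpanSingleton A (K ⟶ K) f)
        (LinearMap.range (LinearMap.toSpanSingleton A (K ⟶ K) (𝟙 K))) = ⊤ := by
      apply ideal_eq_top_of_forall_maximal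
      intro m hm
      obtain ⟨S, inst, hS, hd⟩ := hloc m hm
      haveI := inst
      obtain ⟨s, hs, a, hsa⟩ := local_toEnd_surj S K c d hK hfin hd f
      refine ⟨s, ?_, hS s hs⟩
      rw [Submodule.mem_comap, LinearMap.toSpanSingleton_apply, hsa]
      exact ⟨a, LinearMap.toSpanSingleton_apply _ _ _ _⟩
    have h1 : (1 : A) ∈ Submodule.comap (LinearMap.toSpanSingleton A (K ⟶ K) f)
        (LinearMap.range (LinearMap.toSpanSingleton A (K ⟶ K) (𝟙 K))) := by
      rw [hJ]; trivial
    rw [Submodule.mem_comap, LinearMap.toSpanSingleton_apply, one_smul] at h1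
    obtain ⟨a, ha⟩ := h1
    exact ⟨a, by rw [← ha, LinearMap.toSpanSingleton_apply]⟩
  · intro i hi
    have key : ∀ f : K ⟶ K⟦i⟧, f = 0 := by
      intro f
      have hJ : LinearMap.ker (LinearMap.toSpanSingleton A (K ⟶ K⟦i⟧) f) = ⊤ := by
        apply ideal_eq_top_of_forall_maximal
        intro m hm
        obtain ⟨S, inst, hS, hd⟩ := hloc m hm
        haveI := inst
        obtain ⟨s, hs, hsf⟩ := local_ext S K c d hK hfin hd i hi f
        refine ⟨s, ?_, hS s hs⟩
        rw [LinearMap.mem_ker, LinearMap.toSpanSingleton_apply, hsf]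
      have h1 : (1 : A) ∈ LinearMap.ker (LinearMap.toSpanSingleton A (K ⟶ K⟦i⟧) f) := by
        rw [hJ]; trivial
      rwa [LinearMap.mem_ker, LinearMap.toSpanSingleton_apply, one_smul] at h1
    exact ⟨fun f g => by rw [key f, key g]⟩

end Global

end Groth.Agent.H12.LocHom
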