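import Mathlib
import Groth.Agent.H12.LocHomD
import Groth.Agent.H12.InjBC
import Groth.Agent.H31.KFlatResolutionSite
import Groth.Agent.H35.FlatBC
import Groth.Agent.H82.TorBC

/-!
# Localization of a dualizing complex is dualizing (helper12)

* `isIso_aLB_app_of_flat`: for a flat `A → B`, `K ⊗^L_A B` is computed termwise on any complex;
* `hasInjAmplitudeIn_L`: finite injective amplitude passes to a localization (Noetherian case);
* `finite_homology_L`, `toEnd_bijective_L`, `ext_self_L`;
* `isDualizing_L`.
-/

set_option autoImplicit false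
universe u
open CategoryTheory CategoryTheory.Limits DerivedCategory Pretriangulated
open scoped TensorProduct

namespace Groth.Agent.H12.LocHom

attribute [local instance] HasDerivedCategory.standard

open DerivedCategory.TStructure

section FlatBC

variable {A B : Type u} [CommRing A] [CommRing B] [Algebra A B] [Module.Flat A B]
  [DRing.HasLBaseChange (algebraMap A B)]

theorem isIso_aLB_app_of_flat (E : DRing.Cx A) :
    IsIso ((H35.TorIndBC.aLB (algebraMap A B)).app E) := by
  obtain ⟨P, π, hPK, -, hπ, -⟩ := H31.KFlatRing.exists_isKFlat_resolution E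
  have nat := (H35.TorIndBC.aLB (algebraMap A B)).naturality π
  haveI : IsIso ((H35.TorIndBC.aLB (algebraMap A B)).app P) :=
    H35.TorIndBC.isIso_aLB_app _ P hPK
  haveI h1 : IsIso (Q.map π) := (isIso_Q_map_iff_quasiIso _ π).2 hπ
  haveI h2 : IsIso ((DerivedCategory.Q ⋙ DRing.LBaseChange (algebraMap A B)).map π) := by
    show IsIso ((DRing.LBaseChange (algebraMap A B)).map (Q.map π))
    infer_instance
  haveI : (ModuleCat.extendScalars.{u, u, u} (algebraMap A B)).PreservesHomology :=
    (inferInstance : (H82.TorBC.E A B).PreservesHomology)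
  haveI h3 : QuasiIso ((DTen.extCx (algebraMap A B)).map π) := by
    haveI := hπ
    exact HomologicalComplex.quasiIso_map_of_preservesHomology π
      (ModuleCat.extendScalars.{u, u, u} (algebraMap A B))
  haveI h4 : IsIso ((DTen.extCx (algebraMap A B) ⋙ DerivedCategory.Q).map π) := by
    show IsIso (Q.map ((DTen.extCx (algebraMap A B)).map π))
    exact (isIso_Q_map_iff_quasiIso _ _).2 h3
  have h : (H35.TorIndBC.aLB (algebraMap A B)).app E =
      inv ((DerivedCategory.Q ⋙ DRing.LBaseChange (algebraMap A B)).map π) ≫
        (H35.TorIndBC.aLB (algebraMap A B)).app P ≫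
        (DTen.extCx (algebraMap A B) ⋙ DerivedCategory.Q).map π := by
    rw [← nat, IsIso.inv_hom_id_assoc]
  rw [h]
  infer_instance

/-- for flat `A → B`, `L(Q E) ≅ Q(E ⊗ B)` -/
noncomputable def flatModel (E : DRing.Cx A) {K : Dual.D A} (e : Q.obj E ≅ K) :
    Q.obj ((DTen.extCx (algebraMap A B)).obj E) ≅ (DRing.LBaseChange (algebraMap A B)).obj K :=
  haveI := isIso_aLB_app_of_flat (B := B) E
  (asIso ((H35.TorIndBC.aLB (algebraMap A B)).app E)).symm ≪≫
    (DRing.LBaseChange (algebraMap A B)).mapIso e

theorem finite_homology_flat (ω : Dual.D A) (E : DRing.Cx A) (e : Q.obj E ≅ ω)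
    (hfin : ∀ i : ℤ, Module.Finite A ((homologyFunctor (ModuleCat.{u} A) i).obj ω)) (i : ℤ) :
    Module.Finite B ((homologyFunctor (ModuleCat.{u} B) i).obj
      ((DRing.LBaseChange (algebraMap A B)).obj ω)) := by
  haveI : (ModuleCat.extendScalars.{u, u, u} (algebraMap A B)).PreservesHomology :=
    (inferInstance : (H82.TorBC.E A B).PreservesHomology)
  let e1 : (homologyFunctor (ModuleCat.{u} B) i).obj
      ((DRing.LBaseChange (algebraMap A B)).obj ω) ≅
      (homologyFunctor (ModuleCat.{u} B) i).obj
        (Q.obj ((DTen.extCx (algebraMap A B)).obj E)) :=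
    (homologyFunctor (ModuleCat.{u} B) i).mapIso (flatModel (B := B) E e).symm
  let e2 : (homologyFunctor (ModuleCat.{u} B) i).obj
        (Q.obj ((DTen.extCx (algebraMap A B)).obj E)) ≅
      ((DTen.extCx (algebraMap A B)).obj E).homology i :=
    (homologyFunctorFactors (ModuleCat.{u} B) i).app _
  let e3 : ((DTen.extCx (algebraMap A B)).obj E).homology i ≅
      (ModuleCat.extendScalars.{u, u, u} (algebraMap A B)).obj (E.homology i) :=
    (E.sc i).mapHomologyIso (ModuleCat.extendScalars.{u, u, u} (algebraMap A B))
  let e4 : E.homology i ≅ (homologyFunctor (ModuleCat.{u} A) i).obj ω :=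
    ((homologyFunctorFactors (ModuleCat.{u} A) i).app E).symm ≪≫
      (homologyFunctor (ModuleCat.{u} A) i).mapIso e
  haveI := hfin i
  haveI : Module.Finite A (E.homology i) := Module.Finite.equiv e4.symm.toLinearEquiv
  haveI : Module.Finite B
      ((ModuleCat.extendScalars.{u, u, u} (algebraMap A B)).obj (E.homology i)) :=
    H35.FlatBC.finite_ext (algebraMap A B) (E.homology i)
  exact Module.Finite.equiv (e1 ≪≫ e2 ≪≫ e3).symm.toLinearEquiv

end FlatBC

section Loc

variable {A : Type u} [CommRing A] [IsNoetherianRing A] (S : Submonoid A)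

theorem injective_ext_of_injective (X : ModuleCat.{u} A) [Module.Injective A X] :
    Module.Injective (Localization S)
      ((ModuleCat.extendScalars.{u, u, u} (algebraMap A (Localization S))).obj X) := by
  haveI : IsNoetherianRing (Localization S) :=
    IsLocalization.isNoetherianRing S (Localization S) inferInstance
  have h1 : Module.Injective (Localization S) (Localization S ⊗[A] X) := by
    refine InjBC.injective_baseChange A (Localization S) ?_ X
    intro q
    rw [IsLocalization.map_comap S (Localization S) q.asIdeal]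
    exact IsLocalization.AtPrime.map_eq_maximalIdeal q.asIdeal (Localization.AtPrime q.asIdeal)
  haveI : Injective (ModuleCat.of (Localization S) (Localization S ⊗[A] X)) :=
    Module.injective_object_of_injective_module (Localization S) _
  let iso : ModuleCat.of (Localization S) (Localization S ⊗[A] X) ≅
      (ModuleCat.extendScalars.{u, u, u} (algebraMap A (Localization S))).obj X :=
    (H82.TorBC.bcEquiv A (Localization S) X).toModuleIso
  haveI : Injective ((ModuleCat.extendScalars.{u, u, u} (algebraMap A (Localization S))).obj X) :=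
    Injective.of_iso iso inferInstance
  exact Module.injective_module_of_injective_object (Localization S) _

variable [DRing.HasLBaseChange (algebraMap A (Localization S))]

theorem hasInjAmplitudeIn_L (ω : Dual.D A) (a b : ℤ) (h : DRing.HasInjAmplitudeIn A a b ω) :
    DRing.HasInjAmplitudeIn (Localization S) a b
      ((DRing.LBaseChange (algebraMap A (Localization S))).obj ω) := by
  obtain ⟨E, hE, hinjE, ⟨e⟩⟩ := h
  refine ⟨(DTen.extCx (algebraMap A (Localization S))).obj E,
    fun i hi => (ModuleCat.extendScalars.{u, u, u} (algebraMap A (Localization S))).map_isZero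
      (hE i hi), fun i => ?_, ⟨flatModel (B := Localization S) E e⟩⟩
  haveI := hinjE i
  exact injective_ext_of_injective S (E.X i)

theorem homEquiv_zero' (K : Dual.D A) (X : Dual.D (Localization S)) :
    (adjL S).homEquiv K X 0 = 0 := by
  rw [Adjunction.homEquiv_unit, Functor.map_zero, comp_zero]

theorem ext_self_L (ω : Dual.D A) (c d : ℤ)
    (hK : ∀ i : ℤ, (i < c ∨ d < i) → IsZero ((homologyFunctor (ModuleCat.{u} A) i).obj ω))
    (hfin : ∀ i : ℤ, Module.Finite A ((homologyFunctor (ModuleCat.{u} A) i).obj ω))
    (i : ℤ) (hvan : ∀ f : ω ⟶ ω⟦i⟧, f = 0)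
    (g' : (DRing.LBaseChange (algebraMap A (Localization S))).obj ω ⟶
      ((DRing.LBaseChange (algebraMap A (Localization S))).obj ω)⟦i⟧) : g' = 0 := by
  haveI : ω.IsGE c := (isGE_iff ω c).2 (fun j hj => hK j (Or.inl hj))
  haveI : (ω⟦i⟧).IsGE (c - i) := t.isGE_shift ω c i (c - i) (by omega)
  let e : (DRing.LBaseChange (algebraMap A (Localization S))).obj (ω⟦i⟧) ≅
      ((DRing.LBaseChange (algebraMap A (Localization S))).obj ω)⟦i⟧ :=
    (Adjunction.LeftAdjointCommShift.iso (adjL S) i).app ω
  obtain ⟨s, hs, f, hf⟩ := pr_zero_surj S (ηL S (ω⟦i⟧))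
    (pr_unit S (ω⟦i⟧) (c - i) ω c d hK hfin)
    ((adjL S).homEquiv ω ((DRing.LBaseChange (algebraMap A (Localization S))).obj (ω⟦i⟧))
      (g' ≫ e.inv))
  have hf2 : (0 : ω ⟶ (DRing.restrictD (algebraMap A (Localization S))).obj
      ((DRing.LBaseChange (algebraMap A (Localization S))).obj (ω⟦i⟧))) =
      s • (adjL S).homEquiv ω ((DRing.LBaseChange (algebraMap A (Localization S))).obj (ω⟦i⟧))
        (g' ≫ e.inv) := by
    rw [hvan f, zero_comp] at hf
    exact hf
  rw [← homEquiv_smul'] at hf2
  have h1 : algebraMap A (Localization S) s • (g' ≫ e.inv) = 0 := by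
    apply ((adjL S).homEquiv ω _).injective
    rw [← hf2, homEquiv_zero']
  have hu : IsUnit (algebraMap A (Localization S) s) :=
    IsLocalization.map_units (Localization S) ⟨s, hs⟩
  have h2 : g' ≫ e.inv = 0 := hu.smul_eq_zero.1 h1
  rw [← cancel_mono e.inv, h2, zero_comp]

theorem toEnd_bijective_L (ω : Dual.D A) (c d : ℤ)
    (hK : ∀ i : ℤ, (i < c ∨ d < i) → IsZero ((homologyFunctor (ModuleCat.{u} A) i).obj ω))
    (hfin : ∀ i : ℤ, Module.Finite A ((homologyFunctor (ModuleCat.{u} A) i).obj ω))
    (hbij : Function.Bijective (fun a : A => a • 𝟙 ω)) :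
    Function.Bijective (fun x : Localization S =>
      x • 𝟙 ((DRing.LBaseChange (algebraMap A (Localization S))).obj ω)) := by
  haveI : ω.IsGE c := (isGE_iff ω c).2 (fun j hj => hK j (Or.inl hj))
  have hpr := pr_unit S ω c ω c d hK hfin
  have hid : (adjL S).homEquiv ω ((DRing.LBaseChange (algebraMap A (Localization S))).obj ω)
      (𝟙 ((DRing.LBaseChange (algebraMap A (Localization S))).obj ω)) = (adjL S).unit.app ω :=
    Adjunction.homEquiv_id _ _
  have key : ∀ a : A,
      (adjL S).homEquiv ω ((DRing.LBaseChange (algebraMap A (Localization S))).obj ω)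
        (algebraMap A (Localization S) a •
          𝟙 ((DRing.LBaseChange (algebraMap A (Localization S))).obj ω)) =
      (a • 𝟙 ω) ≫ (adjL S).unit.app ω := by
    intro a
    rw [homEquiv_smul', hid, Linear.smul_comp, Category.id_comp]
  constructor
  · intro x y hxy
    have hxy' : x • 𝟙 ((DRing.LBaseChange (algebraMap A (Localization S))).obj ω) =
        y • 𝟙 ((DRing.LBaseChange (algebraMap A (Localization S))).obj ω) := hxy
    have hz : (x - y) • 𝟙 ((DRing.LBaseChange (algebraMap A (Localization S))).obj ω) = 0 := by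
      rw [sub_smul, hxy', sub_self]
    obtain ⟨⟨a, s⟩, has⟩ := IsLocalization.surj S (x - y)
    have has' : (x - y) * algebraMap A (Localization S) s.1 = algebraMap A (Localization S) a :=
      has
    have hu : IsUnit (algebraMap A (Localization S) s.1) :=
      IsLocalization.map_units (Localization S) s
    have h1 : algebraMap A (Localization S) a •
        𝟙 ((DRing.LBaseChange (algebraMap A (Localization S))).obj ω) = 0 := by
      rw [← has', mul_comm, mul_smul, hz, smul_zero]
    have h2 : (a • 𝟙 ω) ≫ ηL S ω = 0 := by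
      have := key a
      rw [h1, homEquiv_zero'] at this
      exact this.symm
    obtain ⟨t', ht', h3⟩ := pr_zero_inj S (ηL S ω) hpr _ h2
    have h4 : t' * a = 0 := by
      apply hbij.1
      show (t' * a) • 𝟙 ω = (0 : A) • 𝟙 ω
      rw [mul_smul, h3, zero_smul]
    have h5 : algebraMap A (Localization S) a = 0 := by
      have hu' : IsUnit (algebraMap A (Localization S) t') :=
        IsLocalization.map_units (Localization S) ⟨t', ht'⟩
      have h : algebraMap A (Localization S) t' * algebraMap A (Localization S) a = 0 := by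
        rw [← map_mul, h4, map_zero]
      exact hu'.mul_right_eq_zero.1 h
    rw [h5] at has'
    have h6 : x - y = 0 := hu.mul_left_eq_zero.1 has'
    exact sub_eq_zero.1 h6
  · intro g'
    obtain ⟨s, hs, f, hf⟩ := pr_zero_surj S (ηL S ω) hpr
      ((adjL S).homEquiv ω ((DRing.LBaseChange (algebraMap A (Localization S))).obj ω) g')
    obtain ⟨a, ha⟩ := hbij.2 f
    have ha' : a • 𝟙 ω = f := ha
    have hf2 : (a • 𝟙 ω) ≫ (adjL S).unit.app ω =
        s • (adjL S).homEquiv ω ((DRing.LBaseChange (algebraMap A (Localization S))).obj ω) g' := by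
      rw [ha']
      exact hf
    rw [← key a, ← homEquiv_smul'] at hf2
    have h1 : algebraMap A (Localization S) a •
        𝟙 ((DRing.LBaseChange (algebraMap A (Localization S))).obj ω) =
        algebraMap A (Localization S) s • g' := ((adjL S).homEquiv ω _).injective hf2
    have hu : IsUnit (algebraMap A (Localization S) s) :=
      IsLocalization.map_units (Localization S) ⟨s, hs⟩
    obtain ⟨u, hu'⟩ := hu
    refine ⟨↑u⁻¹ * algebraMap A (Localization S) a, ?_⟩
    show (↑u⁻¹ * algebraMap A (Localization S) a) •
      𝟙 ((DRing.LBaseChange (algebraMap A (Localization S))).obj ω) = g'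
    rw [mul_smul, h1, ← hu', smul_smul, Units.inv_mul, one_smul]

/-- the localization of a dualizing complex is dualizing -/
theorem isDualizing_L (ω : Dual.D A) (hω : Dual.IsDualizing A ω) :
    Dual.IsDualizing (Localization S)
      ((DRing.LBaseChange (algebraMap A (Localization S))).obj ω) := by
  have hN : IsNoetherianRing (Localization S) :=
    IsLocalization.isNoetherianRing S (Localization S) inferInstance
  obtain ⟨a, b, hab⟩ := hω.finite_injective_dimension
  have hamp : DRing.HasInjAmplitudeIn A a b ω := by
    apply H56.hasInjAmplitudeIn_of_cyclic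
    intro I i hi
    haveI := hab (A ⧸ I) i hi
    exact (H56.single_hom_shift_vanishing_iff (ModuleCat.of A (A ⧸ I)) ω i).1
      (fun φ => Subsingleton.elim _ _)
  have hampL := hasInjAmplitudeIn_L S ω a b hamp
  obtain ⟨E, hE, hinjE, ⟨e⟩⟩ := hamp
  have hK : ∀ i : ℤ, (i < a ∨ b < i) →
      IsZero ((homologyFunctor (ModuleCat.{u} A) i).obj ω) := by
    intro i hi
    have h1 : IsZero (E.homology i) :=
      ShortComplex.isZero_homology_of_isZero_X₂ (E.sc i) (hE i hi)
    have h2 : IsZero ((homologyFunctor (ModuleCat.{u} A) i).obj (Q.obj E)) :=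
      IsZero.of_iso h1 ((homologyFunctorFactors (ModuleCat.{u} A) i).app E)
    exact IsZero.of_iso h2 ((homologyFunctor (ModuleCat.{u} A) i).mapIso e.symm)
  refine ⟨hN, ⟨a, b, ?_⟩, ?_, ?_, ?_⟩
  · intro M _ _ i hi
    have key := (H56.single_hom_shift_vanishing_iff (ModuleCat.of (Localization S) M)
      ((DRing.LBaseChange (algebraMap A (Localization S))).obj ω) i).2
      (fun ψ => H56.single_hom_eq_zero_of_hasInjAmplitudeIn _ a b hampL
        (ModuleCat.of (Localization S) M) i hi ψ)
    exact ⟨fun f g => by rw [key f, key g]⟩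
  · exact fun i => finite_homology_flat (B := Localization S) ω E e hω.finite_cohomology i
  · exact toEnd_bijective_L S ω a b hK hω.finite_cohomology hω.toEnd_bijective
  · intro i hi
    haveI := hω.ext_self_subsingleton i hi
    have key := ext_self_L S ω a b hK hω.finite_cohomology i (fun f => Subsingleton.elim _ _)
    exact ⟨fun f g => by rw [key f, key g]⟩

end Loc

end Groth.Agent.H12.LocHom
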