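import Mathlib
import Groth.Agent.H12.LocHomE

/-!
# Dualizing complexes glue along a finite cover by principal opens (helper12)

* `isLocalizedModule_of_sIsoM`, `finite_of_local`;
* `exists_iso_L_single`: flat base change of `M[0]`;
* `isDualizing_of_cover`.
-/

set_option autoImplicit false
universe u
open CategoryTheory CategoryTheory.Limits DerivedCategory Pretriangulated
open scoped TensorProduct

namespace Groth.Agent.H12.LocHom

attribute [local instance] HasDerivedCategory.standard

open DerivedCategory.TStructure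
open Groth.Agent.H12.HomSingleRing (sA)
open Groth.Agent.H12.DualDepth (sM)

section LocMod

variable {A B : Type u} [CommRing A] [CommRing B] [Algebra A B] (S : Submonoid A)
  [IsLocalization S B]

theorem isLocalizedModule_of_sIsoM (M : ModuleCat.{u} A) (Y : ModuleCat.{u} B)
    (γ : M ⟶ (ModuleCat.restrictScalars.{u} (algebraMap A B)).obj Y) (hγ : SIsoM S γ) :
    IsLocalizedModule S γ.hom := by
  refine ⟨fun s => ?_, fun y => ?_, fun {x₁ x₂} h => ?_⟩
  · rw [Module.End.isUnit_iff]
    have hu : IsUnit (algebraMap A B s.1) := IsLocalization.map_units B s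
    constructor
    · intro y y' h
      have h' : (algebraMap A B s.1) • (y : Y) = (algebraMap A B s.1) • (y' : Y) := h
      exact hu.smul_left_cancel.1 h'
    · intro y
      obtain ⟨u, hu'⟩ := hu
      refine ⟨((↑u⁻¹ : B) • (y : Y) : Y), ?_⟩
      show (algebraMap A B s.1) • (((↑u⁻¹ : B) • (y : Y) : Y)) = y
      rw [← hu', smul_smul, Units.mul_inv, one_smul]
  · obtain ⟨s, hs, x, hx⟩ := hγ.2 y
    exact ⟨(x, ⟨s, hs⟩), hx.symm⟩
  · have h0 : γ.hom (x₁ - x₂) = 0 := by rw [map_sub, h, sub_self]
    obtain ⟨s, hs, hs0⟩ := hγ.1 _ h0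
    refine ⟨⟨s, hs⟩, ?_⟩
    rw [smul_sub] at hs0
    exact sub_eq_zero.1 hs0

end LocMod

section FinLocal

variable {A : Type u} [CommRing A]

theorem finite_of_local (M : ModuleCat.{u} A) (t : Set A) (ht : Ideal.span t = ⊤)
    (Y : ∀ g : t, ModuleCat.{u} (Localization.Away g.val))
    (γ : ∀ g : t, M ⟶
      (ModuleCat.restrictScalars.{u} (algebraMap A (Localization.Away g.val))).obj (Y g))
    (hγ : ∀ g : t, SIsoM (Submonoid.powers g.val) (γ g))
    (hfin : ∀ g : t, Module.Finite (Localization.Away g.val) (Y g)) : Module.Finite A M := by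
  letI inst1 : ∀ g : t, Module (Localization.Away g.val)
      ((ModuleCat.restrictScalars.{u} (algebraMap A (Localization.Away g.val))).obj (Y g)) :=
    fun g => (inferInstance : Module (Localization.Away g.val) (Y g))
  haveI inst2 : ∀ g : t, IsScalarTower A (Localization.Away g.val)
      ((ModuleCat.restrictScalars.{u} (algebraMap A (Localization.Away g.val))).obj (Y g)) :=
    fun g => ⟨fun a b y => by
      show ((a • b : Localization.Away g.val) • (y : Y g)) =
        (algebraMap A (Localization.Away g.val) a) • (b • (y : Y g))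
      rw [Algebra.smul_def, mul_smul]⟩
  haveI inst3 : ∀ g : t, IsLocalizedModule.Away g.val (γ g).hom := fun g =>
    isLocalizedModule_of_sIsoM (Submonoid.powers g.val) M (Y g) (γ g) (hγ g)
  exact Module.Finite.of_localizationSpan' t ht (fun g => (γ g).hom) (fun g => hfin g)

end FinLocal

section FlatSingle

variable {A B : Type u} [CommRing A] [CommRing B] [Algebra A B] [Module.Flat A B]
  [DRing.HasLBaseChange (algebraMap A B)]

theorem exists_iso_L_single (M : ModuleCat.{u} A) :
    Nonempty ((DRing.LBaseChange (algebraMap A B)).obj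
        ((singleFunctor (ModuleCat.{u} A) 0).obj M) ≅
      (singleFunctor (ModuleCat.{u} B) 0).obj
        ((ModuleCat.extendScalars.{u, u, u} (algebraMap A B)).obj M)) := by
  let e : Q.obj ((HomologicalComplex.single (ModuleCat.{u} A) (ComplexShape.up ℤ) 0).obj M) ≅
      (singleFunctor (ModuleCat.{u} A) 0).obj M :=
    ((singleFunctorIsoCompQ (ModuleCat.{u} A) 0).app M).symm
  obtain ⟨e2⟩ := H35.FlatBC.exists_iso (algebraMap A B)
    (RingHom.flat_algebraMap_iff.2 inferInstance)
    ((HomologicalComplex.single (ModuleCat.{u} A) (ComplexShape.up ℤ) 0).obj M) M e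
  exact ⟨(flatModel (B := B) _ e).symm ≪≫ e2⟩

end FlatSingle

section Cover

variable {A : Type u} [CommRing A] [IsNoetherianRing A]

theorem isZero_homology_of_isDualizing (ω : Dual.D A) (a b : ℤ)
    (hab : ∀ (M : Type u) [AddCommGroup M] [Module A M] (i : ℤ),
      (i < a ∨ b < i) → Subsingleton (Dual.inD A M ⟶ ω⟦i⟧)) (i : ℤ) (hi : i < a ∨ b < i) :
    IsZero ((homologyFunctor (ModuleCat.{u} A) i).obj ω) := by
  obtain ⟨e⟩ := HomSingleRing.nonempty_linearEquiv_Hi ω i
  haveI : Subsingleton (sA A ⟶ ω⟦i⟧) := hab A i hi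
  haveI : Subsingleton ((homologyFunctor (ModuleCat.{u} A) i).obj ω) :=
    e.symm.toEquiv.subsingleton
  exact ModuleCat.isZero_of_subsingleton _

omit [IsNoetherianRing A] in
theorem cover_maximal (t : Set A) (ht : Ideal.span t = ⊤) (m : Ideal A) (hm : m.IsMaximal) :
    ∃ g : t, ∀ s ∈ Submonoid.powers g.val, s ∉ m := by
  by_contra hcon
  push_neg at hcon
  have h1 : t ⊆ m := by
    intro g hg
    obtain ⟨s, hs, hsm⟩ := hcon ⟨g, hg⟩
    obtain ⟨n, rfl⟩ := (Submonoid.mem_powers_iff _ _).1 hs
    exact hm.isPrime.mem_of_pow_mem n hsm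
  have h2 : Ideal.span t ≤ m := Ideal.span_le.2 h1
  rw [ht] at h2
  exact hm.ne_top (top_le_iff.1 h2)

omit [IsNoetherianRing A] in
/-- an element of a module killed by a power of each member of a cover is zero -/
theorem eq_zero_of_cover {X : Type*} [AddCommGroup X] [Module A X] (t : Set A)
    (ht : Ideal.span t = ⊤) (x : X)
    (h : ∀ g : t, ∃ s ∈ Submonoid.powers g.val, s • x = 0) : x = 0 := by
  have hJ : LinearMap.ker (LinearMap.toSpanSingleton A X x) = ⊤ := by
    apply ideal_eq_top_of_forall_maximal
    intro m hm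
    obtain ⟨g, hg⟩ := cover_maximal t ht m hm
    obtain ⟨s, hs, hsx⟩ := h g
    refine ⟨s, ?_, hg s hs⟩
    rw [LinearMap.mem_ker, LinearMap.toSpanSingleton_apply, hsx]
  have h1 : (1 : A) ∈ LinearMap.ker (LinearMap.toSpanSingleton A X x) := by
    rw [hJ]; trivial
  rwa [LinearMap.mem_ker, LinearMap.toSpanSingleton_apply, one_smul] at h1

theorem exists_smul_eq_zero_of_pr (S : Submonoid A)
    [DRing.HasLBaseChange (algebraMap A (Localization S))] (N K : Dual.D A)
    (hpr : Pr S (ηL S N) K) (f : K ⟶ N)
    (hf : (DRing.LBaseChange (algebraMap A (Localization S))).map f = 0) :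
    ∃ s ∈ S, s • f = 0 := by
  refine pr_zero_inj S (ηL S N) hpr f ?_
  have h1 : f ≫ ηL S N = ηL S K ≫ (DRing.restrictD (algebraMap A (Localization S))).map
      ((DRing.LBaseChange (algebraMap A (Localization S))).map f) :=
    ((adjL S).unit_naturality f).symm
  rw [h1, hf, Functor.map_zero, comp_zero]

/-- a complex which is dualizing on each member of a finite cover by principal opens is dualizing -/
theorem isDualizing_of_cover (t : Set A) (ht : Ideal.span t = ⊤) (htfin : t.Finite)
    (ω : Dual.D A)
    (inst : ∀ g : t, DRing.HasLBaseChange (algebraMap A (Localization.Away g.val)))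
    (hd : ∀ g : t, Dual.IsDualizing (Localization.Away g.val)
      ((DRing.LBaseChange (algebraMap A (Localization.Away g.val))).obj ω)) :
    Dual.IsDualizing A ω := by
  haveI := inst
  haveI : Finite t := htfin.to_subtype
  choose a b hab using fun g : t => (hd g).finite_injective_dimension
  obtain ⟨c, hc⟩ := Finite.exists_ge a
  obtain ⟨d, hd'⟩ := Finite.exists_le b
  -- cohomology of the localizations vanishes outside `[c, d]`
  have hLz : ∀ (g : t) (k : ℤ), (k < c ∨ d < k) →
      IsZero ((homologyFunctor (ModuleCat.{u} (Localization.Away g.val)) k).obj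
        ((DRing.LBaseChange (algebraMap A (Localization.Away g.val))).obj ω)) := by
    intro g k hk
    haveI : IsNoetherianRing (Localization.Away g.val) := (hd g).isNoetherianRing
    refine isZero_homology_of_isDualizing _ (a g) (b g) (hab g) k ?_
    have h1 := hc g
    have h2 := hd' g
    rcases hk with hk | hk
    · exact Or.inl (by omega)
    · exact Or.inr (by omega)
  -- comparison of cohomology modules
  let eH : ∀ (g : t) (k : ℤ), (homologyFunctor (ModuleCat.{u} A) k).obj
      ((TL (Submonoid.powers g.val)).obj ω) ≅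
      (ModuleCat.restrictScalars.{u} (algebraMap A (Localization.Away g.val))).obj
        ((homologyFunctor (ModuleCat.{u} (Localization.Away g.val)) k).obj
          ((DRing.LBaseChange (algebraMap A (Localization.Away g.val))).obj ω)) :=
    fun g k => (H56.mapDerivedCategoryHomologyIso
      (ModuleCat.restrictScalars.{u} (algebraMap A (Localization.Away g.val))) k).app _
  have hK : ∀ k : ℤ, (k < c ∨ d < k) →
      IsZero ((homologyFunctor (ModuleCat.{u} A) k).obj ω) := by
    intro k hk
    haveI : Subsingleton ((homologyFunctor (ModuleCat.{u} A) k).obj ω) := by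
      refine ⟨fun x y => ?_⟩
      have hz : ∀ x : (homologyFunctor (ModuleCat.{u} A) k).obj ω, x = 0 := by
        intro x
        refine eq_zero_of_cover t ht x (fun g => ?_)
        have hT : IsZero ((homologyFunctor (ModuleCat.{u} A) k).obj
            ((TL (Submonoid.powers g.val)).obj ω)) :=
          IsZero.of_iso ((ModuleCat.restrictScalars.{u}
            (algebraMap A (Localization.Away g.val))).map_isZero (hLz g k hk)) (eH g k)
        haveI := ModuleCat.subsingleton_of_isZero hT
        exact (homology_unit_sIsoM (Submonoid.powers g.val) ω k).1 x (Subsingleton.elim _ _)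
      rw [hz x, hz y]
    exact ModuleCat.isZero_of_subsingleton _
  have hfin : ∀ k : ℤ, Module.Finite A ((homologyFunctor (ModuleCat.{u} A) k).obj ω) := by
    intro k
    refine finite_of_local _ t ht
      (fun g => (homologyFunctor (ModuleCat.{u} (Localization.Away g.val)) k).obj
        ((DRing.LBaseChange (algebraMap A (Localization.Away g.val))).obj ω))
      (fun g => (homologyFunctor (ModuleCat.{u} A) k).map (ηL (Submonoid.powers g.val) ω) ≫
        (eH g k).hom) (fun g => ?_) (fun g => (hd g).finite_cohomology k)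
    have h1 := sIsoM_comp_iso (Submonoid.powers g.val) (𝟙 _)
      ((homologyFunctor (ModuleCat.{u} A) k).map (ηL (Submonoid.powers g.val) ω)) (eH g k).hom
      (homology_unit_sIsoM (Submonoid.powers g.val) ω k)
    rwa [Category.id_comp] at h1
  haveI : ω.IsGE c := (isGE_iff ω c).2 (fun j hj => hK j (Or.inl hj))
  -- vanishing of `Hom(M[0], ω[k])` for finite `M`
  have hvan : ∀ (M : ModuleCat.{u} A) [Module.Finite A M] (k : ℤ), (k < c ∨ d < k) →
      ∀ φ : sM M ⟶ ω⟦k⟧, φ = 0 := by
    intro M _ k hk φ
    refine eq_zero_of_cover t ht φ (fun g => ?_)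
    haveI : (ω⟦k⟧).IsGE (c - k) := DerivedCategory.TStructure.t.isGE_shift ω c k (c - k) (by omega)
    haveI := isGE_TL (Submonoid.powers g.val) (ω⟦k⟧) (c - k)
    have hpr : Pr (Submonoid.powers g.val) (ηL (Submonoid.powers g.val) (ω⟦k⟧)) (sM M) :=
      pr_single_module (Submonoid.powers g.val) (ηL (Submonoid.powers g.val) (ω⟦k⟧))
        (fun n => homology_unit_sIsoM (Submonoid.powers g.val) (ω⟦k⟧) n) (c - k) M
    refine exists_smul_eq_zero_of_pr (Submonoid.powers g.val) (ω⟦k⟧) (sM M) hpr φ ?_
    obtain ⟨iso1⟩ := exists_iso_L_single (B := Localization.Away g.val) M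
    let iso2 : (DRing.LBaseChange (algebraMap A (Localization.Away g.val))).obj (ω⟦k⟧) ≅
        ((DRing.LBaseChange (algebraMap A (Localization.Away g.val))).obj ω)⟦k⟧ :=
      (Adjunction.LeftAdjointCommShift.iso (adjL (Submonoid.powers g.val)) k).app ω
    have hk' : k < a g ∨ b g < k := by
      have h1 := hc g
      have h2 := hd' g
      rcases hk with hk | hk
      · exact Or.inl (by omega)
      · exact Or.inr (by omega)
    have hsub := hab g
      ((ModuleCat.extendScalars.{u, u, u} (algebraMap A (Localization.Away g.val))).obj M) k hk'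
    have h0 : iso1.inv ≫ (DRing.LBaseChange (algebraMap A (Localization.Away g.val))).map φ ≫
        iso2.hom = 0 := hsub.elim _ _
    have h1 : (DRing.LBaseChange (algebraMap A (Localization.Away g.val))).map φ ≫
        iso2.hom = 0 := by
      rw [← cancel_epi iso1.inv, h0, comp_zero]
    rw [← cancel_mono iso2.hom, h1, zero_comp]
  have hamp : DRing.HasInjAmplitudeIn A c d ω := by
    apply H56.hasInjAmplitudeIn_of_cyclic
    intro I k hk
    exact (H56.single_hom_shift_vanishing_iff (ModuleCat.of A (A ⧸ I)) ω k).1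
      (fun φ => hvan (ModuleCat.of A (A ⧸ I)) k hk φ)
  have hinj : ∃ a b : ℤ, ∀ (M : Type u) [AddCommGroup M] [Module A M] (i : ℤ),
      (i < a ∨ b < i) → Subsingleton (Dual.inD A M ⟶ ω⟦i⟧) := by
    refine ⟨c, d, ?_⟩
    intro M _ _ i hi
    have key := (H56.single_hom_shift_vanishing_iff (ModuleCat.of A M) ω i).2
      (fun ψ => H56.single_hom_eq_zero_of_hasInjAmplitudeIn ω c d hamp (ModuleCat.of A M) i hi ψ)
    exact ⟨fun f g => by rw [key f, key g]⟩
  refine isDualizing_of_local ω c d hK hfin hinj ?_
  intro m hm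
  obtain ⟨g, hg⟩ := cover_maximal t ht m hm
  exact ⟨Submonoid.powers g.val, inst g, hg, hd g⟩

end Cover

end Groth.Agent.H12.LocHom
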