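import Mathlib
import Groth.Agent.H12.LocHomF
import Groth.Agent.H12.DualNonvan
import Groth.Agent.H12.DualMinPrime
import Groth.Agent.H35.HasLBC

/-!
# Localizing a normalized dualizing complex (helper12)

* `isDualizing_shift`, `van_shift_iff`;
* `exists_not_torsion_iff`, `mem_support_hom_iff`: `Hom(M, ω[k])_p ≠ 0 ↔ Hom(M_p, ω_p[k]) ≠ 0`;
* `extIsoLocalized`, `extQuotIsoResidue`;
* `torsion_hom_quotient_prime`, `isNormalized_L_shift`: `ω_p[-dim A/p]` is normalized;
* `support_iff_depth`.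
-/

set_option autoImplicit false
universe u
open CategoryTheory CategoryTheory.Limits DerivedCategory Pretriangulated
open scoped TensorProduct

namespace Groth.Agent.H12.DualLoc

attribute [local instance] HasDerivedCategory.standard

open DerivedCategory.TStructure
open Groth.Agent.H12.DualDepth
open Groth.Agent.H12.LocHom

section Arith

theorem natCast_add_le_iff (n d i : ℕ) :
    (((n : ℕ∞) : WithBot ℕ∞) + ((d : ℕ) : WithBot ℕ∞) ≤ ((i : ℕ) : WithBot ℕ∞)) ↔ n + d ≤ i := by
  have h1 : (((n : ℕ∞) : WithBot ℕ∞) + ((d : ℕ) : WithBot ℕ∞)) =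
      (((n + d : ℕ) : ℕ∞) : WithBot ℕ∞) := by
    push_cast; rfl
  have h2 : ((i : ℕ) : WithBot ℕ∞) = (((i : ℕ) : ℕ∞) : WithBot ℕ∞) := rfl
  rw [h1, h2, WithBot.coe_le_coe]
  exact_mod_cast Iff.rfl

theorem not_top_add_le (d i : ℕ) :
    ¬ (((⊤ : ℕ∞) : WithBot ℕ∞) + ((d : ℕ) : WithBot ℕ∞) ≤ ((i : ℕ) : WithBot ℕ∞)) := by
  intro h
  have h0 : (0 : WithBot ℕ∞) ≤ ((d : ℕ) : WithBot ℕ∞) := by
    have : ((0 : ℕ∞) : WithBot ℕ∞) ≤ ((d : ℕ∞) : WithBot ℕ∞) := WithBot.coe_le_coe.2 (by simp)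
    exact this
  have h1 : ((⊤ : ℕ∞) : WithBot ℕ∞) ≤ ((i : ℕ∞) : WithBot ℕ∞) :=
    (le_add_of_nonneg_right h0).trans h
  have h2 := WithBot.coe_le_coe.1 h1
  exact absurd h2 (by simp)

theorem exists_nat_of (x : WithBot ℕ∞) (h1 : x ≠ ⊥) (h2 : x < ⊤) :
    ∃ n : ℕ, x = (n : WithBot ℕ∞) := by
  induction x using WithBot.recBotCoe with
  | bot => exact absurd rfl h1
  | coe y =>
    induction y using ENat.recTopCoe with
    | top => exact absurd h2 (lt_irrefl _)
    | coe n => exact ⟨n, rfl⟩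

theorem natCast_lt_natCast {d e : ℕ} (h : d < e) : (d : WithBot ℕ∞) < (e : WithBot ℕ∞) := by
  have : ((d : ℕ∞) : WithBot ℕ∞) < ((e : ℕ∞) : WithBot ℕ∞) :=
    WithBot.coe_lt_coe.2 (by exact_mod_cast h)
  exact this

end Arith

section Shift

variable {A : Type u} [CommRing A]

theorem van_shift_iff (W : Dual.D A) (n i k : ℤ) (h : n + i = k) (M : ModuleCat.{u} A) :
    Van (W⟦n⟧) i M ↔ Van W k M := by
  let e : W⟦k⟧ ≅ (W⟦n⟧)⟦i⟧ := (shiftFunctorAdd' (Dual.D A) n i k h).app W
  constructor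
  · intro hv φ
    have h1 := hv (φ ≫ e.hom)
    exact (cancel_mono e.hom).1 (h1.trans zero_comp.symm)
  · intro hv φ
    have h1 := hv (φ ≫ e.inv)
    exact (cancel_mono e.inv).1 (h1.trans zero_comp.symm)

theorem isDualizing_shift (ω : Dual.D A) (hω : Dual.IsDualizing A ω) (n : ℤ) :
    Dual.IsDualizing A (ω⟦n⟧) := by
  obtain ⟨a, b, hab⟩ := hω.finite_injective_dimension
  refine ⟨hω.isNoetherianRing, ⟨a - n, b - n, ?_⟩, ?_, ?_, ?_⟩
  · intro M _ _ i hi
    exact (van_iff_subsingleton (ω⟦n⟧) i (ModuleCat.of A M)).1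
      ((van_shift_iff ω n i (n + i) rfl (ModuleCat.of A M)).2
        ((van_iff_subsingleton ω (n + i) (ModuleCat.of A M)).2 (hab M (n + i) (by omega))))
  · intro i
    let e : (homologyFunctor (ModuleCat.{u} A) i).obj (ω⟦n⟧) ≅
        (homologyFunctor (ModuleCat.{u} A) (n + i)).obj ω :=
      ((homologyFunctor (ModuleCat.{u} A) 0).shiftIso n i (n + i) rfl).app ω
    haveI := hω.finite_cohomology (n + i)
    exact Module.Finite.equiv e.symm.toLinearEquiv
  · have hcomp : (fun a : A => a • 𝟙 (ω⟦n⟧)) =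
        (fun f : ω ⟶ ω => f⟦n⟧') ∘ (fun a : A => a • 𝟙 ω) := by
      funext a
      show a • 𝟙 (ω⟦n⟧) = (a • 𝟙 ω)⟦n⟧'
      rw [Functor.map_smul, CategoryTheory.Functor.map_id]
    rw [hcomp]
    exact Function.Bijective.comp
      ⟨(shiftFunctor (Dual.D A) n).map_injective, (shiftFunctor (Dual.D A) n).map_surjective⟩
      hω.toEnd_bijective
  · intro i hi
    haveI := hω.ext_self_subsingleton i hi
    have key : ∀ f : ω⟦n⟧ ⟶ (ω⟦n⟧)⟦i⟧, f = 0 := by
      intro f
      let e : (ω⟦n⟧)⟦i⟧ ≅ (ω⟦i⟧)⟦n⟧ := shiftComm ω n i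
      obtain ⟨g, hg⟩ := (shiftFunctor (Dual.D A) n).map_surjective (f ≫ e.hom)
      have hg0 : g = 0 := Subsingleton.elim _ _
      rw [hg0, Functor.map_zero] at hg
      exact (cancel_mono e.hom).1 (hg.symm.trans zero_comp.symm)
    exact ⟨fun f g => by rw [key f, key g]⟩

end Shift

section LocSupp

variable {A : Type u} [CommRing A] [IsNoetherianRing A] (S : Submonoid A)
  [DRing.HasLBaseChange (algebraMap A (Localization S))]

theorem exists_not_torsion_iff (ω : Dual.D A) (c : ℤ) [ω.IsGE c] (M : ModuleCat.{u} A)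
    [Module.Finite A M] (k : ℤ) :
    (∃ φ : sM M ⟶ ω⟦k⟧, ∀ s ∈ S, s • φ ≠ 0) ↔
      ¬ Van ((DRing.LBaseChange (algebraMap A (Localization S))).obj ω) k
        ((ModuleCat.extendScalars.{u, u, u} (algebraMap A (Localization S))).obj M) := by
  haveI : (ω⟦k⟧).IsGE (c - k) := t.isGE_shift ω c k (c - k) (by omega)
  haveI := isGE_TL S (ω⟦k⟧) (c - k)
  have hpr : Pr S (ηL S (ω⟦k⟧)) (sM M) :=
    pr_single_module S (ηL S (ω⟦k⟧)) (fun n => homology_unit_sIsoM S (ω⟦k⟧) n) (c - k) M
  obtain ⟨iso1⟩ := exists_iso_L_single (B := Localization S) M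
  let iso2 : (DRing.LBaseChange (algebraMap A (Localization S))).obj (ω⟦k⟧) ≅
      ((DRing.LBaseChange (algebraMap A (Localization S))).obj ω)⟦k⟧ :=
    (Adjunction.LeftAdjointCommShift.iso (adjL S) k).app ω
  constructor
  · rintro ⟨φ, hφ⟩ hv
    have h0 : iso1.inv ≫ (DRing.LBaseChange (algebraMap A (Localization S))).map φ ≫
        iso2.hom = 0 := hv _
    have h1 : (DRing.LBaseChange (algebraMap A (Localization S))).map φ ≫ iso2.hom = 0 := by
      rw [← cancel_epi iso1.inv, h0, comp_zero]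
    have h2 : (DRing.LBaseChange (algebraMap A (Localization S))).map φ = 0 := by
      rw [← cancel_mono iso2.hom, h1, zero_comp]
    obtain ⟨s, hs, hs0⟩ := exists_smul_eq_zero_of_pr S (ω⟦k⟧) (sM M) hpr φ h2
    exact hφ s hs hs0
  · intro hv
    unfold Van at hv
    push_neg at hv
    obtain ⟨g', hg'⟩ := hv
    obtain ⟨s, hs, f, hf⟩ := pr_zero_surj S (ηL S (ω⟦k⟧)) hpr
      ((adjL S).homEquiv (sM M) ((DRing.LBaseChange (algebraMap A (Localization S))).obj (ω⟦k⟧))
        (iso1.hom ≫ g' ≫ iso2.inv))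
    refine ⟨f, fun r hr hrf => hg' ?_⟩
    have hf2 : f ≫ (adjL S).unit.app (ω⟦k⟧) =
        s • (adjL S).homEquiv (sM M)
          ((DRing.LBaseChange (algebraMap A (Localization S))).obj (ω⟦k⟧))
          (iso1.hom ≫ g' ≫ iso2.inv) := hf
    have h3 : (r * s) • (adjL S).homEquiv (sM M)
        ((DRing.LBaseChange (algebraMap A (Localization S))).obj (ω⟦k⟧))
        (iso1.hom ≫ g' ≫ iso2.inv) = 0 := by
      rw [mul_smul, ← hf2, ← Linear.smul_comp, hrf, zero_comp]
    rw [← homEquiv_smul'] at h3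
    have h4 : algebraMap A (Localization S) (r * s) • (iso1.hom ≫ g' ≫ iso2.inv) = 0 := by
      apply ((adjL S).homEquiv (sM M) _).injective
      rw [h3, homEquiv_zero']
    have hu : IsUnit (algebraMap A (Localization S) (r * s)) :=
      IsLocalization.map_units (Localization S) ⟨r * s, S.mul_mem hr hs⟩
    have h5 : iso1.hom ≫ g' ≫ iso2.inv = 0 := hu.smul_eq_zero.1 h4
    have h6 : g' ≫ iso2.inv = 0 := by rw [← cancel_epi iso1.hom, h5, comp_zero]
    rw [← cancel_mono iso2.inv, h6, zero_comp]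

end LocSupp

section Isos

variable {A : Type u} [CommRing A]

/-- `M ⊗_A S⁻¹A ≅ S⁻¹M` -/
noncomputable def extIsoLocalized (S : Submonoid A) (M : Type u) [AddCommGroup M] [Module A M] :
    (ModuleCat.extendScalars.{u, u, u} (algebraMap A (Localization S))).obj (ModuleCat.of A M) ≅
      ModuleCat.of (Localization S) (LocalizedModule S M) :=
  ((H82.TorBC.bcEquiv A (Localization S) M).symm ≪≫ₗ
    (IsLocalizedModule.isBaseChange S (Localization S)
      (LocalizedModule.mkLinearMap S M)).equiv).toModuleIso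

/-- `(A/p) ⊗_A A_p ≅ A_p / p A_p` -/
noncomputable def extQuotIsoResidue (p : Ideal A) [p.IsPrime] :
    (ModuleCat.extendScalars.{u, u, u} (algebraMap A (Localization.AtPrime p))).obj
        (ModuleCat.of A (A ⧸ p)) ≅
      ModuleCat.of (Localization.AtPrime p)
        (Localization.AtPrime p ⧸ IsLocalRing.maximalIdeal (Localization.AtPrime p)) :=
  ((H82.TorBC.bcEquiv A (Localization.AtPrime p) (A ⧸ p)).symm ≪≫ₗ
    (Algebra.TensorProduct.quotIdealMapEquivTensorQuot
      (Localization.AtPrime p) p).toLinearEquiv.symm ≪≫ₗ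
    (Ideal.quotientEquivAlgOfEq (Localization.AtPrime p)
      (IsLocalization.AtPrime.map_eq_maximalIdeal p
        (Localization.AtPrime p))).toLinearEquiv).toModuleIso

end Isos

section Normalized

variable {A : Type u} [CommRing A] [IsLocalRing A] [IsNoetherianRing A] (ω : Dual.D A)

/-- `Hom(A/p, ω[k])` is `p`-torsion unless `k = -dim A/p`. -/
theorem torsion_hom_quotient_prime (hω : Dual.IsDualizing A ω) (hn : Dual.IsNormalized A ω)
    (p : Ideal A) [hp : p.IsPrime] (d : ℕ)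
    (hd : ringKrullDim (A ⧸ p) = (d : WithBot ℕ∞)) (k : ℤ) (hk : k ≠ -(d : ℤ)) :
    ¬ ∃ φ : sM (ModuleCat.of A (A ⧸ p)) ⟶ ω⟦k⟧, ∀ s ∈ p.primeCompl, s • φ ≠ 0 := by
  rintro ⟨φ, hφ⟩
  have h1p : (1 : A) ∈ p.primeCompl := p.primeCompl.one_mem
  have hφ0 : φ ≠ 0 := by
    intro h0
    apply hφ 1 h1p
    rw [h0, smul_zero]
  rcases lt_trichotomy k (-(d : ℤ)) with hlt | heq | hgt
  · obtain ⟨e, rfl⟩ : ∃ e : ℕ, k = -(e : ℤ) := ⟨(-k).toNat, by omega⟩
    have hlt' : d < e := by omega
    have hv := van_of_supportDim_lt ω hω hn (A ⧸ p) e (by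
      rw [Module.supportDim_quotient_eq_ringKrullDim, hd]
      exact natCast_lt_natCast hlt')
    exact hφ0 (hv φ)
  · exact hk heq
  · by_cases hk0 : 0 < k
    · exact hφ0 (dualizing_hpos ω hω hn (A ⧸ p) k hk0 φ)
    · obtain ⟨e, rfl⟩ : ∃ e : ℕ, k = -(e : ℤ) := ⟨(-k).toNat, by omega⟩
      have hlt' : e < d := by omega
      haveI hfinE := dualizing_hfin ω hω (A ⧸ p) (-(e : ℤ))
      have hle := supportDim_hom_le ω hω hn e (-(e : ℤ)) (by omega) (A ⧸ p)
      have hann : Module.annihilator A (sM (ModuleCat.of A (A ⧸ p)) ⟶ ω⟦(-(e : ℤ))⟧) ≤ p := by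
        intro a ha
        by_contra hap
        exact hφ a hap (Module.mem_annihilator.1 ha φ)
      have h2 : ringKrullDim (A ⧸ p) ≤ (e : WithBot ℕ∞) := by
        refine le_trans ?_ hle
        rw [Module.supportDim_eq_ringKrullDim_quotient_annihilator]
        exact ringKrullDim_le_of_surjective (Ideal.Quotient.factor hann)
          (Ideal.Quotient.factor_surjective hann)
      rw [hd] at h2
      have := natCast_le_imp d e h2
      omega

theorem isNormalized_L_shift (hω : Dual.IsDualizing A ω) (hn : Dual.IsNormalized A ω)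
    (p : Ideal A) [hp : p.IsPrime]
    [DRing.HasLBaseChange (algebraMap A (Localization p.primeCompl))]
    (c : ℤ) [ω.IsGE c] (d : ℕ)
    (hd : ringKrullDim (A ⧸ p) = (d : WithBot ℕ∞)) :
    Dual.IsNormalized (Localization.AtPrime p)
      (((DRing.LBaseChange (algebraMap A (Localization p.primeCompl))).obj ω)⟦(-(d : ℤ))⟧) := by
  intro i hi
  refine (van_iff_subsingleton _ i
    (ModuleCat.of (Localization.AtPrime p) (IsLocalRing.ResidueField (Localization.AtPrime p)))).1 ?_
  refine van_of_iso (residueIso (A := Localization.AtPrime p)).symm ?_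
  refine van_of_iso (extQuotIsoResidue p) ?_
  rw [van_shift_iff _ (-(d : ℤ)) i (i - d) (by omega)]
  by_contra hv
  exact torsion_hom_quotient_prime ω hω hn p d hd (i - d) (by omega)
    ((exists_not_torsion_iff p.primeCompl ω c (ModuleCat.of A (A ⧸ p)) (i - d)).2 hv)

end Normalized

section Main

variable {A : Type u} [CommRing A] [IsLocalRing A] [IsNoetherianRing A] (ω : Dual.D A)

theorem support_iff_depth (hω : Dual.IsDualizing A ω) (hn : Dual.IsNormalized A ω)
    (M : Type u) [AddCommGroup M] [Module A M] [Module.Finite A M] (i : ℕ)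
    (p : PrimeSpectrum A) :
    (∃ j : ℕ, j ≤ i ∧ p ∈ Module.support A (Dual.inD A M ⟶ ω⟦(-(j : ℤ))⟧)) ↔
      ((LocCoh.depth (Localization.AtPrime p.asIdeal)
        (LocalizedModule p.asIdeal.primeCompl M) : ℕ∞) : WithBot ℕ∞) +
        ringKrullDim (A ⧸ p.asIdeal) ≤ (i : WithBot ℕ∞) := by
  classical
  haveI : DRing.HasLBaseChange (algebraMap A (Localization p.asIdeal.primeCompl)) :=
    H35.HasLBC.hasLBaseChange _
  haveI : IsDomain (A ⧸ p.asIdeal) := Ideal.Quotient.isDomain _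
  obtain ⟨d, hd⟩ : ∃ d : ℕ, ringKrullDim (A ⧸ p.asIdeal) = (d : WithBot ℕ∞) := by
    refine exists_nat_of _ ?_ (lt_of_le_of_lt (ringKrullDim_quotient_le _) ringKrullDim_lt_top)
    have h0 : (0 : WithBot ℕ∞) ≤ ringKrullDim (A ⧸ p.asIdeal) := ringKrullDim_nonneg_of_nontrivial
    intro h
    rw [h] at h0
    exact absurd h0 (not_le.2 (WithBot.bot_lt_coe (0 : ℕ∞)))
  obtain ⟨a, b, hab⟩ := hω.finite_injective_dimension
  haveI : ω.IsGE a := (isGE_iff ω a).2
    (fun j hj => isZero_homology_of_isDualizing ω a b hab j (Or.inl hj))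
  have hωB := isDualizing_L p.asIdeal.primeCompl ω hω
  have hW := isDualizing_shift _ hωB (-(d : ℤ))
  have hnW := isNormalized_L_shift ω hω hn p.asIdeal a d hd
  -- localization of the support
  have hE1 : ∀ k : ℤ, p ∈ Module.support A (Dual.inD A M ⟶ ω⟦k⟧) ↔
      ¬ Van ((DRing.LBaseChange (algebraMap A (Localization p.asIdeal.primeCompl))).obj ω) k
        (ModuleCat.of (Localization.AtPrime p.asIdeal)
          (LocalizedModule p.asIdeal.primeCompl M)) := by
    intro k
    rw [Module.mem_support_iff']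
    have h1 := exists_not_torsion_iff p.asIdeal.primeCompl ω a (ModuleCat.of A M) k
    constructor
    · rintro ⟨m, hm⟩ hv
      exact h1.1 ⟨m, fun s hs => hm s hs⟩
        (van_of_iso (extIsoLocalized p.asIdeal.primeCompl M).symm hv)
    · intro hv
      obtain ⟨m, hm⟩ := h1.2 (fun hv' => hv (van_of_iso (extIsoLocalized p.asIdeal.primeCompl M) hv'))
      exact ⟨m, fun r hr => hm r hr⟩
  rw [hd]
  rcases subsingleton_or_nontrivial (LocalizedModule p.asIdeal.primeCompl M) with hsub | hnt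
  · have hdep : LocCoh.depth (Localization.AtPrime p.asIdeal)
        (LocalizedModule p.asIdeal.primeCompl M) = ⊤ := by
      unfold LocCoh.depth LocCoh.idealDepth
      rw [if_pos]
      exact eq_top_iff.2 (fun x _ => by
        rw [Subsingleton.elim x 0]
        exact Submodule.zero_mem _)
    rw [hdep]
    constructor
    · rintro ⟨j, -, hj⟩
      exact absurd (van_of_isZero (ModuleCat.isZero_of_subsingleton _)) ((hE1 _).1 hj)
    · intro h
      exact absurd h (not_top_add_le d i)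
  · obtain ⟨dN, hdN⟩ : ∃ dN : ℕ, Module.supportDim (Localization.AtPrime p.asIdeal)
        (LocalizedModule p.asIdeal.primeCompl M) = (dN : WithBot ℕ∞) :=
      exists_nat_of _ (Module.supportDim_ne_bot_of_nontrivial _ _)
        (lt_of_le_of_lt (Module.supportDim_le_ringKrullDim _ _) ringKrullDim_lt_top)
    have hntH := nontrivial_hom_of_supportDim_eq _ hW hnW
      (LocalizedModule p.asIdeal.primeCompl M) dN hdN
    have hex : ∃ δ : ℕ, ¬ Van
        (((DRing.LBaseChange (algebraMap A (Localization p.asIdeal.primeCompl))).obj ω)⟦(-(d : ℤ))⟧)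
        (-(δ : ℤ)) (ModuleCat.of (Localization.AtPrime p.asIdeal)
          (LocalizedModule p.asIdeal.primeCompl M)) :=
      ⟨dN, (not_van_iff_nontrivial _ _ _).2 hntH⟩
    obtain ⟨n, hn1, hn2⟩ : ∃ n : ℕ, (¬ Van
        (((DRing.LBaseChange (algebraMap A (Localization p.asIdeal.primeCompl))).obj ω)⟦(-(d : ℤ))⟧)
        (-(n : ℤ)) (ModuleCat.of (Localization.AtPrime p.asIdeal)
          (LocalizedModule p.asIdeal.primeCompl M))) ∧ ∀ δ : ℕ, δ < n → Van
        (((DRing.LBaseChange (algebraMap A (Localization p.asIdeal.primeCompl))).obj ω)⟦(-(d : ℤ))⟧)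
        (-(δ : ℤ)) (ModuleCat.of (Localization.AtPrime p.asIdeal)
          (LocalizedModule p.asIdeal.primeCompl M)) :=
      ⟨Nat.find hex, Nat.find_spec hex, fun δ hδ => not_not.1 (Nat.find_min hex hδ)⟩
    have hdep : LocCoh.depth (Localization.AtPrime p.asIdeal)
        (LocalizedModule p.asIdeal.primeCompl M) = n :=
      (depth_iff_dualizing _ hW hnW (LocalizedModule p.asIdeal.primeCompl M) n).2
        ⟨fun δ hδ => (van_iff_subsingleton _ _ _).1 (hn2 δ hδ),
          (not_van_iff_nontrivial _ _ _).1 hn1⟩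
    rw [hdep, natCast_add_le_iff]
    constructor
    · rintro ⟨j, hji, hj⟩
      have hnv := (hE1 _).1 hj
      by_contra hlt
      apply hnv
      by_cases hjd : j < d
      · have h1 := dualizing_hpos _ hW hnW (LocalizedModule p.asIdeal.primeCompl M)
          ((d : ℤ) - j) (by omega)
        exact (van_shift_iff _ (-(d : ℤ)) ((d : ℤ) - j) (-(j : ℤ)) (by omega) _).1 h1
      · have h1 := hn2 (j - d) (by omega)
        exact (van_shift_iff _ (-(d : ℤ)) (-((j - d : ℕ) : ℤ)) (-(j : ℤ)) (by omega) _).1 h1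
    · intro hle
      refine ⟨n + d, hle, (hE1 _).2 (fun hv => hn1 ?_)⟩
      exact (van_shift_iff _ (-(d : ℤ)) (-(n : ℤ)) (-((n + d : ℕ) : ℤ)) (by push_cast; ring) _).2 hv

end Main

end Groth.Agent.H12.DualLoc
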