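import Mathlib
import Groth.Agent.H12.DualLoc
import Groth.Prelude.Def_EGA4b

/-!
# Serre's conditions through the supports of `Ext^j(M, ω)` (helper12)

* `local_package`: for `p ∈ Supp M`, the degrees `j` with `p ∈ Supp Ext^j(M, ω)` lie between
  `-(dim M_p + dim A/p)` and `-(depth M_p + dim A/p)`, and both ends occur;
* `equidim_formula`: `dim M_p + dim A/p = dim M` for equidimensional `M`;
* `hasSk_iff`.
-/

set_option autoImplicit false
universe u
open CategoryTheory CategoryTheory.Limits DerivedCategory Pretriangulated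
open scoped TensorProduct

namespace Groth.Agent.H12.DualLoc

attribute [local instance] HasDerivedCategory.standard

open DerivedCategory.TStructure
open Groth.Agent.H12.DualDepth
open Groth.Agent.H12.LocHom

section Arith2

theorem natCast_le_iff' (a b : ℕ) :
    ((a : ℕ) : WithBot ℕ∞) ≤ (((b : ℕ) : ℕ∞) : WithBot ℕ∞) ↔ a ≤ b := by
  have h2 : ((a : ℕ) : WithBot ℕ∞) = (((a : ℕ) : ℕ∞) : WithBot ℕ∞) := rfl
  rw [h2, WithBot.coe_le_coe]
  exact_mod_cast Iff.rfl

theorem natCast_succ_le_of_not_le (x : WithBot ℕ∞) (m : ℕ) (h : ¬ x ≤ (m : WithBot ℕ∞)) :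
    ((m + 1 : ℕ) : WithBot ℕ∞) ≤ x := by
  induction x using WithBot.recBotCoe with
  | bot => exact absurd bot_le h
  | coe y =>
    have h1 : ¬ ((y : WithBot ℕ∞) ≤ (((m : ℕ) : ℕ∞) : WithBot ℕ∞)) := h
    rw [WithBot.coe_le_coe, not_le] at h1
    have h2 : ((m : ℕ) : ℕ∞) + 1 ≤ y := (ENat.add_one_le_iff (ENat.coe_ne_top m)).2 h1
    have h3 : ((((m + 1 : ℕ) : ℕ∞)) : WithBot ℕ∞) ≤ (y : WithBot ℕ∞) :=
      WithBot.coe_le_coe.2 (by push_cast; exact h2)
    exact h3

end Arith2

section Package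

variable {A : Type u} [CommRing A] [IsLocalRing A] [IsNoetherianRing A] (ω : Dual.D A)

omit [IsLocalRing A] [IsNoetherianRing A] in
theorem ringKrullDim_quotient_le_supportDim_of_mem_support (E : Type*) [AddCommGroup E]
    [Module A E] [Module.Finite A E] (p : PrimeSpectrum A) (h : p ∈ Module.support A E) :
    ringKrullDim (A ⧸ p.asIdeal) ≤ Module.supportDim A E := by
  have hann : Module.annihilator A E ≤ p.asIdeal := Module.mem_support_iff_of_finite.1 h
  rw [Module.supportDim_eq_ringKrullDim_quotient_annihilator]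
  exact ringKrullDim_le_of_surjective (Ideal.Quotient.factor hann)
    (Ideal.Quotient.factor_surjective hann)

omit [IsLocalRing A] [IsNoetherianRing A] in
/-- a prime in the support realizing the dimension (any universe) -/
theorem exists_prime_dim_ge' (N : Type*) [AddCommGroup N] [Module A N] [Module.Finite A N]
    (n : ℕ) (h : (n : WithBot ℕ∞) ≤ Module.supportDim A N) :
    ∃ q : Ideal A, q.IsPrime ∧ Module.annihilator A N ≤ q ∧
      (n : WithBot ℕ∞) ≤ ringKrullDim (A ⧸ q) := by
  obtain ⟨l, hl⟩ := (Order.le_krullDim_iff (α := Module.support A N)).1 h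
  refine ⟨l.head.1.asIdeal, l.head.1.2, Module.mem_support_iff_of_finite.1 l.head.2, ?_⟩
  rw [ringKrullDim_quotient]
  have hmem : ∀ i, (l i).1 ∈ PrimeSpectrum.zeroLocus (R := A) (l.head.1.asIdeal : Set A) := by
    intro i
    have h1 : l.head ≤ l i := l.head_le i
    exact (PrimeSpectrum.mem_zeroLocus _ _).2 (SetLike.coe_subset_coe.2 h1)
  have hlen := Order.LTSeries.length_le_krullDim (LTSeries.mk l.length
    (fun i => (⟨(l i).1, hmem i⟩ :
      PrimeSpectrum.zeroLocus (R := A) (l.head.1.asIdeal : Set A)))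
    (fun i j hij => l.strictMono hij))
  rw [← hl]
  exact hlen

theorem local_package (hω : Dual.IsDualizing A ω) (hn : Dual.IsNormalized A ω)
    (M : Type u) [AddCommGroup M] [Module A M] [Module.Finite A M] (p : PrimeSpectrum A)
    [hnt : Nontrivial (LocalizedModule p.asIdeal.primeCompl M)] :
    ∃ d e n : ℕ, ringKrullDim (A ⧸ p.asIdeal) = (d : WithBot ℕ∞) ∧
      Module.supportDim (Localization.AtPrime p.asIdeal)
        (LocalizedModule p.asIdeal.primeCompl M) = (e : WithBot ℕ∞) ∧
      LocCoh.depth (Localization.AtPrime p.asIdeal)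
        (LocalizedModule p.asIdeal.primeCompl M) = n ∧
      (∀ j : ℤ, p ∈ Module.support A (Dual.inD A M ⟶ ω⟦j⟧) →
        -(e : ℤ) ≤ j + d ∧ j + d ≤ -(n : ℤ)) ∧
      p ∈ Module.support A (Dual.inD A M ⟶ ω⟦(-(n : ℤ) - d)⟧) ∧
      p ∈ Module.support A (Dual.inD A M ⟶ ω⟦(-(e : ℤ) - d)⟧) := by
  classical
  haveI : DRing.HasLBaseChange (algebraMap A (Localization p.asIdeal.primeCompl)) :=
    H35.HasLBC.hasLBaseChange _
  haveI : IsDomain (A ⧸ p.asIdeal) := Ideal.Quotient.isDomain _
  obtain ⟨d, hd⟩ : ∃ d : ℕ, ringKrullDim (A ⧸ p.asIdeal) = (d : WithBot ℕ∞) := by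
    refine exists_nat_of _ ?_ (lt_of_le_of_lt (ringKrullDim_quotient_le _) ringKrullDim_lt_top)
    have h0 : (0 : WithBot ℕ∞) ≤ ringKrullDim (A ⧸ p.asIdeal) := ringKrullDim_nonneg_of_nontrivial
    intro h
    rw [h] at h0
    exact absurd h0 (not_le.2 (WithBot.bot_lt_coe (0 : ℕ∞)))
  obtain ⟨a, b, hab⟩ := hω.finite_injective_dimension
  haveI : ω.IsGE a := (isGE_iff ω a).2
    (fun j hj => isZero_homology_of_isDualizing ω a b hab j (Or.inl hj))
  have hωB := isDualizing_L p.asIdeal.primeCompl ω hω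
  have hW := isDualizing_shift _ hωB (-(d : ℤ))
  have hnW := isNormalized_L_shift ω hω hn p.asIdeal a d hd
  have hE1 : ∀ k : ℤ, p ∈ Module.support A (Dual.inD A M ⟶ ω⟦k⟧) ↔
      ¬ Van ((DRing.LBaseChange (algebraMap A (Localization p.asIdeal.primeCompl))).obj ω) k
        (ModuleCat.of (Localization.AtPrime p.asIdeal)
          (LocalizedModule p.asIdeal.primeCompl M)) := by
    intro k
    rw [Module.mem_support_iff']
    have h1 := exists_not_torsion_iff p.asIdeal.primeCompl ω a (ModuleCat.of A M) k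
    constructor
    · rintro ⟨m, hm⟩ hv
      exact h1.1 ⟨m, fun s hs => hm s hs⟩
        (van_of_iso (extIsoLocalized p.asIdeal.primeCompl M).symm hv)
    · intro hv
      obtain ⟨m, hm⟩ := h1.2 (fun hv' => hv (van_of_iso (extIsoLocalized p.asIdeal.primeCompl M) hv'))
      exact ⟨m, fun r hr => hm r hr⟩
  obtain ⟨e, he⟩ : ∃ e : ℕ, Module.supportDim (Localization.AtPrime p.asIdeal)
      (LocalizedModule p.asIdeal.primeCompl M) = (e : WithBot ℕ∞) :=
    exists_nat_of _ (Module.supportDim_ne_bot_of_nontrivial _ _)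
      (lt_of_le_of_lt (Module.supportDim_le_ringKrullDim _ _) ringKrullDim_lt_top)
  have hntH := nontrivial_hom_of_supportDim_eq _ hW hnW
    (LocalizedModule p.asIdeal.primeCompl M) e he
  have hex : ∃ δ : ℕ, ¬ Van
      (((DRing.LBaseChange (algebraMap A (Localization p.asIdeal.primeCompl))).obj ω)⟦(-(d : ℤ))⟧)
      (-(δ : ℤ)) (ModuleCat.of (Localization.AtPrime p.asIdeal)
        (LocalizedModule p.asIdeal.primeCompl M)) :=
    ⟨e, (not_van_iff_nontrivial _ _ _).2 hntH⟩
  obtain ⟨n, hn1, hn2⟩ : ∃ n : ℕ, (¬ Van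
      (((DRing.LBaseChange (algebraMap A (Localization p.asIdeal.primeCompl))).obj ω)⟦(-(d : ℤ))⟧)
      (-(n : ℤ)) (ModuleCat.of (Localization.AtPrime p.asIdeal)
        (LocalizedModule p.asIdeal.primeCompl M))) ∧ ∀ δ : ℕ, δ < n → Van
      (((DRing.LBaseChange (algebraMap A (Localization p.asIdeal.primeCompl))).obj ω)⟦(-(d : ℤ))⟧)
      (-(δ : ℤ)) (ModuleCat.of (Localization.AtPrime p.asIdeal)
        (LocalizedModule p.asIdeal.primeCompl M)) :=
    ⟨Nat.find hex, Nat.find_spec hex, fun δ hδ => not_not.1 (Nat.find_min hex hδ)⟩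
  have hdep : LocCoh.depth (Localization.AtPrime p.asIdeal)
      (LocalizedModule p.asIdeal.primeCompl M) = n :=
    (depth_iff_dualizing _ hW hnW (LocalizedModule p.asIdeal.primeCompl M) n).2
      ⟨fun δ hδ => (van_iff_subsingleton _ _ _).1 (hn2 δ hδ),
        (not_van_iff_nontrivial _ _ _).1 hn1⟩
  refine ⟨d, e, n, hd, he, hdep, ?_, ?_, ?_⟩
  · intro j hj
    have hnv := (hE1 j).1 hj
    constructor
    · by_contra hlt
      apply hnv
      obtain ⟨x, hx⟩ : ∃ x : ℕ, j + d = -(x : ℤ) := ⟨(-(j + d)).toNat, by omega⟩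
      have hxe : e < x := by omega
      have h1 := van_of_supportDim_lt _ hW hnW (LocalizedModule p.asIdeal.primeCompl M) x (by
        rw [he]
        exact natCast_lt_natCast hxe)
      exact (van_shift_iff _ (-(d : ℤ)) (-(x : ℤ)) j (by omega) _).1 h1
    · by_contra hlt
      apply hnv
      by_cases hpos : 0 < j + d
      · have h1 := dualizing_hpos _ hW hnW (LocalizedModule p.asIdeal.primeCompl M)
          (j + d) hpos
        exact (van_shift_iff _ (-(d : ℤ)) (j + d) j (by omega) _).1 h1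
      · obtain ⟨x, hx⟩ : ∃ x : ℕ, j + d = -(x : ℤ) := ⟨(-(j + d)).toNat, by omega⟩
        have h1 := hn2 x (by omega)
        exact (van_shift_iff _ (-(d : ℤ)) (-(x : ℤ)) j (by omega) _).1 h1
  · refine (hE1 _).2 (fun hv => hn1 ?_)
    exact (van_shift_iff _ (-(d : ℤ)) (-(n : ℤ)) (-(n : ℤ) - d) (by omega) _).2 hv
  · refine (hE1 _).2 (fun hv => (not_van_iff_nontrivial _ _ _).2 hntH ?_)
    exact (van_shift_iff _ (-(d : ℤ)) (-(e : ℤ)) (-(e : ℤ) - d) (by omega) _).2 hv

end Package

section Supp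

variable {A : Type u} [CommRing A] [IsNoetherianRing A] (ω : Dual.D A)

theorem mem_support_hom_iff_localized (hω : Dual.IsDualizing A ω)
    (M : Type u) [AddCommGroup M] [Module A M] [Module.Finite A M] (p : PrimeSpectrum A)
    [DRing.HasLBaseChange (algebraMap A (Localization p.asIdeal.primeCompl))] (k : ℤ) :
    p ∈ Module.support A (Dual.inD A M ⟶ ω⟦k⟧) ↔
      ¬ Van ((DRing.LBaseChange (algebraMap A (Localization p.asIdeal.primeCompl))).obj ω) k
        (ModuleCat.of (Localization.AtPrime p.asIdeal)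
          (LocalizedModule p.asIdeal.primeCompl M)) := by
  obtain ⟨a, b, hab⟩ := hω.finite_injective_dimension
  haveI : ω.IsGE a := (isGE_iff ω a).2
    (fun j hj => isZero_homology_of_isDualizing ω a b hab j (Or.inl hj))
  rw [Module.mem_support_iff']
  have h1 := exists_not_torsion_iff p.asIdeal.primeCompl ω a (ModuleCat.of A M) k
  constructor
  · rintro ⟨m, hm⟩ hv
    exact h1.1 ⟨m, fun s hs => hm s hs⟩
      (van_of_iso (extIsoLocalized p.asIdeal.primeCompl M).symm hv)
  · intro hv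
    obtain ⟨m, hm⟩ := h1.2 (fun hv' => hv (van_of_iso (extIsoLocalized p.asIdeal.primeCompl M) hv'))
    exact ⟨m, fun r hr => hm r hr⟩

theorem nontrivial_localized_of_mem_support_hom (hω : Dual.IsDualizing A ω)
    (M : Type u) [AddCommGroup M] [Module A M] [Module.Finite A M] (p : PrimeSpectrum A) (j : ℤ)
    (h : p ∈ Module.support A (Dual.inD A M ⟶ ω⟦j⟧)) :
    Nontrivial (LocalizedModule p.asIdeal.primeCompl M) := by
  haveI : DRing.HasLBaseChange (algebraMap A (Localization p.asIdeal.primeCompl)) :=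
    H35.HasLBC.hasLBaseChange _
  have hnv := (mem_support_hom_iff_localized ω hω M p j).1 h
  by_contra hcon
  rw [not_nontrivial_iff_subsingleton] at hcon
  exact hnv (van_of_isZero (ModuleCat.isZero_of_subsingleton _))

omit [IsNoetherianRing A] in
theorem nontrivial_of_mem_support (E : Type*) [AddCommGroup E] [Module A E]
    (p : PrimeSpectrum A) (h : p ∈ Module.support A E) : Nontrivial E := by
  obtain ⟨m, hm⟩ := Module.mem_support_iff'.1 h
  refine ⟨⟨m, 0, fun h0 => ?_⟩⟩
  have h1p : (1 : A) ∉ p.asIdeal := fun h1 => p.2.ne_top ((Ideal.eq_top_iff_one _).2 h1)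
  apply hm 1 h1p
  rw [h0, smul_zero]

end Supp

section Main2

variable {A : Type u} [CommRing A] [IsLocalRing A] [IsNoetherianRing A] (ω : Dual.D A)

/-- `dim M_p + dim A/p = dim M` for equidimensional `M` and `p ∈ Supp M`. -/
theorem equidim_formula (hω : Dual.IsDualizing A ω) (hn : Dual.IsNormalized A ω)
    (M : Type u) [AddCommGroup M] [Module A M] [Module.Finite A M]
    (hM : EGA4.IsEquidimModule A M) (δ : ℕ) (hδ : Module.supportDim A M = (δ : WithBot ℕ∞))
    (p : PrimeSpectrum A) [hnt : Nontrivial (LocalizedModule p.asIdeal.primeCompl M)]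
    (d e n : ℕ)
    (hbd : ∀ j : ℤ, p ∈ Module.support A (Dual.inD A M ⟶ ω⟦j⟧) →
        -(e : ℤ) ≤ j + d ∧ j + d ≤ -(n : ℤ))
    (hmem : p ∈ Module.support A (Dual.inD A M ⟶ ω⟦(-(e : ℤ) - d)⟧)) :
    e + d = δ := by
  apply le_antisymm
  · -- `Ext^{-(e+d)}(M, ω) ≠ 0` forces `e + d ≤ dim M`
    by_contra hlt
    push_neg at hlt
    have hv := van_of_supportDim_lt ω hω hn M (e + d) (by
      rw [hδ]
      exact natCast_lt_natCast hlt)
    obtain ⟨φ, hφ⟩ := Module.mem_support_iff'.1 hmem
    have h1p : (1 : A) ∉ p.asIdeal := fun h1 => p.2.ne_top ((Ideal.eq_top_iff_one _).2 h1)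
    apply hφ 1 h1p
    have hcast : (-(e : ℤ) - d) = -((e + d : ℕ) : ℤ) := by push_cast; ring
    have hφ0 : ∀ (k : ℤ) (hk : k = -((e + d : ℕ) : ℤ)) (ψ : Dual.inD A M ⟶ ω⟦k⟧), ψ = 0 := by
      intro k hk ψ
      subst hk
      exact hv ψ
    rw [hφ0 _ hcast φ, smul_zero]
  · -- a minimal prime `q ⊆ p` of the support has `dim A/q = δ`
    have hpM : p ∈ Module.support A M := Module.mem_support_iff.2 hnt
    have hann : Module.annihilator A M ≤ p.asIdeal := Module.mem_support_iff_of_finite.1 hpM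
    obtain ⟨q, hq, hqp⟩ := Ideal.exists_minimalPrimes_le hann
    haveI hqprime : q.IsPrime := hq.1.1
    have hdimq : ringKrullDim (A ⧸ q) = (δ : WithBot ℕ∞) := (hM q hq).trans hδ
    obtain ⟨φ, hφ⟩ := exists_hom_not_killed ω hω hn δ q hdimq M hq.1.2 (le_of_eq hδ)
    have hmem' : p ∈ Module.support A (Dual.inD A M ⟶ ω⟦(-(δ : ℤ))⟧) :=
      Module.mem_support_iff'.2 ⟨φ, fun r hr => hφ r (fun hrq => hr (hqp hrq))⟩
    have := (hbd _ hmem').1
    omega

theorem hasSk_iff (hω : Dual.IsDualizing A ω) (hn : Dual.IsNormalized A ω)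
    (M : Type u) [AddCommGroup M] [Module A M] [Module.Finite A M] [Nontrivial M]
    (hM : EGA4.IsEquidimModule A M) (δ : ℕ) (hδ : Module.supportDim A M = δ) (k : ℕ)
    (hk : 1 ≤ k) :
    LocCoh.HasSk k A M ↔
      ∀ j : ℤ, j ≠ -(δ : ℤ) →
        (-j - (k : ℤ) < 0 → Subsingleton (Dual.inD A M ⟶ ω⟦j⟧)) ∧
        (0 ≤ -j - (k : ℤ) → Module.supportDim A (Dual.inD A M ⟶ ω⟦j⟧) ≤
          ((-j - (k : ℤ)).toNat : WithBot ℕ∞)) := by
  constructor
  · intro hSk j hj
    have claim : ∀ p : PrimeSpectrum A, p ∈ Module.support A (Dual.inD A M ⟶ ω⟦j⟧) →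
        0 ≤ -j - (k : ℤ) ∧
          ringKrullDim (A ⧸ p.asIdeal) ≤ ((-j - (k : ℤ)).toNat : WithBot ℕ∞) := by
      intro p hp
      haveI := nontrivial_localized_of_mem_support_hom ω hω M p j hp
      obtain ⟨d, e, n, hd, he, hdep, hbd, hmn, hme⟩ := local_package ω hω hn M p
      have hF4 := equidim_formula ω hω hn M hM δ hδ p d e n hbd hme
      obtain ⟨hb1, hb2⟩ := hbd j hp
      have hS := hSk p.asIdeal
      rw [he, hdep, min_le_iff, natCast_le_iff', natCast_le_iff'] at hS
      have hne : j + d ≠ -(e : ℤ) := by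
        intro h
        apply hj
        omega
      have hkn : k ≤ n := by
        rcases hS with h | h
        · exact h
        · omega
      refine ⟨by omega, ?_⟩
      rw [hd]
      exact (natCast_le_iff' d _).2 (by omega)
    constructor
    · intro hneg
      by_contra hns
      rw [not_subsingleton_iff_nontrivial] at hns
      obtain ⟨p, hp⟩ := Module.nonempty_support_of_nontrivial (R := A)
        (M := (Dual.inD A M ⟶ ω⟦j⟧))
      have := (claim p hp).1
      omega
    · intro hpos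
      by_contra hle
      have h1 := natCast_succ_le_of_not_le _ _ hle
      haveI := dualizing_hfin ω hω M j
      obtain ⟨q, hq, hann, hdq⟩ := exists_prime_dim_ge' (Dual.inD A M ⟶ ω⟦j⟧) _ h1
      have hqs : (⟨q, hq⟩ : PrimeSpectrum A) ∈ Module.support A (Dual.inD A M ⟶ ω⟦j⟧) :=
        Module.mem_support_iff_of_finite.2 hann
      have h2 := (claim ⟨q, hq⟩ hqs).2
      exact natCast_succ_not_le _ _ hdq h2
  · intro hR p hp
    rcases subsingleton_or_nontrivial (LocalizedModule p.primeCompl M) with hsub | hnt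
    · have h0 : Module.supportDim (Localization.AtPrime p) (LocalizedModule p.primeCompl M) = ⊥ :=
        Module.supportDim_eq_bot_of_subsingleton _ _
      refine le_trans (min_le_right _ _) ?_
      rw [h0]
      exact bot_le
    · obtain ⟨d, e, n, hd, he, hdep, hbd, hmn, hme⟩ := local_package ω hω hn M ⟨p, hp⟩
      have hF4 := equidim_formula ω hω hn M hM δ hδ ⟨p, hp⟩ d e n hbd hme
      have he' : Module.supportDim (Localization.AtPrime p) (LocalizedModule p.primeCompl M) =
          (e : WithBot ℕ∞) := he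
      have hdep' : LocCoh.depth (Localization.AtPrime p) (LocalizedModule p.primeCompl M) = n :=
        hdep
      rw [he', hdep', min_le_iff, natCast_le_iff', natCast_le_iff']
      by_contra hcon
      push_neg at hcon
      obtain ⟨hnk, hne⟩ := hcon
      have hj : (-(n : ℤ) - d) ≠ -(δ : ℤ) := by omega
      obtain ⟨h1, h2⟩ := hR (-(n : ℤ) - d) hj
      haveI := dualizing_hfin ω hω M (-(n : ℤ) - d)
      by_cases hneg : -(-(n : ℤ) - d) - (k : ℤ) < 0
      · haveI := h1 hneg
        haveI := nontrivial_of_mem_support _ _ hmn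
        exact false_of_nontrivial_of_subsingleton (Dual.inD A M ⟶ ω⟦(-(n : ℤ) - d)⟧)
      · have h3 := h2 (by omega)
        have h4 := ringKrullDim_quotient_le_supportDim_of_mem_support _ _ hmn
        have h5 := h4.trans h3
        have hd' : ringKrullDim (A ⧸ p) = (d : WithBot ℕ∞) := hd
        rw [hd'] at h5
        have h6 := natCast_le_imp _ _ h5
        omega

end Main2

end Groth.Agent.H12.DualLoc
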