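import Mathlib
import Groth.Agent.H12.DualLoc2

/-!
# A dualizing complex localized at a minimal prime lives in one degree (helper12)

* `exists_hom_shift_ne_zero`: a bounded object `X` of a derived category with a nonzero map
  `H^b(X) ⟶ H^a(X)` has a nonzero map `X ⟶ X⟦a - b⟧`;
* `exists_linearMap_ne_zero`: over an Artinian local ring, two nonzero finite modules admit a
  nonzero linear map between them;
* `existsUnique_degree`: for a minimal prime `p` and a dualizing complex `ω`, exactly one
  `H^i(ω)_p` is nonzero.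
-/

set_option autoImplicit false
universe w v' u' u
open CategoryTheory CategoryTheory.Limits DerivedCategory Pretriangulated

namespace Groth.Agent.H12.DualArt

open DerivedCategory.TStructure

section Der

variable {C : Type u'} [Category.{v'} C] [Abelian C] [HasDerivedCategory.{w} C]

theorem exists_hom_shift_ne_zero (X : DerivedCategory C) (a b : ℤ) [X.IsGE a] [X.IsLE b]
    (g : (homologyFunctor C b).obj X ⟶ (homologyFunctor C a).obj X) (hg : g ≠ 0) :
    ∃ φ : X ⟶ X⟦a - b⟧, φ ≠ 0 := by
  haveI hZbGE : ((t.truncGE b).obj X).IsGE b :=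
    inferInstanceAs (t.IsGE ((t.truncGE b).obj X) b)
  haveI hZbLE : ((t.truncGE b).obj X).IsLE b :=
    inferInstanceAs (t.IsLE ((t.truncGE b).obj X) b)
  haveI hZaLE : ((t.truncLT (a + 1)).obj X).IsLE a := by
    haveI : t.IsLE ((t.truncLT (a + 1)).obj X) (a + 1 - 1) :=
      inferInstanceAs (t.IsLE ((t.truncLT (a + 1)).obj X) (a + 1 - 1))
    exact t.isLE_of_le ((t.truncLT (a + 1)).obj X) (a + 1 - 1) a (by omega)
  haveI hZaGE : ((t.truncLT (a + 1)).obj X).IsGE a :=
    inferInstanceAs (t.IsGE ((t.truncLT (a + 1)).obj X) a)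
  obtain ⟨eb⟩ := H56.nonempty_iso_single ((t.truncGE b).obj X) b
  obtain ⟨ea⟩ := H56.nonempty_iso_single ((t.truncLT (a + 1)).obj X) a
  haveI := H56.isIso_homologyMap_truncGEπ X b b le_rfl
  haveI := H56.isIso_homologyMap_truncLTι X (a + 1) a (by omega)
  let hb := asIso ((homologyFunctor C b).map ((t.truncGEπ b).app X))
  let ha := asIso ((homologyFunctor C a).map ((t.truncLTι (a + 1)).app X))
  let g' : (homologyFunctor C b).obj ((t.truncGE b).obj X) ⟶
      (homologyFunctor C a).obj ((t.truncLT (a + 1)).obj X) := hb.inv ≫ g ≫ ha.inv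
  have hg' : g' ≠ 0 := by
    intro h0
    apply hg
    have h1 : g = hb.hom ≫ g' ≫ ha.hom := by
      simp only [g', Category.assoc, Iso.inv_hom_id, Category.comp_id, Iso.hom_inv_id_assoc]
    rw [h1, h0, zero_comp, comp_zero]
  let s : ((singleFunctor C a).obj
      ((homologyFunctor C a).obj ((t.truncLT (a + 1)).obj X)))⟦a - b⟧ ≅
      (singleFunctor C b).obj ((homologyFunctor C a).obj ((t.truncLT (a + 1)).obj X)) :=
    ((singleFunctors C).shiftIso (a - b) b a (by omega)).app _
  let m : (t.truncGE b).obj X ⟶ ((t.truncLT (a + 1)).obj X)⟦a - b⟧ :=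
    eb.hom ≫ (singleFunctor C b).map g' ≫ s.inv ≫ (ea.inv)⟦a - b⟧'
  have hm : m ≠ 0 := by
    intro h0
    apply hg'
    apply (singleFunctor C b).map_injective
    rw [Functor.map_zero]
    have h1 : (singleFunctor C b).map g' ≫ s.inv ≫ (ea.inv)⟦a - b⟧' = 0 := by
      rw [← cancel_epi eb.hom, comp_zero]
      exact h0
    have h2 : ((singleFunctor C b).map g' ≫ s.inv) ≫ (ea.inv)⟦a - b⟧' = 0 := by
      rw [Category.assoc]
      exact h1
    haveI : IsIso ((ea.inv)⟦a - b⟧') := Functor.map_isIso _ _
    have h3 : (singleFunctor C b).map g' ≫ s.inv = 0 := by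
      rw [← cancel_mono ((ea.inv)⟦a - b⟧'), h2, zero_comp]
    rw [← cancel_mono s.inv, h3, zero_comp]
  refine ⟨(t.truncGEπ b).app X ≫ m ≫ ((t.truncLTι (a + 1)).app X)⟦a - b⟧', ?_⟩
  intro h0
  apply hm
  haveI : t.IsGE (X⟦a - b⟧) b := t.isGE_shift X a (a - b) b (by omega)
  haveI : t.IsGE ((shiftFunctor (DerivedCategory C) (a - b)).obj
      ((𝟭 (DerivedCategory C)).obj X)) b := t.isGE_shift X a (a - b) b (by omega)
  have h1 : m ≫ ((t.truncLTι (a + 1)).app X)⟦a - b⟧' = 0 := by
    apply t.from_truncGE_obj_ext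
    rw [h0, comp_zero]
  let κ := shiftFunctorCompIsoId (DerivedCategory C) (a - b) (-(a - b)) (by omega)
  have hnat : (((t.truncLTι (a + 1)).app X)⟦a - b⟧')⟦-(a - b)⟧' ≫ κ.hom.app X =
      κ.hom.app ((t.truncLT (a + 1)).obj X) ≫ (t.truncLTι (a + 1)).app X :=
    κ.hom.naturality ((t.truncLTι (a + 1)).app X)
  have h2 : (m⟦-(a - b)⟧' ≫ κ.hom.app ((t.truncLT (a + 1)).obj X)) ≫
      (t.truncLTι (a + 1)).app X = 0 := by
    rw [Category.assoc, ← hnat, ← Category.assoc, ← Functor.map_comp, h1, Functor.map_zero,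
      zero_comp]
  haveI : t.IsLE (((t.truncGE b).obj X)⟦-(a - b)⟧) (a + 1 - 1) :=
    t.isLE_shift ((t.truncGE b).obj X) b (-(a - b)) (a + 1 - 1) (by omega)
  have h3 : m⟦-(a - b)⟧' ≫ κ.hom.app ((t.truncLT (a + 1)).obj X) = 0 := by
    apply t.to_truncLT_obj_ext
    rw [h2, zero_comp]
  have h4 : m⟦-(a - b)⟧' = 0 := by
    rw [← cancel_mono (κ.hom.app ((t.truncLT (a + 1)).obj X)), h3, zero_comp]
  exact (shiftFunctor (DerivedCategory C) (-(a - b))).map_injective
    (by rw [h4, Functor.map_zero])

end Der

section Mod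

variable {B : Type u} [CommRing B] [IsLocalRing B] [IsNoetherianRing B] [Ring.KrullDimLE 0 B]

theorem exists_linearMap_ne_zero (M N : Type u) [AddCommGroup M] [Module B M]
    [Module.Finite B M] [Nontrivial M] [AddCommGroup N] [Module B N] [Module.Finite B N]
    [Nontrivial N] : ∃ f : M →ₗ[B] N, f ≠ 0 := by
  have hno : ∀ r ∈ IsLocalRing.maximalIdeal B, ¬ IsSMulRegular N r := by
    intro r hr hreg
    obtain ⟨k, hk⟩ := Ring.KrullDimLE.isNilpotent_iff_mem_maximalIdeal.2 hr
    have h1 := hreg.pow k
    rw [hk] at h1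
    exact not_subsingleton N (IsSMulRegular.zero_iff_subsingleton.1 h1)
  obtain ⟨f, hf⟩ := DualDepth.exists_injective_of_no_regular N hno
  obtain ⟨M', hM', -⟩ : ∃ M' : Submodule B M, IsCoatom M' ∧ ⊥ ≤ M' :=
    (eq_top_or_exists_le_coatom (⊥ : Submodule B M)).resolve_left bot_ne_top
  haveI hsimple : IsSimpleModule B (M ⧸ M') := isSimpleModule_iff_isCoatom.2 hM'
  obtain ⟨I, hI, ⟨e⟩⟩ := isSimpleModule_iff_quot_maximal.1 hsimple
  have hIm : I = IsLocalRing.maximalIdeal B := IsLocalRing.eq_maximalIdeal hI
  subst hIm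
  refine ⟨f ∘ₗ e.toLinearMap ∘ₗ M'.mkQ, ?_⟩
  intro h0
  obtain ⟨y, hy⟩ := M'.mkQ_surjective
    (e.symm (Ideal.Quotient.mk (IsLocalRing.maximalIdeal B) 1))
  have h1 : f (e (M'.mkQ y)) = 0 := by
    have h := LinearMap.congr_fun h0 y
    simpa using h
  rw [hy, e.apply_symm_apply] at h1
  have h2 : Ideal.Quotient.mk (IsLocalRing.maximalIdeal B) 1 = 0 :=
    hf (h1.trans (map_zero f).symm)
  have h3 : (1 : B) ∈ IsLocalRing.maximalIdeal B := Ideal.Quotient.eq_zero_iff_mem.1 h2
  exact (Ideal.ne_top_iff_one _).1 (IsLocalRing.maximalIdeal.isMaximal B).ne_top h3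

end Mod

section Main

attribute [local instance] HasDerivedCategory.standard

open Groth.Agent.H12.LocHom

/-- over an Artinian local ring a dualizing complex has exactly one nonzero cohomology module -/
theorem existsUnique_degree_local {B : Type u} [CommRing B] [IsLocalRing B] [IsNoetherianRing B]
    [Ring.KrullDimLE 0 B] (ω : Dual.D B) (hω : Dual.IsDualizing B ω) :
    ∃! i : ℤ, ¬ IsZero ((homologyFunctor (ModuleCat.{u} B) i).obj ω) := by
  classical
  obtain ⟨a₀, b₀, hab⟩ := hω.finite_injective_dimension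
  have hz : ∀ j : ℤ, (j < a₀ ∨ b₀ < j) →
      IsZero ((homologyFunctor (ModuleCat.{u} B) j).obj ω) :=
    fun j hj => isZero_homology_of_isDualizing ω a₀ b₀ hab j hj
  have hex : ∃ j : ℤ, ¬ IsZero ((homologyFunctor (ModuleCat.{u} B) j).obj ω) := by
    by_contra hall
    push_neg at hall
    haveI : ω.IsGE 1 := (isGE_iff ω 1).2 (fun j _ => hall j)
    haveI : ω.IsLE 0 := (isLE_iff ω 0).2 (fun j _ => hall j)
    exact DualDepth.dualizing_not_isZero ω hω (t.isZero ω 0 1 (by omega))
  obtain ⟨a, ha, hamin⟩ := Int.exists_least_of_bdd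
    (P := fun j : ℤ => ¬ IsZero ((homologyFunctor (ModuleCat.{u} B) j).obj ω))
    ⟨a₀, fun z hzz => by
      by_contra hlt
      exact hzz (hz z (Or.inl (by omega)))⟩ hex
  obtain ⟨b, hb, hbmax⟩ := Int.exists_greatest_of_bdd
    (P := fun j : ℤ => ¬ IsZero ((homologyFunctor (ModuleCat.{u} B) j).obj ω))
    ⟨b₀, fun z hzz => by
      by_contra hlt
      exact hzz (hz z (Or.inr (by omega)))⟩ hex
  have hale : a ≤ b := hamin b hb
  rcases eq_or_lt_of_le hale with heq | hlt
  · refine ⟨a, ha, fun j hj => ?_⟩
    have h1 := hamin j hj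
    have h2 := hbmax j hj
    omega
  · exfalso
    haveI : ω.IsGE a := (isGE_iff ω a).2 (fun j hj => by
      by_contra hnz
      have := hamin j hnz
      omega)
    haveI : ω.IsLE b := (isLE_iff ω b).2 (fun j hj => by
      by_contra hnz
      have := hbmax j hnz
      omega)
    haveI : Module.Finite B ((homologyFunctor (ModuleCat.{u} B) a).obj ω) :=
      hω.finite_cohomology a
    haveI : Module.Finite B ((homologyFunctor (ModuleCat.{u} B) b).obj ω) :=
      hω.finite_cohomology b
    haveI : Nontrivial ((homologyFunctor (ModuleCat.{u} B) a).obj ω) := by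
      rw [← not_subsingleton_iff_nontrivial]
      intro hs
      exact ha (ModuleCat.isZero_of_subsingleton _)
    haveI : Nontrivial ((homologyFunctor (ModuleCat.{u} B) b).obj ω) := by
      rw [← not_subsingleton_iff_nontrivial]
      intro hs
      exact hb (ModuleCat.isZero_of_subsingleton _)
    obtain ⟨f, hf⟩ := exists_linearMap_ne_zero (B := B)
      ((homologyFunctor (ModuleCat.{u} B) b).obj ω) ((homologyFunctor (ModuleCat.{u} B) a).obj ω)
    let g : (homologyFunctor (ModuleCat.{u} B) b).obj ω ⟶
        (homologyFunctor (ModuleCat.{u} B) a).obj ω := ModuleCat.ofHom f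
    have hg : g ≠ 0 := by
      intro h0
      apply hf
      have h1 : g.hom = 0 := by rw [h0]; rfl
      exact h1
    obtain ⟨φ, hφ⟩ := exists_hom_shift_ne_zero ω a b g hg
    haveI := hω.ext_self_subsingleton (a - b) (by omega)
    exact hφ (Subsingleton.elim _ _)

variable {A : Type u} [CommRing A] [IsNoetherianRing A]

theorem existsUnique_degree (ω : Dual.D A) (hω : Dual.IsDualizing A ω) (p : Ideal A)
    (hp : p ∈ minimalPrimes A) :
    ∃! i : ℤ, Nontrivial (LocalizedModule (Ideal.primeCompl p (hp := hp.1.1))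
      (Dual.HD A ω i)) := by
  haveI hpp : p.IsPrime := hp.1.1
  haveI : DRing.HasLBaseChange (algebraMap A (Localization p.primeCompl)) :=
    H35.HasLBC.hasLBaseChange _
  haveI : Ring.KrullDimLE 0 (Localization p.primeCompl) :=
    Ring.KrullDimLE.of_isLocalization p hp (Localization.AtPrime p)
  have hωB := isDualizing_L p.primeCompl ω hω
  haveI : IsNoetherianRing (Localization p.primeCompl) := hωB.isNoetherianRing
  haveI : IsLocalRing (Localization p.primeCompl) :=
    inferInstanceAs (IsLocalRing (Localization.AtPrime p))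
  have key : ∀ i : ℤ, Nontrivial (LocalizedModule p.primeCompl (Dual.HD A ω i)) ↔
      ¬ IsZero ((homologyFunctor (ModuleCat.{u} (Localization p.primeCompl)) i).obj
        ((DRing.LBaseChange (algebraMap A (Localization p.primeCompl))).obj ω)) := by
    intro i
    let eH : (homologyFunctor (ModuleCat.{u} A) i).obj ((TL p.primeCompl).obj ω) ≅
        (ModuleCat.restrictScalars.{u} (algebraMap A (Localization p.primeCompl))).obj
          ((homologyFunctor (ModuleCat.{u} (Localization p.primeCompl)) i).obj
            ((DRing.LBaseChange (algebraMap A (Localization p.primeCompl))).obj ω)) :=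
      (H56.mapDerivedCategoryHomologyIso
        (ModuleCat.restrictScalars.{u} (algebraMap A (Localization p.primeCompl))) i).app _
    have hγ : SIsoM p.primeCompl
        ((homologyFunctor (ModuleCat.{u} A) i).map (ηL p.primeCompl ω) ≫ eH.hom) := by
      have h1 := sIsoM_comp_iso p.primeCompl (𝟙 _)
        ((homologyFunctor (ModuleCat.{u} A) i).map (ηL p.primeCompl ω)) eH.hom
        (homology_unit_sIsoM p.primeCompl ω i)
      rwa [Category.id_comp] at h1
    haveI hloc := isLocalizedModule_of_sIsoM p.primeCompl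
      ((homologyFunctor (ModuleCat.{u} A) i).obj ω)
      ((homologyFunctor (ModuleCat.{u} (Localization p.primeCompl)) i).obj
        ((DRing.LBaseChange (algebraMap A (Localization p.primeCompl))).obj ω))
      ((homologyFunctor (ModuleCat.{u} A) i).map (ηL p.primeCompl ω) ≫ eH.hom) hγ
    let E := IsLocalizedModule.iso p.primeCompl
      ((homologyFunctor (ModuleCat.{u} A) i).map (ηL p.primeCompl ω) ≫ eH.hom).hom
    constructor
    · intro hnt hzero
      haveI hs : Subsingleton ((homologyFunctor (ModuleCat.{u} (Localization p.primeCompl)) i).obj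
          ((DRing.LBaseChange (algebraMap A (Localization p.primeCompl))).obj ω)) :=
        ModuleCat.subsingleton_of_isZero hzero
      haveI : Subsingleton ((ModuleCat.restrictScalars.{u}
          (algebraMap A (Localization p.primeCompl))).obj
          ((homologyFunctor (ModuleCat.{u} (Localization p.primeCompl)) i).obj
            ((DRing.LBaseChange (algebraMap A (Localization p.primeCompl))).obj ω))) := hs
      haveI : Subsingleton (LocalizedModule p.primeCompl (Dual.HD A ω i)) :=
        E.toEquiv.subsingleton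
      exact not_subsingleton (LocalizedModule p.primeCompl (Dual.HD A ω i)) inferInstance
    · intro hnz
      by_contra hnt
      rw [not_nontrivial_iff_subsingleton] at hnt
      apply hnz
      haveI : Subsingleton ((ModuleCat.restrictScalars.{u}
          (algebraMap A (Localization p.primeCompl))).obj
          ((homologyFunctor (ModuleCat.{u} (Localization p.primeCompl)) i).obj
            ((DRing.LBaseChange (algebraMap A (Localization p.primeCompl))).obj ω))) :=
        E.symm.toEquiv.subsingleton
      haveI hs : Subsingleton ((homologyFunctor (ModuleCat.{u} (Localization p.primeCompl)) i).obj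
          ((DRing.LBaseChange (algebraMap A (Localization p.primeCompl))).obj ω)) := this
      exact ModuleCat.isZero_of_subsingleton _
  obtain ⟨i, hi, huniq⟩ := existsUnique_degree_local
    ((DRing.LBaseChange (algebraMap A (Localization p.primeCompl))).obj ω) hωB
  exact ⟨i, (key i).2 hi, fun j hj => huniq j ((key j).1 hj)⟩

end Main

end Groth.Agent.H12.DualArt
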