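import Mathlib
import Groth.Agent.H12.DualLoc2
import Groth.Agent.H12.DualDepthMain
import Groth.Agent.S0364

/-!
# The Cohen–Macaulay locus of a finite module over a ring with a dualizing complex (helper12)

* `exists_normalizing_shift`: over a local ring, some shift of a dualizing complex is normalized
  (from `S0364`);
* `cm_iff_atMostOne`: `N = 0` or `N` Cohen–Macaulay iff `Hom(N, W[k]) ≠ 0` for at most one `k`;
* `mem_support_hom_iff`: `p ∈ Supp Hom(M, ω[k]) ↔ Hom(M_p, ω_p[k]) ≠ 0`;
* `isOpen_cm`, `dense_cm`.
-/

set_option autoImplicit false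
universe u
open CategoryTheory CategoryTheory.Limits DerivedCategory Pretriangulated
open scoped TensorProduct

namespace Groth.Agent.H12.DualCM

attribute [local instance] HasDerivedCategory.standard

open DerivedCategory.TStructure
open Groth.Agent.H12.DualDepth
open Groth.Agent.H12.LocHom
open Groth.Agent.H12.DualLoc

section Local

variable {B : Type u} [CommRing B] [IsLocalRing B] [IsNoetherianRing B] (W : Dual.D B)

/-- normalizing shift -/
theorem exists_normalizing_shift (hW : Dual.IsDualizing B W) :
    ∃ n : ℤ, Dual.IsNormalized B (W⟦n⟧) := by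
  obtain ⟨n, hn, -⟩ := Groth.Agent.S0364.result B W hW (IsLocalRing.maximalIdeal B)
  refine ⟨n, fun i hi => ?_⟩
  have h1 : Van W (n + i) (ModuleCat.of B (B ⧸ IsLocalRing.maximalIdeal B)) :=
    (van_iff_subsingleton _ _ _).2 (hn (n + i) (by omega))
  have h2 : Van (W⟦n⟧) i (ModuleCat.of B (B ⧸ IsLocalRing.maximalIdeal B)) :=
    (van_shift_iff W n i (n + i) rfl _).2 h1
  exact (van_iff_subsingleton _ _ _).1 (van_of_iso residueIso.symm h2)

theorem cm_iff_atMostOne (hW : Dual.IsDualizing B W) (N : Type u) [AddCommGroup N] [Module B N]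
    [Module.Finite B N] :
    (Subsingleton N ∨ LocCoh.IsCohenMacaulayModule B N) ↔
      ∀ k k' : ℤ, ¬ Van W k (ModuleCat.of B N) → ¬ Van W k' (ModuleCat.of B N) → k = k' := by
  obtain ⟨n, hnW⟩ := exists_normalizing_shift W hW
  have hW' := isDualizing_shift W hW n
  rcases subsingleton_or_nontrivial N with hs | hnt
  · constructor
    · intro _ k k' hk
      exact absurd (van_of_isZero (ModuleCat.isZero_of_subsingleton _)) hk
    · intro _
      exact Or.inl hs
  · obtain ⟨d, hd⟩ : ∃ d : ℕ, Module.supportDim B N = (d : WithBot ℕ∞) :=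
      exists_nat_of _ (Module.supportDim_ne_bot_of_nontrivial _ _)
        (lt_of_le_of_lt (Module.supportDim_le_ringKrullDim _ _) ringKrullDim_lt_top)
    have hcm := cm_iff_dualizing (W⟦n⟧) hW' hnW N d hd
    have hnt' := nontrivial_hom_of_supportDim_eq (W⟦n⟧) hW' hnW N d hd
    have hk0 : ¬ Van W (n - d) (ModuleCat.of B N) := by
      intro hv
      have h1 := (van_shift_iff W n (-(d : ℤ)) (n - d) (by omega) _).2 hv
      exact (not_van_iff_nontrivial _ _ _).2 hnt' h1
    have key : LocCoh.IsCohenMacaulayModule B N ↔
        ∀ k : ℤ, k ≠ n - d → Van W k (ModuleCat.of B N) := by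
      rw [hcm]
      constructor
      · intro h k hk
        have h1 := h (n - k) (by omega)
        exact (van_shift_iff W n (-(n - k)) k (by omega) _).1 ((van_iff_subsingleton _ _ _).2 h1)
      · intro h i hi
        exact (van_iff_subsingleton _ _ _).1
          ((van_shift_iff W n (-i) (n - i) (by omega) _).2 (h (n - i) (by omega)))
    constructor
    · rintro (hs | hc) k k' hk hk'
      · exact absurd hs (not_subsingleton N)
      · have h1 : k = n - d := by
          by_contra h
          exact hk (key.1 hc k h)
        have h2 : k' = n - d := by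
          by_contra h
          exact hk' (key.1 hc k' h)
        rw [h1, h2]
    · intro h
      right
      refine key.2 (fun k hk => ?_)
      by_contra hv
      exact hk (h k (n - d) hv hk0)

/-- a finite module whose support is the closed point is Cohen–Macaulay -/
theorem cm_of_supportDim_zero (hW : Dual.IsDualizing B W) (N : Type u) [AddCommGroup N]
    [Module B N] [Module.Finite B N] [Nontrivial N]
    (hd : Module.supportDim B N = ((0 : ℕ) : WithBot ℕ∞)) :
    LocCoh.IsCohenMacaulayModule B N := by
  obtain ⟨n, hnW⟩ := exists_normalizing_shift W hW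
  have hW' := isDualizing_shift W hW n
  rw [cm_iff_dualizing (W⟦n⟧) hW' hnW N 0 hd]
  intro i hi
  have hi' : i ≠ 0 := by simpa using hi
  rcases lt_or_gt_of_ne hi' with h | h
  · exact (van_iff_subsingleton _ _ _).1 (dualizing_hpos (W⟦n⟧) hW' hnW N (-i) (by omega))
  · have h1 := van_of_supportDim_lt (W⟦n⟧) hW' hnW N i.toNat (by
      rw [hd]
      exact natCast_lt_natCast (by omega))
    have h2 : (-(i.toNat : ℤ)) = -i := by
      rw [Int.toNat_of_nonneg (by omega)]
    rw [h2] at h1
    exact (van_iff_subsingleton _ _ _).1 h1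

end Local

section Loc

variable {A : Type u} [CommRing A] [IsNoetherianRing A]

theorem mem_support_hom_iff (ω : Dual.D A) (hω : Dual.IsDualizing A ω) (M : Type u)
    [AddCommGroup M] [Module A M] [Module.Finite A M] (p : PrimeSpectrum A)
    [DRing.HasLBaseChange (algebraMap A (Localization p.asIdeal.primeCompl))] (k : ℤ) :
    p ∈ Module.support A (Dual.inD A M ⟶ ω⟦k⟧) ↔
      ¬ Van ((DRing.LBaseChange (algebraMap A (Localization p.asIdeal.primeCompl))).obj ω) k
        (ModuleCat.of (Localization.AtPrime p.asIdeal)
          (LocalizedModule p.asIdeal.primeCompl M)) := by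
  obtain ⟨a, b, hab⟩ := hω.finite_injective_dimension
  haveI : ω.IsGE a := (isGE_iff ω a).2
    (fun j hj => isZero_homology_of_isDualizing ω a b hab j (Or.inl hj))
  rw [Module.mem_support_iff']
  have h1 := exists_not_torsion_iff p.asIdeal.primeCompl ω a (ModuleCat.of A M) k
  constructor
  · rintro ⟨m, hm⟩ hv
    exact h1.1 ⟨m, fun s hs => hm s hs⟩
      (van_of_iso (extIsoLocalized p.asIdeal.primeCompl M).symm hv)
  · intro hv
    obtain ⟨m, hm⟩ := h1.2 (fun hv' => hv (van_of_iso (extIsoLocalized p.asIdeal.primeCompl M) hv'))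
    exact ⟨m, fun r hr => hm r hr⟩

theorem isOpen_cm (ω : Dual.D A) (hω : Dual.IsDualizing A ω) (M : Type u)
    [AddCommGroup M] [Module A M] [Module.Finite A M] :
    IsOpen {p : PrimeSpectrum A | Subsingleton (LocalizedModule p.asIdeal.primeCompl M) ∨
      LocCoh.IsCohenMacaulayModule (Localization.AtPrime p.asIdeal)
        (LocalizedModule p.asIdeal.primeCompl M)} := by
  obtain ⟨a, b, hab⟩ := hω.finite_injective_dimension
  obtain ⟨Z, hZ⟩ : ∃ Z : ℤ → Set (PrimeSpectrum A),
      Z = fun k => Module.support A (Dual.inD A M ⟶ ω⟦k⟧) := ⟨_, rfl⟩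
  have hZc : ∀ k, IsClosed (Z k) := by
    intro k
    haveI : Module.Finite A (Dual.inD A M ⟶ ω⟦k⟧) :=
      AdjFin.finite_hom_single_of_bddBelow ω a
        (fun j hj => isZero_homology_of_isDualizing ω a b hab j (Or.inl hj))
        hω.finite_cohomology (ModuleCat.of A M) k
    rw [hZ]
    show IsClosed (Module.support A (Dual.inD A M ⟶ ω⟦k⟧))
    rw [Module.support_eq_zeroLocus]
    exact PrimeSpectrum.isClosed_zeroLocus _
  have hZe : ∀ k, (k < a ∨ b < k) → Z k = ∅ := by
    intro k hk
    haveI := hab M k hk
    rw [hZ]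
    exact Module.support_eq_empty
  obtain ⟨T, hT⟩ : ∃ T : Set (ℤ × ℤ), T = {x | x.1 ∈ Set.Icc a b ∧ x.2 ∈ Set.Icc a b ∧
      x.1 ≠ x.2} := ⟨_, rfl⟩
  have hTfin : T.Finite := by
    refine Set.Finite.subset ((Set.finite_Icc a b).prod (Set.finite_Icc a b)) ?_
    intro x hx
    rw [hT] at hx
    exact ⟨hx.1, hx.2.1⟩
  have hU : {p : PrimeSpectrum A | Subsingleton (LocalizedModule p.asIdeal.primeCompl M) ∨
      LocCoh.IsCohenMacaulayModule (Localization.AtPrime p.asIdeal)
        (LocalizedModule p.asIdeal.primeCompl M)} = (⋃ x ∈ T, Z x.1 ∩ Z x.2)ᶜ := by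
    ext p
    haveI : DRing.HasLBaseChange (algebraMap A (Localization p.asIdeal.primeCompl)) :=
      H35.HasLBC.hasLBaseChange _
    have hWp := isDualizing_L p.asIdeal.primeCompl ω hω
    have hmem : ∀ k, p ∈ Z k ↔ ¬ Van
        ((DRing.LBaseChange (algebraMap A (Localization p.asIdeal.primeCompl))).obj ω) k
        (ModuleCat.of (Localization.AtPrime p.asIdeal)
          (LocalizedModule p.asIdeal.primeCompl M)) := by
      intro k
      rw [hZ]
      exact mem_support_hom_iff ω hω M p k
    rw [Set.mem_setOf_eq, cm_iff_atMostOne _ hWp, Set.mem_compl_iff, Set.mem_iUnion₂]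
    constructor
    · rintro h ⟨x, hx, h1, h2⟩
      rw [hT] at hx
      exact hx.2.2 (h x.1 x.2 ((hmem _).1 h1) ((hmem _).1 h2))
    · intro h k k' hk hk'
      by_contra hne
      apply h
      have h1 : p ∈ Z k := (hmem k).2 hk
      have h2 : p ∈ Z k' := (hmem k').2 hk'
      have hk1 : k ∈ Set.Icc a b := by
        by_contra hc
        have : k < a ∨ b < k := by
          rw [Set.mem_Icc, not_and_or, not_le, not_le] at hc
          exact hc
        rw [hZe k this] at h1
        exact h1
      have hk2 : k' ∈ Set.Icc a b := by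
        by_contra hc
        have : k' < a ∨ b < k' := by
          rw [Set.mem_Icc, not_and_or, not_le, not_le] at hc
          exact hc
        rw [hZe k' this] at h2
        exact h2
      refine ⟨(k, k'), ?_, h1, h2⟩
      rw [hT]
      exact ⟨hk1, hk2, hne⟩
  rw [hU]
  exact (Set.Finite.isClosed_biUnion hTfin (fun x _ => (hZc x.1).inter (hZc x.2))).isOpen_compl

theorem smul_localizedModule_eq_zero (q : Ideal A) [q.IsPrime] (M : Type u) [AddCommGroup M]
    [Module A M] (a : A) (ha : a ∈ Module.annihilator A M)
    (x : LocalizedModule q.primeCompl M) :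
    algebraMap A (Localization.AtPrime q) a • x = 0 := by
  rw [algebraMap_smul]
  induction x using LocalizedModule.induction_on with
  | h m s =>
    rw [LocalizedModule.smul'_mk, Module.mem_annihilator.1 ha m, LocalizedModule.zero_mk]

theorem supportDim_localized_minimal (M : Type u) [AddCommGroup M] [Module A M]
    [Module.Finite A M] (q : Ideal A) (hq : q ∈ (Module.annihilator A M).minimalPrimes)
    [q.IsPrime] [Nontrivial (LocalizedModule q.primeCompl M)] :
    Module.supportDim (Localization.AtPrime q) (LocalizedModule q.primeCompl M) =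
      ((0 : ℕ) : WithBot ℕ∞) := by
  have hle : Module.supportDim (Localization.AtPrime q) (LocalizedModule q.primeCompl M) ≤ 0 := by
    rw [Module.supportDim_eq_ringKrullDim_quotient_annihilator]
    apply ringKrullDim_quotient_le_zero
    intro P hP hPle
    haveI := hP
    have hPmax : P ≤ IsLocalRing.maximalIdeal (Localization.AtPrime q) :=
      IsLocalRing.le_maximalIdeal hP.ne_top
    have h1 : Module.annihilator A M ≤ P.comap (algebraMap A (Localization.AtPrime q)) := by
      intro a ha
      rw [Ideal.mem_comap]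
      apply hPle
      rw [Module.mem_annihilator]
      intro x
      exact smul_localizedModule_eq_zero q M a ha x
    have h2 : P.comap (algebraMap A (Localization.AtPrime q)) ≤ q := by
      have h3 := Ideal.comap_mono (f := algebraMap A (Localization.AtPrime q)) hPmax
      have h4 : (IsLocalRing.maximalIdeal (Localization.AtPrime q)).comap
          (algebraMap A (Localization.AtPrime q)) = q :=
        Localization.AtPrime.under_maximalIdeal
      rw [h4] at h3
      exact h3
    have h5 : q ≤ P.comap (algebraMap A (Localization.AtPrime q)) :=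
      hq.2 ⟨Ideal.comap_isPrime _ P, h1⟩ h2
    refine le_antisymm hPmax ?_
    rw [← Localization.AtPrime.map_eq_maximalIdeal]
    exact (Ideal.map_mono h5).trans Ideal.map_comap_le
  refine le_antisymm hle ?_
  have hne := Module.supportDim_ne_bot_of_nontrivial (Localization.AtPrime q)
    (LocalizedModule q.primeCompl M)
  obtain ⟨x, hx⟩ := WithBot.ne_bot_iff_exists.1 hne
  rw [← hx]
  exact WithBot.coe_le_coe.2 bot_le

theorem dense_cm (ω : Dual.D A) (hω : Dual.IsDualizing A ω) (M : Type u)
    [AddCommGroup M] [Module A M] [Module.Finite A M] :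
    Module.support A M ⊆ closure ({p : PrimeSpectrum A |
      LocCoh.IsCohenMacaulayModule (Localization.AtPrime p.asIdeal)
        (LocalizedModule p.asIdeal.primeCompl M)} ∩ Module.support A M) := by
  intro p hp
  have hann : Module.annihilator A M ≤ p.asIdeal := Module.mem_support_iff_of_finite.1 hp
  obtain ⟨q, hqmin, hqp⟩ := Ideal.exists_minimalPrimes_le hann
  haveI hqprime : q.IsPrime := hqmin.1.1
  obtain ⟨Q, hQ⟩ : ∃ Q : PrimeSpectrum A, Q = ⟨q, hqprime⟩ := ⟨_, rfl⟩
  have hQsupp : Q ∈ Module.support A M := by
    rw [hQ]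
    exact Module.mem_support_iff_of_finite.2 hqmin.1.2
  have hQcm : LocCoh.IsCohenMacaulayModule (Localization.AtPrime Q.asIdeal)
      (LocalizedModule Q.asIdeal.primeCompl M) := by
    rw [hQ]
    haveI : Nontrivial (LocalizedModule q.primeCompl M) := by
      have := Module.mem_support_iff.1 hQsupp
      rw [hQ] at this
      exact this
    haveI : DRing.HasLBaseChange (algebraMap A (Localization q.primeCompl)) :=
      H35.HasLBC.hasLBaseChange _
    have hWq := isDualizing_L q.primeCompl ω hω
    exact cm_of_supportDim_zero _ hWq (LocalizedModule q.primeCompl M)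
      (supportDim_localized_minimal M q hqmin)
  have hspec : p ∈ closure {Q} := by
    have hle : Q ≤ p := by
      rw [hQ]
      exact hqp
    exact ((PrimeSpectrum.le_iff_specializes Q p).1 hle).mem_closure
  have hmem : Q ∈ ({p : PrimeSpectrum A |
      LocCoh.IsCohenMacaulayModule (Localization.AtPrime p.asIdeal)
        (LocalizedModule p.asIdeal.primeCompl M)} ∩ Module.support A M) := ⟨hQcm, hQsupp⟩
  exact closure_mono (Set.singleton_subset_iff.2 hmem) hspec

end Loc

end Groth.Agent.H12.DualCM
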