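import Groth.Agent.H12.DualCM
import Groth.Agent.H29.DepthFinite

/-!
# The Cohen–Macaulay locus of a ring with a dualizing complex (helper12)
-/

set_option autoImplicit false
universe u
open CategoryTheory CategoryTheory.Limits DerivedCategory Pretriangulated
open scoped TensorProduct

namespace Groth.Agent.H12.DualCM

attribute [local instance] HasDerivedCategory.standard

open DerivedCategory.TStructure
open Groth.Agent.H12.DualDepth
open Groth.Agent.H12.LocHom
open Groth.Agent.H12.DualLoc

theorem cm_or_congr {B : Type u} [CommRing B] [IsLocalRing B] [IsNoetherianRing B] (W : Dual.D B)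
    (hW : Dual.IsDualizing B W) (N N' : Type u) [AddCommGroup N] [Module B N] [Module.Finite B N]
    [AddCommGroup N'] [Module B N'] [Module.Finite B N'] (ε : N ≃ₗ[B] N') :
    (Subsingleton N ∨ LocCoh.IsCohenMacaulayModule B N) ↔
      (Subsingleton N' ∨ LocCoh.IsCohenMacaulayModule B N') := by
  rw [cm_iff_atMostOne W hW N, cm_iff_atMostOne W hW N']
  have hv : ∀ k, Van W k (ModuleCat.of B N) ↔ Van W k (ModuleCat.of B N') := fun k =>
    ⟨van_of_iso ε.toModuleIso, van_of_iso ε.symm.toModuleIso⟩
  simp only [hv]

variable {A : Type u} [CommRing A] [IsNoetherianRing A]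

theorem cmLocalRing_iff (ω : Dual.D A) (hω : Dual.IsDualizing A ω) (p : PrimeSpectrum A) :
    LocCoh.IsCohenMacaulayLocalRing (Localization.AtPrime p.asIdeal) ↔
      (Subsingleton (LocalizedModule p.asIdeal.primeCompl A) ∨
        LocCoh.IsCohenMacaulayModule (Localization.AtPrime p.asIdeal)
          (LocalizedModule p.asIdeal.primeCompl A)) := by
  haveI : DRing.HasLBaseChange (algebraMap A (Localization p.asIdeal.primeCompl)) :=
    H35.HasLBC.hasLBaseChange _
  have hWp := isDualizing_L p.asIdeal.primeCompl ω hω
  rw [cm_or_congr _ hWp (LocalizedModule p.asIdeal.primeCompl A)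
    (Localization.AtPrime p.asIdeal) (Groth.Agent.H29.DepthFinite.selfEquiv p.asIdeal.primeCompl)]
  constructor
  · intro h
    exact Or.inr h.supportDim_eq_depth
  · rintro (h | h)
    · exact absurd h (not_subsingleton _)
    · exact LocCoh.IsCohenMacaulayLocalRing.mk h

theorem isOpen_cmRing (ω : Dual.D A) (hω : Dual.IsDualizing A ω) :
    IsOpen {p : PrimeSpectrum A |
      LocCoh.IsCohenMacaulayLocalRing (Localization.AtPrime p.asIdeal)} := by
  have hset : {p : PrimeSpectrum A |
      LocCoh.IsCohenMacaulayLocalRing (Localization.AtPrime p.asIdeal)} =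
      {p : PrimeSpectrum A | Subsingleton (LocalizedModule p.asIdeal.primeCompl A) ∨
        LocCoh.IsCohenMacaulayModule (Localization.AtPrime p.asIdeal)
          (LocalizedModule p.asIdeal.primeCompl A)} := by
    ext p
    exact cmLocalRing_iff ω hω p
  rw [hset]
  exact isOpen_cm ω hω A

theorem dense_cmRing (ω : Dual.D A) (hω : Dual.IsDualizing A ω) :
    Dense {p : PrimeSpectrum A |
      LocCoh.IsCohenMacaulayLocalRing (Localization.AtPrime p.asIdeal)} := by
  intro p
  have hp : p ∈ Module.support A A := by
    rw [Module.mem_support_iff_of_finite]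
    intro a ha
    have h0 : a = 0 := by simpa using Module.mem_annihilator.1 ha (1 : A)
    rw [h0]
    exact zero_mem _
  have h1 := dense_cm ω hω A hp
  refine closure_mono ?_ h1
  rintro q ⟨hq, -⟩
  exact (cmLocalRing_iff ω hω q).2 (Or.inr hq)

end Groth.Agent.H12.DualCM
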