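import Groth.Agent.H12.BidualE
import Groth.Agent.H12.DualCM2
import Groth.Agent.H29.CodepthOpen

/-!
# Rings with a dualizing complex satisfy `CMU`; openness of `S_k` loci (helper12)
-/

set_option autoImplicit false
universe u
open CategoryTheory CategoryTheory.Limits DerivedCategory Pretriangulated

namespace Groth.Agent.H12.DualCMU

attribute [local instance] HasDerivedCategory.standard

open Groth.Agent.H12.Bidual

/-- `restrictD` along any ring map has a right adjoint (`RHom_A(B, -)`). -/
theorem exists_rightAdj (A B : Type u) [CommRing A] [CommRing B] [Algebra A B] :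
    ∃ (R : Dual.D A ⥤ Dual.D B), Nonempty (DRing.restrictD (algebraMap A B) ⊣ R) := by
  let X : CochainComplex (ModuleCat.{u} A) ℤ ⥤ Dual.D B :=
    (Gc A B).mapHomologicalComplex (ComplexShape.up ℤ) ⋙ Q
  have hX := H5.KInjDer.inverts_map_Q (A := ModuleCat.{u} B) (Gc A B)
  haveI := (H5.KInjDer.derives X hX).hasPointwiseRightDerivedFunctor
  let RG := X.totalRightDerived Q (H5.KInjDer.Wq (ModuleCat.{u} A))
  let α : X ⟶ Q ⋙ RG := X.totalRightDerivedUnit Q (H5.KInjDer.Wq (ModuleCat.{u} A))
  obtain ⟨adjD, _⟩ := H5.KInjDer.exists_derivedAdj (adjM A B) RG α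
  exact ⟨RG, ⟨adjD⟩⟩

/-- A finite algebra over a Noetherian ring with a dualizing complex has a dualizing complex. -/
theorem exists_dualizing_of_finite (A B : Type u) [CommRing A] [CommRing B] [Algebra A B]
    [IsNoetherianRing A] [IsNoetherianRing B] [Module.Finite A B]
    (ω : Dual.D A) (hω : Dual.IsDualizing A ω) :
    ∃ W : Dual.D B, Dual.IsDualizing B W := by
  obtain ⟨R, ⟨adj⟩⟩ := exists_rightAdj A B
  exact ⟨R.obj ω, Bidual.main R adj ω hω⟩

theorem cmu (A : Type u) [CommRing A] [IsNoetherianRing A]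
    (ω : Dual.D A) (hω : Dual.IsDualizing A ω) : Groth.Agent.H29.CodepthOpen.CMU A := by
  intro p hp
  haveI : Module.Finite A (A ⧸ p) := Module.Finite.of_surjective
    (Ideal.Quotient.mkₐ A p).toLinearMap (Ideal.Quotient.mkₐ_surjective A p)
  obtain ⟨W, hW⟩ := exists_dualizing_of_finite A (A ⧸ p) ω hω
  refine ⟨_, DualCM.isOpen_cmRing W hW, ?_, fun q hq => hq⟩
  haveI : Nonempty (PrimeSpectrum (A ⧸ p)) := inferInstance
  exact (DualCM.dense_cmRing W hW).nonempty

end Groth.Agent.H12.DualCMU
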