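import Mathlib
import Groth.Agent.H12.DualLoc2

/-!
# The dualizing module `H^{-d}(ω)` of a local ring (helper12)

* `exists_minimalPrime_of_not_torsion`, `support_HD_top`: the support of `H^{-d}(ω)`, `d = dim A`,
  is the union of the irreducible components of dimension `d`.
-/

set_option autoImplicit false
universe u
open CategoryTheory CategoryTheory.Limits DerivedCategory Pretriangulated
open scoped TensorProduct

namespace Groth.Agent.H12.DualLoc

attribute [local instance] HasDerivedCategory.standard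

open DerivedCategory.TStructure
open Groth.Agent.H12.DualDepth
open Groth.Agent.H12.LocHom
open Groth.Agent.H12.HomSingleRing (sA)

section SuppK

variable {A : Type u} [CommRing A] [IsLocalRing A] [IsNoetherianRing A] (ω : Dual.D A)

theorem exists_minimalPrime_of_not_torsion (hω : Dual.IsDualizing A ω)
    (hn : Dual.IsNormalized A ω) (d : ℕ) (hd : ringKrullDim A = (d : WithBot ℕ∞))
    (p : Ideal A) [hp : p.IsPrime] :
    ∀ (M : Type u) [AddCommGroup M] [Module A M] [Module.Finite A M],
      (∃ φ : sM (ModuleCat.of A M) ⟶ ω⟦(-(d : ℤ))⟧, ∀ s : A, s ∉ p → s • φ ≠ 0) →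
      ∃ q ∈ minimalPrimes A, q ≤ p ∧ ringKrullDim (A ⧸ q) = (d : WithBot ℕ∞) := by
  have h1p : (1 : A) ∉ p := fun h1 => hp.ne_top ((Ideal.eq_top_iff_one _).2 h1)
  intro M _ _ hM
  induction hM using IsNoetherianRing.induction_on_isQuotientEquivQuotientPrime A with
  | subsingleton N =>
    rintro ⟨φ, hφ⟩
    exfalso
    apply hφ 1 h1p
    rw [van_of_isZero (ModuleCat.isZero_of_subsingleton _) φ, smul_zero]
  | quotient N q f =>
    rintro ⟨φ, hφ⟩
    have hφ0 : φ ≠ 0 := by
      intro h0
      apply hφ 1 h1p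
      rw [h0, smul_zero]
    have hnv : ¬ Van ω (-(d : ℤ)) (ModuleCat.of A (A ⧸ q.asIdeal)) :=
      fun hv => hφ0 (van_of_iso f.symm.toModuleIso hv φ)
    have hge : (d : WithBot ℕ∞) ≤ ringKrullDim (A ⧸ q.asIdeal) := by
      by_contra hlt
      rw [not_le] at hlt
      apply hnv
      refine van_of_supportDim_lt ω hω hn _ d ?_
      rw [Module.supportDim_quotient_eq_ringKrullDim]
      exact hlt
    have hle : ringKrullDim (A ⧸ q.asIdeal) ≤ (d : WithBot ℕ∞) := by
      rw [← hd]
      exact ringKrullDim_quotient_le _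
    have hdim := le_antisymm hle hge
    have hqp : q.asIdeal ≤ p := by
      intro s hs
      by_contra hsp
      apply hφ s hsp
      refine smul_hom_eq_zero_of_kills (ModuleCat.of A N) _ s (fun n => ?_) φ
      apply f.injective
      rw [map_smul, map_zero]
      exact smul_quotient_eq_zero q.asIdeal s hs _
    refine ⟨q.asIdeal, ⟨⟨q.2, bot_le⟩, ?_⟩, hqp, hdim⟩
    rintro q' ⟨hq', -⟩ hle'
    by_contra hnot
    have hlt : q' < q.asIdeal := lt_of_le_not_ge hle' hnot
    haveI := hq'
    have h1 := ringKrullDim_quotient_succ_le_of_lt hlt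
    have h2 : ringKrullDim (A ⧸ q') ≤ (d : WithBot ℕ∞) := by
      rw [← hd]
      exact ringKrullDim_quotient_le _
    rw [hdim] at h1
    refine natCast_succ_not_le d _ ?_ h2
    rw [Nat.cast_add, Nat.cast_one]
    exact h1
  | exact N₁ N₂ N₃ f g hf hg hfg h₁ h₃ =>
    rintro ⟨φ, hφ⟩
    have hS := Groth.Agent.H82.TorFlat.shortExact_of f g hf hg hfg
    by_cases htor : ∃ s : A, s ∉ p ∧
        s • ((singleFunctor (ModuleCat.{u} A) 0).map (ModuleCat.ofHom f) ≫ φ) = 0
    · obtain ⟨s, hsp, hs⟩ := htor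
      have h0 : (singleFunctor (ModuleCat.{u} A) 0).map (ModuleCat.ofHom f) ≫ (s • φ) = 0 := by
        rw [Linear.comp_smul]
        exact hs
      obtain ⟨φ', hφ'⟩ := exists_factor hS _ (s • φ) h0
      apply h₃
      refine ⟨φ', fun t ht htφ => ?_⟩
      apply hφ (t * s) (fun hmem => (hp.mem_or_mem hmem).elim ht hsp)
      rw [mul_smul, hφ']
      have h2 : t • ((singleFunctor (ModuleCat.{u} A) 0).map (ModuleCat.ofHom g) ≫ φ') =
          (singleFunctor (ModuleCat.{u} A) 0).map (ModuleCat.ofHom g) ≫ (t • φ') := by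
        rw [Linear.comp_smul]
      rw [h2, htφ]
      exact comp_zero
    · push_neg at htor
      apply h₁
      exact ⟨(singleFunctor (ModuleCat.{u} A) 0).map (ModuleCat.ofHom f) ≫ φ,
        fun s hs => htor s hs⟩

theorem support_HD_top (hω : Dual.IsDualizing A ω) (hn : Dual.IsNormalized A ω) (d : ℕ)
    (hd : ringKrullDim A = (d : WithBot ℕ∞)) :
    Module.support A (Dual.HD A ω (-(d : ℤ))) =
      {p : PrimeSpectrum A | ∃ q ∈ minimalPrimes A, q ≤ p.asIdeal ∧
        ringKrullDim (A ⧸ q) = (d : WithBot ℕ∞)} := by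
  obtain ⟨L⟩ := HomSingleRing.nonempty_linearEquiv_Hi ω (-(d : ℤ))
  rw [← L.support_eq]
  ext p
  rw [Module.mem_support_iff', Set.mem_setOf_eq]
  constructor
  · rintro ⟨φ, hφ⟩
    haveI := p.2
    exact exists_minimalPrime_of_not_torsion ω hω hn d hd p.asIdeal A ⟨φ, hφ⟩
  · rintro ⟨q, hq, hqp, hdim⟩
    haveI := hq.1.1
    have hann : Module.annihilator A A ≤ q := by
      intro a ha
      have h1 : a • (1 : A) = 0 := Module.mem_annihilator.1 ha 1
      rw [smul_eq_mul, mul_one] at h1
      rw [h1]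
      exact q.zero_mem
    have hsd : Module.supportDim A A ≤ (d : WithBot ℕ∞) := by
      rw [Module.supportDim_self_eq_ringKrullDim, hd]
    obtain ⟨φ, hφ⟩ := exists_hom_not_killed ω hω hn d q hdim A hann hsd
    exact ⟨φ, fun r hr => hφ r (fun hrq => hr (hqp hrq))⟩

end SuppK

end Groth.Agent.H12.DualLoc
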