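import Mathlib
import Groth.Agent.H12.DualLoc3

/-!
# `H^{-d}(ω)` satisfies `(S_2)` (helper12)

* `TorP`: every map `X ⟶ ω[m]`, `m > m₀`, is killed by an element outside `p`; closed under
  extensions; `torP_single`;
* `hasS2_HD_top`.
-/

set_option autoImplicit false
universe u
open CategoryTheory CategoryTheory.Limits DerivedCategory Pretriangulated
open scoped TensorProduct

namespace Groth.Agent.H12.DualLoc

attribute [local instance] HasDerivedCategory.standard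

open DerivedCategory.TStructure
open Groth.Agent.H12.DualDepth
open Groth.Agent.H12.LocHom
open Groth.Agent.H12.HomSingleRing (sA)

section TorP

variable {A : Type u} [CommRing A] (ω : Dual.D A)

/-- every map `X ⟶ ω[m]` with `m > m₀` is killed by an element outside `p` -/
def TorP (p : Ideal A) (m₀ : ℤ) (X : Dual.D A) : Prop :=
  ∀ m : ℤ, m₀ < m → ∀ φ : X ⟶ ω⟦m⟧, ∃ s : A, s ∉ p ∧ s • φ = 0

theorem torP_isExtClosed (p : Ideal A) [hp : p.IsPrime] (m₀ : ℤ) :
    H35.Devissage.IsExtClosed (TorP ω p m₀) where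
  iso := fun {K L} e hK m hm φ => by
    obtain ⟨s, hs, h0⟩ := hK m hm (e.hom ≫ φ)
    refine ⟨s, hs, ?_⟩
    rw [← cancel_epi e.hom, Linear.comp_smul, h0, comp_zero]
  zero := fun {K} hK m _ φ => by
    have h1p : (1 : A) ∉ p := fun h1 => hp.ne_top ((Ideal.eq_top_iff_one _).2 h1)
    exact ⟨1, h1p, by rw [hK.eq_of_src φ 0, smul_zero]⟩
  ext := fun T hT h₁ h₃ m hm φ => by
    obtain ⟨s₁, hs₁, h01⟩ := h₁ m hm (T.mor₁ ≫ φ)
    have h0 : T.mor₁ ≫ (s₁ • φ) = 0 := by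
      rw [Linear.comp_smul]
      exact h01
    obtain ⟨ψ, hψ⟩ := Triangle.yoneda_exact₂ T hT (s₁ • φ) h0
    obtain ⟨s₃, hs₃, h03⟩ := h₃ m hm ψ
    refine ⟨s₃ * s₁, fun hmem => (hp.mem_or_mem hmem).elim hs₃ hs₁, ?_⟩
    rw [mul_smul, hψ]
    have h2 : s₃ • (T.mor₂ ≫ ψ) = T.mor₂ ≫ (s₃ • ψ) := by rw [Linear.comp_smul]
    rw [h2, h03]
    exact comp_zero

omit ω in
theorem natCast_inj' {a b : ℕ} (h : (a : WithBot ℕ∞) = (b : WithBot ℕ∞)) : a = b :=
  le_antisymm (natCast_le_imp a b (le_of_eq h)) (natCast_le_imp b a (le_of_eq h.symm))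

end TorP

section Single

variable {A : Type u} [CommRing A] [IsLocalRing A] [IsNoetherianRing A] (ω : Dual.D A)

theorem torP_single (hω : Dual.IsDualizing A ω) (hn : Dual.IsNormalized A ω)
    (p : Ideal A) [hp : p.IsPrime] (dp : ℕ) (hdp : ringKrullDim (A ⧸ p) = (dp : WithBot ℕ∞))
    (N : ModuleCat.{u} A) [Module.Finite A N] (i : ℤ) :
    TorP ω p (-i - dp) ((singleFunctor (ModuleCat.{u} A) i).obj N) := by
  intro m hm φ
  by_contra hcon
  push_neg at hcon
  let e : (sM N)⟦-i⟧ ≅ (singleFunctor (ModuleCat.{u} A) i).obj N :=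
    ((singleFunctors (ModuleCat.{u} A)).shiftIso (-i) i 0 (by omega)).app N
  obtain ⟨ψ, hψ⟩ := exists_shift_eq' (sM N) ω (m + i) (-i) m (by omega) (e.hom ≫ φ)
  have hψnt : ∀ s : A, s ∉ p → s • ψ ≠ 0 := by
    intro s hs h0
    apply hcon s hs
    have h1 : s • (e.hom ≫ φ) = 0 := by
      rw [hψ, ← Linear.smul_comp, ← Functor.map_smul, h0, Functor.map_zero, zero_comp]
    rw [← cancel_epi e.hom, Linear.comp_smul, h1, comp_zero]
  have hmem : (⟨p, hp⟩ : PrimeSpectrum A) ∈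
      Module.support A (Dual.inD A N ⟶ ω⟦m + i⟧) :=
    Module.mem_support_iff'.2 ⟨ψ, fun r hr => hψnt r hr⟩
  haveI := nontrivial_localized_of_mem_support_hom ω hω N ⟨p, hp⟩ (m + i) hmem
  obtain ⟨d', e', n', hd', -, -, hbd, -, -⟩ := local_package ω hω hn N ⟨p, hp⟩
  have hdd : d' = dp := natCast_inj' (hd'.symm.trans hdp)
  have := (hbd (m + i) hmem).2
  omega

end Single

section S2

variable {A : Type u} [CommRing A] [IsLocalRing A] [IsNoetherianRing A] (ω : Dual.D A)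

/-- the part of `ω` above degree `c`, shifted by `-1` -/
theorem torP_truncGE_shift (hω : Dual.IsDualizing A ω) (hn : Dual.IsNormalized A ω)
    (p : Ideal A) [hp : p.IsPrime] (dp : ℕ) (hdp : ringKrullDim (A ⧸ p) = (dp : WithBot ℕ∞))
    (c : ℤ) :
    TorP ω p (-(c + 2) - dp) (((t.truncGE (c + 1)).obj ω)⟦(-1 : ℤ)⟧) := by
  obtain ⟨a, b, hab⟩ := hω.finite_injective_dimension
  haveI hQge : ((t.truncGE (c + 1)).obj ω).IsGE (c + 1) :=
    inferInstanceAs (t.IsGE ((t.truncGE (c + 1)).obj ω) (c + 1))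
  have eH : ∀ i : ℤ, (homologyFunctor (ModuleCat.{u} A) i).obj
      (((t.truncGE (c + 1)).obj ω)⟦(-1 : ℤ)⟧) ≅
      (homologyFunctor (ModuleCat.{u} A) (i - 1)).obj ((t.truncGE (c + 1)).obj ω) :=
    fun i => ((homologyFunctor (ModuleCat.{u} A) 0).shiftIso (-1) i (i - 1) (by omega)).app _
  have hlow : ∀ i : ℤ, i < c + 2 → IsZero ((homologyFunctor (ModuleCat.{u} A) i).obj
      (((t.truncGE (c + 1)).obj ω)⟦(-1 : ℤ)⟧)) := by
    intro i hi
    exact IsZero.of_iso (isZero_of_isGE ((t.truncGE (c + 1)).obj ω) (c + 1) (i - 1) (by omega))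
      (eH i)
  have eQ : ∀ i : ℤ, c + 1 ≤ i → ((homologyFunctor (ModuleCat.{u} A) i).obj ω ≅
      (homologyFunctor (ModuleCat.{u} A) i).obj ((t.truncGE (c + 1)).obj ω)) := fun i hi =>
    haveI := H56.isIso_homologyMap_truncGEπ ω (c + 1) i hi
    asIso ((homologyFunctor (ModuleCat.{u} A) i).map ((t.truncGEπ (c + 1)).app ω))
  have hhigh : ∀ i : ℤ, b + 1 < i → IsZero ((homologyFunctor (ModuleCat.{u} A) i).obj
      (((t.truncGE (c + 1)).obj ω)⟦(-1 : ℤ)⟧)) := by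
    intro i hi
    by_cases hic : c + 2 ≤ i
    · refine IsZero.of_iso ?_ (eH i ≪≫ (eQ (i - 1) (by omega)).symm)
      exact isZero_homology_of_isDualizing ω a b hab (i - 1) (Or.inr (by omega))
    · exact hlow i (by omega)
  refine H35.Devissage.of_homology (torP_isExtClosed ω p _) (c + 2)
    (b + 1 - (c + 2) + 1).toNat (((t.truncGE (c + 1)).obj ω)⟦(-1 : ℤ)⟧) (b + 1)
    (fun i hi => ?_) ?_ (fun i => ?_)
  · rcases hi with hi | hi
    · exact hlow i hi
    · exact hhigh i hi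
  · have := Int.self_le_toNat (b + 1 - (c + 2) + 1)
    omega
  · by_cases hic : c + 2 ≤ i
    · haveI : Module.Finite A ((homologyFunctor (ModuleCat.{u} A) i).obj
          (((t.truncGE (c + 1)).obj ω)⟦(-1 : ℤ)⟧)) := by
        haveI := hω.finite_cohomology (i - 1)
        exact Module.Finite.equiv
          ((eH i ≪≫ (eQ (i - 1) (by omega)).symm).symm.toLinearEquiv)
      have h1 := torP_single ω hω hn p dp hdp ((homologyFunctor (ModuleCat.{u} A) i).obj
        (((t.truncGE (c + 1)).obj ω)⟦(-1 : ℤ)⟧)) i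
      intro m hm φ
      exact h1 m (by omega) φ
    · exact (torP_isExtClosed ω p _).zero
        ((singleFunctor (ModuleCat.{u} A) i).map_isZero (hlow i (by omega)))

/-- a non-`p`-torsion map `H^c(ω)[0] ⟶ ω[k]`, where `ω ∈ D^{≥ c}` and `k ≠ c`, forces
`k - c ≤ -(c + 2) - dim A/p` -/
theorem bound_of_not_torsion (hω : Dual.IsDualizing A ω) (hn : Dual.IsNormalized A ω)
    (p : Ideal A) [hp : p.IsPrime] (dp : ℕ) (hdp : ringKrullDim (A ⧸ p) = (dp : WithBot ℕ∞))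
    (c : ℤ) [ω.IsGE c] (k : ℤ) (hk : k - c ≠ 0)
    (φ : sM ((homologyFunctor (ModuleCat.{u} A) c).obj ω) ⟶ ω⟦k⟧)
    (hφ : ∀ s : A, s ∉ p → s • φ ≠ 0) :
    k - c ≤ -(c + 2) - dp := by
  haveI hTle : ((t.truncLT (c + 1)).obj ω).IsLE c := by
    haveI : t.IsLE ((t.truncLT (c + 1)).obj ω) (c + 1 - 1) :=
      inferInstanceAs (t.IsLE ((t.truncLT (c + 1)).obj ω) (c + 1 - 1))
    exact t.isLE_of_le ((t.truncLT (c + 1)).obj ω) (c + 1 - 1) c (by omega)
  have eT : ∀ i : ℤ, i < c + 1 →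
      ((homologyFunctor (ModuleCat.{u} A) i).obj ((t.truncLT (c + 1)).obj ω) ≅
        (homologyFunctor (ModuleCat.{u} A) i).obj ω) := fun i hi =>
    haveI := H56.isIso_homologyMap_truncLTι ω (c + 1) i hi
    asIso ((homologyFunctor (ModuleCat.{u} A) i).map ((t.truncLTι (c + 1)).app ω))
  haveI hTge : ((t.truncLT (c + 1)).obj ω).IsGE c := (isGE_iff _ c).2
    (fun i hi => IsZero.of_iso (isZero_of_isGE ω c i hi) (eT i (by omega)))
  obtain ⟨e₁⟩ := H56.nonempty_iso_single ((t.truncLT (c + 1)).obj ω) c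
  let e₂ : (singleFunctor (ModuleCat.{u} A) c).obj
      ((homologyFunctor (ModuleCat.{u} A) c).obj ((t.truncLT (c + 1)).obj ω)) ≅
      (singleFunctor (ModuleCat.{u} A) c).obj ((homologyFunctor (ModuleCat.{u} A) c).obj ω) :=
    (singleFunctor (ModuleCat.{u} A) c).mapIso (eT c (by omega))
  let e₃ : (sM ((homologyFunctor (ModuleCat.{u} A) c).obj ω))⟦-c⟧ ≅
      (singleFunctor (ModuleCat.{u} A) c).obj ((homologyFunctor (ModuleCat.{u} A) c).obj ω) :=
    ((singleFunctors (ModuleCat.{u} A)).shiftIso (-c) c 0 (by omega)).app _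
  let E : (t.truncLT (c + 1)).obj ω ≅ (sM ((homologyFunctor (ModuleCat.{u} A) c).obj ω))⟦-c⟧ :=
    e₁ ≪≫ e₂ ≪≫ e₃.symm
  let z : ω⟦k - c⟧ ≅ (ω⟦k⟧)⟦-c⟧ :=
    (shiftFunctorAdd' (Dual.D A) k (-c) (k - c) (by omega)).app ω
  have hψ : ∀ s : A, s ∉ p → s • (E.hom ≫ φ⟦-c⟧' ≫ z.inv) ≠ 0 := by
    intro s hs h0
    apply hφ s hs
    have h1 : E.hom ≫ ((s • φ)⟦-c⟧' ≫ z.inv) = 0 := by
      have e1 : (s • φ)⟦-c⟧' = s • (φ⟦-c⟧') := Functor.map_smul _ _ _
      rw [e1]
      have e2 : (s • (φ⟦-c⟧')) ≫ z.inv = s • (φ⟦-c⟧' ≫ z.inv) := Linear.smul_comp _ _ _ _ _ _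
      rw [e2]
      exact (Linear.comp_smul _ _ _ _ _ _).trans h0
    have h2 : (s • φ)⟦-c⟧' ≫ z.inv = 0 := by
      rw [← cancel_epi E.hom, h1, comp_zero]
    have h3 : (s • φ)⟦-c⟧' = 0 := by
      rw [← cancel_mono z.inv, h2, zero_comp]
    exact (shiftFunctor (Dual.D A) (-c)).map_injective (by rw [h3, Functor.map_zero])
  by_contra hlt
  push_neg at hlt
  have hT := t.triangleLTGE_distinguished (c + 1) ω
  have hT' := inv_rot_of_distTriang _ hT
  obtain ⟨s, hs, h0⟩ := torP_truncGE_shift ω hω hn p dp hdp c (k - c) hlt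
    (((t.triangleLTGE (c + 1)).obj ω).invRotate.mor₁ ≫ (E.hom ≫ φ⟦-c⟧' ≫ z.inv))
  have h0' : ((t.triangleLTGE (c + 1)).obj ω).invRotate.mor₁ ≫
      (s • (E.hom ≫ φ⟦-c⟧' ≫ z.inv)) = 0 := by
    exact (Linear.comp_smul _ _ _ _ _ _).trans h0
  obtain ⟨g, hg⟩ := Triangle.yoneda_exact₂ _ hT' (s • (E.hom ≫ φ⟦-c⟧' ≫ z.inv)) h0'
  haveI := hω.ext_self_subsingleton (k - c) hk
  have hg0 : g = 0 := Subsingleton.elim (α := ω ⟶ ω⟦k - c⟧) g 0
  rw [hg0, comp_zero] at hg
  exact hψ s hs hg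

theorem hasS2_HD_top (hω : Dual.IsDualizing A ω) (hn : Dual.IsNormalized A ω) (d : ℕ)
    (hd : ringKrullDim A = (d : WithBot ℕ∞)) :
    LocCoh.HasSk 2 A (Dual.HD A ω (-(d : ℤ))) := by
  intro p hp
  rcases subsingleton_or_nontrivial
    (LocalizedModule p.primeCompl (Dual.HD A ω (-(d : ℤ)))) with hsub | hnt
  · have h0 : Module.supportDim (Localization.AtPrime p)
        (LocalizedModule p.primeCompl (Dual.HD A ω (-(d : ℤ)))) = ⊥ :=
      Module.supportDim_eq_bot_of_subsingleton _ _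
    refine le_trans (min_le_right _ _) ?_
    rw [h0]
    exact bot_le
  · haveI : Module.Finite A (Dual.HD A ω (-(d : ℤ))) := hω.finite_cohomology _
    obtain ⟨dp, e', n', hdp, he, hdep, hbd, hmn, hme⟩ :=
      local_package ω hω hn (Dual.HD A ω (-(d : ℤ))) ⟨p, hp⟩
    have he' : Module.supportDim (Localization.AtPrime p)
        (LocalizedModule p.primeCompl (Dual.HD A ω (-(d : ℤ)))) = (e' : WithBot ℕ∞) := he
    have hdep' : LocCoh.depth (Localization.AtPrime p)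
        (LocalizedModule p.primeCompl (Dual.HD A ω (-(d : ℤ)))) = n' := hdep
    have hdp' : ringKrullDim (A ⧸ p) = (dp : WithBot ℕ∞) := hdp
    have h1p : (1 : A) ∉ p := fun h1 => hp.ne_top ((Ideal.eq_top_iff_one _).2 h1)
    rw [he', hdep', min_le_iff, natCast_le_iff', natCast_le_iff']
    have hgen : e' + dp ≤ d := by
      by_contra hlt
      push_neg at hlt
      have hsd : Module.supportDim A (Dual.HD A ω (-(d : ℤ))) <
          ((e' + dp : ℕ) : WithBot ℕ∞) := by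
        refine lt_of_le_of_lt (Module.supportDim_le_ringKrullDim _ _) ?_
        rw [hd]
        exact natCast_lt_natCast hlt
      have hv := van_of_supportDim_lt ω hω hn (Dual.HD A ω (-(d : ℤ))) (e' + dp) hsd
      obtain ⟨φ, hφ⟩ := Module.mem_support_iff'.1 hme
      apply hφ 1 h1p
      have hcast : (-(e' : ℤ) - dp) = -((e' + dp : ℕ) : ℤ) := by push_cast; ring
      have hφ0 : ∀ (k : ℤ) (hk : k = -((e' + dp : ℕ) : ℤ))
          (ψ : Dual.inD A (Dual.HD A ω (-(d : ℤ))) ⟶ ω⟦k⟧), ψ = 0 := by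
        intro k hk ψ
        subst hk
        exact hv ψ
      rw [hφ0 _ hcast φ, smul_zero]
    by_cases hjd : n' + dp = d
    · right
      omega
    · left
      obtain ⟨φ, hφ⟩ := Module.mem_support_iff'.1 hmn
      haveI : ω.IsGE (-(d : ℤ)) := (isGE_iff ω _).2 (fun i hi => by
        obtain ⟨δ, rfl⟩ : ∃ δ : ℕ, i = -(δ : ℤ) := ⟨(-i).toNat, by omega⟩
        refine isZero_homology_of_van ω _ (van_of_supportDim_lt ω hω hn A δ ?_)
        rw [Module.supportDim_self_eq_ringKrullDim, hd]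
        exact natCast_lt_natCast (by omega))
      have hb := bound_of_not_torsion ω hω hn p dp hdp' (-(d : ℤ)) (-(n' : ℤ) - dp)
        (by omega) φ (fun s hs => hφ s hs)
      omega

end S2

end Groth.Agent.H12.DualLoc
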