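import Groth.Agent.H12.DualCM2
import Groth.Agent.H12.HomSingleRing
import Groth.Agent.H31.OpenImmD
import Groth.Agent.H71.StalkLoc
import Groth.Prelude.Def_DualSch

/-!
# The Cohen–Macaulay locus of a scheme with a dualizing complex (helper12)
-/

set_option autoImplicit false
universe u
open CategoryTheory CategoryTheory.Limits DerivedCategory Pretriangulated AlgebraicGeometry

namespace Groth.Agent.H12.DualSchCM

attribute [local instance] HasDerivedCategory.standard

open DerivedCategory.TStructure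
open Groth.Agent.H12.DualDepth
open Groth.Agent.H12.LocHom
open Groth.Agent.H12.DualLoc
open Groth.Agent.H12.DualCM

section Ring

theorem exists_not_van_self {B : Type u} [CommRing B] [Nontrivial B] (W : Dual.D B)
    (hW : Dual.IsDualizing B W) : ∃ k : ℤ, ¬ Van W k (ModuleCat.of B B) := by
  by_contra hcon
  push_neg at hcon
  have hz : IsZero W := by
    rw [Groth.Agent.H31.LocalD.isZero_iff_homology]
    intro i
    obtain ⟨e⟩ := HomSingleRing.nonempty_linearEquiv_Hi W i
    haveI : Subsingleton (HomSingleRing.sA B ⟶ W⟦i⟧) :=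
      (van_iff_subsingleton W i _).1 (hcon i)
    haveI : Subsingleton ((homologyFunctor (ModuleCat.{u} B) i).obj W) :=
      e.symm.toEquiv.subsingleton
    exact ModuleCat.isZero_of_subsingleton _
  have h1 : (1 : B) • 𝟙 W = (0 : B) • 𝟙 W := hz.eq_of_src _ _
  exact one_ne_zero (hW.toEnd_bijective.1 h1)

variable {A : Type u} [CommRing A] [IsNoetherianRing A]

theorem cmLocalRing_iff_existsUnique (ω : Dual.D A) (hω : Dual.IsDualizing A ω)
    (p : PrimeSpectrum A) :
    LocCoh.IsCohenMacaulayLocalRing (Localization.AtPrime p.asIdeal) ↔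
      ∃! i : ℤ, Nontrivial (LocalizedModule p.asIdeal.primeCompl (Dual.HD A ω i)) := by
  haveI : DRing.HasLBaseChange (algebraMap A (Localization p.asIdeal.primeCompl)) :=
    H35.HasLBC.hasLBaseChange _
  have hWp := isDualizing_L p.asIdeal.primeCompl ω hω
  have hkey : ∀ k : ℤ,
      Nontrivial (LocalizedModule p.asIdeal.primeCompl (Dual.HD A ω k)) ↔
      ¬ Van ((DRing.LBaseChange (algebraMap A (Localization p.asIdeal.primeCompl))).obj ω) k
        (ModuleCat.of (Localization.AtPrime p.asIdeal)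
          (LocalizedModule p.asIdeal.primeCompl A)) := by
    intro k
    rw [← mem_support_hom_iff ω hω A p k]
    obtain ⟨e⟩ := HomSingleRing.nonempty_linearEquiv_Hi ω k
    have h1 : Module.support A (Dual.inD A A ⟶ ω⟦k⟧) = Module.support A (Dual.HD A ω k) :=
      e.support_eq
    rw [h1, Module.mem_support_iff]
  rw [cmLocalRing_iff ω hω p, cm_iff_atMostOne _ hWp]
  constructor
  · intro h
    obtain ⟨k, hk⟩ := exists_not_van_self _ hWp
    have hk' : ¬ Van ((DRing.LBaseChange
        (algebraMap A (Localization p.asIdeal.primeCompl))).obj ω) k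
        (ModuleCat.of (Localization.AtPrime p.asIdeal)
          (LocalizedModule p.asIdeal.primeCompl A)) := by
      intro hv
      exact hk (van_of_iso
        (Groth.Agent.H29.DepthFinite.selfEquiv p.asIdeal.primeCompl).toModuleIso hv)
    exact ⟨k, (hkey k).2 hk', fun k' hk'' => h k' k ((hkey k').1 hk'') hk'⟩
  · rintro ⟨k, -, huniq⟩ k1 k2 h1 h2
    exact (huniq k1 ((hkey k1).2 h1)).trans (huniq k2 ((hkey k2).2 h2)).symm

end Ring

section Sch

open Groth.Agent.H31.OpenImmD Groth.Agent.H31.RpushSupport Groth.Agent.H31.LocalD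

variable (X : Scheme.{u}) [IsLocallyNoetherian X]
  [∀ (U : Scheme.{u}) (j : U ⟶ X) [IsOpenImmersion j],
    PreservesFiniteLimits (Scheme.Modules.restrictFunctor j)]
  [∀ (R : CommRingCat.{u}), PreservesFiniteLimits (tilde.functor R)]
  (ω : DCoh.D X) (hω : Dual2.IsDualizingSch X ω)

omit [∀ (R : CommRingCat.{u}), PreservesFiniteLimits (tilde.functor R)] in
theorem subsingleton_stalk_tilde_iff (R : CommRingCat.{u}) (M : ModuleCat.{u} R)
    (y : PrimeSpectrum R) :
    Subsingleton (((tilde.functor R).obj M).presheaf.stalk y) ↔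
      Subsingleton (LocalizedModule y.asIdeal.primeCompl M) :=
  (IsLocalizedModule.iso y.asIdeal.primeCompl (tilde.toStalk M y).hom).toEquiv.subsingleton_congr.symm

include hω in
theorem chart (W : X.Opens) (hW : IsAffineOpen W) :
    ∃ (ωA : Dual.D Γ(X, W)), Dual.IsDualizing Γ(X, W) ωA ∧
      ∀ (y : PrimeSpectrum Γ(X, W)),
        (LocCoh.IsCohenMacaulayLocalRing (X.presheaf.stalk (hW.fromSpec y)) ↔
          LocCoh.IsCohenMacaulayLocalRing (Localization.AtPrime y.asIdeal)) ∧
        ∀ i : ℤ, Nontrivial ((DCoh.HD ω i).presheaf.stalk (hW.fromSpec y)) ↔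
          Nontrivial (LocalizedModule y.asIdeal.primeCompl (Dual.HD Γ(X, W) ωA i)) := by
  obtain ⟨ωA, hωA, ⟨e⟩⟩ := hω Γ(X, W) hW.fromSpec
  refine ⟨ωA, hωA, fun y => ⟨?_, fun i => ?_⟩⟩
  · have hy : hW.fromSpec y ∈ W := by
      have : hW.fromSpec y ∈ Set.range hW.fromSpec := Set.mem_range_self y
      rw [hW.range_fromSpec] at this
      exact this
    letI := TopCat.Presheaf.algebra_section_stalk X.presheaf ⟨hW.fromSpec y, hy⟩
    haveI hloc : IsLocalization.AtPrime (X.presheaf.stalk (hW.fromSpec y)) y.asIdeal :=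
      hW.isLocalization_stalk' y hy
    let ε : X.presheaf.stalk (hW.fromSpec y) ≃+* Localization.AtPrime y.asIdeal :=
      (IsLocalization.algEquiv y.asIdeal.primeCompl (X.presheaf.stalk (hW.fromSpec y))
        (Localization.AtPrime y.asIdeal)).toRingEquiv
    exact ⟨fun h => Groth.Agent.H71.StalkLoc.isCM_of_ringEquiv ε.symm h,
      fun h => Groth.Agent.H71.StalkLoc.isCM_of_ringEquiv ε h⟩
  · rw [← not_subsingleton_iff_nontrivial, ← not_subsingleton_iff_nontrivial, not_iff_not]
    have e1 := subsingleton_stalk_restrict_iff_gen hW.fromSpec (DCoh.HD ω i) y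
    have e2 := subsingleton_stalk_congr (HDRestrictIso_gen hW.fromSpec ω i) y
    have e3 := subsingleton_stalk_congr ((DerivedCategory.homologyFunctor _ i).mapIso e) y
    have e4 := subsingleton_stalk_congr
      ((mapDerivedCategoryHomologyIso (tilde.functor Γ(X, W)) i).app ωA) y
    have e5 := subsingleton_stalk_tilde_iff Γ(X, W)
      ((DerivedCategory.homologyFunctor (ModuleCat.{u} Γ(X, W)) i).obj ωA) y
    exact e1.symm.trans (e2.symm.trans (e3.trans (e4.trans e5)))

include hω in
theorem main :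
    (∀ x : X, LocCoh.IsCohenMacaulayLocalRing (X.presheaf.stalk x) ↔
      ∃! i : ℤ, Nontrivial ((DCoh.HD ω i).presheaf.stalk x)) ∧
    IsOpen {x : X | LocCoh.IsCohenMacaulayLocalRing (X.presheaf.stalk x)} := by
  have hcov : ∀ x : X, ∃ (W : X.Opens) (hW : IsAffineOpen W) (y : PrimeSpectrum Γ(X, W)),
      hW.fromSpec y = x := by
    intro x
    obtain ⟨_, ⟨W, hW, rfl⟩, hxW, -⟩ :=
      (X.isBasis_affineOpens).exists_subset_of_mem_open (Set.mem_univ x) isOpen_univ
    exact ⟨W, hW, hW.primeIdealOf ⟨x, hxW⟩, hW.fromSpec_primeIdealOf ⟨x, hxW⟩⟩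
  constructor
  · intro x
    obtain ⟨W, hW, y, rfl⟩ := hcov x
    obtain ⟨ωA, hωA, hch⟩ := chart X ω hω W hW
    haveI : IsNoetherianRing Γ(X, W) := IsLocallyNoetherian.component_noetherian ⟨W, hW⟩
    rw [(hch y).1, cmLocalRing_iff_existsUnique ωA hωA y]
    exact existsUnique_congr (fun i => ((hch y).2 i).symm)
  · rw [isOpen_iff_forall_mem_open]
    intro x hx
    obtain ⟨W, hW, y, rfl⟩ := hcov x
    obtain ⟨ωA, hωA, hch⟩ := chart X ω hω W hW
    haveI : IsNoetherianRing Γ(X, W) := IsLocallyNoetherian.component_noetherian ⟨W, hW⟩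
    have hopen := Groth.Agent.H12.DualCM.isOpen_cmRing ωA hωA
    refine ⟨hW.fromSpec '' {p : PrimeSpectrum Γ(X, W) |
      LocCoh.IsCohenMacaulayLocalRing (Localization.AtPrime p.asIdeal)}, ?_, ?_, ?_⟩
    · rintro _ ⟨z, hz, rfl⟩
      exact (hch z).1.2 hz
    · exact hW.fromSpec.isOpenEmbedding.isOpenMap _ hopen
    · exact ⟨y, (hch y).1.1 hx, rfl⟩

end Sch

end Groth.Agent.H12.DualSchCM
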