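import Groth.Agent.H12.DualSchCM

/-!
# A dualizing complex is nonzero at every point; schemes with a dualizing module are CM (helper12)
-/

set_option autoImplicit false
universe u
open CategoryTheory CategoryTheory.Limits DerivedCategory Pretriangulated AlgebraicGeometry

namespace Groth.Agent.H12.DualSchCM

attribute [local instance] HasDerivedCategory.standard

open DerivedCategory.TStructure
open Groth.Agent.H12.DualDepth
open Groth.Agent.H12.LocHom
open Groth.Agent.H12.DualLoc
open Groth.Agent.H12.DualCM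

section Ring

variable {A : Type u} [CommRing A] [IsNoetherianRing A]

theorem exists_nontrivial_localized (ω : Dual.D A) (hω : Dual.IsDualizing A ω)
    (p : PrimeSpectrum A) :
    ∃ k : ℤ, Nontrivial (LocalizedModule p.asIdeal.primeCompl (Dual.HD A ω k)) := by
  haveI : DRing.HasLBaseChange (algebraMap A (Localization p.asIdeal.primeCompl)) :=
    H35.HasLBC.hasLBaseChange _
  have hWp := isDualizing_L p.asIdeal.primeCompl ω hω
  have hkey : ∀ k : ℤ,
      Nontrivial (LocalizedModule p.asIdeal.primeCompl (Dual.HD A ω k)) ↔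
      ¬ Van ((DRing.LBaseChange (algebraMap A (Localization p.asIdeal.primeCompl))).obj ω) k
        (ModuleCat.of (Localization.AtPrime p.asIdeal)
          (LocalizedModule p.asIdeal.primeCompl A)) := by
    intro k
    rw [← mem_support_hom_iff ω hω A p k]
    obtain ⟨e⟩ := HomSingleRing.nonempty_linearEquiv_Hi ω k
    have h1 : Module.support A (Dual.inD A A ⟶ ω⟦k⟧) = Module.support A (Dual.HD A ω k) :=
      e.support_eq
    rw [h1, Module.mem_support_iff]
  obtain ⟨k, hk⟩ := exists_not_van_self _ hWp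
  refine ⟨k, (hkey k).2 ?_⟩
  intro hv
  exact hk (van_of_iso
    (Groth.Agent.H29.DepthFinite.selfEquiv p.asIdeal.primeCompl).toModuleIso hv)

end Ring

section Sch

variable (X : Scheme.{u}) [IsLocallyNoetherian X]
  [∀ (U : Scheme.{u}) (j : U ⟶ X) [IsOpenImmersion j],
    PreservesFiniteLimits (Scheme.Modules.restrictFunctor j)]
  [∀ (R : CommRingCat.{u}), PreservesFiniteLimits (tilde.functor R)]
  (ω : DCoh.D X) (hω : Dual2.IsDualizingSch X ω)

include hω in
theorem exists_nontrivial_stalk (x : X) :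
    ∃ k : ℤ, Nontrivial ((DCoh.HD ω k).presheaf.stalk x) := by
  obtain ⟨_, ⟨W, hW, rfl⟩, hxW, -⟩ :=
    (X.isBasis_affineOpens).exists_subset_of_mem_open (Set.mem_univ x) isOpen_univ
  obtain ⟨y, rfl⟩ : ∃ y : PrimeSpectrum Γ(X, W), hW.fromSpec y = x :=
    ⟨hW.primeIdealOf ⟨x, hxW⟩, hW.fromSpec_primeIdealOf ⟨x, hxW⟩⟩
  obtain ⟨ωA, hωA, hch⟩ := chart X ω hω W hW
  haveI : IsNoetherianRing Γ(X, W) := IsLocallyNoetherian.component_noetherian ⟨W, hW⟩
  obtain ⟨k, hk⟩ := exists_nontrivial_localized ωA hωA y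
  exact ⟨k, ((hch y).2 k).2 hk⟩

/-- If a module placed in degree zero is a dualizing complex, then every local ring is CM. -/
theorem cm_of_dualizing_module (M : X.Modules) (hD : Dual2.IsDualizingSch X (DCoh.inD X M))
    (x : X) : LocCoh.IsCohenMacaulayLocalRing (X.presheaf.stalk x) := by
  rw [(main X (DCoh.inD X M) hD).1 x]
  have hz : ∀ k : ℤ, k ≠ 0 → ¬ Nontrivial ((DCoh.HD (DCoh.inD X M) k).presheaf.stalk x) := by
    intro k hk
    rw [not_nontrivial_iff_subsingleton]
    apply Groth.Agent.H31.LocalD.subsingleton_stalk_of_isZero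
    rcases lt_or_gt_of_ne hk with h | h
    · exact isZero_of_isGE ((singleFunctor X.Modules 0).obj M) 0 k h
    · exact isZero_of_isLE ((singleFunctor X.Modules 0).obj M) 0 k h
  obtain ⟨k, hk⟩ := exists_nontrivial_stalk X (DCoh.inD X M) hD x
  have hk0 : k = 0 := by
    by_contra hne
    exact hz k hne hk
  subst hk0
  exact ⟨0, hk, fun j hj => by
    by_contra hne
    exact hz j hne hj⟩

end Sch

end Groth.Agent.H12.DualSchCM
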