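import Mathlib
import Groth.Prelude.Def_DerCA

/-!
# Essential constancy of inverse systems of Artinian modules

An inverse system `(X_n)` of Artinian modules with a cone from an Artinian module `H` inducing a
bijection `H → lim X_n` is essentially constant with value `H`.
-/

set_option autoImplicit false
set_option linter.style.haveILetI false
universe u
open CategoryTheory Opposite

namespace Groth.Agent.H12.EssConst

variable {A : Type u} [CommRing A] (X : ℕᵒᵖ ⥤ ModuleCat.{u} A)

/-- transition maps as linear maps -/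
noncomputable def t {n m : ℕ} (h : n ≤ m) : X.obj (op m) →ₗ[A] X.obj (op n) :=
  (X.map (homOfLE h).op).hom

lemma t_comp {n m k : ℕ} (h₁ : n ≤ m) (h₂ : m ≤ k) (w : X.obj (op k)) :
    t X h₁ (t X h₂ w) = t X (h₁.trans h₂) w := by
  have h : X.map (homOfLE h₂).op ≫ X.map (homOfLE h₁).op = X.map (homOfLE (h₁.trans h₂)).op := by
    rw [← X.map_comp]
    congr 1
  exact congrArg (fun f => f.hom w) h

lemma t_refl (n : ℕ) (w : X.obj (op n)) : t X (le_refl n) w = w := by
  have h : X.map (homOfLE (le_refl n)).op = 𝟙 _ := by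
    rw [← X.map_id]
    congr 1
  exact congrArg (fun f => f.hom w) h

section ML

variable [hX : ∀ n : ℕ, IsArtinian A (X.obj (op n))]

/-- Mittag-Leffler: the images of the transition maps into `X_n` stabilize -/
lemma exists_stab (n : ℕ) : ∃ K, n ≤ K ∧ ∃ E : Submodule A (X.obj (op n)),
    ∀ k (_ : K ≤ k) (h : n ≤ k), LinearMap.range (t X h) = E := by
  have anti : ∀ {k k' : ℕ} (h : n ≤ k) (hk : k ≤ k'),
      LinearMap.range (t X (h.trans hk)) ≤ LinearMap.range (t X h) := by
    rintro k k' h hk _ ⟨w, rfl⟩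
    exact ⟨t X hk w, t_comp X h hk w⟩
  let f : ℕ →o (Submodule A (X.obj (op n)))ᵒᵈ :=
    ⟨fun j => OrderDual.toDual (LinearMap.range (t X (Nat.le_add_right n j))), fun j j' hjj' =>
      anti (Nat.le_add_right n j) (Nat.add_le_add_left hjj' n)⟩
  obtain ⟨J, hJ⟩ := IsArtinian.monotone_stabilizes f
  refine ⟨n + J, Nat.le_add_right n J, LinearMap.range (t X (Nat.le_add_right n J)), ?_⟩
  intro k hk h
  apply le_antisymm
  · exact anti (Nat.le_add_right n J) hk
  · have h1 : f J = f k := hJ k (le_trans (Nat.le_add_left J n) hk)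
    have h2 : LinearMap.range (t X (Nat.le_add_right n J)) =
        LinearMap.range (t X (Nat.le_add_right n k)) := congrArg OrderDual.ofDual h1
    rw [h2]
    exact anti h (Nat.le_add_left k n)

/-- the stabilization index -/
noncomputable def K (n : ℕ) : ℕ := Classical.choose (exists_stab X n)

lemma le_K (n : ℕ) : n ≤ K X n := (Classical.choose_spec (exists_stab X n)).1

/-- the stable image -/
noncomputable def E (n : ℕ) : Submodule A (X.obj (op n)) :=
  Classical.choose (Classical.choose_spec (exists_stab X n)).2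

lemma range_eq_E (n k : ℕ) (hk : K X n ≤ k) (h : n ≤ k) : LinearMap.range (t X h) = E X n :=
  Classical.choose_spec (Classical.choose_spec (exists_stab X n)).2 k hk h

/-- transition maps are surjective on stable images -/
lemma exists_lift (j : ℕ) (z : X.obj (op j)) (hz : z ∈ E X j) :
    ∃ z' : X.obj (op (j + 1)), z' ∈ E X (j + 1) ∧ t X (Nat.le_succ j) z' = z := by
  let k := max (K X j) (K X (j + 1))
  have hk1 : K X j ≤ k := le_max_left _ _
  have hk2 : K X (j + 1) ≤ k := le_max_right _ _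
  have hj1 : j + 1 ≤ k := (le_K X (j + 1)).trans hk2
  have hj : j ≤ k := (Nat.le_succ j).trans hj1
  rw [← range_eq_E X j k hk1 hj] at hz
  obtain ⟨w, rfl⟩ := hz
  refine ⟨t X hj1 w, ?_, t_comp X (Nat.le_succ j) hj1 w⟩
  rw [← range_eq_E X (j + 1) k hk2 hj1]
  exact ⟨w, rfl⟩

/-- a compatible sequence in the stable images starting from `y₀ ∈ E_n` -/
noncomputable def seq (n : ℕ) (y₀ : X.obj (op n)) (h₀ : y₀ ∈ E X n) :
    ∀ r : ℕ, {z : X.obj (op (n + r)) // z ∈ E X (n + r)}
  | 0 => ⟨y₀, h₀⟩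
  | r + 1 => ⟨Classical.choose (exists_lift X (n + r) (seq n y₀ h₀ r).1 (seq n y₀ h₀ r).2),
      (Classical.choose_spec (exists_lift X (n + r) (seq n y₀ h₀ r).1 (seq n y₀ h₀ r).2)).1⟩

lemma seq_succ (n : ℕ) (y₀ : X.obj (op n)) (h₀ : y₀ ∈ E X n) (r : ℕ) :
    t X (Nat.le_succ (n + r)) (seq X n y₀ h₀ (r + 1)).1 = (seq X n y₀ h₀ r).1 :=
  (Classical.choose_spec (exists_lift X (n + r) (seq X n y₀ h₀ r).1 (seq X n y₀ h₀ r).2)).2

lemma seq_compat (n : ℕ) (y₀ : X.obj (op n)) (h₀ : y₀ ∈ E X n) (r r' : ℕ) (h : r ≤ r') :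
    t X (Nat.add_le_add_left h n) (seq X n y₀ h₀ r').1 = (seq X n y₀ h₀ r).1 := by
  induction r', h using Nat.le_induction with
  | base => exact t_refl X (n + r) _
  | succ r' hr ih =>
    have h1 := t_comp X (Nat.add_le_add_left hr n) (Nat.le_succ (n + r'))
      (seq X n y₀ h₀ (r' + 1)).1
    rw [seq_succ] at h1
    rw [← ih, h1]

end ML

variable (H : ModuleCat.{u} A) (c : (Functor.const ℕᵒᵖ).obj H ⟶ X)

/-- the cone maps as linear maps -/
noncomputable def cn (n : ℕ) : H →ₗ[A] X.obj (op n) := (c.app (op n)).hom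

lemma t_cn {n m : ℕ} (h : n ≤ m) (x : H) : t X h (cn X H c m x) = cn X H c n x := by
  have h1 := c.naturality (homOfLE h).op
  have h2 := congrArg (fun f => f.hom x) h1
  exact h2.symm

theorem isEssConstant [IsArtinian A H] [hX : ∀ n : ℕ, IsArtinian A (X.obj (op n))]
    (hinj : ∀ x : H, (∀ n : ℕ, cn X H c n x = 0) → x = 0)
    (hsurj : ∀ y : (∀ n : ℕ, X.obj (op n)), (∀ (n m : ℕ) (h : n ≤ m), t X h (y m) = y n) →
      ∃ x : H, ∀ n : ℕ, cn X H c n x = y n) :
    DerCA.IsEssConstant X H c := by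
  -- (F1) the image of the cone lies in the stable image
  have F1 : ∀ n (x : H), cn X H c n x ∈ E X n := by
    intro n x
    rw [← range_eq_E X n (K X n) le_rfl (le_K X n)]
    exact ⟨cn X H c (K X n) x, t_cn X H c (le_K X n) x⟩
  -- (F3) the stable image is the image of the cone
  have F3 : ∀ n (y₀ : X.obj (op n)), y₀ ∈ E X n → ∃ x : H, cn X H c n x = y₀ := by
    intro n y₀ h₀
    let y : ∀ j : ℕ, X.obj (op j) := fun j => t X (Nat.le_add_left j n) (seq X n y₀ h₀ j).1
    have hy : ∀ (j j' : ℕ) (h : j ≤ j'), t X h (y j') = y j := by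
      intro j j' h
      show t X h (t X (Nat.le_add_left j' n) (seq X n y₀ h₀ j').1) =
        t X (Nat.le_add_left j n) (seq X n y₀ h₀ j).1
      rw [t_comp, ← seq_compat X n y₀ h₀ j j' h, t_comp]
    obtain ⟨x, hx⟩ := hsurj y hy
    refine ⟨x, ?_⟩
    rw [hx n]
    show t X (Nat.le_add_left n n) (seq X n y₀ h₀ n).1 = y₀
    exact seq_compat X n y₀ h₀ 0 n (Nat.zero_le n)
  -- (F4) the cone maps are eventually injective
  obtain ⟨n₀, hn₀⟩ : ∃ n₀, ∀ x : H, cn X H c n₀ x = 0 → x = 0 := by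
    let f : ℕ →o (Submodule A H)ᵒᵈ :=
      ⟨fun n => OrderDual.toDual (LinearMap.ker (cn X H c n)), fun n m hnm => by
        show LinearMap.ker (cn X H c m) ≤ LinearMap.ker (cn X H c n)
        intro x hx
        rw [LinearMap.mem_ker] at hx ⊢
        rw [← t_cn X H c hnm x, hx, map_zero]⟩
    obtain ⟨n₀, h⟩ := IsArtinian.monotone_stabilizes f
    refine ⟨n₀, fun x hx => hinj x fun n => ?_⟩
    rcases le_total n n₀ with hle | hle
    · rw [← t_cn X H c hle x, hx, map_zero]
    · have h1 : LinearMap.ker (cn X H c n₀) = LinearMap.ker (cn X H c n) :=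
        congrArg OrderDual.ofDual (h n hle)
      have h2 : x ∈ LinearMap.ker (cn X H c n₀) := hx
      rw [h1] at h2
      exact h2
  -- the equivalence `H ≃ E n₀`
  let e : H ≃ₗ[A] E X n₀ := LinearEquiv.ofBijective
    ((cn X H c n₀).codRestrict (E X n₀) (F1 n₀))
    ⟨fun a b hab => by
        have h1 : cn X H c n₀ a = cn X H c n₀ b := congrArg Subtype.val hab
        have h2 : cn X H c n₀ (a - b) = 0 := by rw [map_sub, h1, sub_self]
        exact sub_eq_zero.1 (hn₀ _ h2),
      fun ⟨y, hy⟩ => by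
        obtain ⟨x, hx⟩ := F3 n₀ y hy
        exact ⟨x, Subtype.ext hx⟩⟩
  have he : ∀ x : H, ((e x : E X n₀) : X.obj (op n₀)) = cn X H c n₀ x := fun x => rfl
  let i := K X n₀
  have hi : n₀ ≤ i := le_K X n₀
  have hmem : ∀ w : X.obj (op i), t X hi w ∈ E X n₀ := by
    intro w
    rw [← range_eq_E X n₀ i le_rfl hi]
    exact ⟨w, rfl⟩
  let s : X.obj (op i) →ₗ[A] H := e.symm.toLinearMap ∘ₗ ((t X hi).codRestrict (E X n₀) hmem)
  have hs : ∀ (w : X.obj (op i)) (x : H), t X hi w = cn X H c n₀ x → s w = x := by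
    intro w x hwx
    show e.symm ((t X hi).codRestrict (E X n₀) hmem w) = x
    rw [LinearEquiv.symm_apply_eq]
    exact Subtype.ext hwx
  refine ⟨i, ModuleCat.ofHom s, ?_, ?_⟩
  · apply ModuleCat.hom_ext
    apply LinearMap.ext
    intro x
    show s (cn X H c i x) = x
    exact hs _ x (t_cn X H c hi x)
  · intro j
    let m := max j n₀
    let k := max i (K X m)
    have hik : i ≤ k := le_max_left _ _
    have hmk : m ≤ k := (le_K X m).trans (le_max_right _ _)
    have hjm : j ≤ m := le_max_left _ _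
    have hnm : n₀ ≤ m := le_max_right _ _
    have hjk : j ≤ k := hjm.trans hmk
    refine ⟨k, hik, hjk, ?_⟩
    apply ModuleCat.hom_ext
    apply LinearMap.ext
    intro w
    show t X hjk w = cn X H c j (s (t X hik w))
    have hw : t X hmk w ∈ E X m := by
      rw [← range_eq_E X m k (le_max_right _ _) hmk]
      exact ⟨w, rfl⟩
    obtain ⟨x, hx⟩ := F3 m _ hw
    have h1 : s (t X hik w) = x := by
      apply hs
      rw [t_comp, ← t_cn X H c hnm x, hx, t_comp]
    rw [h1, ← t_cn X H c hjm x, hx, t_comp]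

end Groth.Agent.H12.EssConst
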