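import Mathlib
import Groth.Prelude.Def_Wider
import Groth.Agent.H58.LCLes

/-!
# `Ext^n(F, G) ≅ Hom(F, H^n_J(G))` for finite `J`-power torsion `F` when `Ext^{n-1}` vanishes
-/

set_option autoImplicit false
set_option linter.style.haveILetI false
universe u
open CategoryTheory Abelian

namespace Groth.Agent.H12.ExtRep

open Groth.Agent.H58.LC

variable {A : Type u} [CommRing A] (J : Ideal A)

/-- finite modules killed by `J^k` -/
structure InC (k : ℕ) (F : Type u) [AddCommGroup F] [Module A F] : Prop where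
  fin : Module.Finite A F
  kill : ∀ a ∈ J ^ k, ∀ f : F, a • f = 0

section InC

variable {J} {k : ℕ} {F F' : Type u} [AddCommGroup F] [Module A F] [AddCommGroup F'] [Module A F']

lemma InC.submodule [IsNoetherianRing A] (hF : InC J k F) (N : Submodule A F) : InC J k N := by
  haveI := hF.fin
  haveI : IsNoetherian A F := isNoetherian_of_isNoetherianRing_of_finite A F
  exact ⟨inferInstance, fun a ha f => Subtype.ext (hF.kill a ha f)⟩

lemma InC.of_surjective (hF : InC J k F) (v : F →ₗ[A] F') (hv : Function.Surjective v) :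
    InC J k F' := by
  haveI := hF.fin
  refine ⟨Module.Finite.of_surjective v hv, fun a ha f' => ?_⟩
  obtain ⟨f, rfl⟩ := hv f'
  rw [← map_smul, hF.kill a ha f, map_zero]

lemma InC.quot (hF : InC J k F) (N : Submodule A F) : InC J k (F ⧸ N) :=
  hF.of_surjective N.mkQ (Submodule.mkQ_surjective N)

variable (J k) in
lemma inC_Q [IsNoetherianRing A] : InC J k (A ⧸ J ^ k) := by
  refine ⟨inferInstance, fun a ha q => ?_⟩
  obtain ⟨r, rfl⟩ := Submodule.Quotient.mk_surjective _ q
  rw [← Submodule.Quotient.mk_smul, Submodule.Quotient.mk_eq_zero, smul_eq_mul]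
  exact Ideal.mul_mem_right r _ ha

lemma InC.pi (hF : InC J k F) (b : ℕ) : InC J k (Fin b → F) := by
  haveI := hF.fin
  exact ⟨inferInstance, fun a ha f => funext fun j => hF.kill a ha (f j)⟩

end InC

section theta

variable {J} {k : ℕ} {F F' : Type u} [AddCommGroup F] [Module A F] [AddCommGroup F'] [Module A F']

/-- the map `A/J^k → F`, `1 ↦ f` -/
noncomputable def θ (hF : InC J k F) (f : F) : Q J k ⟶ ModuleCat.of A F :=
  ModuleCat.ofHom ((J ^ k).liftQ (LinearMap.toSpanSingleton A F f) (fun a ha => by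
    rw [LinearMap.mem_ker, LinearMap.toSpanSingleton_apply]
    exact hF.kill a ha f))

lemma θ_mk (hF : InC J k F) (f : F) (r : A) :
    (θ hF f).hom (Submodule.Quotient.mk r) = r • f := rfl

lemma hom_ext_Q {X : ModuleCat.{u} A} {g g' : Q J k ⟶ X}
    (h : ∀ r : A, g.hom (Submodule.Quotient.mk r) = g'.hom (Submodule.Quotient.mk r)) : g = g' := by
  refine ModuleCat.hom_ext (LinearMap.ext fun q => ?_)
  obtain ⟨r, rfl⟩ := Submodule.Quotient.mk_surjective _ q
  exact h r

lemma θ_add (hF : InC J k F) (f f' : F) : θ hF (f + f') = θ hF f + θ hF f' :=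
  hom_ext_Q fun r => by
    show r • (f + f') = r • f + r • f'
    exact smul_add r f f'

lemma θ_smul (hF : InC J k F) (a : A) (f : F) : θ hF (a • f) = a • θ hF f :=
  hom_ext_Q fun r => by
    show r • a • f = a • r • f
    exact smul_comm r a f

lemma θ_comp (hF : InC J k F) (hF' : InC J k F') (g : F →ₗ[A] F') (f : F) :
    θ hF f ≫ ModuleCat.ofHom g = θ hF' (g f) :=
  hom_ext_Q fun r => by
    show g (r • f) = r • g f
    exact map_smul g r f

lemma θ_one [IsNoetherianRing A] :
    θ (inC_Q J k) (Submodule.Quotient.mk (1 : A) : A ⧸ J ^ k) = 𝟙 (Q J k) :=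
  hom_ext_Q fun r => by
    show r • (Submodule.Quotient.mk (1 : A) : A ⧸ J ^ k) = Submodule.Quotient.mk r
    rw [← Submodule.Quotient.mk_smul, smul_eq_mul, mul_one]

lemma θ_surjective (hF : InC J k F) (f₀ : F) (hspan : ∀ f : F, ∃ a : A, a • f₀ = f) :
    Function.Surjective (θ hF f₀).hom := fun f => by
  obtain ⟨a, rfl⟩ := hspan f
  exact ⟨Submodule.Quotient.mk a, rfl⟩

end theta

variable (G : ModuleCat.{u} A) (n : ℕ)

section phi

variable {J} {k : ℕ} {F F' : Type u} [AddCommGroup F] [Module A F] [AddCommGroup F'] [Module A F']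

/-- the comparison map `Ext^n(F, G) → Hom(F, H^n_J(G))` -/
noncomputable def phi (hF : InC J k F) (x : Ext (ModuleCat.of A F) G n) :
    F →ₗ[A] (localCohomology J n).obj G where
  toFun f := ι J n G k ((Ext.mk₀ (θ hF f)).comp x (zero_add n))
  map_add' f f' := by rw [θ_add, Ext.mk₀_add, Ext.add_comp, map_add]
  map_smul' a f := by rw [θ_smul, Ext.mk₀_smul, Ext.smul_comp, map_smul]; rfl

lemma phi_apply (hF : InC J k F) (x : Ext (ModuleCat.of A F) G n) (f : F) :
    phi G n hF x f = ι J n G k ((Ext.mk₀ (θ hF f)).comp x (zero_add n)) := rfl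

/-- `phi` as a linear map -/
noncomputable def Phi (hF : InC J k F) :
    Ext (ModuleCat.of A F) G n →ₗ[A] (F →ₗ[A] (localCohomology J n).obj G) where
  toFun := phi G n hF
  map_add' x x' := LinearMap.ext fun f => by
    rw [LinearMap.add_apply, phi_apply, phi_apply, phi_apply, Ext.comp_add, map_add]
  map_smul' a x := LinearMap.ext fun f => by
    rw [LinearMap.smul_apply, phi_apply, phi_apply, Ext.comp_smul, map_smul]; rfl

lemma Phi_apply (hF : InC J k F) (x : Ext (ModuleCat.of A F) G n) : Phi G n hF x = phi G n hF x := rfl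

lemma phi_natural (hF' : InC J k F') (hF : InC J k F) (g : F' →ₗ[A] F)
    (x : Ext (ModuleCat.of A F) G n) (f' : F') :
    phi G n hF' ((Ext.mk₀ (ModuleCat.ofHom g)).comp x (zero_add n)) f' = phi G n hF x (g f') := by
  rw [phi_apply, phi_apply, Ext.mk₀_comp_mk₀_assoc, θ_comp hF' hF]

lemma phi_natural' (hF' : InC J k F') (hF : InC J k F) (g : F' →ₗ[A] F)
    (x : Ext (ModuleCat.of A F) G n) :
    phi G n hF' ((Ext.mk₀ (ModuleCat.ofHom g)).comp x (zero_add n)) = phi G n hF x ∘ₗ g :=
  LinearMap.ext fun f' => phi_natural G n hF' hF g x f'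

end phi

/-- the vanishing hypothesis -/
def Van : Prop :=
  ∀ (k : ℕ) (F : Type u) [AddCommGroup F] [Module A F], InC J k F → ∀ i : ℕ, i + 1 = n →
    ∀ x : Ext (ModuleCat.of A F) G i, x = 0

section main

variable [IsNoetherianRing A]
variable {J G n}
variable {k : ℕ} {F F' F'' : Type u} [AddCommGroup F] [Module A F] [AddCommGroup F'] [Module A F']
  [AddCommGroup F''] [Module A F'']

/-- short exact sequence in `ModuleCat` from linear maps -/
lemma ses (u : F' →ₗ[A] F) (v : F →ₗ[A] F'') (hu : Function.Injective u)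
    (hv : Function.Surjective v) (huv : Function.Exact u v) :
    (ShortComplex.mk (ModuleCat.ofHom u) (ModuleCat.ofHom v)
      (ModuleCat.hom_ext (LinearMap.ext fun x => huv.apply_apply_eq_zero x))).ShortExact :=
  { exact := (ShortComplex.ShortExact.moduleCat_exact_iff_function_exact _).2 huv
    mono_f := (ModuleCat.mono_iff_injective _).2 hu
    epi_g := (ModuleCat.epi_iff_surjective _).2 hv }

lemma inj_of_surj (hV : Van J G n) (hF : InC J k F) (v : F →ₗ[A] F'')
    (hv : Function.Surjective v) (x : Ext (ModuleCat.of A F'') G n)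
    (hx : (Ext.mk₀ (ModuleCat.ofHom v)).comp x (zero_add n) = 0) : x = 0 := by
  cases n with
  | zero =>
    haveI : Epi (ModuleCat.ofHom v) := (ModuleCat.epi_iff_surjective _).2 hv
    apply Ext.precomp_mk₀_injective_of_epi G (ModuleCat.ofHom v)
    show (Ext.mk₀ (ModuleCat.ofHom v)).comp x (zero_add 0) =
      (Ext.mk₀ (ModuleCat.ofHom v)).comp 0 (zero_add 0)
    rw [hx, Ext.comp_zero]
  | succ n' =>
    have hS := ses (LinearMap.ker v).subtype v (Submodule.injective_subtype _) hv
      (LinearMap.exact_subtype_ker_map v)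
    obtain ⟨x₁, hx₁⟩ := Ext.contravariant_sequence_exact₃ hS G x hx
      (show 1 + n' = n' + 1 by omega)
    rw [← hx₁, hV k (LinearMap.ker v) (hF.submodule _) n' rfl x₁, Ext.comp_zero]

lemma exists_of_restrict_zero (u : F' →ₗ[A] F) (v : F →ₗ[A] F'') (hu : Function.Injective u)
    (hv : Function.Surjective v) (huv : Function.Exact u v) (x : Ext (ModuleCat.of A F) G n)
    (hx : (Ext.mk₀ (ModuleCat.ofHom u)).comp x (zero_add n) = 0) :
    ∃ x'' : Ext (ModuleCat.of A F'') G n,
      (Ext.mk₀ (ModuleCat.ofHom v)).comp x'' (zero_add n) = x :=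
  Ext.contravariant_sequence_exact₂ (ses u v hu hv huv) G x hx

/-- L1: the maps `Ext^n(A/J^k, G) → H^n_J(G)` are injective -/
lemma ι_injective (hV : Van J G n) (k : ℕ) (x : Ext (Q J k) G n) (hx : ι J n G k x = 0) :
    x = 0 := by
  obtain ⟨m, h, hm⟩ := exists_of_ι_eq_zero J n G k x hx
  refine inj_of_surj hV (inC_Q J m) (π J h).hom ?_ x hm
  intro q
  obtain ⟨r, rfl⟩ := Submodule.Quotient.mk_surjective _ q
  exact ⟨Submodule.Quotient.mk r, rfl⟩

/-- L2: injectivity of `phi` for cyclic modules -/
lemma phi_injective_cyclic (hV : Van J G n) (hF : InC J k F) (f₀ : F)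
    (hspan : ∀ f : F, ∃ a : A, a • f₀ = f) (x : Ext (ModuleCat.of A F) G n)
    (hx : phi G n hF x = 0) : x = 0 := by
  have h1 : ι J n G k ((Ext.mk₀ (θ hF f₀)).comp x (zero_add n)) = 0 := by
    rw [← phi_apply, hx, LinearMap.zero_apply]
  have h2 := ι_injective hV k _ h1
  exact inj_of_surj hV (inC_Q J k) (θ hF f₀).hom (θ_surjective hF f₀ hspan) x h2

/-- L3 (submodule form): injectivity of `phi` on spans of finsets -/
lemma phi_injective_span (hV : Van J G n) (hF : InC J k F) (s : Finset F) :
    ∀ x : Ext (ModuleCat.of A (Submodule.span A (s : Set F))) G n,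
      phi G n (hF.submodule _) x = 0 → x = 0 := by
  classical
  induction s using Finset.induction_on with
  | empty =>
    intro x hx
    refine phi_injective_cyclic hV (hF.submodule _) 0 (fun f => ⟨0, ?_⟩) x hx
    have hf : (f : F) = 0 :=
      (Submodule.eq_bot_iff (Submodule.span A ((∅ : Finset F) : Set F))).1
        (by rw [Finset.coe_empty, Submodule.span_empty]) (f : F) f.2
    rw [zero_smul]
    exact (Subtype.ext hf).symm
  | insert f₀ s hf₀ ih =>
    intro x hx
    have hle : Submodule.span A (s : Set F) ≤ Submodule.span A ((insert f₀ s : Finset F) : Set F) :=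
      Submodule.span_mono (by rw [Finset.coe_insert]; exact Set.subset_insert _ _)
    let u := Submodule.inclusion hle
    have hu : Function.Injective u := Submodule.inclusion_injective hle
    let v := (LinearMap.range u).mkQ
    have hv : Function.Surjective v := Submodule.mkQ_surjective _
    have huv : Function.Exact u v := LinearMap.exact_map_mkQ_range u
    -- restriction to the smaller span vanishes
    have h1 : (Ext.mk₀ (ModuleCat.ofHom u)).comp x (zero_add n) = 0 := by
      apply ih
      rw [phi_natural' G n (hF.submodule _) (hF.submodule _) u x, hx, LinearMap.zero_comp]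
    obtain ⟨x'', rfl⟩ := exists_of_restrict_zero u v hu hv huv x h1
    have h2 : phi G n ((hF.submodule _).quot _) x'' = 0 := by
      apply LinearMap.ext
      intro q
      obtain ⟨y, rfl⟩ := hv q
      rw [← phi_natural G n (hF.submodule _) ((hF.submodule _).quot _) v x'' y, hx]
      rfl
    have hmem : f₀ ∈ Submodule.span A ((insert f₀ s : Finset F) : Set F) :=
      Submodule.subset_span (by rw [Finset.coe_insert]; exact Set.mem_insert _ _)
    have h3 : x'' = 0 := by
      refine phi_injective_cyclic hV ((hF.submodule _).quot _) (v ⟨f₀, hmem⟩) ?_ x'' h2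
      intro q
      obtain ⟨⟨y, hy⟩, rfl⟩ := hv q
      rw [Finset.coe_insert, Submodule.mem_span_insert] at hy
      obtain ⟨a, z, hz, rfl⟩ := hy
      refine ⟨a, ?_⟩
      rw [← map_smul]
      show v _ = v _
      rw [← sub_eq_zero, ← map_sub]
      show (LinearMap.range u).mkQ _ = 0
      rw [Submodule.mkQ_apply, Submodule.Quotient.mk_eq_zero]
      refine ⟨-⟨z, hz⟩, ?_⟩
      apply Subtype.ext
      show -z = a • f₀ - (a • f₀ + z)
      abel
    rw [h3, Ext.comp_zero]

/-- L3: injectivity of `phi` -/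
lemma phi_injective (hV : Van J G n) (hF : InC J k F) (x : Ext (ModuleCat.of A F) G n)
    (hx : phi G n hF x = 0) : x = 0 := by
  haveI := hF.fin
  obtain ⟨s, hs⟩ := Module.Finite.fg_top (R := A) (M := F)
  let e : Submodule.span A (s : Set F) ≃ₗ[A] F :=
    (LinearEquiv.ofEq _ _ hs).trans Submodule.topEquiv
  have h1 : (Ext.mk₀ (ModuleCat.ofHom e.toLinearMap)).comp x (zero_add n) = 0 := by
    apply phi_injective_span hV hF s
    rw [phi_natural' G n (hF.submodule _) hF e.toLinearMap x, hx, LinearMap.zero_comp]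
  have h2 : (Ext.mk₀ (ModuleCat.ofHom e.symm.toLinearMap)).comp
      ((Ext.mk₀ (ModuleCat.ofHom e.toLinearMap)).comp x (zero_add n)) (zero_add n) = x := by
    rw [Ext.mk₀_comp_mk₀_assoc, ← ModuleCat.ofHom_comp, LinearEquiv.comp_symm]
    exact Ext.mk₀_id_comp x
  rw [← h2, h1, Ext.comp_zero]

/-- L4: elements of `H^n_J(G)` killed by `J^k` come from `Ext^n(A/J^k, G)` -/
lemma exists_of_kill (hV : Van J G n) (k : ℕ) (y : (localCohomology J n).obj G)
    (hy : ∀ a ∈ J ^ k, a • y = 0) : ∃ x : Ext (Q J k) G n, ι J n G k x = y := by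
  obtain ⟨m', x', rfl⟩ := exists_rep J n G y
  let m := max m' k
  have hm' : m' ≤ m := le_max_left _ _
  have hk : k ≤ m := le_max_right _ _
  let x := (Ext.mk₀ (π J hm')).comp x' (zero_add n)
  have hx : ι J n G m x = ι J n G m' x' := ι_comp_π J n G hm' x'
  have hax : ∀ a ∈ J ^ k, a • x = 0 := fun a ha => by
    apply ι_injective hV m
    rw [map_smul, hx]
    exact hy a ha
  -- the kernel of `A/J^m → A/J^k`
  let v := (π J hk).hom
  have hv : Function.Surjective v := by
    intro q
    obtain ⟨r, rfl⟩ := Submodule.Quotient.mk_surjective _ q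
    exact ⟨Submodule.Quotient.mk r, rfl⟩
  let K := LinearMap.ker v
  have hK : InC J m K := (inC_Q J m).submodule K
  have hz : (Ext.mk₀ (ModuleCat.ofHom K.subtype)).comp x (zero_add n) = 0 := by
    apply phi_injective hV hK
    apply LinearMap.ext
    intro κ
    rw [phi_apply, Ext.mk₀_comp_mk₀_assoc, θ_comp hK (inC_Q J m), LinearMap.zero_apply]
    obtain ⟨a, ha⟩ := Submodule.Quotient.mk_surjective _ (K.subtype κ)
    have haJ : a ∈ J ^ k := by
      have h0 : v (Submodule.Quotient.mk a) = 0 := by rw [ha]; exact κ.2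
      have h1 : (Submodule.Quotient.mk a : A ⧸ J ^ k) = 0 := h0
      exact (Submodule.Quotient.mk_eq_zero _).1 h1
    have h2 : K.subtype κ = a • (Submodule.Quotient.mk (1 : A) : A ⧸ J ^ m) := by
      rw [← ha, ← Submodule.Quotient.mk_smul, smul_eq_mul, mul_one]
    rw [h2, θ_smul, θ_one, Ext.mk₀_smul, Ext.smul_comp, Ext.mk₀_id_comp, hax a haJ, map_zero]
  obtain ⟨x₀, hx₀⟩ := exists_of_restrict_zero K.subtype v (Submodule.injective_subtype _) hv
    (LinearMap.exact_subtype_ker_map v) x hz
  refine ⟨x₀, ?_⟩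
  rw [← hx, ← hx₀]
  exact (ι_comp_π J n G hk x₀).symm

/-- L5: `phi` is bijective for `A/J^k` -/
lemma phi_Q_surjective (hV : Van J G n) (k : ℕ) (h : (A ⧸ J ^ k) →ₗ[A] (localCohomology J n).obj G) :
    ∃ x : Ext (Q J k) G n, phi G n (inC_Q J k) x = h := by
  have hy : ∀ a ∈ J ^ k, a • h (Submodule.Quotient.mk (1 : A)) = 0 := fun a ha => by
    rw [← map_smul, (inC_Q J k).kill a ha, map_zero]
  obtain ⟨x, hx⟩ := exists_of_kill hV k _ hy
  refine ⟨x, LinearMap.ext fun q => ?_⟩
  obtain ⟨r, rfl⟩ := Submodule.Quotient.mk_surjective _ q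
  have h1 : (Submodule.Quotient.mk r : A ⧸ J ^ k) = r • Submodule.Quotient.mk (1 : A) := by
    rw [← Submodule.Quotient.mk_smul, smul_eq_mul, mul_one]
  rw [h1, map_smul, map_smul, phi_apply, θ_one, Ext.mk₀_id_comp, hx]

/-- L6: `phi` is bijective for finite free `A/J^k`-modules -/
lemma phi_pi_bijective (hV : Van J G n) (k b : ℕ) :
    Function.Bijective (phi G n ((inC_Q J k).pi b)) := by
  classical
  let P := Fin b → A ⧸ J ^ k
  have hP : InC J k P := (inC_Q J k).pi b
  let i : Fin b → ((A ⧸ J ^ k) →ₗ[A] P) := fun j => LinearMap.single A (fun _ => A ⧸ J ^ k) j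
  let p : Fin b → (P →ₗ[A] (A ⧸ J ^ k)) := fun j => LinearMap.proj j
  have hsum : ∑ j, (i j) ∘ₗ (p j) = LinearMap.id := by
    apply LinearMap.ext
    intro x
    rw [LinearMap.sum_apply]
    simp only [LinearMap.comp_apply, LinearMap.id_apply]
    exact Finset.univ_sum_single x
  have hid : ∀ x : Ext (ModuleCat.of A P) G n,
      x = ∑ j, (Ext.mk₀ (ModuleCat.ofHom (p j))).comp
        ((Ext.mk₀ (ModuleCat.ofHom (i j))).comp x (zero_add n)) (zero_add n) := by
    intro x
    let Ψ : (ModuleCat.of A P ⟶ ModuleCat.of A P) →+ Ext (ModuleCat.of A P) G n :=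
      { toFun := fun g => (Ext.mk₀ g).comp x (zero_add n)
        map_zero' := by rw [Ext.mk₀_zero, Ext.zero_comp]
        map_add' := fun g g' => by rw [Ext.mk₀_add, Ext.add_comp] }
    have h1 : 𝟙 (ModuleCat.of A P) = ∑ j, ModuleCat.ofHom (p j) ≫ ModuleCat.ofHom (i j) := by
      apply ModuleCat.hom_ext
      rw [ModuleCat.hom_sum]
      exact hsum.symm
    have h2 := congrArg Ψ h1
    rw [map_sum] at h2
    have h3 : Ψ (𝟙 _) = x := Ext.mk₀_id_comp x
    rw [h3] at h2
    refine h2.trans (Finset.sum_congr rfl fun j _ => ?_)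
    exact (Ext.mk₀_comp_mk₀_assoc _ _ x).symm
  constructor
  · have hinj : Function.Injective (Phi G n hP) := by
      rw [injective_iff_map_eq_zero]
      intro x hx
      have hx' : phi G n hP x = 0 := hx
      have h1 : ∀ j, (Ext.mk₀ (ModuleCat.ofHom (i j))).comp x (zero_add n) = 0 := fun j => by
        apply phi_injective hV (inC_Q J k)
        rw [phi_natural' G n (inC_Q J k) hP (i j) x, hx', LinearMap.zero_comp]
      rw [hid x]
      exact Finset.sum_eq_zero fun j _ => by rw [h1 j, Ext.comp_zero]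
    exact hinj
  · intro h
    choose xs hxs using fun j => phi_Q_surjective hV k (h ∘ₗ i j)
    refine ⟨∑ j, (Ext.mk₀ (ModuleCat.ofHom (p j))).comp (xs j) (zero_add n), ?_⟩
    have h1 : phi G n hP (∑ j, (Ext.mk₀ (ModuleCat.ofHom (p j))).comp (xs j) (zero_add n)) =
        ∑ j, phi G n hP ((Ext.mk₀ (ModuleCat.ofHom (p j))).comp (xs j) (zero_add n)) :=
      map_sum (Phi G n hP) _ _
    rw [h1]
    have h2 : ∀ j, phi G n hP ((Ext.mk₀ (ModuleCat.ofHom (p j))).comp (xs j) (zero_add n)) =
        h ∘ₗ (i j ∘ₗ p j) := fun j => by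
      rw [phi_natural' G n hP (inC_Q J k) (p j) (xs j), hxs j, LinearMap.comp_assoc]
    rw [Finset.sum_congr rfl fun j _ => h2 j]
    apply LinearMap.ext
    intro y
    rw [LinearMap.sum_apply]
    simp only [LinearMap.comp_apply]
    rw [← map_sum]
    congr 1
    have h3 := congrArg (fun f => f y) hsum
    simp only [LinearMap.sum_apply, LinearMap.comp_apply, LinearMap.id_apply] at h3
    exact h3

/-- L7: `phi` is bijective -/
theorem phi_bijective (hV : Van J G n) (hF : InC J k F) : Function.Bijective (phi G n hF) := by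
  classical
  refine ⟨?_, ?_⟩
  · have hinj : Function.Injective (Phi G n hF) := by
      rw [injective_iff_map_eq_zero]
      intro x hx
      exact phi_injective hV hF x hx
    exact hinj
  · intro h
    haveI := hF.fin
    obtain ⟨b, π₀, hπ₀⟩ := Module.Finite.exists_fin' A F
    -- the induced surjection from `(A/J^k)^b`
    let P := Fin b → A ⧸ J ^ k
    have hP : InC J k P := (inC_Q J k).pi b
    let fs : Fin b → F := fun j => π₀ (Pi.single j 1)
    let v : P →ₗ[A] F := ∑ j, (θ hF (fs j)).hom ∘ₗ LinearMap.proj j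
    have hv : Function.Surjective v := by
      intro f
      obtain ⟨c, rfl⟩ := hπ₀ f
      refine ⟨fun j => Submodule.Quotient.mk (c j), ?_⟩
      show (∑ j, (θ hF (fs j)).hom ∘ₗ LinearMap.proj j) (fun j => Submodule.Quotient.mk (c j)) = _
      rw [LinearMap.sum_apply]
      have hc : c = ∑ j, c j • (Pi.single j (1 : A) : Fin b → A) := by
        conv_lhs => rw [← Finset.univ_sum_single c]
        refine Finset.sum_congr rfl fun j _ => ?_
        rw [← Pi.single_smul, smul_eq_mul, mul_one]
      conv_rhs => rw [hc, map_sum]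
      refine Finset.sum_congr rfl fun j _ => ?_
      rw [map_smul]
      rfl
    let K := LinearMap.ker v
    have hK : InC J k K := hP.submodule K
    obtain ⟨x, hx⟩ := (phi_pi_bijective hV k b).2 (h ∘ₗ v)
    have h1 : (Ext.mk₀ (ModuleCat.ofHom K.subtype)).comp x (zero_add n) = 0 := by
      apply phi_injective hV hK
      rw [phi_natural' G n hK hP K.subtype x, hx]
      apply LinearMap.ext
      intro κ
      show h (v κ) = 0
      rw [LinearMap.mem_ker.1 κ.2, map_zero]
    obtain ⟨x'', rfl⟩ := exists_of_restrict_zero K.subtype v (Submodule.injective_subtype _) hv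
      (LinearMap.exact_subtype_ker_map v) x h1
    refine ⟨x'', LinearMap.ext fun f => ?_⟩
    obtain ⟨y, rfl⟩ := hv f
    rw [← phi_natural G n hP hF v x'' y, hx]
    rfl

end main

end Groth.Agent.H12.ExtRep
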