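import Mathlib
import Groth.Agent.H82.TorBC2
import Groth.Agent.H82.TorColim
import Groth.Agent.H82.TorSymm
import Groth.Agent.H82.FiltColim
import Groth.Agent.H82.TorFlat
import Groth.Agent.S6314

/-!
# A flatness criterion: flat on the `D(f_i)`, flat modulo `I = (f_1, …, f_r)`,
and `Tor_i(M, A/I) = 0` for `1 ≤ i ≤ r + 1` imply flat.
-/

set_option linter.unusedSectionVars false
set_option linter.unusedVariables false
set_option linter.style.haveILetI false
set_option backward.isDefEq.respectTransparency false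

universe u

open CategoryTheory CategoryTheory.Limits MonoidalCategory TensorProduct

namespace Groth.Agent.H12.FlatCrit

open Groth.Agent.H82.LDer Groth.Agent.H82.TorLib Groth.Agent.H82.TorFlat

variable {A : Type u} [CommRing A] (M : Type u) [AddCommGroup M] [Module A M]

variable (A) in
/-- `Tor_j^A(M, N) = 0`. -/
def Z (j : ℕ) (N : Type u) [AddCommGroup N] [Module A N] : Prop :=
  IsZero (((Tor (ModuleCat.{u} A) j).obj (ModuleCat.of A M)).obj (ModuleCat.of A N))

theorem Z_of_equiv (j : ℕ) {N N' : Type u} [AddCommGroup N] [Module A N] [AddCommGroup N']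
    [Module A N'] (e : N ≃ₗ[A] N') (h : Z A M j N) : Z A M j N' :=
  IsZero.of_iso h (((Tor (ModuleCat.{u} A) j).obj (ModuleCat.of A M)).mapIso e.symm.toModuleIso)

theorem Z_of_subsingleton (j : ℕ) (N : Type u) [AddCommGroup N] [Module A N] [Subsingleton N] :
    Z A M j N :=
  isZero_of_hasLES (hasLES_tor (ModuleCat.of A M)) j (ModuleCat.isZero_of_subsingleton _)

section LES

variable {N₁ N₂ N₃ : Type u} [AddCommGroup N₁] [Module A N₁] [AddCommGroup N₂] [Module A N₂]
  [AddCommGroup N₃] [Module A N₃] (f : N₁ →ₗ[A] N₂) (g : N₂ →ₗ[A] N₃)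
  (hf : Function.Injective f) (hg : Function.Surjective g) (hfg : Function.Exact f g)

include hf hg hfg

theorem Z_mid (j : ℕ) (h₁ : Z A M j N₁) (h₃ : Z A M j N₃) : Z A M j N₂ :=
  isZero_tor_of_shortExact (ModuleCat.of A M) j _ (shortExact_of f g hf hg hfg) h₁ h₃

theorem Z_left (j : ℕ) (h₃ : Z A M (j+1) N₃) (h₂ : Z A M j N₂) : Z A M j N₁ := by
  obtain ⟨-, -, δ, w₁, w₂, e1, e2⟩ :=
    hasLES_tor (ModuleCat.of A M) _ (shortExact_of f g hf hg hfg) j
  exact e2.isZero_of_both_isZero h₃ h₂

theorem Z_right (j : ℕ) (h₂ : Z A M (j+1) N₂) (h₁ : Z A M j N₁) : Z A M (j+1) N₃ := by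
  obtain ⟨-, -, δ, w₁, w₂, e1, e2⟩ :=
    hasLES_tor (ModuleCat.of A M) _ (shortExact_of f g hf hg hfg) j
  exact e1.isZero_of_both_isZero h₂ h₁

theorem Z_one_right (h₂ : Z A M 1 N₂) (hinj : Function.Injective (f.lTensor M)) : Z A M 1 N₃ := by
  have hS := shortExact_of f g hf hg hfg
  obtain ⟨-, -, δ, w₁, w₂, e1, e2⟩ := hasLES_tor (ModuleCat.of A M) _ hS 0
  let e : (Tor (ModuleCat.{u} A) 0).obj (ModuleCat.of A M) ≅ tensorLeft (ModuleCat.of A M) :=
    (tensorLeft (ModuleCat.of A M)).leftDerivedZeroIsoSelf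
  let S := ModuleCat.shortComplexOfCompEqZero f g hfg.linearMap_comp_eq_zero
  haveI hw : Mono (ModuleCat.of A M ◁ S.f) := by
    rw [ModuleCat.mono_iff_injective]
    exact hinj
  have hn : ((Tor (ModuleCat.{u} A) 0).obj (ModuleCat.of A M)).map S.f ≫ e.hom.app S.X₂ =
      e.hom.app S.X₁ ≫ ModuleCat.of A M ◁ S.f := e.hom.naturality S.f
  haveI hc : Mono (((Tor (ModuleCat.{u} A) 0).obj (ModuleCat.of A M)).map S.f ≫
      e.hom.app S.X₂) := by
    rw [hn]
    haveI h1 : Mono (e.hom.app S.X₁) := IsIso.mono_of_iso _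
    exact mono_comp _ _
  haveI hm : Mono (((Tor (ModuleCat.{u} A) 0).obj (ModuleCat.of A M)).map S.f) :=
    mono_of_mono _ (e.hom.app S.X₂)
  have hδ : δ = 0 := e2.mono_g_iff.mp hm
  exact e1.isZero_X₂ (IsZero.eq_of_src h₂ _ _) hδ

end LES

theorem Z_prod (j : ℕ) (X Y : Type u) [AddCommGroup X] [Module A X] [AddCommGroup Y] [Module A Y]
    (hX : Z A M j X) (hY : Z A M j Y) : Z A M j (X × Y) :=
  Z_mid M (LinearMap.inl A X Y) (LinearMap.snd A X Y) LinearMap.inl_injective
    LinearMap.snd_surjective Function.Exact.inl_snd j hX hY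

theorem Z_pi (j : ℕ) (X : Type u) [AddCommGroup X] [Module A X] (hX : Z A M j X) :
    ∀ n : ℕ, Z A M j (Fin n → X)
  | 0 => Z_of_subsingleton M j _
  | n+1 => by
    have e : (X × (Fin n → X)) ≃ₗ[A] (Fin (n+1) → X) :=
      Fin.consLinearEquiv A (fun _ : Fin (n+1) => X)
    exact Z_of_equiv M j e (Z_prod M j X (Fin n → X) hX (Z_pi j X hX n))

/-! ### Localization -/

theorem Z_localized (g : A)
    (hfl : Module.Flat (Localization.Away g) (LocalizedModule (Submonoid.powers g) M))
    (N : Type u) [AddCommGroup N] [Module A N] (j : ℕ) (hj : 0 < j) :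
    Z A M j (LocalizedModule (Submonoid.powers g) N) := by
  haveI : Module.Flat A (Localization.Away g) :=
    IsLocalization.flat (Localization.Away g) (Submonoid.powers g)
  have hP : ∀ q : ℕ, 0 < q → Subsingleton (((Tor (ModuleCat.{u} A) q).obj
      (ModuleCat.of A M)).obj (ModuleCat.of A (Localization.Away g))) := by
    intro q hq
    obtain ⟨e⟩ := Groth.Agent.H82.TorSymm.nonempty_tor_iso_flip (A := A) q
    have h0 := Groth.Agent.S6314.result A (Localization.Away g) (ModuleCat.of A M) q hq
    exact ModuleCat.subsingleton_of_isZero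
      (IsZero.of_iso h0 ((e.app (ModuleCat.of A M)).app (ModuleCat.of A (Localization.Away g))))
  obtain ⟨φ, hφ⟩ := Groth.Agent.H82.TorBC2.exists_semilinear_bijective (A := A)
    (A' := Localization.Away g) M (LocalizedModule (Submonoid.powers g) N) hP j
  haveI := hfl
  haveI : Module.Flat (Localization.Away g) ((Localization.Away g) ⊗[A] M) :=
    Module.Flat.of_linearEquiv (IsLocalizedModule.isBaseChange (Submonoid.powers g)
      (Localization.Away g) (LocalizedModule.mkLinearMap (Submonoid.powers g) M)).equiv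
  have h1 := Groth.Agent.S6314.result (Localization.Away g) ((Localization.Away g) ⊗[A] M)
    (ModuleCat.of (Localization.Away g) (LocalizedModule (Submonoid.powers g) N)) j hj
  haveI := ModuleCat.subsingleton_of_isZero h1
  haveI : Subsingleton ↑(((Tor (ModuleCat.{u} A) j).obj (ModuleCat.of A M)).obj
      (ModuleCat.of A (LocalizedModule (Submonoid.powers g) N))) := hφ.1.subsingleton
  exact ModuleCat.isZero_of_subsingleton _

/-! ### Reduction to finitely generated submodules -/

section FG

variable (A) (N : Type u) [AddCommGroup N] [Module A N]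

/-- The directed set of finitely generated submodules. -/
abbrev FGSub : Type u := {S : Submodule A N // S.FG}

instance : IsDirected (FGSub A N) (· ≤ ·) :=
  ⟨fun a b => ⟨⟨a.1 ⊔ b.1, a.2.sup b.2⟩, (le_sup_left : a.1 ≤ a.1 ⊔ b.1),
    (le_sup_right : b.1 ≤ a.1 ⊔ b.1)⟩⟩

instance : Nonempty (FGSub A N) := ⟨⟨⊥, Submodule.fg_bot⟩⟩

/-- The diagram of finitely generated submodules. -/
noncomputable def fgFunctor : FGSub A N ⥤ ModuleCat.{u} A where
  obj S := ModuleCat.of A S.1
  map f := ModuleCat.ofHom (Submodule.inclusion (leOfHom f))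
  map_id _ := ModuleCat.hom_ext (LinearMap.ext fun x => rfl)
  map_comp _ _ := ModuleCat.hom_ext (LinearMap.ext fun x => rfl)

/-- The cocone of inclusions. -/
noncomputable def fgCocone : Cocone (fgFunctor A N) where
  pt := ModuleCat.of A N
  ι :=
    { app := fun S => ModuleCat.ofHom S.1.subtype
      naturality := fun _ _ _ => ModuleCat.hom_ext (LinearMap.ext fun x => rfl) }

variable {A} in
theorem Z_of_forall_fg (j : ℕ) (h : ∀ S : Submodule A N, S.FG → Z A M j S) : Z A M j N := by
  obtain ⟨ht⟩ := Groth.Agent.H82.FiltColim.nonempty_isColimit_of_rep (fgCocone A N)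
    (fun x => ⟨⟨Submodule.span A {x}, Submodule.fg_span_singleton x⟩,
      ⟨x, Submodule.mem_span_singleton_self x⟩, rfl⟩)
    (fun S y hy => ⟨S, 𝟙 S, by
      have : y = 0 := Subtype.ext hy
      rw [this, map_zero]⟩)
  haveI := Groth.Agent.H82.TorColim.preserves_tor (ModuleCat.of A M) j (FGSub A N)
  have hc := isColimitOfPreserves ((Tor (ModuleCat.{u} A) j).obj (ModuleCat.of A M)) ht
  obtain ⟨hs, -⟩ := Groth.Agent.H82.FiltColim.rep_of_isColimit hc
  haveI : Subsingleton ↑(((Tor (ModuleCat.{u} A) j).obj (ModuleCat.of A M)).obj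
      (ModuleCat.of A N)) := by
    refine ⟨fun x y => ?_⟩
    have hz : ∀ z : ↑(((Tor (ModuleCat.{u} A) j).obj (ModuleCat.of A M)).obj
        (ModuleCat.of A N)), z = 0 := by
      intro z
      obtain ⟨S, y, rfl⟩ := hs z
      haveI : Subsingleton ↑((fgFunctor A N ⋙
          (Tor (ModuleCat.{u} A) j).obj (ModuleCat.of A M)).obj S) :=
        ModuleCat.subsingleton_of_isZero (h S.1 S.2)
      rw [Subsingleton.elim y 0, map_zero]
    rw [hz x, hz y]
  exact ModuleCat.isZero_of_subsingleton _

end FG

/-! ### Modules over the quotient -/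

theorem torsion_of_tower (I : Ideal A) (K : Type u) [AddCommGroup K] [Module A K]
    [Module (A ⧸ I) K] [IsScalarTower A (A ⧸ I) K] : Module.IsTorsionBySet A K (I : Set A) := by
  intro x a
  have h : ((a : A) • (1 : A ⧸ I)) • x = (a : A) • x := by rw [smul_assoc, one_smul]
  rw [← h]
  have h0 : (a : A) • (1 : A ⧸ I) = 0 := by
    rw [Algebra.smul_def, mul_one]
    exact Ideal.Quotient.eq_zero_iff_mem.mpr a.2
  rw [h0, zero_smul]

theorem flatQ (I : Ideal A) (h2 : Module.Flat (A ⧸ I) ((A ⧸ I) ⊗[A] M))
    (K F : Type u) [AddCommGroup K] [Module A K] [Module (A ⧸ I) K] [IsScalarTower A (A ⧸ I) K]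
    [AddCommGroup F] [Module A F] [Module (A ⧸ I) F] [IsScalarTower A (A ⧸ I) F]
    (u : K →ₗ[A ⧸ I] F) (hu : Function.Injective u) :
    Function.Injective ((u.restrictScalars A).lTensor M) := by
  rw [LinearMap.lTensor_inj_iff_rTensor_inj]
  let eK := TensorProduct.AlgebraTensorModule.cancelBaseChange A (A ⧸ I) (A ⧸ I) K M
  let eF := TensorProduct.AlgebraTensorModule.cancelBaseChange A (A ⧸ I) (A ⧸ I) F M
  have hinj : Function.Injective (u.rTensor ((A ⧸ I) ⊗[A] M)) :=
    Module.Flat.rTensor_preserves_injective_linearMap u hu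
  have hcomm : ∀ x, eF (u.rTensor ((A ⧸ I) ⊗[A] M) x) =
      (u.restrictScalars A).rTensor M (eK x) := by
    intro x
    induction x using TensorProduct.induction_on with
    | zero => simp only [map_zero]
    | add x y hx hy => simp only [map_add, hx, hy]
    | tmul k y =>
      induction y using TensorProduct.induction_on with
      | zero => simp only [TensorProduct.tmul_zero, map_zero]
      | add y z hy hz => simp only [TensorProduct.tmul_add, map_add, hy, hz]
      | tmul b m =>
        simp only [LinearMap.rTensor_tmul, eK, eF,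
          TensorProduct.AlgebraTensorModule.cancelBaseChange_tmul, LinearMap.coe_restrictScalars,
          map_smul]
  intro z w hzw
  obtain ⟨x, rfl⟩ := eK.surjective z
  obtain ⟨y, rfl⟩ := eK.surjective w
  rw [← hcomm, ← hcomm] at hzw
  rw [hinj (eF.injective hzw)]

/-! ### Step A: modules killed by `I` -/

theorem stepA_fg (I : Ideal A) (h2 : Module.Flat (A ⧸ I) ((A ⧸ I) ⊗[A] M)) (j : ℕ)
    (hB : Z A M (j+1) (A ⧸ I))
    (hprev : j = 0 ∨ ∀ (K : Type u) [AddCommGroup K] [Module A K],
      Module.IsTorsionBySet A K (I : Set A) → Z A M j K)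
    (N : Type u) [AddCommGroup N] [Module A N] [Module.Finite A N]
    (hN : Module.IsTorsionBySet A N (I : Set A)) : Z A M (j+1) N := by
  letI : Module (A ⧸ I) N := hN.module
  haveI : IsScalarTower A (A ⧸ I) N := hN.isScalarTower
  haveI : Module.Finite (A ⧸ I) N := Module.Finite.of_restrictScalars_finite A (A ⧸ I) N
  obtain ⟨n, π, hπ⟩ := Module.Finite.exists_fin' (A ⧸ I) N
  let K : Submodule (A ⧸ I) (Fin n → A ⧸ I) := LinearMap.ker π
  have hex : Function.Exact (K.subtype.restrictScalars A) (π.restrictScalars A) :=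
    LinearMap.exact_subtype_ker_map π
  have hF : Z A M (j+1) (Fin n → A ⧸ I) := Z_pi M (j+1) (A ⧸ I) hB n
  rcases hprev with rfl | hprev
  · exact Z_one_right M (K.subtype.restrictScalars A) (π.restrictScalars A) K.injective_subtype
      hπ hex hF (flatQ M I h2 K (Fin n → A ⧸ I) K.subtype K.injective_subtype)
  · exact Z_right M (K.subtype.restrictScalars A) (π.restrictScalars A) K.injective_subtype
      hπ hex j hF (hprev K (torsion_of_tower I K))

theorem stepA (I : Ideal A) (h2 : Module.Flat (A ⧸ I) ((A ⧸ I) ⊗[A] M)) (r : ℕ)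
    (h3 : ∀ i : ℕ, 1 ≤ i → i ≤ r + 1 → Z A M i (A ⧸ I)) :
    ∀ j : ℕ, j ≤ r → ∀ (N : Type u) [AddCommGroup N] [Module A N],
      Module.IsTorsionBySet A N (I : Set A) → Z A M (j+1) N := by
  intro j
  induction j with
  | zero =>
    intro hj N _ _ hN
    apply Z_of_forall_fg
    intro S hS
    haveI : Module.Finite A S := Module.Finite.iff_fg.mpr hS
    refine stepA_fg M I h2 0 (h3 1 le_rfl (by omega)) (Or.inl rfl) S (fun x a => ?_)
    apply Subtype.ext
    show (a : A) • (x : N) = 0
    exact @hN x.1 a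
  | succ j ih =>
    intro hj N _ _ hN
    apply Z_of_forall_fg
    intro S hS
    haveI : Module.Finite A S := Module.Finite.iff_fg.mpr hS
    refine stepA_fg M I h2 (j+1) (h3 (j+2) (by omega) (by omega))
      (Or.inr (fun K _ _ hK => ih (by omega) K hK)) S (fun x a => ?_)
    apply Subtype.ext
    show (a : A) • (x : N) = 0
    exact @hN x.1 a

/-! ### Step B: modules killed by a power of `I`, and `I`-power torsion modules -/

theorem stepB (I : Ideal A) (j : ℕ)
    (hA : ∀ (N : Type u) [AddCommGroup N] [Module A N],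
      Module.IsTorsionBySet A N (I : Set A) → Z A M j N) :
    ∀ (n : ℕ) (N : Type u) [AddCommGroup N] [Module A N],
      Module.IsTorsionBySet A N ((I ^ n : Ideal A) : Set A) → Z A M j N := by
  intro n
  induction n with
  | zero =>
    intro N _ _ hN
    haveI : Subsingleton N := ⟨fun x y => by
      have h1 : ∀ z : N, z = 0 := fun z => by
        have := @hN z ⟨1, by simp⟩
        simpa using this
      rw [h1 x, h1 y]⟩
    exact Z_of_subsingleton M j N
  | succ n ih =>
    intro N _ _ hN
    let N' : Submodule A N := I • (⊤ : Submodule A N)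
    have h1 : Module.IsTorsionBySet A N' ((I ^ n : Ideal A) : Set A) := by
      intro x a
      apply Subtype.ext
      show (a : A) • (x : N) = 0
      refine Submodule.smul_induction_on x.2 ?_ ?_
      · intro c hc m _
        rw [← mul_smul]
        exact @hN m ⟨a * c, by
          show (a : A) * c ∈ I ^ (n+1)
          rw [pow_succ]
          exact Ideal.mul_mem_mul a.2 hc⟩
      · intro y z hy hz
        rw [smul_add, hy, hz, add_zero]
    have h2 : Module.IsTorsionBySet A (N ⧸ N') (I : Set A) := by
      rw [Module.isTorsionBySet_quotient_iff]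
      intro x c hc
      exact Submodule.smul_mem_smul hc Submodule.mem_top
    exact Z_mid M N'.subtype N'.mkQ N'.injective_subtype N'.mkQ_surjective
      (LinearMap.exact_subtype_mkQ N') j (ih N' h1) (hA _ h2)

theorem stepB' (I : Ideal A) (j : ℕ)
    (hA : ∀ (N : Type u) [AddCommGroup N] [Module A N],
      Module.IsTorsionBySet A N (I : Set A) → Z A M j N)
    (N : Type u) [AddCommGroup N] [Module A N]
    (hN : ∀ x : N, ∃ n : ℕ, ∀ a ∈ I ^ n, a • x = 0) : Z A M j N := by
  apply Z_of_forall_fg
  intro S hS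
  obtain ⟨s, rfl⟩ := hS
  choose e he using hN
  apply stepB M I j hA (s.sup e)
  intro x a
  apply Subtype.ext
  obtain ⟨x, hx⟩ := x
  show (a : A) • x = 0
  induction hx using Submodule.span_induction with
  | mem y hy =>
    exact he y a (Ideal.pow_le_pow_right (Finset.le_sup (f := e) (Finset.mem_coe.mp hy)) a.2)
  | zero => exact smul_zero _
  | add y z _ _ hy hz => rw [smul_add, hy, hz, add_zero]
  | smul c y _ hy => rw [smul_comm, hy, smul_zero]

/-! ### Step C: induction on the number of inverted generators -/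

/-- Every element is killed by a power of `f i`, for each of the first `k` indices `i`. -/
def Tors {r : ℕ} (f : Fin r → A) (k : ℕ) (N : Type u) [AddCommGroup N] [Module A N] : Prop :=
  ∀ i : Fin r, i.val < k → ∀ x : N, ∃ n : ℕ, f i ^ n • x = 0

theorem powTors_of_tors {r : ℕ} (f : Fin r → A) (N : Type u) [AddCommGroup N] [Module A N]
    (hN : Tors f r N) (x : N) :
    ∃ n : ℕ, ∀ a ∈ (Ideal.span (Set.range f)) ^ n, a • x = 0 := by
  let J : Ideal A := LinearMap.ker (LinearMap.toSpanSingleton A N x)
  have hJ : Ideal.span (Set.range f) ≤ J.radical := by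
    rw [Ideal.span_le]
    rintro _ ⟨i, rfl⟩
    obtain ⟨n, hn⟩ := hN i i.2 x
    exact Ideal.mem_radical_iff.mpr ⟨n, by
      show f i ^ n ∈ LinearMap.ker (LinearMap.toSpanSingleton A N x)
      rw [LinearMap.mem_ker, LinearMap.toSpanSingleton_apply]
      exact hn⟩
  obtain ⟨n, hn⟩ := Ideal.exists_pow_le_of_le_radical_of_fg hJ
    (Submodule.fg_span (Set.finite_range f))
  refine ⟨n, fun a ha => ?_⟩
  have := hn ha
  rw [LinearMap.mem_ker, LinearMap.toSpanSingleton_apply] at this
  exact this

theorem claim {r : ℕ} (f : Fin r → A)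
    (h1 : ∀ i, Module.Flat (Localization.Away (f i))
      (LocalizedModule (Submonoid.powers (f i)) M))
    (hbase : ∀ (N : Type u) [AddCommGroup N] [Module A N], Tors f r N →
      ∀ j, 1 ≤ j → j ≤ r + 1 → Z A M j N) :
    ∀ d k : ℕ, k + d = r → ∀ (N : Type u) [AddCommGroup N] [Module A N], Tors f k N →
      ∀ j, 1 ≤ j → j ≤ k + 1 → Z A M j N := by
  intro d
  induction d with
  | zero =>
    intro k hk N _ _ hN j hj1 hj2
    obtain rfl : k = r := by omega
    exact hbase N hN j hj1 hj2
  | succ d ih =>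
    intro k hk N _ _ hN j hj1 hj2
    have hkr : k < r := by omega
    let i₀ : Fin r := ⟨k, hkr⟩
    let μ : N →ₗ[A] LocalizedModule (Submonoid.powers (f i₀)) N :=
      LocalizedModule.mkLinearMap (Submonoid.powers (f i₀)) N
    let K : Submodule A N := LinearMap.ker μ
    let R : Submodule A (LocalizedModule (Submonoid.powers (f i₀)) N) := LinearMap.range μ
    -- torsion of the kernel
    have hK : Tors f (k+1) K := by
      intro i hi x
      by_cases hik : i.val < k
      · obtain ⟨n, hn⟩ := hN i hik x.1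
        exact ⟨n, Subtype.ext hn⟩
      · have hi0 : i = i₀ := Fin.ext (by simp only [i₀]; omega)
        subst hi0
        have hx : μ x.1 = 0 := x.2
        obtain ⟨s, hs⟩ := (IsLocalizedModule.eq_zero_iff (Submonoid.powers (f i₀)) μ).mp hx
        obtain ⟨n, hn⟩ := (Submonoid.mem_powers_iff _ _).mp s.2
        refine ⟨n, Subtype.ext ?_⟩
        show f i₀ ^ n • (x : N) = 0
        rw [hn]
        exact hs
    -- torsion of the localization for the earlier indices
    have hL : ∀ i : Fin r, i.val < k → ∀ y : LocalizedModule (Submonoid.powers (f i₀)) N,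
        ∃ n : ℕ, f i ^ n • y = 0 := by
      intro i hi y
      induction y using LocalizedModule.induction_on with
      | h x s =>
        obtain ⟨n, hn⟩ := hN i hi x
        exact ⟨n, by rw [LocalizedModule.smul'_mk, hn, LocalizedModule.zero_mk]⟩
    -- torsion of the cokernel
    have hC : Tors f (k+1) (LocalizedModule (Submonoid.powers (f i₀)) N ⧸ R) := by
      intro i hi q
      obtain ⟨y, rfl⟩ := Submodule.Quotient.mk_surjective R q
      by_cases hik : i.val < k
      · obtain ⟨n, hn⟩ := hL i hik y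
        exact ⟨n, by rw [← Submodule.Quotient.mk_smul, hn, Submodule.Quotient.mk_zero]⟩
      · have hi0 : i = i₀ := Fin.ext (by simp only [i₀]; omega)
        subst hi0
        induction y using LocalizedModule.induction_on with
        | h x s =>
          obtain ⟨n, hn⟩ := (Submonoid.mem_powers_iff _ _).mp s.2
          refine ⟨n, ?_⟩
          rw [← Submodule.Quotient.mk_smul, Submodule.Quotient.mk_eq_zero]
          refine ⟨x, ?_⟩
          show LocalizedModule.mkLinearMap (Submonoid.powers (f i₀)) N x = _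
          rw [LocalizedModule.mkLinearMap_apply, LocalizedModule.smul'_mk, hn,
            ← Submonoid.smul_def, LocalizedModule.mk_cancel]
    have hZL : ∀ j', 0 < j' → Z A M j' (LocalizedModule (Submonoid.powers (f i₀)) N) :=
      fun j' hj' => Z_localized M (f i₀) (h1 i₀) N j' hj'
    have hZC : Z A M (j+1) (LocalizedModule (Submonoid.powers (f i₀)) N ⧸ R) :=
      ih (k+1) (by omega) _ hC (j+1) (by omega) (by omega)
    have hZR : Z A M j R :=
      Z_left M R.subtype R.mkQ R.injective_subtype R.mkQ_surjective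
        (LinearMap.exact_subtype_mkQ R) j hZC (hZL j hj1)
    have hZK : Z A M j K := ih (k+1) (by omega) K hK j hj1 (by omega)
    have hex : Function.Exact K.subtype μ.rangeRestrict := fun y =>
      ⟨fun h => (LinearMap.exact_subtype_ker_map μ y).mp (congrArg Subtype.val h),
        fun h => Subtype.ext ((LinearMap.exact_subtype_ker_map μ y).mpr h)⟩
    exact Z_mid M K.subtype μ.rangeRestrict K.injective_subtype μ.surjective_rangeRestrict hex j
      hZK hZR

/-- The flatness criterion. -/
theorem flat_crit {r : ℕ} (f : Fin r → A)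
    (h1 : ∀ i, Module.Flat (Localization.Away (f i))
      (LocalizedModule (Submonoid.powers (f i)) M))
    (h2 : Module.Flat (A ⧸ Ideal.span (Set.range f)) ((A ⧸ Ideal.span (Set.range f)) ⊗[A] M))
    (h3 : ∀ i : ℕ, 1 ≤ i → i ≤ r + 1 →
      IsZero (((Tor (ModuleCat.{u} A) i).obj (ModuleCat.of A M)).obj
        (ModuleCat.of A (A ⧸ Ideal.span (Set.range f))))) :
    Module.Flat A M := by
  have hA := stepA M (Ideal.span (Set.range f)) h2 r h3
  have hbase : ∀ (N : Type u) [AddCommGroup N] [Module A N], Tors f r N →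
      ∀ j, 1 ≤ j → j ≤ r + 1 → Z A M j N := by
    intro N _ _ hN j hj1 hj2
    obtain ⟨j', rfl⟩ : ∃ j', j = j' + 1 := ⟨j - 1, by omega⟩
    exact stepB' M (Ideal.span (Set.range f)) (j'+1)
      (fun N' _ _ hN' => hA j' (by omega) N' hN') N (powTors_of_tors f N hN)
  have hall : ∀ (N : Type u) [AddCommGroup N] [Module A N], Z A M 1 N := fun N _ _ =>
    claim M f h1 hbase r 0 (by omega) N (fun i hi => absurd hi (Nat.not_lt_zero _)) 1 le_rfl
      (by omega)
  exact flat_of_tor_one_quotient M (fun J _ => hall (A ⧸ J))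

end Groth.Agent.H12.FlatCrit
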