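import Groth.Prelude.Def_ega3
import Groth.Agent.H81.ModHomology
import Mathlib.RingTheory.Flat.Basic
import Mathlib.LinearAlgebra.TensorProduct.RightExactness
import Mathlib.Algebra.Homology.ShortComplex.ModuleCat

/-!
# Element-level API for the functors `T_p(M) = H_p(P ⊗ M)` (EGA III §7)
-/

set_option autoImplicit false
universe u
open CategoryTheory MonoidalCategory TensorProduct

namespace Groth.Agent.H12.FlatCx

variable {A : Type u} [CommRing A] {ι : Type} {c : ComplexShape ι}
variable (P : HomologicalComplex (ModuleCat.{u} A) c)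

/-- `d ⊗ M : P_i ⊗ M → P_j ⊗ M`. -/
noncomputable abbrev dT (M : Type u) [AddCommGroup M] [Module A M] (i j : ι) :
    P.X i ⊗[A] M →ₗ[A] P.X j ⊗[A] M := (P.d i j).hom.rTensor M

theorem tensorObj_d_hom (M : ModuleCat.{u} A) (i j : ι) :
    ((CohIII.tensorObj P M).d i j).hom = dT P M i j := rfl

theorem tensorMap_f_hom {M N : ModuleCat.{u} A} (g : M ⟶ N) (i : ι) :
    ((CohIII.tensorMap P g).f i).hom = g.hom.lTensor (P.X i) := rfl

theorem d_d_apply (i j k : ι) (x : P.X i) : (P.d j k).hom ((P.d i j).hom x) = 0 :=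
  Groth.Agent.H81.d_comp_d_apply P i j k x

theorem dT_dT_apply (M : Type u) [AddCommGroup M] [Module A M] (i j k : ι) (x : P.X i ⊗[A] M) :
    dT P M j k (dT P M i j x) = 0 := by
  have h : (P.d j k).hom ∘ₗ (P.d i j).hom = 0 := by
    ext y; exact d_d_apply P i j k y
  have : dT P M j k ∘ₗ dT P M i j = 0 := by
    rw [← LinearMap.rTensor_comp, h, LinearMap.rTensor_zero]
  exact LinearMap.congr_fun this x

theorem lTensor_dT {M N : Type u} [AddCommGroup M] [Module A M] [AddCommGroup N] [Module A N]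
    (g : M →ₗ[A] N) (i j : ι) (x : P.X i ⊗[A] M) :
    g.lTensor (P.X j) (dT P M i j x) = dT P N i j (g.lTensor (P.X i) x) := by
  rw [← LinearMap.comp_apply, ← LinearMap.comp_apply, LinearMap.lTensor_comp_rTensor,
    LinearMap.rTensor_comp_lTensor]

/-- Elementwise form of "`T_j` preserves monomorphisms". -/
def MonoAt (i j k : ι) : Prop :=
  ∀ (M N : Type u) [AddCommGroup M] [Module A M] [AddCommGroup N] [Module A N] (g : M →ₗ[A] N),
    Function.Injective g → ∀ x : P.X j ⊗[A] M, dT P M j k x = 0 →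
      (∃ y : P.X i ⊗[A] N, g.lTensor (P.X j) x = dT P N i j y) →
        ∃ x₁ : P.X i ⊗[A] M, x = dT P M i j x₁

/-- Elementwise form of "`T_j` preserves epimorphisms". -/
def EpiAt (i j k : ι) : Prop :=
  ∀ (M N : Type u) [AddCommGroup M] [Module A M] [AddCommGroup N] [Module A N] (g : M →ₗ[A] N),
    Function.Surjective g → ∀ y : P.X j ⊗[A] N, dT P N j k y = 0 →
      ∃ x : P.X j ⊗[A] M, dT P M j k x = 0 ∧
        ∃ y₁ : P.X i ⊗[A] N, y = g.lTensor (P.X j) x + dT P N i j y₁

theorem preservesMono_iff (i j k : ι) (hi : c.prev j = i) (hk : c.next j = k) :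
    (CohIII.TFun P j).PreservesMonomorphisms ↔ MonoAt P i j k := by
  constructor
  · intro h M N _ _ _ _ g hg x hx hy
    have hm : Mono (ModuleCat.ofHom g) := (ModuleCat.mono_iff_injective _).mpr hg
    have h2 : Mono (HomologicalComplex.homologyMap (CohIII.tensorMap P (ModuleCat.ofHom g)) j) :=
      h.preserves (ModuleCat.ofHom g)
    rw [Groth.Agent.H81.mono_homologyMap_iff_elem _ i j k hi hk] at h2
    exact h2 x hx hy
  · intro h
    constructor
    intro M N g hg
    show Mono (HomologicalComplex.homologyMap (CohIII.tensorMap P g) j)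
    rw [Groth.Agent.H81.mono_homologyMap_iff_elem _ i j k hi hk]
    intro x hx hy
    exact h M N g.hom ((ModuleCat.mono_iff_injective _).mp hg) x hx hy

theorem preservesEpi_iff (i j k : ι) (hi : c.prev j = i) (hk : c.next j = k) :
    (CohIII.TFun P j).PreservesEpimorphisms ↔ EpiAt P i j k := by
  constructor
  · intro h M N _ _ _ _ g hg y hy
    have hm : Epi (ModuleCat.ofHom g) := (ModuleCat.epi_iff_surjective _).mpr hg
    have h2 : Epi (HomologicalComplex.homologyMap (CohIII.tensorMap P (ModuleCat.ofHom g)) j) :=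
      h.preserves (ModuleCat.ofHom g)
    rw [Groth.Agent.H81.epi_homologyMap_iff_elem _ i j k hi hk] at h2
    exact h2 y hy
  · intro h
    constructor
    intro M N g hg
    show Epi (HomologicalComplex.homologyMap (CohIII.tensorMap P g) j)
    rw [Groth.Agent.H81.epi_homologyMap_iff_elem _ i j k hi hk]
    intro y hy
    exact h M N g.hom ((ModuleCat.epi_iff_surjective _).mp hg) y hy

/-- The concrete cokernel of `d : P_i → P_j`. -/
abbrev Wq (i j : ι) : Type u := P.X j ⧸ LinearMap.range (P.d i j).hom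

theorem exact_dT_mkQ (M : Type u) [AddCommGroup M] [Module A M] (i j : ι) :
    Function.Exact (dT P M i j) ((LinearMap.range (P.d i j).hom).mkQ.rTensor M) :=
  rTensor_exact M (LinearMap.exact_map_mkQ_range (P.d i j).hom) (Submodule.mkQ_surjective _)

theorem monoAt_of_flat (i j k : ι) (h : Module.Flat A (Wq P i j)) : MonoAt P i j k := by
  intro M N _ _ _ _ g hg x _ ⟨y, hy⟩
  have h1 : (LinearMap.range (P.d i j).hom).mkQ.rTensor N (g.lTensor _ x) = 0 := by
    rw [hy]; exact (exact_dT_mkQ P N i j _).mpr ⟨y, rfl⟩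
  have h2 : g.lTensor (Wq P i j) ((LinearMap.range (P.d i j).hom).mkQ.rTensor M x) = 0 := by
    rw [← h1, ← LinearMap.comp_apply, ← LinearMap.comp_apply, LinearMap.lTensor_comp_rTensor,
      LinearMap.rTensor_comp_lTensor]
  have h3 : (LinearMap.range (P.d i j).hom).mkQ.rTensor M x = 0 :=
    (Module.Flat.lTensor_preserves_injective_linearMap g hg) (by rw [h2, map_zero])
  obtain ⟨x₁, hx₁⟩ := (exact_dT_mkQ P M i j x).mp h3
  exact ⟨x₁, hx₁.symm⟩

theorem flat_of_monoAt (i j k : ι) (hk : Module.Flat A (P.X k)) (h : MonoAt P i j k) :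
    Module.Flat A (Wq P i j) := by
  rw [Module.Flat.iff_lTensor_preserves_injective_linearMap'.{u, u, u}]
  intro M N _ _ _ _ g hg
  rw [injective_iff_map_eq_zero]
  intro w hw
  obtain ⟨x, rfl⟩ := LinearMap.rTensor_surjective M (Submodule.mkQ_surjective _) w
  have h1 : (LinearMap.range (P.d i j).hom).mkQ.rTensor N (g.lTensor _ x) = 0 := by
    rw [← hw, ← LinearMap.comp_apply, ← LinearMap.comp_apply, LinearMap.lTensor_comp_rTensor,
      LinearMap.rTensor_comp_lTensor]
  obtain ⟨y, hy⟩ := (exact_dT_mkQ P N i j _).mp h1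
  have h2 : dT P M j k x = 0 := by
    apply Module.Flat.lTensor_preserves_injective_linearMap (M := P.X k) g hg
    rw [map_zero, lTensor_dT, ← hy, dT_dT_apply]
  obtain ⟨x₁, rfl⟩ := h M N g hg x h2 ⟨y, hy.symm⟩
  exact (exact_dT_mkQ P M i j _).mpr ⟨x₁, rfl⟩

theorem monoAt_iff_flat (i j k : ι) (hk : Module.Flat A (P.X k)) :
    MonoAt P i j k ↔ Module.Flat A (Wq P i j) :=
  ⟨flat_of_monoAt P i j k hk, monoAt_of_flat P i j k⟩

theorem monoAt_of_epiAt (i j k l : ι) (hk : Module.Flat A (P.X k)) (h : EpiAt P i j k) :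
    MonoAt P j k l := by
  intro M' M _ _ _ _ g hg x _ ⟨y, hy⟩
  have hq_surj : Function.Surjective (LinearMap.range g).mkQ := Submodule.mkQ_surjective _
  have hex : Function.Exact g (LinearMap.range g).mkQ := LinearMap.exact_map_mkQ_range g
  have hexT := fun (L : Type u) [AddCommGroup L] [Module A L] => lTensor_exact L hex hq_surj
  have hcy : dT P (M ⧸ LinearMap.range g) j k ((LinearMap.range g).mkQ.lTensor _ y) = 0 := by
    rw [← lTensor_dT, ← hy]; exact (hexT _ _).mpr ⟨x, rfl⟩
  obtain ⟨x', hx', y₁, hy₁⟩ := h M _ (LinearMap.range g).mkQ hq_surj _ hcy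
  obtain ⟨y₁', rfl⟩ := LinearMap.lTensor_surjective (P.X i) hq_surj y₁
  have h0 : (LinearMap.range g).mkQ.lTensor (P.X j) (y - x' - dT P M i j y₁') = 0 := by
    rw [map_sub, map_sub, hy₁, lTensor_dT]; abel
  obtain ⟨z, hz⟩ := (hexT _ _).mp h0
  refine ⟨z, ?_⟩
  apply Module.Flat.lTensor_preserves_injective_linearMap (M := P.X k) g hg
  rw [hy, lTensor_dT, hz, map_sub, map_sub, hx', dT_dT_apply]; simp

theorem epiAt_of_monoAt (i j k l : ι) (hl : Module.Flat A (P.X l)) (h : MonoAt P j k l) :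
    EpiAt P i j k := by
  intro M N _ _ _ _ q hq_surj y hy
  have hg : Function.Injective (LinearMap.ker q).subtype := Subtype.val_injective
  have hex : Function.Exact (LinearMap.ker q).subtype q := LinearMap.exact_subtype_ker_map q
  have hexT := fun (L : Type u) [AddCommGroup L] [Module A L] => lTensor_exact L hex hq_surj
  obtain ⟨y', rfl⟩ := LinearMap.lTensor_surjective (P.X j) hq_surj y
  have h0 : q.lTensor (P.X k) (dT P M j k y') = 0 := by rw [lTensor_dT, hy]
  obtain ⟨x, hx⟩ := (hexT (P.X k) _).mp h0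
  have hdx : dT P _ k l x = 0 := by
    apply Module.Flat.lTensor_preserves_injective_linearMap (M := P.X l) _ hg
    rw [lTensor_dT, hx, dT_dT_apply, map_zero]
  obtain ⟨x₁, hx₁⟩ := h _ M _ hg x hdx ⟨y', hx⟩
  refine ⟨y' - (LinearMap.ker q).subtype.lTensor _ x₁, ?_, 0, ?_⟩
  · rw [map_sub, ← lTensor_dT, ← hx₁, hx, sub_self]
  · have := (hexT (P.X j) ((LinearMap.ker q).subtype.lTensor _ x₁)).mpr ⟨x₁, rfl⟩
    rw [map_sub, map_zero, add_zero, this, sub_zero]

theorem epiAt_iff_monoAt (i j k l : ι) (hk : Module.Flat A (P.X k)) (hl : Module.Flat A (P.X l)) :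
    EpiAt P i j k ↔ MonoAt P j k l :=
  ⟨monoAt_of_epiAt P i j k l hk, epiAt_of_monoAt P i j k l hl⟩

/-- `T_j(M) = 0` in elementwise terms. -/
theorem isZero_T_iff (i j k : ι) (hi : c.prev j = i) (hk : c.next j = k) (M : ModuleCat.{u} A) :
    Limits.IsZero ((CohIII.TFun P j).obj M) ↔
      ∀ x : P.X j ⊗[A] M, dT P M j k x = 0 → ∃ y : P.X i ⊗[A] M, dT P M i j y = x := by
  show Limits.IsZero ((CohIII.tensorObj P M).homology j) ↔ _
  rw [← HomologicalComplex.exactAt_iff_isZero_homology,
    HomologicalComplex.exactAt_iff' _ i j k hi hk, ShortComplex.moduleCat_exact_iff]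
  rfl

/-- The opcycles are the concrete cokernel. -/
noncomputable def opcyclesEquiv (i j : ι) (hi : c.prev j = i) :
    (P.opcycles j) ≃ₗ[A] Wq P i j := by
  subst hi
  exact (P.sc j).moduleCatOpcyclesIso.toLinearEquiv

end Groth.Agent.H12.FlatCx
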