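import Groth.Agent.H12.FlatCxEW3
import Groth.Agent.H12.FlatCxLES
import Mathlib.RingTheory.Length
import Mathlib.RingTheory.Flat.Tensor
import Mathlib.RingTheory.HopkinsLevitzki
import Mathlib.RingTheory.SimpleModule.Basic

/-!
# Flat complexes over Artinian local rings (EGA III 7.5.1–7.5.3)
-/

set_option autoImplicit false
universe u
open CategoryTheory MonoidalCategory TensorProduct

namespace Groth.Agent.H12.FlatCx

section Criterion

variable {A : Type u} [CommRing A] {X : Type u} [AddCommGroup X] [Module A X] (K : Submodule A X)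

theorem tensor_subsingleton_left (M N : Type u) [AddCommGroup M] [Module A M] [AddCommGroup N]
    [Module A N] [Subsingleton M] : Subsingleton (M ⊗[A] N) := by
  refine ⟨fun x y => ?_⟩
  have h : ∀ z : M ⊗[A] N, z = 0 := fun z => by
    induction z using TensorProduct.induction_on with
    | zero => rfl
    | tmul m n => rw [Subsingleton.elim m 0, TensorProduct.zero_tmul]
    | add a b ha hb => rw [ha, hb, add_zero]
  rw [h x, h y]

theorem tensor_subsingleton_right (M N : Type u) [AddCommGroup M] [Module A M] [AddCommGroup N]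
    [Module A N] [Subsingleton N] : Subsingleton (M ⊗[A] N) := by
  refine ⟨fun x y => ?_⟩
  have h : ∀ z : M ⊗[A] N, z = 0 := fun z => by
    induction z using TensorProduct.induction_on with
    | zero => rfl
    | tmul m n => rw [Subsingleton.elim n 0, TensorProduct.tmul_zero]
    | add a b ha hb => rw [ha, hb, add_zero]
  rw [h x, h y]

/-- `M ⊗ K → M ⊗ X` is injective. -/
def InjL (M : Type u) [AddCommGroup M] [Module A M] : Prop :=
  Function.Injective (K.subtype.lTensor M)

theorem injL_of_subsingleton (M : Type u) [AddCommGroup M] [Module A M] [Subsingleton M] :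
    InjL K M := by
  haveI := tensor_subsingleton_left (A := A) M K
  exact fun x y _ => Subsingleton.elim x y

theorem injL_of_equiv {M M' : Type u} [AddCommGroup M] [Module A M] [AddCommGroup M']
    [Module A M'] (e : M ≃ₗ[A] M') (h : InjL K M) : InjL K M' := by
  unfold InjL at h ⊢
  rw [injective_iff_map_eq_zero] at h ⊢
  intro x hx
  have h1 : K.subtype.lTensor M (e.symm.toLinearMap.rTensor K x) = 0 := by
    rw [← LinearMap.comp_apply, LinearMap.lTensor_comp_rTensor, ← LinearMap.rTensor_comp_lTensor,
      LinearMap.comp_apply, hx, map_zero]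
  have h2 := h _ h1
  have h3 := congrArg (e.toLinearMap.rTensor K) h2
  rw [← LinearMap.comp_apply, ← LinearMap.rTensor_comp, map_zero] at h3
  have : e.toLinearMap ∘ₗ e.symm.toLinearMap = LinearMap.id := by
    ext m; simp
  rwa [this, LinearMap.rTensor_id, LinearMap.id_apply] at h3

theorem injL_of_exact [Module.Flat A X] {M' M M'' : Type u} [AddCommGroup M'] [Module A M']
    [AddCommGroup M] [Module A M] [AddCommGroup M''] [Module A M'']
    (a : M' →ₗ[A] M) (b : M →ₗ[A] M'') (ha : Function.Injective a) (hb : Function.Surjective b)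
    (hab : Function.Exact a b) (h' : InjL K M') (h'' : InjL K M'') : InjL K M := by
  unfold InjL at h' h'' ⊢
  rw [injective_iff_map_eq_zero]
  intro x hx
  have h1 : K.subtype.lTensor M'' (b.rTensor K x) = 0 := by
    rw [← LinearMap.comp_apply, LinearMap.lTensor_comp_rTensor, ← LinearMap.rTensor_comp_lTensor,
      LinearMap.comp_apply, hx, map_zero]
  have h2 : b.rTensor K x = 0 := h'' (by rw [h1, map_zero])
  obtain ⟨x', rfl⟩ := (rTensor_exact K hab hb x).mp h2
  have h3 : a.rTensor X (K.subtype.lTensor M' x') = 0 := by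
    rw [← LinearMap.comp_apply, LinearMap.rTensor_comp_lTensor, ← LinearMap.lTensor_comp_rTensor,
      LinearMap.comp_apply, hx]
  have h4 : K.subtype.lTensor M' x' = 0 :=
    (Module.Flat.rTensor_preserves_injective_linearMap (M := X) a ha) (by rw [h3, map_zero])
  have h5 : x' = 0 := h' (by rw [h4, map_zero])
  rw [h5, map_zero]

theorem injL_of_isFiniteLength [IsLocalRing A] [Module.Flat A X]
    (hκ : InjL K (IsLocalRing.ResidueField A)) (M : Type u) [AddCommGroup M] [Module A M]
    (hM : IsFiniteLength A M) : InjL K M := by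
  induction hM with
  | of_subsingleton => exact injL_of_subsingleton K _
  | @of_simple_quotient M _ _ N hs _ ih =>
    obtain ⟨I, hI, ⟨e⟩⟩ := isSimpleModule_iff_quot_maximal.mp hs
    have hI' : I = IsLocalRing.maximalIdeal A := IsLocalRing.eq_maximalIdeal hI
    subst hI'
    have h'' : InjL K (M ⧸ N) := injL_of_equiv K e.symm hκ
    exact injL_of_exact K N.subtype N.mkQ N.injective_subtype (Submodule.mkQ_surjective N)
      (LinearMap.exact_subtype_mkQ N) ih h''

theorem flat_quotient_of_injL [Module.Flat A X] (h : ∀ I : Ideal A, InjL K (A ⧸ I)) :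
    Module.Flat A (X ⧸ K) := by
  rw [Module.Flat.iff_rTensor_injective']
  intro I
  rw [injective_iff_map_eq_zero]
  intro x hx
  obtain ⟨x', rfl⟩ := LinearMap.lTensor_surjective I (Submodule.mkQ_surjective K) x
  have h1 : K.mkQ.lTensor A (I.subtype.rTensor X x') = 0 := by
    rw [← LinearMap.comp_apply, LinearMap.lTensor_comp_rTensor, ← LinearMap.rTensor_comp_lTensor,
      LinearMap.comp_apply]
    exact hx
  obtain ⟨y, hy⟩ :=
    (lTensor_exact A (LinearMap.exact_subtype_mkQ K) (Submodule.mkQ_surjective K) _).mp h1
  have h2 : K.subtype.lTensor (A ⧸ I) (I.mkQ.rTensor K y) = 0 := by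
    rw [← LinearMap.comp_apply, LinearMap.lTensor_comp_rTensor, ← LinearMap.rTensor_comp_lTensor,
      LinearMap.comp_apply, hy, ← LinearMap.comp_apply, ← LinearMap.rTensor_comp]
    have : I.mkQ ∘ₗ I.subtype = 0 := by
      ext a
      exact (Submodule.Quotient.mk_eq_zero I).mpr a.2
    rw [this, LinearMap.rTensor_zero, LinearMap.zero_apply]
  have h3 : I.mkQ.rTensor K y = 0 := h I (by rw [h2, map_zero])
  obtain ⟨y', rfl⟩ :=
    (rTensor_exact K (LinearMap.exact_subtype_mkQ I) (Submodule.mkQ_surjective I) y).mp h3
  have h4 : I.subtype.rTensor X (K.subtype.lTensor I y') = I.subtype.rTensor X x' := by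
    rw [← hy, ← LinearMap.comp_apply, LinearMap.rTensor_comp_lTensor,
      ← LinearMap.lTensor_comp_rTensor, LinearMap.comp_apply]
  have h5 : K.subtype.lTensor I y' = x' :=
    (Module.Flat.rTensor_preserves_injective_linearMap (M := X) I.subtype I.injective_subtype) h4
  rw [← h5, ← LinearMap.comp_apply, ← LinearMap.lTensor_comp]
  have : K.mkQ ∘ₗ K.subtype = 0 := by
    ext a
    exact (Submodule.Quotient.mk_eq_zero K).mpr a.2
  rw [this, LinearMap.lTensor_zero, LinearMap.zero_apply]

/-- Over an Artinian local ring: `X` flat and `κ ⊗ K → κ ⊗ X` injective implies `X / K` flat. -/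
theorem flat_quotient_of_artinian [IsLocalRing A] [IsArtinianRing A] [Module.Flat A X]
    (hκ : InjL K (IsLocalRing.ResidueField A)) : Module.Flat A (X ⧸ K) :=
  flat_quotient_of_injL K (fun I => injL_of_isFiniteLength K hκ _
    (isFiniteLength_iff_isNoetherian_isArtinian.mpr ⟨inferInstance, inferInstance⟩))

end Criterion

section Length

variable {A : Type u} [CommRing A] {X Y Z : Type u} [AddCommGroup X] [Module A X]
  [AddCommGroup Y] [Module A Y] [AddCommGroup Z] [Module A Z]

theorem length_le_of_exact (u : X →ₗ[A] Y) (v : Y →ₗ[A] Z) (h : Function.Exact u v) :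
    Module.length A Y ≤ Module.length A X + Module.length A Z := by
  have h1 := Module.length_eq_add_of_exact (LinearMap.ker v).subtype v.rangeRestrict
    (Submodule.injective_subtype _) v.surjective_rangeRestrict (exact_ker_rangeRestrict v)
  have h2 : Module.length A (LinearMap.ker v) ≤ Module.length A X :=
    Module.length_le_of_surjective (u.codRestrict (LinearMap.ker v)
      (fun x => h.apply_apply_eq_zero x)) (by
        rintro ⟨y, hy⟩
        obtain ⟨x, hx⟩ := (h y).mp hy
        exact ⟨x, Subtype.ext hx⟩)
  have h3 : Module.length A (LinearMap.range v) ≤ Module.length A Z :=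
    Module.length_le_of_injective (LinearMap.range v).subtype (Submodule.injective_subtype _)
  rw [h1]
  exact add_le_add h2 h3

theorem enat_aux (a b c e : ℕ∞) (h1 : a + b ≠ ⊤) (h2 : c + e ≠ ⊤)
    (hle : a + b + (c + e) ≤ b + c) : a = 0 ∧ e = 0 := by
  have ha' : a ≠ ⊤ := fun hh => h1 (by rw [hh, top_add])
  have hb' : b ≠ ⊤ := fun hh => h1 (by rw [hh, add_top])
  have hc' : c ≠ ⊤ := fun hh => h2 (by rw [hh, top_add])
  have he' : e ≠ ⊤ := fun hh => h2 (by rw [hh, add_top])
  lift a to ℕ using ha'
  lift b to ℕ using hb'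
  lift c to ℕ using hc'
  lift e to ℕ using he'
  norm_cast at hle ⊢
  omega

theorem inj_surj_of_length_le (u : X →ₗ[A] Y) (v : Y →ₗ[A] Z) (h : Function.Exact u v)
    (hX : Module.length A X ≠ ⊤) (hZ : Module.length A Z ≠ ⊤)
    (hle : Module.length A X + Module.length A Z ≤ Module.length A Y) :
    Function.Injective u ∧ Function.Surjective v := by
  have h1 := Module.length_eq_add_of_exact (LinearMap.ker v).subtype v.rangeRestrict
    (Submodule.injective_subtype _) v.surjective_rangeRestrict (exact_ker_rangeRestrict v)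
  have hsurj : Function.Surjective (u.codRestrict (LinearMap.ker v)
      (fun x => h.apply_apply_eq_zero x)) := by
    rintro ⟨y, hy⟩
    obtain ⟨x, hx⟩ := (h y).mp hy
    exact ⟨x, Subtype.ext hx⟩
  have h2 := Module.length_eq_add_of_exact (LinearMap.ker (u.codRestrict (LinearMap.ker v)
      (fun x => h.apply_apply_eq_zero x))).subtype _ (Submodule.injective_subtype _) hsurj
      (LinearMap.exact_subtype_ker_map _)
  have h3 := Module.length_eq_add_of_exact (LinearMap.range v).subtype (LinearMap.range v).mkQ
    (Submodule.injective_subtype _) (Submodule.mkQ_surjective _)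
    (LinearMap.exact_subtype_mkQ _)
  rw [h2] at hX hle
  rw [h3] at hZ hle
  rw [h1] at hle
  obtain ⟨ha0, he0⟩ := enat_aux _ _ _ _ hX hZ hle
  constructor
  · have : Subsingleton (LinearMap.ker (u.codRestrict (LinearMap.ker v)
        (fun x => h.apply_apply_eq_zero x))) := by
      rw [← Module.length_eq_zero_iff (R := A), ha0]
    rw [injective_iff_map_eq_zero]
    intro x hx
    have hx' : x ∈ LinearMap.ker (u.codRestrict (LinearMap.ker v)
        (fun x => h.apply_apply_eq_zero x)) := by
      rw [LinearMap.mem_ker]
      exact Subtype.ext hx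
    have := Subsingleton.elim (⟨x, hx'⟩ : LinearMap.ker (u.codRestrict (LinearMap.ker v)
        (fun x => h.apply_apply_eq_zero x))) 0
    exact congrArg Subtype.val this
  · have : Subsingleton (Z ⧸ LinearMap.range v) := by
      rw [← Module.length_eq_zero_iff (R := A), he0]
    rw [← LinearMap.range_eq_top]
    exact Submodule.Quotient.subsingleton_iff.mp this

end Length

end Groth.Agent.H12.FlatCx
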