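import Groth.Agent.H12.FlatCxArt

/-!
# Flat complexes over Artinian local rings, II: the criteria (EGA III 7.5.1–7.5.3)
-/

set_option autoImplicit false
universe u
open CategoryTheory MonoidalCategory TensorProduct

namespace Groth.Agent.H12.FlatCx

section SurjAt

variable {A : Type u} [CommRing A] [IsLocalRing A] {ι : Type} {c : ComplexShape ι}
variable (P : HomologicalComplex (ModuleCat.{u} A) c)

local notation "κ" => IsLocalRing.ResidueField A

theorem injL_range_of_surjAt (i j k : ι) (h : SurjAt P i j k) :
    InjL (LinearMap.range (P.d j k).hom) κ := by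
  have hres : Function.Surjective (algebraMap A κ) := fun x => IsLocalRing.residue_surjective x
  unfold InjL
  rw [LinearMap.lTensor_inj_iff_rTensor_inj, injective_iff_map_eq_zero]
  intro t ht
  obtain ⟨b, rfl⟩ := exists_tmul_one hres _ t
  obtain ⟨x, hx⟩ := b.2
  have ht' : (b : P.X k) ⊗ₜ[A] (1 : κ) = 0 := by simpa using ht
  have hcy : dT P κ j k (x ⊗ₜ 1) = 0 := by
    rw [LinearMap.rTensor_tmul, hx]; exact ht'
  obtain ⟨x', hx', y₁, hy₁⟩ := h _ hcy
  obtain ⟨x'', rfl⟩ : ∃ x'' : P.X j, x' = x'' ⊗ₜ[A] (1 : A) :=
    ⟨TensorProduct.rid A _ x', by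
      rw [← TensorProduct.rid_symm_apply, LinearEquiv.symm_apply_apply]⟩
  obtain ⟨y'', rfl⟩ := exists_tmul_one hres _ y₁
  have hdx'' : (P.d j k).hom x'' = 0 := by
    have := congrArg (TensorProduct.rid A _) hx'
    simpa using this
  have hmem : x - x'' - (P.d i j).hom y'' ∈
      IsLocalRing.maximalIdeal A • (⊤ : Submodule A (P.X j)) := by
    rw [← tmul_one_eq_zero_iff, TensorProduct.sub_tmul, TensorProduct.sub_tmul, hy₁]
    simp [LinearMap.lTensor_tmul, LinearMap.rTensor_tmul]
  have hb : b = (P.d j k).hom.rangeRestrict (x - x'' - (P.d i j).hom y'') := by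
    apply Subtype.ext
    simp [hx, hdx'', d_d_apply]
  rw [tmul_one_eq_zero_iff, hb]
  have := Submodule.mem_map_of_mem (f := (P.d j k).hom.rangeRestrict) hmem
  rw [Submodule.map_smul''] at this
  exact Submodule.smul_mono le_rfl le_top this

end SurjAt

section ChainZ

variable {A : Type u} [CommRing A] [IsLocalRing A] [IsArtinianRing A]
variable (P : ChainComplex (ModuleCat.{u} A) ℤ)

local notation "κ" => IsLocalRing.ResidueField A

/-- `T_q(M)` for an unbundled module. -/
abbrev TT (q : ℤ) (M : Type u) [AddCommGroup M] [Module A M] : Type u :=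
  (CohIII.TFun P q).obj (ModuleCat.of A M)

omit [IsLocalRing A] [IsArtinianRing A] in
theorem length_TT_congr (q : ℤ) {M M' : Type u} [AddCommGroup M] [Module A M] [AddCommGroup M']
    [Module A M'] (e : M ≃ₗ[A] M') : Module.length A (TT P q M) = Module.length A (TT P q M') :=
  (((CohIII.TFun P q).mapIso e.toModuleIso).toLinearEquiv).length_eq

omit [IsLocalRing A] [IsArtinianRing A] in
theorem subsingleton_TT (q : ℤ) (M : Type u) [AddCommGroup M] [Module A M] [Subsingleton M] :
    Subsingleton (TT P q M) := by
  have e := TEquiv P (q + 1) q (q - 1) (ChainComplex.prev ℤ q) (ChainComplex.next ℤ q)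
    (ModuleCat.of A M)
  haveI : Subsingleton (P.X q ⊗[A] (ModuleCat.of A M)) :=
    tensor_subsingleton_right (A := A) (P.X q) M
  haveI : Subsingleton (Hm (dT P (ModuleCat.of A M) (q + 1) q) (dT P (ModuleCat.of A M) q (q - 1))
      (dT_dT_apply P (ModuleCat.of A M) (q + 1) q (q - 1))) :=
    (Submodule.mkQ_surjective _).subsingleton
  exact e.toEquiv.subsingleton

variable (hP : ∀ i, Module.Flat A (P.X i))
include hP

theorem preservesEpi_iff_surj (q : ℤ) :
    (CohIII.TFun P q).PreservesEpimorphisms ↔
      Function.Surjective ((CohIII.TFun P q).map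
        (ModuleCat.ofHom (Algebra.linearMap A κ))).hom := by
  rw [surjAt_iff P (q + 1) q (q - 1) (ChainComplex.prev ℤ q) (ChainComplex.next ℤ q)]
  constructor
  · intro h
    exact surjAt_of_epiAt P _ _ _
      ((preservesEpi_iff P (q + 1) q (q - 1) (ChainComplex.prev ℤ q) (ChainComplex.next ℤ q)).mp h)
  · intro h
    rw [preservesEpi_iff_flatW P hP, flatW_sub_one_iff]
    haveI := hP (q - 1)
    exact flat_quotient_of_artinian _ (injL_range_of_surjAt P _ _ _ h)

omit [IsLocalRing A] [IsArtinianRing A] in
theorem length_TT_le_add (q : ℤ) {M' M M'' : Type u} [AddCommGroup M'] [Module A M']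
    [AddCommGroup M] [Module A M] [AddCommGroup M''] [Module A M'']
    (a : M' →ₗ[A] M) (b : M →ₗ[A] M'') (ha : Function.Injective a) (hb : Function.Surjective b)
    (hab : Function.Exact a b) :
    Module.length A (TT P q M) ≤ Module.length A (TT P q M') + Module.length A (TT P q M'') :=
  length_le_of_exact _ _ (T_exact₂ P hP (ModuleCat.ofHom a) (ModuleCat.ofHom b) ha hb hab q)

theorem length_TT_le (q : ℤ) (M : Type u) [AddCommGroup M] [Module A M]
    (hM : IsFiniteLength A M) :
    Module.length A (TT P q M) ≤ Module.length A (TT P q κ) * Module.length A M := by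
  induction hM with
  | @of_subsingleton M _ _ _ =>
    haveI := subsingleton_TT P q M
    rw [Module.length_eq_zero (M := TT P q M)]
    exact bot_le
  | @of_simple_quotient M _ _ N hs _ ih =>
    obtain ⟨I, hI, ⟨e⟩⟩ := isSimpleModule_iff_quot_maximal.mp hs
    have hI' : I = IsLocalRing.maximalIdeal A := IsLocalRing.eq_maximalIdeal hI
    subst hI'
    have h1 := length_TT_le_add P hP q N.subtype N.mkQ N.injective_subtype
      (Submodule.mkQ_surjective N) (LinearMap.exact_subtype_mkQ N)
    have h2 : Module.length A (TT P q (M ⧸ N)) = Module.length A (TT P q κ) :=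
      length_TT_congr P q e
    have h3 : Module.length A M = Module.length A N + 1 := by
      rw [Module.length_eq_add_of_exact N.subtype N.mkQ N.injective_subtype
        (Submodule.mkQ_surjective N) (LinearMap.exact_subtype_mkQ N),
        Module.length_eq_one A (M ⧸ N)]
    rw [h3, mul_add, mul_one]
    refine h1.trans ?_
    rw [h2]
    exact add_le_add ih le_rfl

theorem length_TT_eq (q : ℤ) (hm : (CohIII.TFun P q).PreservesMonomorphisms)
    (he : (CohIII.TFun P q).PreservesEpimorphisms) (M : Type u) [AddCommGroup M] [Module A M]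
    (hM : IsFiniteLength A M) :
    Module.length A (TT P q M) = Module.length A (TT P q κ) * Module.length A M := by
  induction hM with
  | @of_subsingleton M _ _ _ =>
    haveI := subsingleton_TT P q M
    rw [Module.length_eq_zero (M := TT P q M), Module.length_eq_zero (M := M), mul_zero]
  | @of_simple_quotient M _ _ N hs _ ih =>
    obtain ⟨I, hI, ⟨e⟩⟩ := isSimpleModule_iff_quot_maximal.mp hs
    have hI' : I = IsLocalRing.maximalIdeal A := IsLocalRing.eq_maximalIdeal hI
    subst hI'
    have hinj : Function.Injective ((CohIII.TFun P q).map (ModuleCat.ofHom N.subtype)).hom := by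
      haveI : Mono (ModuleCat.ofHom N.subtype) :=
        (ModuleCat.mono_iff_injective _).mpr N.injective_subtype
      exact (ModuleCat.mono_iff_injective _).mp (hm.preserves _)
    have hsurj : Function.Surjective ((CohIII.TFun P q).map (ModuleCat.ofHom N.mkQ)).hom := by
      haveI : Epi (ModuleCat.ofHom N.mkQ) :=
        (ModuleCat.epi_iff_surjective _).mpr (Submodule.mkQ_surjective N)
      exact (ModuleCat.epi_iff_surjective _).mp (he.preserves _)
    have h1 := Module.length_eq_add_of_exact _ _ hinj hsurj
      (T_exact₂ P hP (ModuleCat.ofHom N.subtype) (ModuleCat.ofHom N.mkQ) N.injective_subtype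
        (Submodule.mkQ_surjective N) (LinearMap.exact_subtype_mkQ N) q)
    have h2 : Module.length A (TT P q (M ⧸ N)) = Module.length A (TT P q κ) :=
      length_TT_congr P q e
    have h3 : Module.length A M = Module.length A N + 1 := by
      rw [Module.length_eq_add_of_exact N.subtype N.mkQ N.injective_subtype
        (Submodule.mkQ_surjective N) (LinearMap.exact_subtype_mkQ N),
        Module.length_eq_one A (M ⧸ N)]
    rw [h3, mul_add, mul_one, ← ih, ← h2]
    exact h1

theorem exact_of_length_eq (q : ℤ) (hd : Module.length A (TT P q κ) ≠ ⊤)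
    (hA : Module.length A (TT P q A) = Module.length A (TT P q κ) * Module.length A A) :
    (CohIII.TFun P q).PreservesMonomorphisms ∧ (CohIII.TFun P q).PreservesEpimorphisms := by
  have ha : Function.Injective (IsLocalRing.maximalIdeal A).subtype :=
    (IsLocalRing.maximalIdeal A).injective_subtype
  have hb : Function.Surjective (Algebra.linearMap A κ) := IsLocalRing.residue_surjective
  have hab : Function.Exact (IsLocalRing.maximalIdeal A).subtype (Algebra.linearMap A κ) := by
    intro x
    constructor
    · intro hx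
      exact ⟨⟨x, (IsLocalRing.residue_eq_zero_iff x).mp hx⟩, rfl⟩
    · rintro ⟨y, rfl⟩
      exact (IsLocalRing.residue_eq_zero_iff _).mpr y.2
  have hflm : IsFiniteLength A (IsLocalRing.maximalIdeal A) :=
    isFiniteLength_iff_isNoetherian_isArtinian.mpr ⟨inferInstance, inferInstance⟩
  have hκsimple : IsSimpleModule A κ :=
    isSimpleModule_iff_quot_maximal.mpr
      ⟨IsLocalRing.maximalIdeal A, inferInstance, ⟨LinearEquiv.refl A _⟩⟩
  have hlenA : Module.length A A = Module.length A (IsLocalRing.maximalIdeal A) + 1 := by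
    rw [Module.length_eq_add_of_exact _ _ ha hb hab, Module.length_eq_one A κ]
  have hlem := length_TT_le P hP q (IsLocalRing.maximalIdeal A) hflm
  have hX : Module.length A (TT P q (IsLocalRing.maximalIdeal A)) ≠ ⊤ :=
    ne_top_of_le_ne_top (WithTop.mul_ne_top hd Module.length_ne_top) hlem
  have hex := T_exact₂ P hP (ModuleCat.ofHom (IsLocalRing.maximalIdeal A).subtype)
    (ModuleCat.ofHom (Algebra.linearMap A κ)) ha hb hab q
  have hle : Module.length A (TT P q (IsLocalRing.maximalIdeal A)) + Module.length A (TT P q κ) ≤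
      Module.length A (TT P q A) := by
    rw [hA, hlenA, mul_add, mul_one]
    exact add_le_add hlem le_rfl
  obtain ⟨hinj, hsurj⟩ := inj_surj_of_length_le _ _ hex hX hd hle
  have hepi : (CohIII.TFun P q).PreservesEpimorphisms := (preservesEpi_iff_surj P hP q).mpr hsurj
  refine ⟨?_, hepi⟩
  rw [preservesMono_iff_flatW P hP q]
  have hrel : (ComplexShape.down ℤ).Rel (q + 1) q := ComplexShape.down_mk _ _ rfl
  have e3 := T_exact₃ P hP (ModuleCat.ofHom (IsLocalRing.maximalIdeal A).subtype)
    (ModuleCat.ofHom (Algebra.linearMap A κ)) ha hb hab (q + 1) q hrel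
  have e1 := T_exact₁ P hP (ModuleCat.ofHom (IsLocalRing.maximalIdeal A).subtype)
    (ModuleCat.ofHom (Algebra.linearMap A κ)) ha hb hab (q + 1) q hrel
  have hs1 : Function.Surjective ((CohIII.TFun P (q + 1)).map
      (ModuleCat.ofHom (Algebra.linearMap A κ))).hom := by
    intro z
    refine (e3 z).mp (hinj ?_)
    rw [map_zero]
    exact e1.apply_apply_eq_zero z
  have hW : FlatW P (q + 1 - 1) :=
    (preservesEpi_iff_flatW P hP (q + 1)).mp ((preservesEpi_iff_surj P hP (q + 1)).mpr hs1)
  rwa [add_sub_cancel_right] at hW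

end ChainZ

end Groth.Agent.H12.FlatCx
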