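import Groth.Agent.H12.FlatCxRank
import Mathlib.RingTheory.Flat.FaithfullyFlat.Basic
import Mathlib.RingTheory.Flat.Stability

/-!
# Base change of the functors `T_p`
-/

set_option autoImplicit false
universe u
open CategoryTheory MonoidalCategory TensorProduct

namespace Groth.Agent.H12.FlatCx

variable {A : Type u} [CommRing A] (B : Type u) [CommRing B] [Algebra A B]

/-- Faithfully flat descent of flatness of modules. -/
theorem flat_of_flat_baseChange [Module.FaithfullyFlat A B] (W : Type u) [AddCommGroup W]
    [Module A W] (h : Module.Flat B (B ⊗[A] W)) : Module.Flat A W := by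
  rw [Module.Flat.iff_lTensor_preserves_injective_linearMap'.{u, u, u}]
  intro M N _ _ _ _ g hg
  rw [← Module.FaithfullyFlat.lTensor_injective_iff_injective A B]
  have h1 : Function.Injective (g.baseChange B) :=
    Module.Flat.lTensor_preserves_injective_linearMap (M := B) g hg
  have h2 : Function.Injective ((g.baseChange B).lTensor (B ⊗[A] W)) :=
    Module.Flat.lTensor_preserves_injective_linearMap _ h1
  have hnat : ∀ t, TensorProduct.AlgebraTensorModule.distribBaseChange A B W N
      ((g.lTensor W).lTensor B t) =
      (g.baseChange B).lTensor (B ⊗[A] W)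
        (TensorProduct.AlgebraTensorModule.distribBaseChange A B W M t) := by
    intro t
    induction t using TensorProduct.induction_on with
    | zero => simp
    | tmul b t =>
      induction t using TensorProduct.induction_on with
      | zero => simp
      | tmul w m => simp
      | add x y hx hy => simp only [TensorProduct.tmul_add, map_add, hx, hy]
    | add x y hx hy => simp only [map_add, hx, hy]
  intro a b hab
  apply (TensorProduct.AlgebraTensorModule.distribBaseChange A B W M).injective
  apply h2
  rw [← hnat, ← hnat, hab]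

variable {ι : Type} {c : ComplexShape ι} (P : HomologicalComplex (ModuleCat.{u} A) c)

/-- The cokernels of the base-changed complex. -/
noncomputable def WqBcEquiv (i j : ι) :
    Wq (CohIII.bcCx (algebraMap A B) P) i j ≃ₗ[B] B ⊗[A] Wq P i j :=
  (cokerExtendEquiv B (P.d i j)).trans (extendScalarsEquiv B _)

theorem flat_bcCx_X (k : ι) (h : Module.Flat A (P.X k)) :
    Module.Flat B ((CohIII.bcCx (algebraMap A B) P).X k) :=
  Module.Flat.of_linearEquiv (extendScalarsEquiv B (P.X k))

theorem flat_Wq_bcCx (i j : ι) (h : Module.Flat A (Wq P i j)) :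
    Module.Flat B (Wq (CohIII.bcCx (algebraMap A B) P) i j) :=
  Module.Flat.of_linearEquiv (WqBcEquiv B P i j)

theorem flat_Wq_of_bcCx [Module.FaithfullyFlat A B] (i j : ι)
    (h : Module.Flat B (Wq (CohIII.bcCx (algebraMap A B) P) i j)) : Module.Flat A (Wq P i j) :=
  flat_of_flat_baseChange B _ (Module.Flat.of_linearEquiv (WqBcEquiv B P i j).symm)

theorem monoAt_bcCx (i j k : ι) (hk : Module.Flat A (P.X k)) (h : MonoAt P i j k) :
    MonoAt (CohIII.bcCx (algebraMap A B) P) i j k :=
  monoAt_of_flat _ i j k (flat_Wq_bcCx B P i j (flat_of_monoAt P i j k hk h))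

theorem monoAt_of_bcCx [Module.FaithfullyFlat A B] (i j k : ι) (hk : Module.Flat A (P.X k))
    (h : MonoAt (CohIII.bcCx (algebraMap A B) P) i j k) : MonoAt P i j k :=
  monoAt_of_flat _ i j k (flat_Wq_of_bcCx B P i j
    (flat_of_monoAt _ i j k (flat_bcCx_X B P k hk) h))

theorem epiAt_bcCx (i j k l : ι) (hk : Module.Flat A (P.X k)) (hl : Module.Flat A (P.X l))
    (h : EpiAt P i j k) : EpiAt (CohIII.bcCx (algebraMap A B) P) i j k :=
  epiAt_of_monoAt _ i j k l (flat_bcCx_X B P l hl)
    (monoAt_bcCx B P j k l hl (monoAt_of_epiAt P i j k l hk h))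

theorem epiAt_of_bcCx [Module.FaithfullyFlat A B] (i j k l : ι) (hk : Module.Flat A (P.X k))
    (hl : Module.Flat A (P.X l)) (h : EpiAt (CohIII.bcCx (algebraMap A B) P) i j k) :
    EpiAt P i j k :=
  epiAt_of_monoAt _ i j k l hl
    (monoAt_of_bcCx B P j k l hl (monoAt_of_epiAt _ i j k l (flat_bcCx_X B P k hk) h))

end Groth.Agent.H12.FlatCx
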