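import Groth.Agent.H12.FlatCxRank
import Mathlib.Algebra.Homology.ShortComplex.PreservesHomology
import Mathlib.CategoryTheory.Abelian.Exact
import Mathlib.Algebra.Homology.Additive
import Mathlib.RingTheory.LocalRing.ResidueField.Ideal

/-!
# Base change of `d_p(x)`
-/

set_option autoImplicit false
universe u
open CategoryTheory MonoidalCategory TensorProduct

namespace Groth.Agent.H12.FlatCx

variable {R S T : Type u} [CommRing R] [CommRing S] [CommRing T]
variable {ι : Type} {c : ComplexShape ι}

instance (f : R →+* S) : (ModuleCat.extendScalars.{u, u, u} f).PreservesZeroMorphisms where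
  map_zero X Y := by
    apply ModuleCat.hom_ext
    apply LinearMap.ext
    intro t
    show (0 : X ⟶ Y).hom.lTensor _ t = 0
    rw [ModuleCat.hom_zero, LinearMap.lTensor_zero, LinearMap.zero_apply]

/-- Composition of base changes. -/
noncomputable def bcCxComp (f : R →+* S) (g : S →+* T)
    (P : HomologicalComplex (ModuleCat.{u} R) c) :
    CohIII.bcCx g (CohIII.bcCx f P) ≅ CohIII.bcCx (g.comp f) P :=
  ((NatIso.mapHomologicalComplex (ModuleCat.extendScalarsComp f g) c).app P).symm

/-- Base change along equal ring maps. -/
noncomputable def bcCxCongr {f f' : R →+* S} (h : f = f')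
    (P : HomologicalComplex (ModuleCat.{u} R) c) : CohIII.bcCx f P ≅ CohIII.bcCx f' P := by
  subst h
  exact Iso.refl _

end Groth.Agent.H12.FlatCx

namespace Groth.Agent.H12.FlatCx

variable {ι : Type} {c : ComplexShape ι}

theorem preservesHomology_extendScalars (K K' : Type u) [Field K] [CommRing K'] [Algebra K K'] :
    (ModuleCat.extendScalars.{u, u, u} (algebraMap K K')).PreservesHomology := by
  apply Functor.preservesHomology_of_map_exact
  intro S hS
  rw [ShortComplex.ShortExact.moduleCat_exact_iff_function_exact] at hS ⊢
  exact Module.Flat.lTensor_exact (B' (A := K) K') hS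

theorem dRank_bcCx {A A' : Type u} [CommRing A] [CommRing A'] [Algebra A A']
    (P : HomologicalComplex (ModuleCat.{u} A) c) (p : ι) (x' : PrimeSpectrum A') :
    CohIII.dRank (CohIII.bcCx (algebraMap A A') P) p x' =
      CohIII.dRank P p (PrimeSpectrum.comap (algebraMap A A') x') := by
  set x := PrimeSpectrum.comap (algebraMap A A') x' with hx
  letI : Algebra x.asIdeal.ResidueField x'.asIdeal.ResidueField :=
    (Ideal.ResidueField.map x.asIdeal x'.asIdeal (algebraMap A A') rfl).toAlgebra
  have hcomp : (algebraMap A' x'.asIdeal.ResidueField).comp (algebraMap A A') =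
      (algebraMap x.asIdeal.ResidueField x'.asIdeal.ResidueField).comp
        (algebraMap A x.asIdeal.ResidueField) := by
    ext a
    simp only [RingHom.comp_apply, RingHom.algebraMap_toAlgebra]
    exact (Ideal.ResidueField.map_algebraMap x.asIdeal x'.asIdeal (algebraMap A A') rfl a).symm
  let e : CohIII.bcCx (algebraMap A' x'.asIdeal.ResidueField) (CohIII.bcCx (algebraMap A A') P) ≅
      CohIII.bcCx (algebraMap x.asIdeal.ResidueField x'.asIdeal.ResidueField)
        (CohIII.bcCx (algebraMap A x.asIdeal.ResidueField) P) :=
    bcCxComp _ _ P ≪≫ bcCxCongr hcomp P ≪≫ (bcCxComp _ _ P).symm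
  have eH := ((HomologicalComplex.homologyFunctor _ c p).mapIso e).toLinearEquiv
  have := preservesHomology_extendScalars x.asIdeal.ResidueField x'.asIdeal.ResidueField
  have e2 := (((CohIII.bcCx (algebraMap A x.asIdeal.ResidueField) P).sc p).mapHomologyIso
    (ModuleCat.extendScalars.{u, u, u}
      (algebraMap x.asIdeal.ResidueField x'.asIdeal.ResidueField))).toLinearEquiv
  unfold CohIII.dRank
  refine (LinearEquiv.finrank_eq eH).trans ?_
  refine (LinearEquiv.finrank_eq e2).trans ?_
  refine (LinearEquiv.finrank_eq (extendScalarsEquiv x'.asIdeal.ResidueField _)).trans ?_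
  exact Module.finrank_baseChange

end Groth.Agent.H12.FlatCx
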