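import Groth.Agent.H12.FlatCxEW3
import Mathlib.RingTheory.Flat.TorsionFree

/-!
# Flat complexes over Dedekind domains (EGA III 7.3.? / 7.8)
-/

set_option autoImplicit false
universe u
open CategoryTheory MonoidalCategory TensorProduct

namespace Groth.Agent.H12.FlatCx

theorem flat_submodule_of_dedekind {A : Type u} [CommRing A] [IsDedekindDomain A] {X : Type u}
    [AddCommGroup X] [Module A X] [Module.Flat A X] (K : Submodule A X) : Module.Flat A K := by
  haveI : Module.IsTorsionFree A X := inferInstance
  haveI : Module.IsTorsionFree A K := inferInstance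
  infer_instance

section Complex

variable {A : Type u} [CommRing A] {ι : Type} {c : ComplexShape ι}
variable (P : HomologicalComplex (ModuleCat.{u} A) c)

/-- Mathlib's homology of `P` is the concrete one. -/
noncomputable def homologyEquivHP (i j k : ι) (hi : c.prev j = i) (hk : c.next j = k) :
    (P.homology j) ≃ₗ[A] HP P i j k := by
  subst hi hk
  exact (P.sc j).moduleCatHomologyIso.toLinearEquiv

end Complex

section ChainZ

variable {A : Type u} [CommRing A] (P : ChainComplex (ModuleCat.{u} A) ℤ)

theorem flatW_iff_flat_HZ_of_range (q : ℤ)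
    (hr : Module.Flat A (LinearMap.range (P.d q (q - 1)).hom)) :
    FlatW P q ↔ Module.Flat A (HZ P q) := by
  constructor
  · intro hq
    exact flat_ker_of_exact_of_flat (alpha _ _ (d_d_apply P (q + 1) q (q - 1)))
      (beta _ _ (d_d_apply P (q + 1) q (q - 1))) (alpha_injective _ _ _) (beta_surjective _ _ _)
      (exact_alpha_beta _ _ _) hq hr
  · intro hH
    exact flat_of_exact_of_flat (alpha _ _ (d_d_apply P (q + 1) q (q - 1)))
      (beta _ _ (d_d_apply P (q + 1) q (q - 1))) (alpha_injective _ _ _) (beta_surjective _ _ _)
      (exact_alpha_beta _ _ _) hH hr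

/-- Mathlib's `H_q(P)` is the concrete one. -/
noncomputable def homologyEquivHZ (q : ℤ) : (P.homology q) ≃ₗ[A] HZ P q :=
  homologyEquivHP P (q + 1) q (q - 1) (ChainComplex.prev ℤ q) (ChainComplex.next ℤ q)

end ChainZ

end Groth.Agent.H12.FlatCx
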