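import Groth.Agent.H12.FlatCxEW3
import Groth.Agent.H12.FlatCxBC2

/-!
# Base change of the homology of a flat complex (EGA III 7.3–7.4, fibre version)
-/

set_option autoImplicit false
universe u
open CategoryTheory MonoidalCategory TensorProduct

namespace Groth.Agent.H12.FlatCx

section BC

variable {A : Type u} [CommRing A] (B : Type u) [CommRing B] [Algebra A B]
variable {X₁ X₂ X₃ : ModuleCat.{u} A} (f : X₁ ⟶ X₂) (g : X₂ ⟶ X₃)
  (hfg : ∀ x, g.hom (f.hom x) = 0)

include hfg in
theorem E_zero (t : (ModuleCat.extendScalars (algebraMap A B)).obj X₁) :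
    ((ModuleCat.extendScalars (algebraMap A B)).map g).hom
      (((ModuleCat.extendScalars (algebraMap A B)).map f).hom t) = 0 := by
  rw [extendScalars_map_apply, extendScalars_map_apply, ← LinearMap.comp_apply,
    ← LinearMap.lTensor_comp, show g.hom ∘ₗ f.hom = 0 from LinearMap.ext hfg,
    LinearMap.lTensor_zero, LinearMap.zero_apply]
  rfl

/-- `B ⊗ ker g → H(B ⊗ X)`, `B`-linear. -/
noncomputable def sB :
    (ModuleCat.extendScalars (algebraMap A B)).obj (ModuleCat.of A (LinearMap.ker g.hom)) →ₗ[B]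
      Hm ((ModuleCat.extendScalars (algebraMap A B)).map f).hom
        ((ModuleCat.extendScalars (algebraMap A B)).map g).hom (E_zero B f g hfg) :=
  (Submodule.mkQ _) ∘ₗ
    (((ModuleCat.extendScalars (algebraMap A B)).map
      (ModuleCat.ofHom (LinearMap.ker g.hom).subtype)).hom.codRestrict
        (LinearMap.ker ((ModuleCat.extendScalars (algebraMap A B)).map g).hom) (fun ζ => by
      show ((ModuleCat.extendScalars (algebraMap A B)).map g).hom
        (((ModuleCat.extendScalars (algebraMap A B)).map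
          (ModuleCat.ofHom (LinearMap.ker g.hom).subtype)).hom ζ) = 0
      exact E_zero B (ModuleCat.ofHom (LinearMap.ker g.hom).subtype) g (fun z => z.2) ζ))

theorem sB_apply
    (ζ : (ModuleCat.extendScalars (algebraMap A B)).obj (ModuleCat.of A (LinearMap.ker g.hom))) :
    ((sB B f g hfg ζ : Hm ((ModuleCat.extendScalars (algebraMap A B)).map f).hom
        ((ModuleCat.extendScalars (algebraMap A B)).map g).hom (E_zero B f g hfg))) =
      Submodule.Quotient.mk ⟨(LinearMap.ker g.hom).subtype.lTensor (B' (A := A) B) ζ,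
        E_zero B (ModuleCat.ofHom (LinearMap.ker g.hom).subtype) g (fun z => z.2) ζ⟩ := rfl

/-- `X₁ → ker g`. -/
noncomputable abbrev toKer : X₁ ⟶ ModuleCat.of A (LinearMap.ker g.hom) :=
  ModuleCat.ofHom (f.hom.codRestrict (LinearMap.ker g.hom) hfg)

/-- `sB` descended to the quotient by the image of `B ⊗ X₁`. -/
noncomputable def bcLift :
    ((ModuleCat.extendScalars (algebraMap A B)).obj (ModuleCat.of A (LinearMap.ker g.hom)) ⧸
      LinearMap.range ((ModuleCat.extendScalars (algebraMap A B)).map (toKer f g hfg)).hom) →ₗ[B]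
      Hm ((ModuleCat.extendScalars (algebraMap A B)).map f).hom
        ((ModuleCat.extendScalars (algebraMap A B)).map g).hom (E_zero B f g hfg) :=
  Submodule.liftQ _ (sB B f g hfg) (by
    rintro _ ⟨x, rfl⟩
    rw [LinearMap.mem_ker, sB_apply, Submodule.Quotient.mk_eq_zero]
    refine ⟨x, Subtype.ext ?_⟩
    show f.hom.lTensor (B' (A := A) B) x = (LinearMap.ker g.hom).subtype.lTensor (B' (A := A) B)
      ((f.hom.codRestrict (LinearMap.ker g.hom) hfg).lTensor (B' (A := A) B) x)
    rw [← LinearMap.comp_apply, ← LinearMap.lTensor_comp]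
    rfl)

/-- The comparison `B ⊗ H(X) → H(B ⊗ X)`, `B`-linear. -/
noncomputable def bcComp :
    (ModuleCat.extendScalars (algebraMap A B)).obj (ModuleCat.of A (Hm f.hom g.hom hfg)) →ₗ[B]
      Hm ((ModuleCat.extendScalars (algebraMap A B)).map f).hom
        ((ModuleCat.extendScalars (algebraMap A B)).map g).hom (E_zero B f g hfg) :=
  bcLift B f g hfg ∘ₗ (cokerExtendEquiv B (toKer f g hfg)).symm.toLinearMap

theorem bcComp_map
    (ζ : (ModuleCat.extendScalars (algebraMap A B)).obj (ModuleCat.of A (LinearMap.ker g.hom))) :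
    bcComp B f g hfg (((ModuleCat.extendScalars (algebraMap A B)).map
      (ModuleCat.ofHom (LinearMap.range (toKer f g hfg).hom).mkQ)).hom ζ) = sB B f g hfg ζ := by
  have h1 : (cokerExtendEquiv B (toKer f g hfg)).symm
      (((ModuleCat.extendScalars (algebraMap A B)).map
        (ModuleCat.ofHom (LinearMap.range (toKer f g hfg).hom).mkQ)).hom ζ) =
      Submodule.Quotient.mk ζ := by
    rw [LinearEquiv.symm_apply_eq]
    rfl
  unfold bcComp
  rw [LinearMap.comp_apply, LinearEquiv.coe_coe, h1]
  rfl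

theorem bcComp_surjective (hK : KerOKL g.hom (B' (A := A) B)) :
    Function.Surjective (bcComp B f g hfg) := by
  intro w
  obtain ⟨⟨y, hy⟩, rfl⟩ := Submodule.Quotient.mk_surjective _ w
  obtain ⟨ζ, hζ⟩ := hK.2 y hy
  refine ⟨_, (bcComp_map B f g hfg ζ).trans ?_⟩
  rw [sB_apply]
  congr 1
  exact Subtype.ext hζ

theorem bcComp_injective (hK : KerOKL g.hom (B' (A := A) B)) :
    Function.Injective (bcComp B f g hfg) := by
  rw [injective_iff_map_eq_zero]
  intro t ht
  obtain ⟨ζ, rfl⟩ := surjective_extendScalars_map_mkQ B (toKer f g hfg) t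
  rw [bcComp_map, sB_apply, Submodule.Quotient.mk_eq_zero] at ht
  obtain ⟨x, hx⟩ := ht
  have hx' : f.hom.lTensor (B' (A := A) B) x =
      (LinearMap.ker g.hom).subtype.lTensor (B' (A := A) B) ζ := congrArg Subtype.val hx
  have hf' : (LinearMap.ker g.hom).subtype ∘ₗ f.hom.codRestrict (LinearMap.ker g.hom) hfg = f.hom :=
    LinearMap.ext fun _ => rfl
  have h2 : ζ = (f.hom.codRestrict (LinearMap.ker g.hom) hfg).lTensor (B' (A := A) B) x := by
    apply hK.1
    rw [← hx', ← LinearMap.comp_apply, ← LinearMap.lTensor_comp, hf']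
  rw [h2]
  exact (exact_extendScalars_map B (toKer f g hfg) _).mpr ⟨x, rfl⟩

/-- The comparison isomorphism `B ⊗ H(X) ≃ H(B ⊗ X)`. -/
noncomputable def bcCompEquiv (hK : KerOKL g.hom (B' (A := A) B)) :
    (ModuleCat.extendScalars (algebraMap A B)).obj (ModuleCat.of A (Hm f.hom g.hom hfg)) ≃ₗ[B]
      Hm ((ModuleCat.extendScalars (algebraMap A B)).map f).hom
        ((ModuleCat.extendScalars (algebraMap A B)).map g).hom (E_zero B f g hfg) :=
  LinearEquiv.ofBijective (bcComp B f g hfg)
    ⟨bcComp_injective B f g hfg hK, bcComp_surjective B f g hfg hK⟩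

end BC

section Complex

variable {A : Type u} [CommRing A] {ι : Type} {c : ComplexShape ι}
variable (P : HomologicalComplex (ModuleCat.{u} A) c)
variable (B : Type u) [CommRing B] [Algebra A B]

/-- `H_j(P ⊗ B) ≃ B ⊗ H_j(P)` when tensoring with `B` keeps the kernel of `d`. -/
noncomputable def homologyBcEquiv (i j k : ι) (hi : c.prev j = i) (hk : c.next j = k)
    (hK : KerOKL (P.d j k).hom (B' (A := A) B)) :
    ((CohIII.bcCx (algebraMap A B) P).homology j) ≃ₗ[B] B ⊗[A] HP P i j k := by
  subst hi hk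
  exact (((CohIII.bcCx (algebraMap A B) P).sc j).moduleCatHomologyIso).toLinearEquiv ≪≫ₗ
    (bcCompEquiv B (P.d (c.prev j) j) (P.d j (c.next j)) (d_d_apply P _ _ _) hK).symm ≪≫ₗ
    extendScalarsEquiv B _

theorem dRank_eq_fiberRank (i j k : ι) (hi : c.prev j = i) (hk : c.next j = k)
    (h3 : Module.Flat A (P.X k)) (hW : Module.Flat A (Wq P j k)) (x : PrimeSpectrum A) :
    CohIII.dRank P j x = fiberRank (HP P i j k) x :=
  (homologyBcEquiv P x.asIdeal.ResidueField i j k hi hk
    (kerOKL_of_flat_coker _ h3 hW _)).finrank_eq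

theorem flat_B' (h : Module.Flat A B) : Module.Flat A (B' (A := A) B) :=
  Module.Flat.of_linearEquiv ((B'equiv (A := A) B).restrictScalars A)

/-- Flat base change of homology. -/
noncomputable def homologyBcEquivOfFlat (i j k : ι) (hi : c.prev j = i) (hk : c.next j = k)
    (h : Module.Flat A B) :
    ((CohIII.bcCx (algebraMap A B) P).homology j) ≃ₗ[B] B ⊗[A] HP P i j k :=
  haveI := flat_B' B h
  homologyBcEquiv P B i j k hi hk (kerOKL_of_flat _ _)

end Complex

section ChainZ

variable {A : Type u} [CommRing A] (P : ChainComplex (ModuleCat.{u} A) ℤ)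
  (hP : ∀ i, Module.Flat A (P.X i))
include hP

theorem dRank_eq_fiberRank_HZ (q : ℤ) (h : FlatW P (q - 1)) (x : PrimeSpectrum A) :
    CohIII.dRank P q x = fiberRank (HZ P q) x :=
  dRank_eq_fiberRank P (q + 1) q (q - 1) (ChainComplex.prev ℤ q) (ChainComplex.next ℤ q) (hP _)
    ((flatW_sub_one_iff P q).mp h) x

theorem finitePresentation_HZ (q : ℤ) (h : FlatW P (q - 1))
    (hfp : Module.FinitePresentation A (CohIII.T P q (ModuleCat.of A A))) :
    Module.FinitePresentation A (HZ P q) :=
  haveI : Module.FinitePresentation A ((CohIII.TFun P q).obj (ModuleCat.of A A)) := hfp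
  Module.FinitePresentation.of_equiv (TAEquiv P hP q h)

end ChainZ

end Groth.Agent.H12.FlatCx
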