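import Groth.Agent.H12.FlatCxEW4
import Groth.Agent.H12.FlatCxDed
import Groth.Agent.H12.FlatCxBC
import Mathlib.RingTheory.Localization.BaseChange
import Mathlib.RingTheory.Spectrum.Prime.FreeLocus

/-!
# Localizing a bounded-below flat complex until its homology is projective (EGA III 7.6.9–7.8.?)
-/

set_option autoImplicit false
universe u
open CategoryTheory MonoidalCategory TensorProduct

namespace Groth.Agent.H12.FlatCx

section HmEquiv

variable {A : Type u} [CommRing A]
variable {X₁ X₂ X₃ : Type u} [AddCommGroup X₁] [Module A X₁] [AddCommGroup X₂] [Module A X₂]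
  [AddCommGroup X₃] [Module A X₃] (f : X₁ →ₗ[A] X₂) (g : X₂ →ₗ[A] X₃) (hfg : ∀ x, g (f x) = 0)
variable {Y₁ Y₂ Y₃ : Type u} [AddCommGroup Y₁] [Module A Y₁] [AddCommGroup Y₂] [Module A Y₂]
  [AddCommGroup Y₃] [Module A Y₃] (f' : Y₁ →ₗ[A] Y₂) (g' : Y₂ →ₗ[A] Y₃) (hfg' : ∀ x, g' (f' x) = 0)
  (e₁ : X₁ ≃ₗ[A] Y₁) (e₂ : X₂ ≃ₗ[A] Y₂) (e₃ : X₃ ≃ₗ[A] Y₃)
  (h₁ : ∀ x, e₂ (f x) = f' (e₁ x)) (h₂ : ∀ x, e₃ (g x) = g' (e₂ x))

include h₁ in
theorem symm_comm₁ (y : Y₁) : e₂.symm (f' y) = f (e₁.symm y) := by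
  apply e₂.injective
  rw [LinearEquiv.apply_symm_apply, h₁, LinearEquiv.apply_symm_apply]

/-- Isomorphic three-term complexes have isomorphic homology. -/
noncomputable def HmEquiv : Hm f g hfg ≃ₗ[A] Hm f' g' hfg' :=
  LinearEquiv.ofLinear
    (HmMap f g hfg f' g' hfg' e₁.toLinearMap e₂.toLinearMap e₃.toLinearMap h₁ h₂)
    (HmMap f' g' hfg' f g hfg e₁.symm.toLinearMap e₂.symm.toLinearMap e₃.symm.toLinearMap
      (symm_comm₁ f f' e₁ e₂ h₁) (symm_comm₁ g g' e₂ e₃ h₂))
    (by
      apply LinearMap.ext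
      intro w
      obtain ⟨z, rfl⟩ := Submodule.Quotient.mk_surjective _ w
      rw [LinearMap.comp_apply, HmMap_mk, HmMap_mk]
      exact congrArg _ (Subtype.ext (e₂.apply_symm_apply _)))
    (by
      apply LinearMap.ext
      intro w
      obtain ⟨z, rfl⟩ := Submodule.Quotient.mk_surjective _ w
      rw [LinearMap.comp_apply, HmMap_mk, HmMap_mk]
      exact congrArg _ (Subtype.ext (e₂.symm_apply_apply _)))

end HmEquiv

section ChainZ

variable {A : Type u} [CommRing A] (P : ChainComplex (ModuleCat.{u} A) ℤ)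

theorem rid_dT (i j : ℤ) (x : P.X i ⊗[A] A) :
    TensorProduct.rid A (P.X j) (dT P A i j x) = (P.d i j).hom (TensorProduct.rid A (P.X i) x) := by
  induction x using TensorProduct.induction_on with
  | zero => simp
  | tmul y a => simp [TensorProduct.rid_tmul]
  | add a b ha hb => simp only [map_add, ha, hb]

/-- `T_q(A) ≃ H_q(P)` (unconditionally). -/
noncomputable def TAEquiv' (q : ℤ) :
    ((CohIII.TFun P q).obj (ModuleCat.of A A)) ≃ₗ[A] HZ P q :=
  TEquiv P (q + 1) q (q - 1) (ChainComplex.prev ℤ q) (ChainComplex.next ℤ q) (ModuleCat.of A A) ≪≫ₗ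
    HmEquiv (dT P A (q + 1) q) (dT P A q (q - 1)) (dT_dT_apply P A (q + 1) q (q - 1))
      (P.d (q + 1) q).hom (P.d q (q - 1)).hom (d_d_apply P (q + 1) q (q - 1))
      (TensorProduct.rid A _) (TensorProduct.rid A _) (TensorProduct.rid A _)
      (rid_dT P (q + 1) q) (rid_dT P q (q - 1))

theorem subsingleton_HZ_of_isZero (q : ℤ) (h : Limits.IsZero (P.X q)) : Subsingleton (HZ P q) := by
  haveI : Subsingleton (P.X q) := ModuleCat.subsingleton_of_isZero h
  exact (Submodule.mkQ_surjective _).subsingleton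

variable (hP : ∀ i, Module.Flat A (P.X i)) (i₀ : ℤ) (hb : ∀ i < i₀, Limits.IsZero (P.X i))

include hP hb in
/-- **Lemma L**: if the localized homology modules are projective in the range `[i₀, N]`, then
all `W_q`, `q ≤ N`, of the localized complex are flat. -/
theorem flatW_localization_away (N : ℤ) (f : A)
    (h : ∀ q, i₀ ≤ q → q ≤ N → Module.Projective (Localization.Away f)
      (LocalizedModule.Away f (HZ P q))) :
    ∀ q ≤ N, FlatW (CohIII.bcCx (algebraMap A (Localization.Away f)) P) q := by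
  haveI hfl : Module.Flat A (Localization.Away f) :=
    IsLocalization.flat (Localization.Away f) (Submonoid.powers f)
  have hPf : ∀ i, Module.Flat (Localization.Away f)
      ((CohIII.bcCx (algebraMap A (Localization.Away f)) P).X i) :=
    fun i => flat_bcCx_X (Localization.Away f) P i (hP i)
  have hbf : ∀ i < i₀, Limits.IsZero
      ((CohIII.bcCx (algebraMap A (Localization.Away f)) P).X i) :=
    fun i hi => Functor.map_isZero
      (ModuleCat.extendScalars (algebraMap A (Localization.Away f))) (hb i hi)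
  apply flatW_of_forall _ hPf i₀ hbf N
  intro q hq _
  by_cases hq0 : q < i₀
  · haveI := subsingleton_HZ_of_isZero _ q (hbf q hq0)
    infer_instance
  · have e1 := homologyEquivHZ (CohIII.bcCx (algebraMap A (Localization.Away f)) P) q
    have e2 := homologyBcEquivOfFlat P (Localization.Away f) (q + 1) q (q - 1)
      (ChainComplex.prev ℤ q) (ChainComplex.next ℤ q) hfl
    have e3 := LocalizedModule.equivTensorProduct (Submonoid.powers f) (HZ P q)
    haveI := h q (not_lt.mp hq0) hq
    haveI : Module.Flat (Localization.Away f) (LocalizedModule.Away f (HZ P q)) := inferInstance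
    exact Module.Flat.of_linearEquiv (e1.symm ≪≫ₗ e2 ≪≫ₗ e3.symm)

end ChainZ

end Groth.Agent.H12.FlatCx
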