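import Groth.Agent.H12.FlatCxEW2

/-!
# Chain complexes indexed by `ℤ`: exactness of `T_q` for `q ≤ p` (EGA III 7.3.1, 7.5.4)
-/

set_option autoImplicit false
universe u
open CategoryTheory MonoidalCategory TensorProduct

namespace Groth.Agent.H12.FlatCx

section ChainZ

variable {A : Type u} [CommRing A] (P : ChainComplex (ModuleCat.{u} A) ℤ)

/-- `W_q = coker (P_{q+1} → P_q)` is flat. -/
def FlatW (q : ℤ) : Prop := Module.Flat A (Wq P (q + 1) q)

/-- Concrete `H_q(P)`. -/
abbrev HZ (q : ℤ) : Type u := HP P (q + 1) q (q - 1)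

theorem flatW_sub_one_iff (q : ℤ) : FlatW P (q - 1) ↔ Module.Flat A (Wq P q (q - 1)) := by
  unfold FlatW
  rw [sub_add_cancel]

variable (hP : ∀ i, Module.Flat A (P.X i))
include hP

theorem preservesMono_iff_flatW (q : ℤ) :
    (CohIII.TFun P q).PreservesMonomorphisms ↔ FlatW P q := by
  rw [preservesMono_iff P (q + 1) q (q - 1) (ChainComplex.prev ℤ q) (ChainComplex.next ℤ q)]
  exact monoAt_iff_flat P _ _ _ (hP _)

theorem preservesEpi_iff_flatW (q : ℤ) :
    (CohIII.TFun P q).PreservesEpimorphisms ↔ FlatW P (q - 1) := by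
  rw [preservesEpi_iff P (q + 1) q (q - 1) (ChainComplex.prev ℤ q) (ChainComplex.next ℤ q),
    epiAt_iff_monoAt P (q + 1) q (q - 1) (q - 1 - 1) (hP _) (hP _),
    monoAt_iff_flat P _ _ _ (hP _), flatW_sub_one_iff]

theorem flat_range_of_flatW (q : ℤ) (h : FlatW P (q - 1)) :
    Module.Flat A (LinearMap.range (P.d q (q - 1)).hom) :=
  flat_range_of_flat_coker _ (hP _) ((flatW_sub_one_iff P q).mp h)

theorem flatW_iff_flat_HZ (q : ℤ) (h : FlatW P (q - 1)) :
    FlatW P q ↔ Module.Flat A (HZ P q) := by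
  have hr := flat_range_of_flatW P hP q h
  constructor
  · intro hq
    exact flat_ker_of_exact_of_flat (alpha _ _ (d_d_apply P (q + 1) q (q - 1)))
      (beta _ _ (d_d_apply P (q + 1) q (q - 1))) (alpha_injective _ _ _) (beta_surjective _ _ _)
      (exact_alpha_beta _ _ _) hq hr
  · intro hH
    exact flat_of_exact_of_flat (alpha _ _ (d_d_apply P (q + 1) q (q - 1)))
      (beta _ _ (d_d_apply P (q + 1) q (q - 1))) (alpha_injective _ _ _) (beta_surjective _ _ _)
      (exact_alpha_beta _ _ _) hH hr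

/-- `H_q(P) ⊗ - ≅ T_q` when `W_{q-1}` is flat. -/
noncomputable def tensorIsoZ (q : ℤ) (h : FlatW P (q - 1)) :
    tensorLeft (ModuleCat.of A (HZ P q)) ≅ CohIII.TFun P q :=
  tensorIsoT_of_flat P (q + 1) q (q - 1) (ChainComplex.prev ℤ q) (ChainComplex.next ℤ q) (hP _)
    ((flatW_sub_one_iff P q).mp h)

/-- `T_q(A) ≃ H_q(P)` when `W_{q-1}` is flat. -/
noncomputable def TAEquiv (q : ℤ) (h : FlatW P (q - 1)) :
    ((CohIII.TFun P q).obj (ModuleCat.of A A)) ≃ₗ[A] HZ P q :=
  ((tensorIsoZ P hP q h).app (ModuleCat.of A A)).toLinearEquiv.symm ≪≫ₗ TensorProduct.rid A _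

theorem flat_TA_iff (q : ℤ) (h : FlatW P (q - 1)) :
    Module.Flat A ((CohIII.TFun P q).obj (ModuleCat.of A A)) ↔ Module.Flat A (HZ P q) :=
  Module.Flat.equiv_iff (TAEquiv P hP q h)

omit hP in
theorem flatW_of_isZero (q : ℤ) (h : Limits.IsZero (P.X q)) : FlatW P q := by
  haveI : Subsingleton (P.X q) := ModuleCat.subsingleton_of_isZero h
  haveI : Subsingleton (Wq P (q + 1) q) :=
    (Submodule.mkQ_surjective _).subsingleton
  unfold FlatW
  infer_instance

/-- Bounded below: if `H_q(P)`-flatness propagates, all `W_q` (`q ≤ p`) are flat. -/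
theorem flatW_of_forall (i₀ : ℤ) (hb : ∀ i < i₀, Limits.IsZero (P.X i)) (p : ℤ)
    (h : ∀ q ≤ p, FlatW P (q - 1) → Module.Flat A (HZ P q)) : ∀ q ≤ p, FlatW P q := by
  have key : ∀ n : ℕ, ∀ q : ℤ, q < i₀ + n → q ≤ p → FlatW P q := by
    intro n
    induction n with
    | zero =>
      intro q hq _
      exact flatW_of_isZero P q (hb q (by simpa using hq))
    | succ n ih =>
      intro q hq hqp
      have h1 : FlatW P (q - 1) := ih (q - 1) (by push_cast at hq; omega) (by omega)
      exact (flatW_iff_flat_HZ P hP q h1).mpr (h q hqp h1)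
  intro q hq
  exact key (q - i₀ + 1).toNat q (by omega) hq

theorem exact_iff_flatW (p : ℤ) :
    (∀ q ≤ p, (CohIII.TFun P q).PreservesMonomorphisms ∧
      (CohIII.TFun P q).PreservesEpimorphisms) ↔ ∀ q ≤ p, FlatW P q := by
  constructor
  · intro h q hq
    exact (preservesMono_iff_flatW P hP q).mp (h q hq).1
  · intro h q hq
    exact ⟨(preservesMono_iff_flatW P hP q).mpr (h q hq),
      (preservesEpi_iff_flatW P hP q).mpr (h (q - 1) (by omega))⟩

end ChainZ

end Groth.Agent.H12.FlatCx
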