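import Groth.Agent.H12.FlatCxArt2
import Groth.Agent.H12.FlatCxLES
import Mathlib.LinearAlgebra.Pi

/-!
# Finiteness of `T_n(M)` for finite `M` (EGA III 7.4.? / 7.6.?)
-/

set_option autoImplicit false
universe u
open CategoryTheory MonoidalCategory TensorProduct

namespace Groth.Agent.H12.FlatCx

section Fin

variable {A : Type u} [CommRing A] [IsNoetherianRing A]

theorem finite_of_exact {X Y Z : Type u} [AddCommGroup X] [Module A X] [AddCommGroup Y] [Module A Y]
    [AddCommGroup Z] [Module A Z] (u : X →ₗ[A] Y) (v : Y →ₗ[A] Z) (h : Function.Exact u v)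
    (hX : Module.Finite A X) (hZ : Module.Finite A Z) : Module.Finite A Y := by
  haveI : Module.Finite A (LinearMap.ker v) := by
    rw [h.linearMap_ker_eq]
    infer_instance
  haveI : Module.Finite A (LinearMap.range v) := inferInstance
  haveI : Module.Finite A (Y ⧸ LinearMap.ker v) :=
    Module.Finite.equiv v.quotKerEquivRange.symm
  exact Module.Finite.of_submodule_quotient (LinearMap.ker v)

variable (P : ChainComplex (ModuleCat.{u} A) ℤ)

omit [IsNoetherianRing A] in
theorem subsingleton_TT_of_isZero (q : ℤ) (h : Limits.IsZero (P.X q)) (M : Type u) [AddCommGroup M]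
    [Module A M] : Subsingleton (TT P q M) := by
  have e := TEquiv P (q + 1) q (q - 1) (ChainComplex.prev ℤ q) (ChainComplex.next ℤ q)
    (ModuleCat.of A M)
  haveI : Subsingleton (P.X q) := ModuleCat.subsingleton_of_isZero h
  haveI : Subsingleton (P.X q ⊗[A] (ModuleCat.of A M)) :=
    tensor_subsingleton_left (A := A) (P.X q) M
  haveI : Subsingleton (Hm (dT P (ModuleCat.of A M) (q + 1) q) (dT P (ModuleCat.of A M) q (q - 1))
      (dT_dT_apply P (ModuleCat.of A M) (q + 1) q (q - 1))) :=
    (Submodule.mkQ_surjective _).subsingleton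
  exact e.toEquiv.subsingleton

omit [IsNoetherianRing A] in
theorem finite_TT_congr (q : ℤ) {M M' : Type u} [AddCommGroup M] [Module A M] [AddCommGroup M']
    [Module A M'] (e : M ≃ₗ[A] M') (h : Module.Finite A (TT P q M)) : Module.Finite A (TT P q M') :=
  Module.Finite.equiv (((CohIII.TFun P q).mapIso e.toModuleIso).toLinearEquiv)

variable (hP : ∀ i, Module.Flat A (P.X i)) (i₀ : ℤ) (hb : ∀ i < i₀, Limits.IsZero (P.X i))
  (hfg : ∀ n : ℤ, Module.Finite A (CohIII.T P n (ModuleCat.of A A)))

include hP hb hfg in
theorem finite_TT (n : ℤ) (M : Type u) [AddCommGroup M] [Module A M] [Module.Finite A M] :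
    Module.Finite A (TT P n M) := by
  have key : ∀ k : ℕ, ∀ n : ℤ, n < i₀ + k → ∀ (M : Type u) [AddCommGroup M] [Module A M]
      [Module.Finite A M], Module.Finite A (TT P n M) := by
    intro k
    induction k with
    | zero =>
      intro n hn M _ _ _
      haveI := subsingleton_TT_of_isZero P n (hb n (by simpa using hn)) M
      infer_instance
    | succ k ih =>
      intro n hn M _ _ _
      have hfree : ∀ r : ℕ, Module.Finite A (TT P n (Fin r → A)) := by
        intro r
        induction r with
        | zero =>
          haveI := subsingleton_TT P n (Fin 0 → A)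
          infer_instance
        | succ r ihr =>
          have hex := T_exact₂ P hP (ModuleCat.ofHom (LinearMap.inl A A (Fin r → A)))
            (ModuleCat.ofHom (LinearMap.snd A A (Fin r → A))) LinearMap.inl_injective
            LinearMap.snd_surjective Function.Exact.inl_snd n
          have h1 : Module.Finite A (TT P n (A × (Fin r → A))) :=
            finite_of_exact _ _ hex (hfg n) ihr
          exact finite_TT_congr P n (Fin.consLinearEquiv A (fun _ : Fin (r + 1) => A)) h1
      obtain ⟨r, φ, hφ⟩ := Module.Finite.exists_fin' A M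
      have hrel : (ComplexShape.down ℤ).Rel n (n - 1) := ComplexShape.down_mk _ _ (by ring)
      have hex := T_exact₃ P hP (ModuleCat.ofHom (LinearMap.ker φ).subtype) (ModuleCat.ofHom φ)
        (LinearMap.ker φ).injective_subtype hφ (LinearMap.exact_subtype_ker_map φ) n (n - 1) hrel
      have hK : Module.Finite A (TT P (n - 1) (LinearMap.ker φ)) :=
        ih (n - 1) (by push_cast at hn; omega) (LinearMap.ker φ)
      exact finite_of_exact _ _ hex (hfree r) hK
  exact key (n - i₀ + 1).toNat n (by omega) M

end Fin

end Groth.Agent.H12.FlatCx
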