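import Groth.Agent.H12.FlatCxLoc
import Groth.Agent.H12.FlatCxFin
import Groth.Agent.H12.FlatCxRes
import Groth.Agent.H12.FlatCxUsc
import Mathlib.RingTheory.KrullDimension.Zero
import Mathlib.RingTheory.Ideal.Quotient.Nilpotent
import Mathlib.RingTheory.Ideal.MinimalPrime.Localization
import Mathlib.Topology.Homeomorph.Lemmas

/-!
# Generic local constancy of `d_p` for bounded-below flat complexes (EGA III 7.6.9 style)
-/

set_option autoImplicit false
universe u
open CategoryTheory MonoidalCategory TensorProduct

namespace Groth.Agent.H12.FlatCx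

section StepA

variable {A : Type u} [CommRing A] (B : Type u) [CommRing B] [Algebra A B]

theorem finite_of_finite_restrictScalars (H : ModuleCat.{u} B)
    (h : Module.Finite A ((ModuleCat.restrictScalars (algebraMap A B)).obj H)) :
    Module.Finite B H := by
  obtain ⟨S, hS⟩ := h.fg_top
  refine ⟨⟨S, ?_⟩⟩
  rw [eq_top_iff]
  intro x hx0
  clear hx0
  have hx : x ∈ Submodule.span A
      (S : Set ((ModuleCat.restrictScalars (algebraMap A B)).obj H)) := by
    rw [hS]; trivial
  induction hx using Submodule.span_induction with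
  | mem y hy => exact Submodule.subset_span hy
  | zero => exact Submodule.zero_mem _
  | add y z _ _ hy hz => exact Submodule.add_mem _ hy hz
  | smul a y _ hy => exact Submodule.smul_mem _ (algebraMap A B a) hy

variable [IsNoetherianRing A] [Module.Finite A B] (P : ChainComplex (ModuleCat.{u} A) ℤ)
  (hP : ∀ i, Module.Flat A (P.X i)) (i₀ : ℤ) (hb : ∀ i < i₀, Limits.IsZero (P.X i))
  (hfg : ∀ n : ℤ, Module.Finite A (CohIII.T P n (ModuleCat.of A A)))

include hP hb hfg in
theorem finite_T_bcCx (n : ℤ) :
    Module.Finite B (CohIII.T (CohIII.bcCx (algebraMap A B) P) n (ModuleCat.of B B)) := by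
  have h1 : Module.Finite A (TT P n B) := finite_TT P hP i₀ hb hfg n B
  haveI : Module.Finite A (CohIII.T P n (ModuleCat.of A B)) := h1
  have h2 : Module.Finite A ((ModuleCat.restrictScalars (algebraMap A B)).obj
      ((CohIII.bcCx (algebraMap A B) P).homology n)) :=
    Module.Finite.equiv (resHomologyEquiv B P n).symm
  have h3 : Module.Finite B ((CohIII.bcCx (algebraMap A B) P).homology n) :=
    finite_of_finite_restrictScalars B _ h2
  exact Module.Finite.equiv
    ((TAEquiv' (CohIII.bcCx (algebraMap A B) P) n).trans (homologyEquivHZ _ n).symm).symm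

end StepA

section StepB

variable {A : Type u} [CommRing A] (P : ChainComplex (ModuleCat.{u} A) ℤ)
  (hP : ∀ i, Module.Flat A (P.X i))

include hP in
theorem isLocallyConstant_dRank_of_flatW (p : ℤ) (hW1 : FlatW P (p - 1)) (hW : FlatW P p)
    (hfp : Module.FinitePresentation A (HZ P p)) : IsLocallyConstant (CohIII.dRank P p) := by
  haveI hflat : Module.Flat A (HZ P p) := (flatW_iff_flat_HZ P hP p hW1).mp hW
  have hd : CohIII.dRank P p = Module.rankAtStalk (HZ P p) := by
    funext x
    rw [dRank_eq_fiberRank_HZ P hP p hW1 x, fiberRank_eq_rankAtStalk]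
  rw [hd]
  exact Module.isLocallyConstant_rankAtStalk

theorem mem_freeLocus_of_minimal [IsReduced A] (M : Type u) [AddCommGroup M] [Module A M]
    (x : PrimeSpectrum A) (hx : x.asIdeal ∈ minimalPrimes A) : x ∈ Module.freeLocus A M := by
  have : Ring.KrullDimLE 0 (Localization.AtPrime x.asIdeal) := .of_isLocalization _ hx _
  let _ : Field (Localization.AtPrime x.asIdeal) := Ring.KrullDimLE.isField_of_isReduced.toField
  rw [Module.mem_freeLocus]
  exact Module.Free.of_divisionRing _ _

variable [IsNoetherianRing A] [IsReduced A] (i₀ : ℤ) (hb : ∀ i < i₀, Limits.IsZero (P.X i))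
  (hfg : ∀ n : ℤ, Module.Finite A (CohIII.T P n (ModuleCat.of A A)))

include hP hb hfg in
theorem exists_dense_open_reduced (N : ℤ) :
    ∃ U : Set (PrimeSpectrum A), IsOpen U ∧ Dense U ∧
      ∀ p ≤ N, IsLocallyConstant (fun x : U => CohIII.dRank P p x) := by
  classical
  have hfinH : ∀ q, Module.Finite A (HZ P q) := fun q => by
    haveI : Module.Finite A ((CohIII.TFun P q).obj (ModuleCat.of A A)) := hfg q
    exact Module.Finite.equiv (TAEquiv' P q)
  have hfpH : ∀ q, Module.FinitePresentation A (HZ P q) := fun q => by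
    haveI := hfinH q
    exact Module.finitePresentation_of_finite A _
  let U : Set (PrimeSpectrum A) := ⋂ q ∈ Finset.Icc i₀ N, Module.freeLocus A (HZ P q)
  have hUo : IsOpen U := isOpen_biInter_finset (fun q _ => by
    haveI := hfpH q
    exact Module.isOpen_freeLocus)
  refine ⟨U, hUo, ?_, ?_⟩
  · rw [dense_iff_inter_open]
    rintro V hV ⟨x, hxV⟩
    obtain ⟨p, hp, hpx⟩ := Ideal.exists_minimalPrimes_le (bot_le : (⊥ : Ideal A) ≤ x.asIdeal)
    let y : PrimeSpectrum A := ⟨p, hp.1.1⟩
    have hyx : y ⤳ x := (PrimeSpectrum.le_iff_specializes y x).mp hpx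
    exact ⟨y, hyx.mem_open hV hxV,
      Set.mem_iInter₂.mpr (fun q _ => mem_freeLocus_of_minimal _ y hp)⟩
  · intro p hp
    rw [IsLocallyConstant.iff_exists_open]
    rintro ⟨x, hx⟩
    obtain ⟨_, ⟨f, rfl⟩, hxf, hfU⟩ :=
      PrimeSpectrum.isTopologicalBasis_basic_opens.exists_subset_of_mem_open hx hUo
    have hproj : ∀ q, i₀ ≤ q → q ≤ N → Module.Projective (Localization.Away f)
        (LocalizedModule.Away f (HZ P q)) := fun q h1 h2 => by
      haveI := hfpH q
      rw [← Module.basicOpen_subset_freeLocus_iff]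
      exact fun z hz => (Set.mem_iInter₂.mp (hfU hz)) q (Finset.mem_Icc.mpr ⟨h1, h2⟩)
    have hW := flatW_localization_away P hP i₀ hb N f hproj
    have hPf : ∀ i, Module.Flat (Localization.Away f)
        ((CohIII.bcCx (algebraMap A (Localization.Away f)) P).X i) :=
      fun i => flat_bcCx_X (Localization.Away f) P i (hP i)
    haveI : IsNoetherianRing (Localization.Away f) :=
      IsLocalization.isNoetherianRing (Submonoid.powers f) (Localization.Away f) inferInstance
    have hfpf : Module.FinitePresentation (Localization.Away f)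
        (HZ (CohIII.bcCx (algebraMap A (Localization.Away f)) P) p) := by
      haveI hfl : Module.Flat A (Localization.Away f) :=
        IsLocalization.flat (Localization.Away f) (Submonoid.powers f)
      have e1 := homologyEquivHZ (CohIII.bcCx (algebraMap A (Localization.Away f)) P) p
      have e2 := homologyBcEquivOfFlat P (Localization.Away f) (p + 1) p (p - 1)
        (ChainComplex.prev ℤ p) (ChainComplex.next ℤ p) hfl
      haveI := hfinH p
      haveI : Module.Finite (Localization.Away f) (Localization.Away f ⊗[A] HZ P p) :=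
        inferInstance
      haveI : Module.Finite (Localization.Away f)
          (HZ (CohIII.bcCx (algebraMap A (Localization.Away f)) P) p) :=
        Module.Finite.equiv (e1.symm.trans e2).symm
      exact Module.finitePresentation_of_finite (Localization.Away f) _
    have hlc := isLocallyConstant_dRank_of_flatW _ hPf p (hW (p - 1) (by omega)) (hW p hp) hfpf
    have hxr : x ∈ Set.range (PrimeSpectrum.comap (algebraMap A (Localization.Away f))) := by
      rw [PrimeSpectrum.localization_away_comap_range (Localization.Away f) f]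
      exact hxf
    obtain ⟨y₀, hy₀⟩ := hxr
    obtain ⟨V', hV'o, hy₀V', hV'⟩ := (IsLocallyConstant.iff_exists_open _).mp hlc y₀
    refine ⟨Subtype.val ⁻¹' (PrimeSpectrum.comap (algebraMap A (Localization.Away f)) '' V'),
      ?_, ?_, ?_⟩
    · exact ((PrimeSpectrum.localization_away_isOpenEmbedding (Localization.Away f) f).isOpenMap
        _ hV'o).preimage continuous_subtype_val
    · exact ⟨y₀, hy₀V', hy₀⟩
    · rintro ⟨z, hz⟩ ⟨y, hyV', hyz⟩
      have hyz' : PrimeSpectrum.comap (algebraMap A (Localization.Away f)) y = z := hyz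
      show CohIII.dRank P p z = CohIII.dRank P p x
      rw [← hyz', ← hy₀, ← dRank_bcCx, ← dRank_bcCx]
      exact hV' y hyV'

end StepB

section StepC

variable {A : Type u} [CommRing A] [IsNoetherianRing A] (P : ChainComplex (ModuleCat.{u} A) ℤ)
  (hP : ∀ i, Module.Flat A (P.X i)) (i₀ : ℤ) (hb : ∀ i < i₀, Limits.IsZero (P.X i))
  (hfg : ∀ n : ℤ, Module.Finite A (CohIII.T P n (ModuleCat.of A A)))

include hP hb hfg in
theorem exists_dense_open (N : ℤ) :
    ∃ U : Set (PrimeSpectrum A), IsOpen U ∧ Dense U ∧
      ∀ p ≤ N, IsLocallyConstant (fun x : U => CohIII.dRank P p x) := by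
  haveI : IsReduced (A ⧸ nilradical A) :=
    (Ideal.isRadical_iff_quotient_reduced _).mp (Ideal.radical_isRadical (0 : Ideal A))
  have hsurj : Function.Surjective (algebraMap A (A ⧸ nilradical A)) :=
    Ideal.Quotient.mk_surjective
  have hP' : ∀ i, Module.Flat (A ⧸ nilradical A)
      ((CohIII.bcCx (algebraMap A (A ⧸ nilradical A)) P).X i) :=
    fun i => flat_bcCx_X (A ⧸ nilradical A) P i (hP i)
  have hb' : ∀ i < i₀, Limits.IsZero ((CohIII.bcCx (algebraMap A (A ⧸ nilradical A)) P).X i) :=
    fun i hi => Functor.map_isZero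
      (ModuleCat.extendScalars (algebraMap A (A ⧸ nilradical A))) (hb i hi)
  have hfg' : ∀ n : ℤ, Module.Finite (A ⧸ nilradical A)
      (CohIII.T (CohIII.bcCx (algebraMap A (A ⧸ nilradical A)) P) n
        (ModuleCat.of (A ⧸ nilradical A) (A ⧸ nilradical A))) :=
    fun n => finite_T_bcCx (A ⧸ nilradical A) P hP i₀ hb hfg n
  obtain ⟨U', hU'o, hU'd, hU'⟩ := exists_dense_open_reduced _ hP' i₀ hb' hfg' N
  have hemb := PrimeSpectrum.isClosedEmbedding_comap_of_surjective (A ⧸ nilradical A)
    (algebraMap A (A ⧸ nilradical A)) hsurj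
  have hsurjφ : Function.Surjective
      (PrimeSpectrum.comap (algebraMap A (A ⧸ nilradical A))) := by
    rw [← Set.range_eq_univ, range_comap_of_surjective _ _ hsurj,
      Set.eq_univ_iff_forall]
    intro x
    rw [PrimeSpectrum.mem_zeroLocus]
    intro a ha
    have ha' : a ∈ nilradical A := by
      have h0 : algebraMap A (A ⧸ nilradical A) a = 0 := ha
      rwa [Ideal.Quotient.algebraMap_eq, Ideal.Quotient.eq_zero_iff_mem] at h0
    exact nilradical_le_prime x.asIdeal ha'
  let h := hemb.toIsEmbedding.toHomeomorphOfSurjective hsurjφ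
  refine ⟨h '' U', h.isOpenMap _ hU'o, h.surjective.denseRange.dense_image h.continuous hU'd, ?_⟩
  intro p hp
  have hmem : ∀ z : ↥(h '' U'), h.symm z.1 ∈ U' := by
    rintro ⟨_, y, hy, rfl⟩
    rwa [h.symm_apply_apply]
  let ψ : ↥(h '' U') → ↥U' := fun z => ⟨h.symm z.1, hmem z⟩
  have hψ : Continuous ψ := (h.symm.continuous.comp continuous_subtype_val).subtype_mk _
  have hlc := (hU' p hp).comp_continuous hψ
  have heq : (fun x : ↥(h '' U') => CohIII.dRank P p x) =
      (fun x : U' => CohIII.dRank (CohIII.bcCx (algebraMap A (A ⧸ nilradical A)) P) p x) ∘ ψ := by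
    funext z
    show CohIII.dRank P p z.1 = CohIII.dRank _ p (h.symm z.1)
    rw [dRank_bcCx]
    congr 1
    exact (h.apply_symm_apply z.1).symm
  rw [heq]
  exact hlc

end StepC

end Groth.Agent.H12.FlatCx
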