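import Groth.Agent.H12.FlatCxDed
import Groth.Agent.H12.FlatCxLES
import Groth.Agent.H12.FlatCxEW2
import Groth.Agent.H82.TorLib
import Groth.Prelude.Def_DRing2

/-!
# The universal coefficient sequence `0 → H_p(P) ⊗ M → H_p(P ⊗ M) → Tor_1(H_{p-1}(P), M) → 0`
over a Dedekind domain
-/

set_option autoImplicit false
universe u
open CategoryTheory MonoidalCategory TensorProduct

namespace Groth.Agent.H12.FlatCx

section Squares

variable {A : Type u} [CommRing A]
variable {X Y X' Y' : Type u} [AddCommGroup X] [Module A X] [AddCommGroup Y] [Module A Y]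
  [AddCommGroup X'] [Module A X'] [AddCommGroup Y'] [Module A Y']
  (f : X →ₗ[A] Y) (f' : X' →ₗ[A] Y') (e₁ : X ≃ₗ[A] X') (e₂ : Y ≃ₗ[A] Y')
  (h : ∀ x, e₂ (f x) = f' (e₁ x))

/-- Kernels correspond under a commutative square of equivalences. -/
noncomputable def kerEquivOfSquare : LinearMap.ker f ≃ₗ[A] LinearMap.ker f' where
  toFun x := ⟨e₁ x.1, by rw [LinearMap.mem_ker, ← h, LinearMap.mem_ker.mp x.2, map_zero]⟩
  invFun y := ⟨e₁.symm y.1, by
    rw [LinearMap.mem_ker]
    apply e₂.injective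
    rw [h, e₁.apply_symm_apply, LinearMap.mem_ker.mp y.2, map_zero]⟩
  map_add' x y := Subtype.ext (map_add e₁ x.1 y.1)
  map_smul' r x := Subtype.ext (map_smul e₁ r x.1)
  left_inv x := Subtype.ext (e₁.symm_apply_apply x.1)
  right_inv y := Subtype.ext (e₁.apply_symm_apply y.1)

/-- Cokernels correspond under a commutative square of equivalences. -/
noncomputable def cokerEquivOfSquare :
    (Y ⧸ LinearMap.range f) ≃ₗ[A] (Y' ⧸ LinearMap.range f') :=
  Submodule.Quotient.equiv (LinearMap.range f) (LinearMap.range f') e₂ (by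
    ext y'
    constructor
    · rintro ⟨_, ⟨x, rfl⟩, rfl⟩
      exact ⟨e₁ x, (h x).symm⟩
    · rintro ⟨x', rfl⟩
      exact ⟨f (e₁.symm x'), ⟨_, rfl⟩, by rw [LinearEquiv.coe_coe, h, e₁.apply_symm_apply]⟩)

end Squares

section Kun

variable {A : Type u} [CommRing A]

theorem kerOKR_of_flat {X₂ X₃ : Type u} [AddCommGroup X₂] [Module A X₂] [AddCommGroup X₃]
    [Module A X₃] (g : X₂ →ₗ[A] X₃) (M : Type u) [AddCommGroup M] [Module A M] [Module.Flat A M] :
    KerOKR g M := by
  refine ⟨Module.Flat.rTensor_preserves_injective_linearMap _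
    (LinearMap.ker g).injective_subtype, fun y hy => ?_⟩
  exact ((Module.Flat.rTensor_exact M (LinearMap.exact_subtype_ker_map g)) y).mp hy

/-- Right exactness of the tensor product, on cokernels. -/
noncomputable def cokerLTensorEquiv (H : Type u) [AddCommGroup H] [Module A H] {K F M : Type u}
    [AddCommGroup K] [Module A K] [AddCommGroup F] [Module A F] [AddCommGroup M] [Module A M]
    (i : K →ₗ[A] F) (π : F →ₗ[A] M) (hπ : Function.Surjective π) (hex : Function.Exact i π) :
    ((H ⊗[A] F) ⧸ LinearMap.range (i.lTensor H)) ≃ₗ[A] H ⊗[A] M :=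
  (Submodule.quotEquivOfEq _ _ (LinearMap.exact_iff.mp (lTensor_exact H hex hπ)).symm) ≪≫ₗ
    LinearMap.quotKerEquivOfSurjective _ (LinearMap.lTensor_surjective H hπ)

/-- Change of the left factor in the kernel of `H ⊗ i`. -/
noncomputable def kerLTensorCongr {H H' : Type u} [AddCommGroup H] [Module A H] [AddCommGroup H']
    [Module A H'] (e : H ≃ₗ[A] H') {K F : Type u} [AddCommGroup K] [Module A K] [AddCommGroup F]
    [Module A F] (i : K →ₗ[A] F) :
    LinearMap.ker (i.lTensor H) ≃ₗ[A] LinearMap.ker (i.lTensor H') :=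
  kerEquivOfSquare _ _ (TensorProduct.congr e (LinearEquiv.refl A K))
    (TensorProduct.congr e (LinearEquiv.refl A F)) (fun x => by
      induction x using TensorProduct.induction_on with
      | zero => simp
      | tmul h k => rfl
      | add a b ha hb => simp only [map_add, ha, hb])

variable (P : ChainComplex (ModuleCat.{u} A) ℤ)

/-- The comparison `H_n(P) ⊗ L → T_n(L)`. -/
noncomputable def phiT (n : ℤ) (L : ModuleCat.{u} A) :
    HZ P n ⊗[A] L →ₗ[A] (CohIII.TFun P n).obj L :=
  (TEquiv P (n + 1) n (n - 1) (ChainComplex.prev ℤ n)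
    (ChainComplex.next ℤ n) L).symm.toLinearMap ∘ₗ
    tComp (P.d (n + 1) n).hom (P.d n (n - 1)).hom (d_d_apply P (n + 1) n (n - 1)) L

theorem phiT_naturality (n : ℤ) {L L' : ModuleCat.{u} A} (h : L ⟶ L') (t : HZ P n ⊗[A] L) :
    ((CohIII.TFun P n).map h).hom (phiT P n L t) = phiT P n L' (h.hom.lTensor (HZ P n) t) := by
  induction t using TensorProduct.induction_on with
  | zero => simp
  | tmul q m =>
    obtain ⟨z, rfl⟩ := Submodule.Quotient.mk_surjective _ q
    show ((CohIII.TFun P n).map h).hom ((TEquiv P (n + 1) n (n - 1) _ _ L).symm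
        (tComp (P.d (n + 1) n).hom (P.d n (n - 1)).hom (d_d_apply P (n + 1) n (n - 1)) L
          (Submodule.Quotient.mk z ⊗ₜ m))) =
      (TEquiv P (n + 1) n (n - 1) _ _ L').symm
        (tComp (P.d (n + 1) n).hom (P.d n (n - 1)).hom (d_d_apply P (n + 1) n (n - 1)) L'
          (Submodule.Quotient.mk z ⊗ₜ h.hom m))
    rw [TEquiv_symm_naturality]
    rfl
  | add a b ha hb => simp only [map_add, ha, hb]

theorem phiT_bijective (n : ℤ) (L : ModuleCat.{u} A) [Module.Flat A L] :
    Function.Bijective (phiT P n L) := by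
  have hK := kerOKR_of_flat (P.d n (n - 1)).hom L
  rw [phiT, LinearMap.coe_comp]
  exact (LinearEquiv.bijective _).comp
    ⟨tComp_injective _ _ _ L hK, tComp_surjective _ _ _ L hK⟩

/-- `H_n(P) ⊗ L ≃ T_n(L)` for flat `L`. -/
noncomputable def phiEquiv (n : ℤ) (L : ModuleCat.{u} A) [Module.Flat A L] :
    HZ P n ⊗[A] L ≃ₗ[A] (CohIII.TFun P n).obj L :=
  LinearEquiv.ofBijective (phiT P n L) (phiT_bijective P n L)

/-- The cokernel of `T_n(K) → T_n(F)` for flat `K`, `F`. -/
noncomputable def cokerPhi (n : ℤ) {K F : Type u} [AddCommGroup K] [Module A K] [AddCommGroup F]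
    [Module A F] [Module.Flat A K] [Module.Flat A F] (i : K →ₗ[A] F) :
    ((HZ P n ⊗[A] F) ⧸ LinearMap.range (i.lTensor (HZ P n))) ≃ₗ[A]
      (((CohIII.TFun P n).obj (ModuleCat.of A F)) ⧸
        LinearMap.range ((CohIII.TFun P n).map (ModuleCat.ofHom i)).hom) :=
  cokerEquivOfSquare (i.lTensor (HZ P n)) ((CohIII.TFun P n).map (ModuleCat.ofHom i)).hom
    (phiEquiv P n (ModuleCat.of A K)) (phiEquiv P n (ModuleCat.of A F))
    (fun x => (phiT_naturality P n (ModuleCat.ofHom i) x).symm)

/-- The kernel of `T_n(K) → T_n(F)` for flat `K`, `F`. -/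
noncomputable def kerPhi (n : ℤ) {K F : Type u} [AddCommGroup K] [Module A K] [AddCommGroup F]
    [Module A F] [Module.Flat A K] [Module.Flat A F] (i : K →ₗ[A] F) :
    (LinearMap.ker (i.lTensor (HZ P n))) ≃ₗ[A]
      (LinearMap.ker ((CohIII.TFun P n).map (ModuleCat.ofHom i)).hom) :=
  kerEquivOfSquare (i.lTensor (HZ P n)) ((CohIII.TFun P n).map (ModuleCat.ofHom i)).hom
    (phiEquiv P n (ModuleCat.of A K)) (phiEquiv P n (ModuleCat.of A F))
    (fun x => (phiT_naturality P n (ModuleCat.ofHom i) x).symm)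

/-- `Tor_1(H, M)` is the kernel of `H ⊗ K → H ⊗ F` for a presentation `0 → K → F → M → 0` with
`F` projective. -/
theorem tor_one_equiv_ker (H : ModuleCat.{u} A) {K F M : Type u} [AddCommGroup K] [Module A K]
    [AddCommGroup F] [Module A F] [AddCommGroup M] [Module A M] [Module.Projective A F]
    (i : K →ₗ[A] F) (π : F →ₗ[A] M) (hi : Function.Injective i) (hπ : Function.Surjective π)
    (hex : Function.Exact i π) :
    Nonempty ((((Tor (ModuleCat.{u} A) 1).obj H).obj (ModuleCat.of A M) : ModuleCat.{u} A) ≃ₗ[A]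
      LinearMap.ker (i.lTensor H)) := by
  let S := ModuleCat.shortComplexOfCompEqZero i π hex.linearMap_comp_eq_zero
  have hS : S.ShortExact := ModuleCat.shortComplex_shortExact _ hex hi hπ
  obtain ⟨h0, h1, δ, w₁, w₂, e1, e2⟩ := Groth.Agent.H82.TorLib.hasLES_tor H S hS 0
  haveI : Projective (ModuleCat.of A F) := (IsProjective.iff_projective F).mp inferInstance
  have hz : Limits.IsZero (((Tor (ModuleCat.{u} A) (0 + 1)).obj H).obj (ModuleCat.of A F)) :=
    Groth.Agent.H82.TorLib.vanish_tor H 0 _ inferInstance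
  rw [ShortComplex.ShortExact.moduleCat_exact_iff_function_exact] at e1 e2
  have hsub : Subsingleton (((Tor (ModuleCat.{u} A) (0 + 1)).obj H).obj (ModuleCat.of A F) :
      ModuleCat.{u} A) := ModuleCat.subsingleton_of_isZero hz
  have hδinj : Function.Injective δ.hom := by
    rw [injective_iff_map_eq_zero]
    intro x hx
    obtain ⟨y, rfl⟩ := (e1 x).mp hx
    rw [Subsingleton.elim y 0]
    exact map_zero _
  have hrange : LinearMap.range δ.hom =
      LinearMap.ker (((Tor (ModuleCat.{u} A) 0).obj H).map S.f).hom :=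
    (LinearMap.exact_iff.mp e2).symm
  let η := (tensorLeft H).leftDerivedZeroIsoSelf
  have sq : ∀ x, (η.hom.app (ModuleCat.of A F)).hom
      ((((Tor (ModuleCat.{u} A) 0).obj H).map S.f).hom x) =
      (i.lTensor H) ((η.hom.app (ModuleCat.of A K)).hom x) := by
    intro x
    have := congrArg (fun m => m.hom x) (η.hom.naturality S.f)
    exact this
  exact ⟨(LinearEquiv.ofInjective δ.hom hδinj) ≪≫ₗ (LinearEquiv.ofEq _ _ hrange) ≪≫ₗ
    kerEquivOfSquare _ _ (η.app (ModuleCat.of A K)).toLinearEquiv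
      (η.app (ModuleCat.of A F)).toLinearEquiv sq⟩

end Kun

end Groth.Agent.H12.FlatCx
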