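import Groth.Agent.H12.FlatCx
import Mathlib.RingTheory.LocalRing.Module
import Mathlib.Algebra.Module.Projective
import Mathlib.Algebra.Exact.Basic

/-!
# `T_p(M) = H_p(P ⊗ M)` over a local ring (EGA III 7.5)
-/

set_option autoImplicit false
universe u
open CategoryTheory MonoidalCategory TensorProduct

namespace Groth.Agent.H12.FlatCx

section ThreeTerm

variable {A : Type u} [CommRing A]
variable {X₁ X₂ X₃ : Type u} [AddCommGroup X₁] [Module A X₁] [AddCommGroup X₂] [Module A X₂]
  [AddCommGroup X₃] [Module A X₃] (f : X₁ →ₗ[A] X₂) (g : X₂ →ₗ[A] X₃) (hfg : ∀ x, g (f x) = 0)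

/-- Concrete homology `ker g / im f`. -/
abbrev Hm : Type u := LinearMap.ker g ⧸ LinearMap.range (f.codRestrict (LinearMap.ker g) hfg)

/-- `ker g / im f → X₂ / im f`. -/
noncomputable def alpha : Hm f g hfg →ₗ[A] X₂ ⧸ LinearMap.range f :=
  Submodule.mapQ _ _ (LinearMap.ker g).subtype (by rintro _ ⟨x, rfl⟩; exact ⟨x, rfl⟩)

/-- `X₂ / im f → im g`. -/
noncomputable def beta : X₂ ⧸ LinearMap.range f →ₗ[A] LinearMap.range g :=
  (LinearMap.range f).liftQ g.rangeRestrict (by
    rintro _ ⟨x, rfl⟩
    rw [LinearMap.mem_ker]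
    ext
    exact hfg x)

theorem alpha_mk (z : LinearMap.ker g) :
    alpha f g hfg (Submodule.Quotient.mk z) = Submodule.Quotient.mk z.1 := rfl

theorem beta_mk (x : X₂) : ((beta f g hfg (Submodule.Quotient.mk x) : LinearMap.range g) : X₃) = g x :=
  rfl

theorem alpha_injective : Function.Injective (alpha f g hfg) := by
  rw [injective_iff_map_eq_zero]
  intro z hz
  obtain ⟨z, rfl⟩ := Submodule.Quotient.mk_surjective _ z
  rw [alpha_mk, Submodule.Quotient.mk_eq_zero] at hz
  obtain ⟨x, hx⟩ := hz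
  rw [Submodule.Quotient.mk_eq_zero]
  exact ⟨x, Subtype.ext hx⟩

theorem beta_surjective : Function.Surjective (beta f g hfg) := by
  rintro ⟨_, x, rfl⟩
  exact ⟨Submodule.Quotient.mk x, Subtype.ext rfl⟩

theorem exact_alpha_beta : Function.Exact (alpha f g hfg) (beta f g hfg) := by
  intro w
  obtain ⟨x, rfl⟩ := Submodule.Quotient.mk_surjective _ w
  constructor
  · intro h
    have hx : g x = 0 := by
      have := congrArg Subtype.val h
      simpa [beta_mk] using this
    exact ⟨Submodule.Quotient.mk ⟨x, hx⟩, rfl⟩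
  · rintro ⟨z, hz⟩
    obtain ⟨z, rfl⟩ := Submodule.Quotient.mk_surjective _ z
    rw [← hz, alpha_mk]
    apply Subtype.ext
    rw [beta_mk]
    exact z.2

theorem projective_coker_iff (hproj : Module.Projective A (LinearMap.range g)) :
    Module.Projective A (X₂ ⧸ LinearMap.range f) ↔ Module.Projective A (Hm f g hfg) := by
  obtain ⟨s, hs⟩ := Module.projective_lifting_property (beta f g hfg) LinearMap.id
    (beta_surjective f g hfg)
  obtain ⟨e, he1, _⟩ := ((exact_alpha_beta f g hfg).splitSurjectiveEquiv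
    (alpha_injective f g hfg)) ⟨s, hs⟩
  constructor
  · intro h
    refine Module.Projective.of_split (alpha f g hfg) (LinearMap.fst _ _ _ ∘ₗ e.toLinearMap) ?_
    rw [he1]
    ext x
    simp
  · intro h
    exact Module.Projective.of_equiv' e.symm

/-- If the cokernel of `g` is projective and `X₃` is projective, the image of `g` is projective. -/
theorem projective_range_of_projective_coker (h3 : Module.Projective A X₃)
    (h : Module.Projective A (X₃ ⧸ LinearMap.range g)) : Module.Projective A (LinearMap.range g) := by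
  obtain ⟨s, hs⟩ := Module.projective_lifting_property (LinearMap.range g).mkQ LinearMap.id
    (Submodule.mkQ_surjective _)
  obtain ⟨e, he1, _⟩ := ((LinearMap.exact_subtype_mkQ (LinearMap.range g)).splitSurjectiveEquiv
    Subtype.val_injective) ⟨s, hs⟩
  refine Module.Projective.of_split (LinearMap.range g).subtype
    (LinearMap.fst _ _ _ ∘ₗ e.toLinearMap) ?_
  rw [he1]
  ext x
  simp

end ThreeTerm

variable {A : Type u} [CommRing A] {ι : Type} {c : ComplexShape ι}
variable (P : HomologicalComplex (ModuleCat.{u} A) c)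

/-- Concrete description of `T_j(M)`. -/
noncomputable def TEquiv (i j k : ι) (hi : c.prev j = i) (hk : c.next j = k) (M : ModuleCat.{u} A) :
    ((CohIII.TFun P j).obj M) ≃ₗ[A] Hm (dT P M i j) (dT P M j k) (dT_dT_apply P M i j k) := by
  subst hi hk
  exact ((CohIII.tensorObj P M).sc j).moduleCatHomologyIso.toLinearEquiv

/-- `(P_j ⊗ M) / im(d ⊗ M) ≃ W ⊗ M`. -/
noncomputable def cokerTensorEquiv (i j : ι) (M : Type u) [AddCommGroup M] [Module A M] :
    ((P.X j ⊗[A] M) ⧸ LinearMap.range (dT P M i j)) ≃ₗ[A] (Wq P i j ⊗[A] M) :=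
  rTensor.equiv M (LinearMap.exact_map_mkQ_range (P.d i j).hom) (Submodule.mkQ_surjective _)

section surj

variable {S : Type u} [CommRing S] [Algebra A S]

theorem exists_tmul_one (hS : Function.Surjective (algebraMap A S)) (M : Type u) [AddCommGroup M]
    [Module A M] (t : M ⊗[A] S) : ∃ m : M, t = m ⊗ₜ[A] (1 : S) := by
  induction t using TensorProduct.induction_on with
  | zero => exact ⟨0, by simp⟩
  | tmul m s =>
    obtain ⟨a, rfl⟩ := hS s
    refine ⟨a • m, ?_⟩
    rw [TensorProduct.smul_tmul, Algebra.algebraMap_eq_smul_one]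
  | add x y hx hy =>
    obtain ⟨m, rfl⟩ := hx
    obtain ⟨n, rfl⟩ := hy
    exact ⟨m + n, by rw [TensorProduct.add_tmul]⟩

end surj

section local_

variable [IsLocalRing A]

local notation "κ" => IsLocalRing.ResidueField A

theorem tmul_one_eq_zero_iff (M : Type u) [AddCommGroup M] [Module A M] (m : M) :
    m ⊗ₜ[A] (1 : κ) = 0 ↔ m ∈ IsLocalRing.maximalIdeal A • (⊤ : Submodule A M) := by
  have h := LinearMap.ker_tensorProductMk (R := A) (Q := M) (I := IsLocalRing.maximalIdeal A)
  rw [← h, LinearMap.mem_ker, TensorProduct.mk_apply,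
    ← (TensorProduct.comm A M κ).map_eq_zero_iff, TensorProduct.comm_tmul]
  rfl

/-- Elementwise form of: `T_j(A) → T_j(κ)` is surjective. -/
def SurjAt (i j k : ι) : Prop :=
  ∀ y : P.X j ⊗[A] κ, dT P κ j k y = 0 →
    ∃ x : P.X j ⊗[A] A, dT P A j k x = 0 ∧
      ∃ y₁ : P.X i ⊗[A] κ, y = (Algebra.linearMap A κ).lTensor (P.X j) x + dT P κ i j y₁

theorem surjAt_iff (i j k : ι) (hi : c.prev j = i) (hk : c.next j = k) :
    Function.Surjective ((CohIII.TFun P j).map
      (ModuleCat.ofHom (Algebra.linearMap A κ))).hom ↔ SurjAt P i j k := by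
  rw [← ModuleCat.epi_iff_surjective]
  show Epi (HomologicalComplex.homologyMap (CohIII.tensorMap P _) j) ↔ _
  rw [Groth.Agent.H81.epi_homologyMap_iff_elem _ i j k hi hk]
  rfl

theorem surjAt_of_epiAt (i j k : ι) (h : EpiAt P i j k) : SurjAt P i j k :=
  h A κ (Algebra.linearMap A κ) (fun x => IsLocalRing.residue_surjective x)

theorem free_Wq_of_surjAt (i j k : ι) (hj : Module.Finite A (P.X j))
    (hkfin : Module.Finite A (P.X k)) (hkfree : Module.Free A (P.X k)) (h : SurjAt P i j k) :
    Module.Free A (Wq P j k) := by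
  have hres : Function.Surjective (algebraMap A κ) := fun x => IsLocalRing.residue_surjective x
  have hBfin : Module.Finite A (LinearMap.range (P.d j k).hom) := Module.Finite.range _
  apply Module.free_of_lTensor_residueField_injective (LinearMap.range (P.d j k).hom).subtype
    (LinearMap.range (P.d j k).hom).mkQ (Submodule.mkQ_surjective _)
    (LinearMap.exact_subtype_mkQ _)
  rw [LinearMap.lTensor_inj_iff_rTensor_inj, injective_iff_map_eq_zero]
  intro t ht
  obtain ⟨b, rfl⟩ := exists_tmul_one hres _ t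
  obtain ⟨x, hx⟩ := b.2
  have ht' : (b : P.X k) ⊗ₜ[A] (1 : κ) = 0 := by simpa using ht
  have hcy : dT P κ j k (x ⊗ₜ 1) = 0 := by
    rw [LinearMap.rTensor_tmul, hx]; exact ht'
  obtain ⟨x', hx', y₁, hy₁⟩ := h _ hcy
  obtain ⟨x'', rfl⟩ : ∃ x'' : P.X j, x' = x'' ⊗ₜ[A] (1 : A) :=
    ⟨TensorProduct.rid A _ x', by
      rw [← TensorProduct.rid_symm_apply, LinearEquiv.symm_apply_apply]⟩
  obtain ⟨y'', rfl⟩ := exists_tmul_one hres _ y₁
  have hdx'' : (P.d j k).hom x'' = 0 := by
    have := congrArg (TensorProduct.rid A _) hx'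
    simpa using this
  have hmem : x - x'' - (P.d i j).hom y'' ∈
      IsLocalRing.maximalIdeal A • (⊤ : Submodule A (P.X j)) := by
    rw [← tmul_one_eq_zero_iff, TensorProduct.sub_tmul, TensorProduct.sub_tmul, hy₁]
    simp [LinearMap.lTensor_tmul, LinearMap.rTensor_tmul]
  have hb : b = (P.d j k).hom.rangeRestrict (x - x'' - (P.d i j).hom y'') := by
    apply Subtype.ext
    simp [hx, hdx'', d_d_apply]
  rw [tmul_one_eq_zero_iff, hb]
  have := Submodule.mem_map_of_mem (f := (P.d j k).hom.rangeRestrict) hmem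
  rw [Submodule.map_smul''] at this
  exact Submodule.smul_mono le_rfl le_top this

theorem epiAt_of_surjAt (i j k l : ι) (hfin : ∀ n, Module.Finite A (P.X n))
    (hflat : ∀ n, Module.Flat A (P.X n)) (h : SurjAt P i j k) : EpiAt P i j k := by
  have := hfin k
  have := hflat k
  have hfree : Module.Free A (P.X k) := Module.free_of_flat_of_isLocalRing
  have := free_Wq_of_surjAt P i j k (hfin j) (hfin k) hfree h
  exact epiAt_of_monoAt P i j k l (hflat l) (monoAt_of_flat P j k l inferInstance)

theorem epiAt_iff_surjAt (i j k l : ι) (hfin : ∀ n, Module.Finite A (P.X n))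
    (hflat : ∀ n, Module.Flat A (P.X n)) : EpiAt P i j k ↔ SurjAt P i j k :=
  ⟨surjAt_of_epiAt P i j k, epiAt_of_surjAt P i j k l hfin hflat⟩

/-- The map `W_j → P_k` induced by the differential. -/
noncomputable def ubar (i j k : ι) : Wq P i j →ₗ[A] P.X k :=
  (LinearMap.range (P.d i j).hom).liftQ (P.d j k).hom (by
    rintro _ ⟨x, rfl⟩
    exact d_d_apply P i j k x)

omit [IsLocalRing A] in
theorem ubar_comp_mkQ (i j k : ι) :
    ubar P i j k ∘ₗ (LinearMap.range (P.d i j).hom).mkQ = (P.d j k).hom :=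
  Submodule.liftQ_mkQ _ _ _

/-- Nakayama-type statement: `T_j(κ) = 0` implies `T_j(M) = 0` for all `M`. -/
theorem exactAt_of_exactAt_residueField (i j k : ι) (hj : Module.Finite A (P.X j))
    (hkfin : Module.Finite A (P.X k)) (hkfree : Module.Free A (P.X k))
    (h : ∀ x : P.X j ⊗[A] κ, dT P κ j k x = 0 → ∃ y : P.X i ⊗[A] κ, dT P κ i j y = x)
    (M : Type u) [AddCommGroup M] [Module A M] :
    ∀ x : P.X j ⊗[A] M, dT P M j k x = 0 → ∃ y : P.X i ⊗[A] M, dT P M i j y = x := by
  have hinj : Function.Injective ((ubar P i j k).rTensor κ) := by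
    rw [injective_iff_map_eq_zero]
    intro w hw
    obtain ⟨x, rfl⟩ := LinearMap.rTensor_surjective κ (Submodule.mkQ_surjective _) w
    rw [← LinearMap.comp_apply, ← LinearMap.rTensor_comp, ubar_comp_mkQ] at hw
    obtain ⟨y, rfl⟩ := h x hw
    exact (exact_dT_mkQ P κ i j _).mpr ⟨y, rfl⟩
  rw [← LinearMap.lTensor_inj_iff_rTensor_inj] at hinj
  obtain ⟨l', hl'⟩ :=
    (IsLocalRing.split_injective_iff_lTensor_residueField_injective (ubar P i j k)).mpr hinj
  intro x hx
  have h1 : (ubar P i j k).rTensor M ((LinearMap.range (P.d i j).hom).mkQ.rTensor M x) = 0 := by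
    rw [← LinearMap.comp_apply, ← LinearMap.rTensor_comp, ubar_comp_mkQ]; exact hx
  have h2 : (LinearMap.range (P.d i j).hom).mkQ.rTensor M x = 0 := by
    have := congrArg (l'.rTensor M) h1
    rwa [← LinearMap.comp_apply, ← LinearMap.rTensor_comp, hl', LinearMap.rTensor_id,
      LinearMap.id_apply, map_zero] at this
  obtain ⟨y, hy⟩ := (exact_dT_mkQ P M i j x).mp h2
  exact ⟨y, hy⟩

end local_

end Groth.Agent.H12.FlatCx
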