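import Groth.Agent.H12.FlatCxLocal
import Mathlib.Algebra.Category.ModuleCat.ChangeOfRings
import Mathlib.LinearAlgebra.Dimension.Constructions
import Mathlib.LinearAlgebra.FiniteDimensional.Lemmas
import Mathlib.RingTheory.Spectrum.Prime.FreeLocus
import Mathlib.RingTheory.Support
import Mathlib.Topology.Semicontinuity.Basic

/-!
# The ranks `d_p(x) = dim H_p(P ⊗ k(x))` (EGA III 7.6)
-/

set_option autoImplicit false
universe u
open CategoryTheory MonoidalCategory TensorProduct

namespace Groth.Agent.H12.FlatCx

section finrankHm

variable {K : Type u} [Field K] {X₁ X₂ X₃ : Type u} [AddCommGroup X₁] [Module K X₁]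
  [AddCommGroup X₂] [Module K X₂] [AddCommGroup X₃] [Module K X₃]
  [FiniteDimensional K X₂] [FiniteDimensional K X₃]

theorem finrank_Hm (f : X₁ →ₗ[K] X₂) (g : X₂ →ₗ[K] X₃) (hfg : ∀ x, g (f x) = 0) :
    Module.finrank K (Hm f g hfg) =
      Module.finrank K (X₂ ⧸ LinearMap.range f) + Module.finrank K (X₃ ⧸ LinearMap.range g) -
        Module.finrank K X₃ := by
  have h1 := Submodule.finrank_quotient_add_finrank (LinearMap.range f)
  have h2 := Submodule.finrank_quotient_add_finrank (LinearMap.range g)
  have h3 := Submodule.finrank_quotient_add_finrank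
    (LinearMap.range (f.codRestrict (LinearMap.ker g) hfg))
  have h4 := LinearMap.finrank_range_add_finrank_ker g
  have h5 : Module.finrank K (LinearMap.range (f.codRestrict (LinearMap.ker g) hfg)) =
      Module.finrank K (LinearMap.range f) := by
    have hr : LinearMap.range f =
        (LinearMap.range (f.codRestrict (LinearMap.ker g) hfg)).map (LinearMap.ker g).subtype := by
      rw [← LinearMap.range_comp, LinearMap.subtype_comp_codRestrict]
    rw [hr]
    exact (Submodule.equivMapOfInjective _ (LinearMap.ker g).injective_subtype _).finrank_eq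
  show Module.finrank K (↥(LinearMap.ker g) ⧸
    LinearMap.range (f.codRestrict (LinearMap.ker g) hfg)) = _
  rw [h5] at h3
  generalize Module.finrank K (↥(LinearMap.ker g) ⧸
    LinearMap.range (f.codRestrict (LinearMap.ker g) hfg)) = a at h3 ⊢
  generalize Module.finrank K (X₂ ⧸ LinearMap.range f) = b at h1 ⊢
  generalize Module.finrank K (X₃ ⧸ LinearMap.range g) = c' at h2 ⊢
  omega

end finrankHm

section extend

variable {A : Type u} [CommRing A] (B : Type u) [CommRing B] [Algebra A B]

/-- `B` with the `A`-module structure through restriction of scalars. -/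
abbrev B' : Type u := (ModuleCat.restrictScalars (algebraMap A B)).obj (ModuleCat.of B B)

instance : IsScalarTower A B (B' (A := A) B) where
  smul_assoc a b x := by
    show (a • b) • x = algebraMap A B a • (b • x)
    rw [Algebra.smul_def, mul_smul]

/-- The identity `B' ≃ B` as a `B`-linear equivalence. -/
noncomputable def B'equiv : B' (A := A) B ≃ₗ[B] B where
  toFun b := b
  invFun b := b
  map_add' _ _ := rfl
  map_smul' _ _ := rfl
  left_inv _ := rfl
  right_inv _ := rfl

theorem extendScalars_map_apply {M N : ModuleCat.{u} A} (g : M ⟶ N) (t : B' (A := A) B ⊗[A] M) :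
    ((ModuleCat.extendScalars (algebraMap A B)).map g).hom t = g.hom.lTensor (B' (A := A) B) t :=
  rfl

/-- Extension of scalars is the usual tensor product. -/
noncomputable def extendScalarsEquiv (M : ModuleCat.{u} A) :
    ((ModuleCat.extendScalars (algebraMap A B)).obj M) ≃ₗ[B] B ⊗[A] M :=
  TensorProduct.AlgebraTensorModule.congr (B'equiv (A := A) B) (LinearEquiv.refl A M)

theorem exact_extendScalars_map {M N : ModuleCat.{u} A} (g : M ⟶ N) :
    Function.Exact ((ModuleCat.extendScalars (algebraMap A B)).map g).hom
      ((ModuleCat.extendScalars (algebraMap A B)).map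
        (ModuleCat.ofHom (LinearMap.range g.hom).mkQ)).hom :=
  lTensor_exact (B' (A := A) B) (LinearMap.exact_map_mkQ_range g.hom) (Submodule.mkQ_surjective _)

theorem surjective_extendScalars_map_mkQ {M N : ModuleCat.{u} A} (g : M ⟶ N) :
    Function.Surjective ((ModuleCat.extendScalars (algebraMap A B)).map
        (ModuleCat.ofHom (LinearMap.range g.hom).mkQ)).hom :=
  LinearMap.lTensor_surjective (B' (A := A) B) (Submodule.mkQ_surjective _)

/-- Right exactness of extension of scalars, on cokernels. -/
noncomputable def cokerExtendEquiv {M N : ModuleCat.{u} A} (g : M ⟶ N) :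
    (((ModuleCat.extendScalars (algebraMap A B)).obj N) ⧸
      LinearMap.range ((ModuleCat.extendScalars (algebraMap A B)).map g).hom) ≃ₗ[B]
      (ModuleCat.extendScalars (algebraMap A B)).obj
        (ModuleCat.of A (N ⧸ LinearMap.range g.hom)) :=
  (Submodule.quotEquivOfEq _ _
    ((exact_extendScalars_map B g).linearMap_ker_eq).symm) ≪≫ₗ
    LinearMap.quotKerEquivOfSurjective _ (surjective_extendScalars_map_mkQ B g)

end extend

section rank

variable {A : Type u} [CommRing A]

/-- The dimension of the fibre `k(x) ⊗ W`. -/
noncomputable def fiberRank (W : Type u) [AddCommGroup W] [Module A W] (x : PrimeSpectrum A) : ℕ :=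
  Module.finrank x.asIdeal.ResidueField (x.asIdeal.ResidueField ⊗[A] W)

variable {ι : Type} {c : ComplexShape ι} (P : HomologicalComplex (ModuleCat.{u} A) c)

theorem dRank_eq (i j k : ι) (hi : c.prev j = i) (hk : c.next j = k)
    (hj : Module.Finite A (P.X j)) (hkf : Module.Finite A (P.X k)) (x : PrimeSpectrum A) :
    CohIII.dRank P j x =
      fiberRank (Wq P i j) x + fiberRank (Wq P j k) x - fiberRank (P.X k) x := by
  subst hi hk
  set K := x.asIdeal.ResidueField
  have e1 := (((CohIII.bcCx (algebraMap A K) P).sc j).moduleCatHomologyIso).toLinearEquiv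
  have hf2 : Module.Finite K ((ModuleCat.extendScalars (algebraMap A K)).obj (P.X j)) :=
    Module.Finite.equiv (extendScalarsEquiv K (P.X j)).symm
  have hf3 : Module.Finite K ((ModuleCat.extendScalars (algebraMap A K)).obj (P.X (c.next j))) :=
    Module.Finite.equiv (extendScalarsEquiv K (P.X (c.next j))).symm
  unfold CohIII.dRank
  rw [show Module.finrank K ((CohIII.bcCx (algebraMap A K) P).homology j) = _ from e1.finrank_eq]
  have := finrank_Hm (K := K)
    ((ModuleCat.extendScalars (algebraMap A K)).map (P.d (c.prev j) j)).hom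
    ((ModuleCat.extendScalars (algebraMap A K)).map (P.d j (c.next j))).hom
    (fun t => ((CohIII.bcCx (algebraMap A K) P).sc j).moduleCat_zero_apply t)
  refine this.trans ?_
  unfold fiberRank
  rw [((cokerExtendEquiv K (P.d (c.prev j) j)).trans (extendScalarsEquiv K _)).finrank_eq,
    ((cokerExtendEquiv K (P.d j (c.next j))).trans (extendScalarsEquiv K _)).finrank_eq,
    (extendScalarsEquiv K (P.X (c.next j))).finrank_eq]

end rank

end Groth.Agent.H12.FlatCx
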