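import Groth.Agent.H12.FlatCxKun
import Groth.Agent.H12.FlatCxFin
import Groth.Agent.H12.FlatCxLoc

/-!
# Vanishing criteria for `T_p(N) = H_p(P ⊗ N)` over Dedekind domains and discrete valuation rings

General complex shape versions of the comparison `H_j(P) ⊗ L → T_j(L)`, a universal-coefficient
style vanishing statement over a Dedekind domain, the consequences of `T_j(κ) = 0` over a discrete
valuation ring, and flatness / finiteness of the mapping cone.
-/

set_option autoImplicit false
set_option linter.style.haveILetI false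
universe u
open CategoryTheory MonoidalCategory TensorProduct

namespace Groth.Agent.H12.FlatCx

section General

variable {A : Type u} [CommRing A] {ι : Type} {c : ComplexShape ι}
variable (P : HomologicalComplex (ModuleCat.{u} A) c)

/-- The comparison `H_j(P) ⊗ L → T_j(L)`, any complex shape. -/
noncomputable def phiG (i j k : ι) (hi : c.prev j = i) (hk : c.next j = k) (L : ModuleCat.{u} A) :
    HP P i j k ⊗[A] L →ₗ[A] (CohIII.TFun P j).obj L :=
  (TEquiv P i j k hi hk L).symm.toLinearMap ∘ₗ
    tComp (P.d i j).hom (P.d j k).hom (d_d_apply P i j k) L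

theorem phiG_naturality (i j k : ι) (hi : c.prev j = i) (hk : c.next j = k)
    {L L' : ModuleCat.{u} A} (h : L ⟶ L') (t : HP P i j k ⊗[A] L) :
    ((CohIII.TFun P j).map h).hom (phiG P i j k hi hk L t) =
      phiG P i j k hi hk L' (h.hom.lTensor (HP P i j k) t) := by
  induction t using TensorProduct.induction_on with
  | zero => simp
  | tmul q m =>
    obtain ⟨z, rfl⟩ := Submodule.Quotient.mk_surjective _ q
    show ((CohIII.TFun P j).map h).hom ((TEquiv P i j k hi hk L).symm
        (tComp (P.d i j).hom (P.d j k).hom (d_d_apply P i j k) L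
          (Submodule.Quotient.mk z ⊗ₜ m))) =
      (TEquiv P i j k hi hk L').symm
        (tComp (P.d i j).hom (P.d j k).hom (d_d_apply P i j k) L'
          (Submodule.Quotient.mk z ⊗ₜ h.hom m))
    rw [TEquiv_symm_naturality]
    rfl
  | add a b ha hb => simp only [map_add, ha, hb]

theorem phiG_bijective (i j k : ι) (hi : c.prev j = i) (hk : c.next j = k)
    (L : ModuleCat.{u} A) [Module.Flat A L] : Function.Bijective (phiG P i j k hi hk L) := by
  have hK := kerOKR_of_flat (P.d j k).hom L
  rw [phiG, LinearMap.coe_comp]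
  exact (LinearEquiv.bijective _).comp
    ⟨tComp_injective _ _ _ L hK, tComp_surjective _ _ _ L hK⟩

theorem rid_dTG (i j : ι) (x : P.X i ⊗[A] A) :
    TensorProduct.rid A (P.X j) (dT P A i j x) = (P.d i j).hom (TensorProduct.rid A (P.X i) x) := by
  induction x using TensorProduct.induction_on with
  | zero => simp
  | tmul y a => simp [TensorProduct.rid_tmul]
  | add a b ha hb => simp only [map_add, ha, hb]

/-- `T_j(A) ≃ H_j(P)`, any complex shape. -/
noncomputable def TAEquivG (i j k : ι) (hi : c.prev j = i) (hk : c.next j = k) :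
    ((CohIII.TFun P j).obj (ModuleCat.of A A)) ≃ₗ[A] HP P i j k :=
  TEquiv P i j k hi hk (ModuleCat.of A A) ≪≫ₗ
    HmEquiv (dT P A i j) (dT P A j k) (dT_dT_apply P A i j k)
      (P.d i j).hom (P.d j k).hom (d_d_apply P i j k)
      (TensorProduct.rid A _) (TensorProduct.rid A _) (TensorProduct.rid A _)
      (rid_dTG P i j) (rid_dTG P j k)

theorem TFun_map_lsmulG (j : ι) (M : Type u) [AddCommGroup M] [Module A M] (r : A)
    (z : (CohIII.TFun P j).obj (ModuleCat.of A M)) :
    ((CohIII.TFun P j).map (ModuleCat.ofHom (LinearMap.lsmul A M r))).hom z = r • z := by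
  apply (TEquiv P (c.prev j) j (c.next j) rfl rfl (ModuleCat.of A M)).injective
  rw [TEquiv_naturality, map_smul]
  generalize (TEquiv P (c.prev j) j (c.next j) rfl rfl (ModuleCat.of A M)) z = w
  obtain ⟨y, rfl⟩ := Submodule.Quotient.mk_surjective _ w
  rw [HmMapT, HmMap_mk, ← Submodule.Quotient.mk_smul]
  congr 1
  apply Subtype.ext
  show (LinearMap.lsmul A M r).lTensor (P.X j) y.1 = r • y.1
  have h : LinearMap.lsmul A M r = r • LinearMap.id := by
    apply LinearMap.ext
    intro m
    rfl
  rw [h, LinearMap.lTensor_smul, LinearMap.lTensor_id]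
  rfl

/-- If `H_j(P) = 0` and `H_{j'}(P)` is flat (`j → j'`), then `T_j(N) = 0` for every `N` admitting
a presentation `0 → K → F → N → 0` with `K`, `F` flat. -/
theorem subsingleton_T_of_presentation (hP : ∀ i, Module.Flat A (P.X i))
    (i j j' k' : ι) (hi : c.prev j = i) (hrel : c.Rel j j') (hk' : c.next j' = k')
    (h0 : Subsingleton (HP P i j j')) (hfl : Module.Flat A (HP P j j' k'))
    {K F N : Type u} [AddCommGroup K] [Module A K] [AddCommGroup F] [Module A F]
    [AddCommGroup N] [Module A N] [Module.Flat A K] [Module.Flat A F]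
    (a : K →ₗ[A] F) (b : F →ₗ[A] N) (ha : Function.Injective a) (hb : Function.Surjective b)
    (hab : Function.Exact a b) :
    Subsingleton ((CohIII.TFun P j).obj (ModuleCat.of A N)) := by
  have hj' : c.next j = j' := c.next_eq' hrel
  have hj : c.prev j' = j := c.prev_eq' hrel
  have e3 := T_exact₃ P hP (ModuleCat.ofHom a) (ModuleCat.ofHom b) ha hb hab j j' hrel
  have e1 := T_exact₁ P hP (ModuleCat.ofHom a) (ModuleCat.ofHom b) ha hb hab j j' hrel
  haveI hTF : Subsingleton ((CohIII.TFun P j).obj (ModuleCat.of A F)) := by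
    haveI : Subsingleton (HP P i j j' ⊗[A] (ModuleCat.of A F)) :=
      tensor_subsingleton_left (A := A) (HP P i j j') F
    exact (phiG_bijective P i j j' hi hj' (ModuleCat.of A F)).2.subsingleton
  have hinj : Function.Injective ((CohIII.TFun P j').map (ModuleCat.ofHom a)).hom := by
    intro x y hxy
    obtain ⟨x', rfl⟩ := (phiG_bijective P j j' k' hj hk' (ModuleCat.of A K)).2 x
    obtain ⟨y', rfl⟩ := (phiG_bijective P j j' k' hj hk' (ModuleCat.of A K)).2 y
    rw [phiG_naturality, phiG_naturality] at hxy
    have h1 := (phiG_bijective P j j' k' hj hk' (ModuleCat.of A F)).1 hxy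
    have h2 : Function.Injective (a.lTensor (HP P j j' k')) :=
      Module.Flat.lTensor_preserves_injective_linearMap (M := HP P j j' k') a ha
    rw [h2 h1]
  have key : ∀ z : (CohIII.TFun P j).obj (ModuleCat.of A N), z = 0 := by
    intro z
    have hδ : (Tδ P hP (ModuleCat.ofHom a) (ModuleCat.ofHom b) ha hb hab j j' hrel).hom z = 0 := by
      apply hinj
      rw [map_zero]
      exact (e1 _).mpr ⟨z, rfl⟩
    obtain ⟨w, rfl⟩ := (e3 z).mp hδ
    rw [Subsingleton.elim w 0, map_zero]
  exact ⟨fun x y => by rw [key x, key y]⟩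

/-- Over a Dedekind domain: if `H_j(P) = 0` and `H_{j'}(P)` is flat (`j → j'`), then `T_j(N) = 0`
for every module `N`. -/
theorem subsingleton_T_of_dedekind [IsDedekindDomain A] (hP : ∀ i, Module.Flat A (P.X i))
    (i j j' k' : ι) (hi : c.prev j = i) (hrel : c.Rel j j') (hk' : c.next j' = k')
    (h0 : Subsingleton (HP P i j j')) (hfl : Module.Flat A (HP P j j' k'))
    (N : Type u) [AddCommGroup N] [Module A N] :
    Subsingleton ((CohIII.TFun P j).obj (ModuleCat.of A N)) := by
  haveI : Module.Flat A (LinearMap.ker (Finsupp.linearCombination A (id : N → N))) :=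
    flat_submodule_of_dedekind _
  refine subsingleton_T_of_presentation P hP i j j' k' hi hrel hk' h0 hfl
    (K := LinearMap.ker (Finsupp.linearCombination A (id : N → N))) (F := N →₀ A) (N := N)
    (LinearMap.ker (Finsupp.linearCombination A (id : N → N))).subtype
    (Finsupp.linearCombination A (id : N → N)) (Submodule.injective_subtype _) ?_ ?_
  · intro n
    exact ⟨Finsupp.single n 1, by simp⟩
  · intro y
    constructor
    · intro hy
      exact ⟨⟨y, hy⟩, rfl⟩
    · rintro ⟨z, rfl⟩
      exact z.2

/-- Over a discrete valuation ring with uniformizer `π`: if `T_j(κ) = 0` then `π` is surjective on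
`T_j(A)` and injective on `T_{j'}(A)` (`j → j'`). -/
theorem dvr_lsmul_of_residue [IsDomain A] [IsDiscreteValuationRing A]
    (hP : ∀ i, Module.Flat A (P.X i)) (π : A) (hπ : Irreducible π) (j j' : ι) (hrel : c.Rel j j')
    (h : Subsingleton ((CohIII.TFun P j).obj (ModuleCat.of A (IsLocalRing.ResidueField A)))) :
    Function.Surjective (LinearMap.lsmul A ((CohIII.TFun P j).obj (ModuleCat.of A A)) π) ∧
    Function.Injective (LinearMap.lsmul A ((CohIII.TFun P j').obj (ModuleCat.of A A)) π) := by
  let a : ModuleCat.of A A ⟶ ModuleCat.of A A := ModuleCat.ofHom (LinearMap.lsmul A A π)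
  let b : ModuleCat.of A A ⟶ ModuleCat.of A (IsLocalRing.ResidueField A) :=
    ModuleCat.ofHom (Algebra.linearMap A (IsLocalRing.ResidueField A))
  have ha : Function.Injective a.hom := by
    intro x y hxy
    exact mul_left_cancel₀ hπ.ne_zero hxy
  have hb : Function.Surjective b.hom := by
    intro y
    obtain ⟨x, rfl⟩ := IsLocalRing.residue_surjective y
    exact ⟨x, rfl⟩
  have hab : Function.Exact a.hom b.hom := by
    intro y
    have h1 : b.hom y = 0 ↔ y ∈ IsLocalRing.maximalIdeal A := IsLocalRing.residue_eq_zero_iff y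
    rw [h1, hπ.maximalIdeal_eq, Ideal.mem_span_singleton']
    constructor
    · rintro ⟨t, rfl⟩
      exact ⟨t, mul_comm π t⟩
    · rintro ⟨t, rfl⟩
      exact ⟨t, mul_comm t π⟩
  have e2 := T_exact₂ P hP a b ha hb hab j
  have e1 := T_exact₁ P hP a b ha hb hab j j' hrel
  have hfa : ((CohIII.TFun P j).map a).hom =
      LinearMap.lsmul A ((CohIII.TFun P j).obj (ModuleCat.of A A)) π :=
    LinearMap.ext (TFun_map_lsmulG P j A π)
  have hfa' : ((CohIII.TFun P j').map a).hom =
      LinearMap.lsmul A ((CohIII.TFun P j').obj (ModuleCat.of A A)) π :=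
    LinearMap.ext (TFun_map_lsmulG P j' A π)
  rw [hfa] at e2
  rw [hfa'] at e1
  constructor
  · intro y
    exact (e2 y).mp (Subsingleton.elim _ _)
  · intro x y hxy
    have hsub : LinearMap.lsmul A ((CohIII.TFun P j').obj (ModuleCat.of A A)) π (x - y) = 0 := by
      rw [map_sub, hxy, sub_self]
    obtain ⟨w, hw⟩ := (e1 (x - y)).mp hsub
    rw [Subsingleton.elim w 0, map_zero] at hw
    exact sub_eq_zero.mp hw.symm

theorem subsingleton_of_surjective_lsmul [IsLocalRing A] (π : A)
    (hπ : π ∈ IsLocalRing.maximalIdeal A) (H : Type u) [AddCommGroup H] [Module A H]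
    [Module.Finite A H] (hs : Function.Surjective (LinearMap.lsmul A H π)) : Subsingleton H := by
  have h := Submodule.eq_bot_of_le_smul_of_le_jacobson_bot (IsLocalRing.maximalIdeal A)
    (⊤ : Submodule A H) Module.Finite.fg_top (by
      intro x _
      obtain ⟨y, rfl⟩ := hs x
      exact Submodule.smul_mem_smul hπ Submodule.mem_top)
    (IsLocalRing.jacobson_eq_maximalIdeal ⊥ bot_ne_top).ge
  exact (Submodule.subsingleton_iff A).mp (subsingleton_of_bot_eq_top h.symm)

theorem noZeroSMulDivisors_of_injective_lsmul [IsDomain A] [IsDiscreteValuationRing A] (π : A)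
    (hπ : Irreducible π) (H : Type u) [AddCommGroup H] [Module A H]
    (hi : Function.Injective (LinearMap.lsmul A H π)) : NoZeroSMulDivisors A H := by
  have h' : IsSMulRegular H π := hi
  haveI : Module.IsTorsionFree A H := by
    refine ⟨fun r hr => ?_⟩
    have hr0 : r ≠ 0 := hr.ne_zero
    obtain ⟨n, u, rfl⟩ := IsDiscreteValuationRing.eq_unit_mul_pow_irreducible hr0 hπ
    exact (u.isSMulRegular H).mul (IsSMulRegular.pow n h')
  exact ⟨fun h => smul_eq_zero.mp h⟩

end General

section Cone

variable {V : Type u} [CommRing V]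

theorem flat_mappingCone_X [IsDedekindDomain V] {K L : CochainComplex (ModuleCat.{u} V) ℤ}
    (f : K ⟶ L) (hK : ∀ i, Module.Flat V (K.X i)) (hL : ∀ i, Module.Flat V (L.X i)) (p : ℤ) :
    Module.Flat V ((CochainComplex.mappingCone f).X p) := by
  haveI := hK (p + 1)
  haveI := hL p
  haveI : Module.IsTorsionFree V (K.X (p + 1)) := inferInstance
  haveI : Module.IsTorsionFree V (L.X p) := inferInstance
  haveI : Module.Flat V (K.X (p + 1) × L.X p) := inferInstance
  let e : (CochainComplex.mappingCone f).X p ≅ K.X (p + 1) ⊞ L.X p :=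
    HomologicalComplex.homotopyCofiber.XIsoBiprod f p (p + 1) rfl
  exact Module.Flat.of_linearEquiv (e ≪≫ ModuleCat.biprodIsoProd _ _).toLinearEquiv

theorem finite_mappingCone_homology [IsNoetherianRing V]
    {K L : CochainComplex (ModuleCat.{u} V) ℤ}
    (f : K ⟶ L) (hKf : ∀ i, Module.Finite V (K.homology i))
    (hLf : ∀ i, Module.Finite V (L.homology i)) (p : ℤ) :
    Module.Finite V ((CochainComplex.mappingCone f).homology p) := by
  have hT := HomotopyCategory.mappingCone_triangleh_distinguished f
  have hex := (HomotopyCategory.homologyFunctor (ModuleCat.{u} V)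
    (ComplexShape.up ℤ) 0).homologySequence_exact₃ _ hT p (p + 1) rfl
  have hrk := hex.moduleCat_range_eq_ker
  have hex' : Function.Exact
      (((HomotopyCategory.homologyFunctor (ModuleCat.{u} V) (ComplexShape.up ℤ) p).map
        (CochainComplex.mappingCone.triangleh f).mor₂).hom)
      (((HomotopyCategory.homologyFunctor (ModuleCat.{u} V)
        (ComplexShape.up ℤ) 0).homologySequenceδ
          (CochainComplex.mappingCone.triangleh f) p (p + 1) rfl).hom) :=
    LinearMap.exact_iff.mpr hrk.symm
  let eL : (HomotopyCategory.homologyFunctor (ModuleCat.{u} V) (ComplexShape.up ℤ) p).obj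
      ((HomotopyCategory.quotient _ _).obj L) ≅ L.homology p :=
    (HomotopyCategory.homologyFunctorFactors (ModuleCat.{u} V) (ComplexShape.up ℤ) p).app L
  let eM : (HomotopyCategory.homologyFunctor (ModuleCat.{u} V) (ComplexShape.up ℤ) p).obj
      ((HomotopyCategory.quotient _ _).obj (CochainComplex.mappingCone f)) ≅
        (CochainComplex.mappingCone f).homology p :=
    (HomotopyCategory.homologyFunctorFactors (ModuleCat.{u} V) (ComplexShape.up ℤ) p).app
      (CochainComplex.mappingCone f)
  let eK : (HomotopyCategory.homologyFunctor (ModuleCat.{u} V) (ComplexShape.up ℤ) (p + 1)).obj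
      ((HomotopyCategory.quotient _ _).obj K) ≅ K.homology (p + 1) :=
    (HomotopyCategory.homologyFunctorFactors (ModuleCat.{u} V) (ComplexShape.up ℤ) (p + 1)).app K
  have h1 : Module.Finite V
      ((HomotopyCategory.homologyFunctor (ModuleCat.{u} V) (ComplexShape.up ℤ) p).obj
        ((HomotopyCategory.quotient _ _).obj L)) :=
    haveI := hLf p
    Module.Finite.equiv eL.toLinearEquiv.symm
  have h3 : Module.Finite V
      ((HomotopyCategory.homologyFunctor (ModuleCat.{u} V) (ComplexShape.up ℤ) (p + 1)).obj
        ((HomotopyCategory.quotient _ _).obj K)) :=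
    haveI := hKf (p + 1)
    Module.Finite.equiv eK.toLinearEquiv.symm
  haveI h2 : Module.Finite V
      ((HomotopyCategory.homologyFunctor (ModuleCat.{u} V) (ComplexShape.up ℤ) p).obj
        ((HomotopyCategory.quotient _ _).obj (CochainComplex.mappingCone f))) :=
    finite_of_exact _ _ hex' h1 h3
  exact Module.Finite.equiv eM.toLinearEquiv

/-- Over a discrete valuation ring, for a cochain complex `M` of flat modules with finite
cohomology: vanishing of `H^p(M)` for `p < m` together with torsion-freeness of `H^m(M)` is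
equivalent to vanishing of `H^p(M ⊗ N)` for `p < m` and all `N`, and to the same for the residue
field alone. -/
theorem dvr_vanishing_iff [IsDomain V] [IsDiscreteValuationRing V]
    (M : CochainComplex (ModuleCat.{u} V) ℤ) (hM : ∀ i, Module.Flat V (M.X i))
    (hMf : ∀ i, Module.Finite V (M.homology i)) (m : ℤ) :
    (((∀ p : ℤ, p ≤ m - 1 → Limits.IsZero (M.homology p)) ∧
        NoZeroSMulDivisors V (M.homology m)) ↔
      ∀ (N : ModuleCat.{u} V) (p : ℤ), p ≤ m - 1 → Limits.IsZero ((CohIII.TFun M p).obj N)) ∧
    (((∀ p : ℤ, p ≤ m - 1 → Limits.IsZero (M.homology p)) ∧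
        NoZeroSMulDivisors V (M.homology m)) ↔
      ∀ p : ℤ, p ≤ m - 1 → Limits.IsZero
        ((CohIII.TFun M p).obj (ModuleCat.of V (IsLocalRing.ResidueField V)))) := by
  have h12 : ((∀ p : ℤ, p ≤ m - 1 → Limits.IsZero (M.homology p)) ∧
        NoZeroSMulDivisors V (M.homology m)) →
      ∀ (N : ModuleCat.{u} V) (p : ℤ), p ≤ m - 1 →
        Limits.IsZero ((CohIII.TFun M p).obj N) := by
    rintro ⟨hz, hnz⟩ N p hp
    have hrel : (ComplexShape.up ℤ).Rel p (p + 1) := rfl
    have h0 : Subsingleton (HP M (p - 1) p (p + 1)) :=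
      haveI := ModuleCat.subsingleton_of_isZero (hz p hp)
      (homologyEquivHP M (p - 1) p (p + 1) (CochainComplex.prev ℤ p)
        (CochainComplex.next ℤ p)).surjective.subsingleton
    have hfl : Module.Flat V (HP M p (p + 1) (p + 1 + 1)) := by
      haveI : Module.IsTorsionFree V (M.homology (p + 1)) := by
        rcases (show p + 1 ≤ m - 1 ∨ p + 1 = m by omega) with h | h
        · haveI := ModuleCat.subsingleton_of_isZero (hz (p + 1) h)
          infer_instance
        · subst h
          exact Module.isTorsionFree_iff_smul_eq_zero.mpr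
            (fun r x hrx => hnz.eq_zero_or_eq_zero_of_smul_eq_zero hrx)
      haveI : Module.Flat V (M.homology (p + 1)) := inferInstance
      exact Module.Flat.of_linearEquiv (homologyEquivHP M p (p + 1) (p + 1 + 1)
        ((ComplexShape.up ℤ).prev_eq' hrel) (CochainComplex.next ℤ (p + 1))).symm
    have hs := subsingleton_T_of_dedekind M hM (p - 1) p (p + 1) (p + 1 + 1)
      (CochainComplex.prev ℤ p) hrel (CochainComplex.next ℤ (p + 1)) h0 hfl N
    exact @ModuleCat.isZero_of_subsingleton _ _ _ hs
  have h31 : (∀ p : ℤ, p ≤ m - 1 → Limits.IsZero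
        ((CohIII.TFun M p).obj (ModuleCat.of V (IsLocalRing.ResidueField V)))) →
      ((∀ p : ℤ, p ≤ m - 1 → Limits.IsZero (M.homology p)) ∧
        NoZeroSMulDivisors V (M.homology m)) := by
    intro h
    obtain ⟨π, hπ⟩ := IsDiscreteValuationRing.exists_irreducible V
    have hπm : π ∈ IsLocalRing.maximalIdeal V := by
      rw [hπ.maximalIdeal_eq]
      exact Ideal.mem_span_singleton_self π
    have eq : ∀ q : ℤ, ((CohIII.TFun M q).obj (ModuleCat.of V V)) ≃ₗ[V] M.homology q := fun q =>
      (TAEquivG M (q - 1) q (q + 1) (CochainComplex.prev ℤ q) (CochainComplex.next ℤ q)).trans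
        (homologyEquivHP M (q - 1) q (q + 1) (CochainComplex.prev ℤ q)
          (CochainComplex.next ℤ q)).symm
    have hres : ∀ j j' : ℤ, (ComplexShape.up ℤ).Rel j j' → j ≤ m - 1 →
        Function.Surjective (LinearMap.lsmul V ((CohIII.TFun M j).obj (ModuleCat.of V V)) π) ∧
        Function.Injective (LinearMap.lsmul V ((CohIII.TFun M j').obj (ModuleCat.of V V)) π) :=
      fun j j' hrel hj => dvr_lsmul_of_residue M hM π hπ j j' hrel
        (ModuleCat.subsingleton_of_isZero (h j hj))
    constructor
    · intro p hp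
      haveI : Module.Finite V ((CohIII.TFun M p).obj (ModuleCat.of V V)) :=
        haveI := hMf p
        Module.Finite.equiv (eq p).symm
      haveI := subsingleton_of_surjective_lsmul π hπm _ (hres p (p + 1) rfl hp).1
      haveI : Subsingleton (M.homology p) := (eq p).surjective.subsingleton
      exact ModuleCat.isZero_of_subsingleton _
    · have hinj := (hres (m - 1) m (by simp) le_rfl).2
      haveI := noZeroSMulDivisors_of_injective_lsmul π hπ _ hinj
      exact Function.Injective.noZeroSMulDivisors (eq m).symm (eq m).symm.injective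
        (map_zero _) (fun r x => map_smul _ r x)
  exact ⟨⟨h12, fun h => h31 (fun p hp => h _ p hp)⟩, ⟨fun h p hp => h12 h _ p hp, h31⟩⟩

end Cone

end Groth.Agent.H12.FlatCx
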