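import Mathlib
import Groth.Prelude.Def_Wider

/-!
# Formal glueing, module level (helper12)

For a flat ring map `A → B` and an ideal `I` with `A/I ≅ B/IB`, the map `X → B ⊗_A X`,
`x ↦ 1 ⊗ x`, is bijective for every `I`-power torsion `A`-module `X`.
-/

set_option autoImplicit false
universe u
open TensorProduct

namespace Groth.Agent.H12.FormalGlue

section Mod

variable {A B : Type u} [CommRing A] [CommRing B] [Algebra A B] (I : Ideal A)
  (hs : Function.Surjective
    ((Ideal.Quotient.mk (I.map (algebraMap A B))).comp (algebraMap A B)))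
  (hk : RingHom.ker ((Ideal.Quotient.mk (I.map (algebraMap A B))).comp (algebraMap A B)) = I)

/-- elements of `IB` kill `B ⊗ X` from the left when `I` kills `X` -/
theorem tmul_eq_zero_of_mem_map (X : Type u) [AddCommGroup X] [Module A X]
    (hX : ∀ a ∈ I, ∀ x : X, a • x = 0) (c : B) (hc : c ∈ I.map (algebraMap A B)) (x : X) :
    c ⊗ₜ[A] x = 0 := by
  have hc' : c ∈ Submodule.span B ((algebraMap A B) '' (I : Set A)) := hc
  refine Submodule.span_induction (p := fun c _ => c ⊗ₜ[A] x = 0) ?_ ?_ ?_ ?_ hc'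
  · rintro _ ⟨i, hi, rfl⟩
    rw [Algebra.algebraMap_eq_smul_one, TensorProduct.smul_tmul, hX i hi x, tmul_zero]
  · exact zero_tmul _ _
  · intro c₁ c₂ _ _ h₁ h₂
    rw [add_tmul, h₁, h₂, add_zero]
  · intro b c₁ _ h₁
    have : (b • c₁) ⊗ₜ[A] x = b • (c₁ ⊗ₜ[A] x) := (TensorProduct.smul_tmul' b c₁ x).symm
    rw [this, h₁, smul_zero]

include hs in
theorem surjective_mk_of_killed (X : Type u) [AddCommGroup X] [Module A X]
    (hX : ∀ a ∈ I, ∀ x : X, a • x = 0) :
    Function.Surjective (TensorProduct.mk A B X 1) := by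
  intro z
  induction z using TensorProduct.induction_on with
  | zero => exact ⟨0, map_zero _⟩
  | tmul b x =>
    obtain ⟨a, ha⟩ := hs (Ideal.Quotient.mk (I.map (algebraMap A B)) b)
    have hmem : b - algebraMap A B a ∈ I.map (algebraMap A B) := by
      rw [← Ideal.Quotient.eq]
      exact ha.symm
    have h0 := tmul_eq_zero_of_mem_map I X hX _ hmem x
    refine ⟨a • x, ?_⟩
    show (1 : B) ⊗ₜ[A] (a • x) = b ⊗ₜ[A] x
    rw [sub_tmul, sub_eq_zero] at h0
    rw [h0, Algebra.algebraMap_eq_smul_one, TensorProduct.smul_tmul]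
  | add z₁ z₂ h₁ h₂ =>
    obtain ⟨x₁, hx₁⟩ := h₁
    obtain ⟨x₂, hx₂⟩ := h₂
    exact ⟨x₁ + x₂, by rw [map_add, hx₁, hx₂]⟩

include hs hk in
theorem injective_mk_of_killed (X : Type u) [AddCommGroup X] [Module A X]
    (hX : ∀ a ∈ I, ∀ x : X, a • x = 0) :
    Function.Injective (TensorProduct.mk A B X 1) := by
  let J : Ideal B := I.map (algebraMap A B)
  let π : A →ₗ[A] (B ⧸ J) :=
    (Ideal.Quotient.mkₐ A J).toLinearMap ∘ₗ (Algebra.linearMap A B)
  have hπ : ∀ a : A, π a = Ideal.Quotient.mk J (algebraMap A B a) := fun a => rfl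
  have hπs : Function.Surjective π := fun y => by
    obtain ⟨a, ha⟩ := hs y
    exact ⟨a, ha⟩
  have hπk : ∀ a : A, a ∈ LinearMap.ker π → a ∈ I := by
    intro a ha
    rw [← hk]
    exact (RingHom.mem_ker).2 (LinearMap.mem_ker.1 ha)
  let e : (A ⧸ LinearMap.ker π) ≃ₗ[A] (B ⧸ J) := π.quotKerEquivOfSurjective hπs
  let ℓ : A →ₗ[A] (X →ₗ[A] X) := LinearMap.lsmul A X
  have hℓ : LinearMap.ker π ≤ LinearMap.ker ℓ := by
    intro a ha
    rw [LinearMap.mem_ker]
    refine LinearMap.ext fun x => ?_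
    show a • x = 0
    exact hX a (hπk a ha) x
  let ℓ' : (A ⧸ LinearMap.ker π) →ₗ[A] (X →ₗ[A] X) := (LinearMap.ker π).liftQ ℓ hℓ
  let g : B →ₗ[A] (X →ₗ[A] X) :=
    ℓ' ∘ₗ e.symm.toLinearMap ∘ₗ (Ideal.Quotient.mkₐ A J).toLinearMap
  let r : B ⊗[A] X →ₗ[A] X := TensorProduct.lift g
  have hr : ∀ x : X, r ((1 : B) ⊗ₜ[A] x) = x := by
    intro x
    have h1 : e.symm ((Ideal.Quotient.mkₐ A J) (1 : B)) =
        Submodule.Quotient.mk (p := LinearMap.ker π) (1 : A) := by
      rw [LinearEquiv.symm_apply_eq]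
      show Ideal.Quotient.mk J (1 : B) = π.quotKerEquivOfSurjective hπs
        (Submodule.Quotient.mk (1 : A))
      rw [LinearMap.quotKerEquivOfSurjective_apply_mk, hπ]
      simp only [map_one]
    show ℓ' (e.symm ((Ideal.Quotient.mkₐ A J) (1 : B))) x = x
    rw [h1]
    show ℓ 1 x = x
    exact one_smul A x
  intro x₁ x₂ h
  have h' : (1 : B) ⊗ₜ[A] x₁ = (1 : B) ⊗ₜ[A] x₂ := h
  rw [← hr x₁, ← hr x₂, h']

variable [Module.Flat A B]

include hs hk in
/-- modules killed by a power of `I` -/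
theorem bijective_mk_of_pow_killed : ∀ (n : ℕ) (X : Type u) [AddCommGroup X] [Module A X],
    (∀ a ∈ I ^ n, ∀ x : X, a • x = 0) → Function.Bijective (TensorProduct.mk A B X 1) := by
  intro n
  induction n with
  | zero =>
    intro X _ _ hX
    have hsub : ∀ x : X, x = 0 := fun x => by
      have h1 : (1 : A) ∈ I ^ 0 := by
        rw [pow_zero, Ideal.one_eq_top]
        exact Submodule.mem_top
      have := hX 1 h1 x
      rwa [one_smul] at this
    have hsub' : ∀ z : B ⊗[A] X, z = 0 := by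
      intro z
      induction z using TensorProduct.induction_on with
      | zero => rfl
      | tmul b x => rw [hsub x, tmul_zero]
      | add z₁ z₂ h₁ h₂ => rw [h₁, h₂, add_zero]
    exact ⟨fun x₁ x₂ _ => by rw [hsub x₁, hsub x₂], fun z => ⟨0, by rw [hsub' z, map_zero]⟩⟩
  | succ n ih =>
    intro X _ _ hX
    let X' : Submodule A X := I • (⊤ : Submodule A X)
    have hX' : ∀ a ∈ I ^ n, ∀ y : X', a • y = 0 := by
      intro a ha y
      apply Subtype.ext
      show a • (y : X) = 0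
      have hy : (y : X) ∈ I • (⊤ : Submodule A X) := y.2
      refine Submodule.smul_induction_on hy ?_ ?_
      · intro i hi x _
        rw [smul_smul]
        exact hX (a * i) (by rw [pow_succ]; exact Ideal.mul_mem_mul ha hi) x
      · intro y₁ y₂ h₁ h₂
        rw [smul_add, h₁, h₂, add_zero]
    have hX'' : ∀ a ∈ I, ∀ y : X ⧸ X', a • y = 0 := by
      intro a ha y
      obtain ⟨x, rfl⟩ := Submodule.Quotient.mk_surjective X' y
      rw [← Submodule.Quotient.mk_smul, Submodule.Quotient.mk_eq_zero]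
      exact Submodule.smul_mem_smul ha Submodule.mem_top
    have b' := ih X' hX'
    have bi'' := injective_mk_of_killed I hs hk (X ⧸ X') hX''
    have bs'' := surjective_mk_of_killed I hs (X ⧸ X') hX''
    have hinj : Function.Injective (LinearMap.lTensor B X'.subtype) :=
      Module.Flat.lTensor_preserves_injective_linearMap _ X'.injective_subtype
    have hex : Function.Exact (LinearMap.lTensor B X'.subtype) (LinearMap.lTensor B X'.mkQ) :=
      lTensor_exact B (LinearMap.exact_subtype_mkQ X') (Submodule.mkQ_surjective X')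
    constructor
    · intro x₁ x₂ h
      have h0 : (1 : B) ⊗ₜ[A] (x₁ - x₂) = 0 := by
        have h' : (1 : B) ⊗ₜ[A] x₁ = (1 : B) ⊗ₜ[A] x₂ := h
        rw [tmul_sub, h', sub_self]
      have h1 : (1 : B) ⊗ₜ[A] (X'.mkQ (x₁ - x₂)) = 0 := by
        have := congrArg (LinearMap.lTensor B X'.mkQ) h0
        rwa [LinearMap.lTensor_tmul, map_zero] at this
      have h2 : X'.mkQ (x₁ - x₂) = 0 :=
        bi'' (show TensorProduct.mk A B (X ⧸ X') 1 (X'.mkQ (x₁ - x₂)) =
          TensorProduct.mk A B (X ⧸ X') 1 0 by rw [map_zero]; exact h1)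
      have h3 : x₁ - x₂ ∈ X' := (Submodule.Quotient.mk_eq_zero X').1 h2
      have h4 : LinearMap.lTensor B X'.subtype ((1 : B) ⊗ₜ[A] (⟨x₁ - x₂, h3⟩ : X')) = 0 := by
        rw [LinearMap.lTensor_tmul]
        exact h0
      have h5 : (1 : B) ⊗ₜ[A] (⟨x₁ - x₂, h3⟩ : X') = 0 :=
        hinj (h4.trans (map_zero _).symm)
      have h6 : (⟨x₁ - x₂, h3⟩ : X') = 0 :=
        b'.1 (show TensorProduct.mk A B X' 1 ⟨x₁ - x₂, h3⟩ = TensorProduct.mk A B X' 1 0 by
          rw [map_zero]; exact h5)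
      have h7 : x₁ - x₂ = 0 := congrArg Subtype.val h6
      exact sub_eq_zero.1 h7
    · intro z
      obtain ⟨y, hy⟩ := bs'' (LinearMap.lTensor B X'.mkQ z)
      obtain ⟨x, rfl⟩ := Submodule.Quotient.mk_surjective X' y
      have h1 : LinearMap.lTensor B X'.mkQ (z - (1 : B) ⊗ₜ[A] x) = 0 := by
        rw [map_sub, LinearMap.lTensor_tmul, sub_eq_zero]
        exact hy.symm
      obtain ⟨w, hw⟩ := (hex _).1 h1
      obtain ⟨x', hx'⟩ := b'.2 w
      refine ⟨x + (x' : X), ?_⟩
      have h2 : LinearMap.lTensor B X'.subtype ((1 : B) ⊗ₜ[A] x') = (1 : B) ⊗ₜ[A] (x' : X) := by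
        rw [LinearMap.lTensor_tmul]
        rfl
      have hx'' : (1 : B) ⊗ₜ[A] x' = w := hx'
      show (1 : B) ⊗ₜ[A] (x + (x' : X)) = z
      rw [tmul_add, ← h2, hx'', hw]
      abel

include hs hk in
/-- `x ↦ 1 ⊗ x` is bijective on `I`-power torsion modules -/
theorem bijective_mk_of_isPowerTorsion (X : Type u) [AddCommGroup X] [Module A X]
    (hX : LocCoh.IsPowerTorsion I X) : Function.Bijective (TensorProduct.mk A B X 1) := by
  have key : ∀ x : X, ∃ n : ℕ, ∀ a ∈ I ^ n, ∀ y : Submodule.span A ({x} : Set X), a • y = 0 := by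
    intro x
    obtain ⟨n, hn⟩ := hX x
    refine ⟨n, fun a ha y => ?_⟩
    apply Subtype.ext
    obtain ⟨c, hc⟩ := Submodule.mem_span_singleton.1 y.2
    show a • (y : X) = 0
    rw [← hc, smul_comm, hn a ha, smul_zero]
  constructor
  · intro x₁ x₂ h
    have h0 : (1 : B) ⊗ₜ[A] (x₁ - x₂) = 0 := by
      have h' : (1 : B) ⊗ₜ[A] x₁ = (1 : B) ⊗ₜ[A] x₂ := h
      rw [tmul_sub, h', sub_self]
    obtain ⟨n, hn⟩ := key (x₁ - x₂)
    have b' := bijective_mk_of_pow_killed I hs hk n _ hn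
    have hmem : x₁ - x₂ ∈ Submodule.span A ({x₁ - x₂} : Set X) :=
      Submodule.mem_span_singleton_self _
    have hinj : Function.Injective
        (LinearMap.lTensor B (Submodule.span A ({x₁ - x₂} : Set X)).subtype) :=
      Module.Flat.lTensor_preserves_injective_linearMap _ (Submodule.injective_subtype _)
    have h4 : LinearMap.lTensor B (Submodule.span A ({x₁ - x₂} : Set X)).subtype
        ((1 : B) ⊗ₜ[A] (⟨x₁ - x₂, hmem⟩ : Submodule.span A ({x₁ - x₂} : Set X))) = 0 := by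
      rw [LinearMap.lTensor_tmul]
      exact h0
    have h5 := hinj (h4.trans (map_zero _).symm)
    have h6 : (⟨x₁ - x₂, hmem⟩ : Submodule.span A ({x₁ - x₂} : Set X)) = 0 :=
      b'.1 (show TensorProduct.mk A B (Submodule.span A ({x₁ - x₂} : Set X)) 1 ⟨x₁ - x₂, hmem⟩ =
          TensorProduct.mk A B (Submodule.span A ({x₁ - x₂} : Set X)) 1 0 by
        rw [map_zero]; exact h5)
    exact sub_eq_zero.1 (congrArg Subtype.val h6)
  · intro z
    induction z using TensorProduct.induction_on with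
    | zero => exact ⟨0, map_zero _⟩
    | tmul b x =>
      obtain ⟨n, hn⟩ := key x
      have b' := bijective_mk_of_pow_killed I hs hk n _ hn
      have hmem : x ∈ Submodule.span A ({x} : Set X) := Submodule.mem_span_singleton_self _
      obtain ⟨x', hx'⟩ := b'.2 (b ⊗ₜ[A] (⟨x, hmem⟩ : Submodule.span A ({x} : Set X)))
      refine ⟨(x' : X), ?_⟩
      have hx'' : (1 : B) ⊗ₜ[A] x' = b ⊗ₜ[A] (⟨x, hmem⟩ : Submodule.span A ({x} : Set X)) := hx'
      have := congrArg (LinearMap.lTensor B (Submodule.span A ({x} : Set X)).subtype) hx''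
      rw [LinearMap.lTensor_tmul, LinearMap.lTensor_tmul] at this
      exact this
    | add z₁ z₂ h₁ h₂ =>
      obtain ⟨x₁, hx₁⟩ := h₁
      obtain ⟨x₂, hx₂⟩ := h₂
      exact ⟨x₁ + x₂, by rw [map_add, hx₁, hx₂]⟩

end Mod

end Groth.Agent.H12.FormalGlue
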