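import Mathlib
import Groth.Agent.H12.LocHomF

/-!
# Formal glueing, derived level (helper12)

For a flat ring map `A → B`:
* `commShiftL`, `isTriangulated_L`: the derived base change `L : D(A) ⥤ D(B)` is triangulated
  (as left adjoint of restriction of scalars), hence so is `TF = L ⋙ restrictD`;
* `TF_map_smul_id`: `TF` is `A`-linear on scalar endomorphisms;
* `isIso_unit_of_homology`: the unit `N ⟶ (N ⊗^L B)|_A` is an isomorphism as soon as the units
  `H^n(N) ⟶ (B ⊗ H^n(N))|_A` are.
-/

set_option autoImplicit false
universe u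
open CategoryTheory CategoryTheory.Limits DerivedCategory Pretriangulated

namespace Groth.Agent.H12.FormalGlue

attribute [local instance] HasDerivedCategory.standard

section Derived

variable (A B : Type u) [CommRing A] [CommRing B] [Algebra A B]
  [DRing.HasLBaseChange (algebraMap A B)]

/-- the adjunction `LBaseChange ⊣ restrictD` -/
noncomputable abbrev adjF :
    DRing.LBaseChange (algebraMap A B) ⊣ DRing.restrictD (algebraMap A B) :=
  H35.TorIndBC.adj₀ (algebraMap A B)

/-- `N ↦ (N ⊗^L B)|_A` -/
noncomputable abbrev TF : Dual.D A ⥤ Dual.D A :=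
  DRing.LBaseChange (algebraMap A B) ⋙ DRing.restrictD (algebraMap A B)

/-- the unit `N ⟶ (N ⊗^L B)|_A` -/
noncomputable abbrev ηF (N : Dual.D A) : N ⟶ (TF A B).obj N := (adjF A B).unit.app N

/-- the induced commutation of `L` with shifts -/
noncomputable def commShiftL : (DRing.LBaseChange (algebraMap A B)).CommShift ℤ :=
  (adjF A B).leftAdjointCommShift ℤ

attribute [local instance] commShiftL

theorem adjF_commShift : (adjF A B).CommShift ℤ :=
  (adjF A B).commShift_of_rightAdjoint ℤ

theorem isTriangulated_L : (DRing.LBaseChange (algebraMap A B)).IsTriangulated := by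
  haveI := adjF_commShift A B
  exact (adjF A B).isTriangulated_leftAdjoint

theorem isTriangulated_TF : (TF A B).IsTriangulated := by
  haveI := isTriangulated_L A B
  infer_instance

theorem L_additive' : (DRing.LBaseChange (algebraMap A B)).Additive :=
  (adjF A B).left_adjoint_additive

theorem homEquiv_smul'' (K : Dual.D A) (X : Dual.D B) (a : A)
    (g : (DRing.LBaseChange (algebraMap A B)).obj K ⟶ X) :
    (adjF A B).homEquiv K X (algebraMap A B a • g) = a • (adjF A B).homEquiv K X g := by
  have h : algebraMap A B a • g = g ≫ (algebraMap A B a • 𝟙 X) := by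
    rw [Linear.comp_smul, Category.comp_id]
  have h2 : (DRing.restrictD (algebraMap A B)).map (algebraMap A B a • 𝟙 X) =
      a • 𝟙 ((DRing.restrictD (algebraMap A B)).obj X) :=
    AdjFin.resD_map_smul_id (algebraMap A B) a X
  rw [h, Adjunction.homEquiv_naturality_right, h2, Linear.comp_smul, Category.comp_id]

theorem L_map_smul' (a : A) {K K' : Dual.D A} (f : K ⟶ K') :
    (DRing.LBaseChange (algebraMap A B)).map (a • f) =
      algebraMap A B a • (DRing.LBaseChange (algebraMap A B)).map f := by
  apply ((adjF A B).homEquiv K _).injective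
  rw [homEquiv_smul'', Adjunction.homEquiv_unit, Adjunction.homEquiv_unit,
    Adjunction.unit_naturality, Adjunction.unit_naturality, Linear.smul_comp]

theorem TF_map_smul_id (c : A) (X : Dual.D A) :
    (TF A B).map (c • 𝟙 X) = c • 𝟙 ((TF A B).obj X) := by
  show (DRing.restrictD (algebraMap A B)).map
    ((DRing.LBaseChange (algebraMap A B)).map (c • 𝟙 X)) = _
  rw [L_map_smul', CategoryTheory.Functor.map_id]
  exact AdjFin.resD_map_smul_id (algebraMap A B) c _

variable [Module.Flat A B]

theorem isIso_homologyMap_unitCx (P : DRing.Cx A) (n : ℤ)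
    (h : IsIso ((ModuleCat.extendRestrictScalarsAdj.{u, u, u} (algebraMap A B)).unit.app
      (P.homology n))) :
    IsIso (HomologicalComplex.homologyMap ((DTen.unitCx (algebraMap A B)).app P) n) := by
  haveI : PreservesFiniteLimits (ModuleCat.extendScalars.{u, u, u} (algebraMap A B)) :=
    ModuleCat.preservesFiniteLimits_extendScalars_of_flat
      (RingHom.flat_algebraMap_iff.2 inferInstance)
  have h1 : HomologicalComplex.homologyMap ((DTen.unitCx (algebraMap A B)).app P) n =
      ShortComplex.homologyMap ((P.sc n).mapNatTrans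
        (ModuleCat.extendRestrictScalarsAdj.{u, u, u} (algebraMap A B)).unit) := rfl
  rw [h1, ShortComplex.homologyMap_mapNatTrans]
  have hu : IsIso ((ModuleCat.extendRestrictScalarsAdj.{u, u, u} (algebraMap A B)).unit.app
      (P.sc n).homology) := h
  exact IsIso.comp_isIso' inferInstance (IsIso.comp_isIso' hu inferInstance)

theorem isIso_unit_of_homology (N : Dual.D A)
    (h : ∀ n : ℤ, IsIso ((ModuleCat.extendRestrictScalarsAdj.{u, u, u} (algebraMap A B)).unit.app
      ((homologyFunctor (ModuleCat.{u} A) n).obj N))) : IsIso (ηF A B N) := by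
  rw [DerivedCategory.isIso_iff]
  intro n
  obtain ⟨P, hP, -, ⟨e⟩⟩ := H35.LBC.exists_kflat_model N
  have hnat : e.hom ≫ ηF A B N = ηF A B (DRing.toD P) ≫ (TF A B).map e.hom :=
    (adjF A B).unit.naturality e.hom
  have hfac := H35.TorIndBC.adj₀_unit_fac (algebraMap A B) P
  haveI := H35.TorIndBC.isIso_aLB_app (algebraMap A B) P hP
  have h1 : ηF A B (DRing.toD P) =
      Q.map ((DTen.unitCx (algebraMap A B)).app P) ≫
        ((DTen.resFactors (algebraMap A B)).inv.app ((DTen.extCx (algebraMap A B)).obj P) ≫
        inv ((DRing.restrictD (algebraMap A B)).map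
          ((H35.TorIndBC.aLB (algebraMap A B)).app P))) := by
    rw [← Category.assoc, ← hfac, Category.assoc, IsIso.hom_inv_id]
    exact (Category.comp_id _).symm
  have h2 : ηF A B N = e.inv ≫ ηF A B (DRing.toD P) ≫ (TF A B).map e.hom := by
    rw [← hnat, e.inv_hom_id_assoc]
  rw [h2, h1, Functor.map_comp, Functor.map_comp, Functor.map_comp, Category.assoc]
  let φ : (homologyFunctor (ModuleCat.{u} A) n).obj N ≅ P.homology n :=
    (homologyFunctor (ModuleCat.{u} A) n).mapIso e.symm ≪≫
      (homologyFunctorFactors (ModuleCat.{u} A) n).app P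
  have hu : IsIso ((ModuleCat.extendRestrictScalarsAdj.{u, u, u} (algebraMap A B)).unit.app
      (P.homology n)) :=
    (NatTrans.isIso_app_iff_of_iso _ φ).1 (h n)
  have hiso := isIso_homologyMap_unitCx A B P n hu
  haveI : IsIso ((homologyFunctor (ModuleCat.{u} A) n).map
      (Q.map ((DTen.unitCx (algebraMap A B)).app P))) :=
    (NatIso.isIso_map_iff (homologyFunctorFactors (ModuleCat.{u} A) n)
      ((DTen.unitCx (algebraMap A B)).app P)).2 hiso
  infer_instance

end Derived

end Groth.Agent.H12.FormalGlue
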