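import Mathlib
import Groth.Agent.H12.FormalGlueB
import Groth.Agent.H12.HDTTors

/-!
# Formal glueing: the nilpotent dévissage (helper12)

`T : D(A) ⥤ D(A)` a triangulated functor with a natural transformation `η : 𝟭 ⟶ T`, compatible
with scalars.  For a source `E` on which `c` is nilpotent, bijectivity of
`Hom(E, C⟦j⟧) → Hom(E, T(C⟦j⟧))` for the cone `C` of `c : X → X` implies the same for `X`.
-/

set_option autoImplicit false
universe u
open CategoryTheory CategoryTheory.Limits DerivedCategory Pretriangulated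

namespace Groth.Agent.H12.FormalGlue

attribute [local instance] HasDerivedCategory.standard

section Abstract

variable {A : Type u} [CommRing A] (T : Dual.D A ⥤ Dual.D A) (η : 𝟭 (Dual.D A) ⟶ T)
  (E : Dual.D A)

/-- injectivity of `Hom(E, Y) → Hom(E, T Y)` -/
def Inj (Y : Dual.D A) : Prop := ∀ ψ : E ⟶ Y, ψ ≫ η.app Y = 0 → ψ = 0

/-- surjectivity of `Hom(E, Y) → Hom(E, T Y)` -/
def Surj (Y : Dual.D A) : Prop := ∀ ψ' : E ⟶ T.obj Y, ∃ ψ : E ⟶ Y, ψ ≫ η.app Y = ψ'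

/-- bijectivity in all shifts -/
def PP (Y : Dual.D A) : Prop := ∀ j : ℤ, Inj T η E (Y⟦j⟧) ∧ Surj T η E (Y⟦j⟧)

variable {T η E}

theorem inj_of_iso {Y Y' : Dual.D A} (e : Y ≅ Y') (h : Inj T η E Y) : Inj T η E Y' := by
  intro ψ hψ
  have h1 : (ψ ≫ e.inv) ≫ η.app Y = 0 := by
    have hn : e.inv ≫ η.app Y = η.app Y' ≫ T.map e.inv := η.naturality e.inv
    rw [Category.assoc, hn, ← Category.assoc, hψ, zero_comp]
  have h2 := h _ h1
  rw [← cancel_mono e.inv, h2, zero_comp]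

theorem surj_of_iso {Y Y' : Dual.D A} (e : Y ≅ Y') (h : Surj T η E Y) : Surj T η E Y' := by
  intro ψ'
  obtain ⟨ψ, hψ⟩ := h (ψ' ≫ T.map e.inv)
  refine ⟨ψ ≫ e.hom, ?_⟩
  have hn : e.hom ≫ η.app Y' = η.app Y ≫ T.map e.hom := η.naturality e.hom
  rw [Category.assoc, hn, ← Category.assoc, hψ, Category.assoc, ← T.map_comp, e.inv_hom_id,
    T.map_id]
  exact Category.comp_id _

theorem pp_of_isIso (Y : Dual.D A) (h : ∀ j : ℤ, IsIso (η.app (Y⟦j⟧))) : PP T η E Y := by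
  intro j
  haveI := h j
  constructor
  · intro ψ hψ
    rw [← cancel_mono (η.app (Y⟦j⟧)), hψ, zero_comp]
  · intro ψ'
    exact ⟨ψ' ≫ inv (η.app (Y⟦j⟧)), by rw [Category.assoc, IsIso.inv_hom_id]; exact Category.comp_id _⟩

variable [T.CommShift ℤ] [T.IsTriangulated]
  (hT : ∀ (c : A) (X : Dual.D A), T.map (c • 𝟙 X) = c • 𝟙 (T.obj X))

/-- `w ≫ (c • 𝟙) = c • w` -/
theorem comp_smul_id' {X Y : Dual.D A} (w : X ⟶ Y) (c : A) : w ≫ (c • 𝟙 Y) = c • w :=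
  (Linear.comp_smul _ _ _ w c (𝟙 Y)).trans (congrArg (fun t => c • t) (Category.comp_id w))

/-- `(c • 𝟙) ≫ w = c • w` -/
theorem smul_id_comp' {X Y : Dual.D A} (c : A) (w : X ⟶ Y) : (c • 𝟙 X) ≫ w = c • w :=
  (Linear.smul_comp _ _ _ c (𝟙 X) w).trans (congrArg (fun t => c • t) (Category.id_comp w))

include hT in
/-- the level-zero dévissage step -/
theorem inj_surj_of_triangle (c : A) (n : ℕ) (hc : c ^ n • 𝟙 E = 0)
    (X C : Dual.D A) (u : X ⟶ X) (hu : u = c • 𝟙 X) (α : X ⟶ C) (β : C ⟶ X⟦(1 : ℤ)⟧)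
    (hΔ : Triangle.mk u α β ∈ distTriang (Dual.D A))
    (hCi : Inj T η E C) (hCs : Surj T η E (C⟦(-1 : ℤ)⟧)) :
    Inj T η E X ∧ Surj T η E X := by
  subst hu
  have hnil : ∀ {Y : Dual.D A} (ψ : E ⟶ Y), c ^ n • ψ = 0 := by
    intro Y ψ
    have : c ^ n • ψ = (c ^ n • 𝟙 E) ≫ ψ := (smul_id_comp' (c ^ n) ψ).symm
    rw [this, hc, zero_comp]
  have hTu : T.map (c • 𝟙 X) = c • 𝟙 (T.obj X) := hT c X
  -- (a)
  have ha : ∀ (x : E ⟶ X) (y' : E ⟶ T.obj X), x ≫ η.app X = c • y' →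
      ∃ w : E ⟶ X, x = c • w := by
    intro x y' hx
    have hn : α ≫ η.app C = η.app X ≫ T.map α := η.naturality α
    have h0 : (c • 𝟙 X) ≫ α = 0 := comp_distTriang_mor_zero₁₂ _ hΔ
    have h1 : (x ≫ α) ≫ η.app C = 0 := by
      calc (x ≫ α) ≫ η.app C = x ≫ (α ≫ η.app C) := Category.assoc _ _ _
        _ = x ≫ (η.app X ≫ T.map α) := congrArg (fun t => x ≫ t) hn
        _ = (x ≫ η.app X) ≫ T.map α := (Category.assoc _ _ _).symm
        _ = (c • y') ≫ T.map α := congrArg (fun t => t ≫ T.map α) hx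
        _ = (y' ≫ (c • 𝟙 (T.obj X))) ≫ T.map α :=
          congrArg (fun t => t ≫ T.map α) (comp_smul_id' y' c).symm
        _ = (y' ≫ T.map (c • 𝟙 X)) ≫ T.map α := by rw [hTu]
        _ = y' ≫ (T.map (c • 𝟙 X) ≫ T.map α) := Category.assoc _ _ _
        _ = y' ≫ T.map ((c • 𝟙 X) ≫ α) := by rw [T.map_comp]
        _ = 0 := by rw [h0, T.map_zero, comp_zero]
    have h2 := hCi _ h1
    obtain ⟨w, hw⟩ := Triangle.coyoneda_exact₂ _ hΔ x h2
    refine ⟨w, ?_⟩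
    have hw' : x = w ≫ (c • 𝟙 X) := hw
    exact hw'.trans (comp_smul_id' w c)
  -- (b)
  have hΔ' := inv_rot_of_distTriang _ hΔ
  have hTΔ' := T.map_distinguished _ hΔ'
  have hb : ∀ y' : E ⟶ T.obj X, c • y' = 0 →
      ∃ y : E ⟶ X, c • y = 0 ∧ y ≫ η.app X = y' := by
    intro y' hy'
    have hz : y' ≫ (T.mapTriangle.obj (Triangle.mk (c • 𝟙 X) α β).invRotate).mor₂ = 0 := by
      show y' ≫ T.map (c • 𝟙 X) = 0
      rw [hTu]
      exact (comp_smul_id' y' c).trans hy'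
    obtain ⟨χ', hχ'⟩ := Triangle.coyoneda_exact₂ _ hTΔ' y' hz
    let m₁ : C⟦(-1 : ℤ)⟧ ⟶ X := (Triangle.mk (c • 𝟙 X) α β).invRotate.mor₁
    have h0 : m₁ ≫ (c • 𝟙 X) = 0 := comp_distTriang_mor_zero₁₂ _ hΔ'
    have hn : m₁ ≫ η.app X = η.app (C⟦(-1 : ℤ)⟧) ≫ T.map m₁ := η.naturality m₁
    have hχ'' : y' = χ' ≫ T.map m₁ := hχ'
    obtain ⟨χ, hχ⟩ := hCs χ'
    refine ⟨χ ≫ m₁, ?_, ?_⟩
    · have e1 : c • (χ ≫ m₁) = (χ ≫ m₁) ≫ (c • 𝟙 X) := (comp_smul_id' (χ ≫ m₁) c).symm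
      have e2 : (χ ≫ m₁) ≫ (c • 𝟙 X) = χ ≫ (m₁ ≫ (c • 𝟙 X)) := Category.assoc _ _ _
      rw [e1, e2, h0, comp_zero]
    · have e1 : (χ ≫ m₁) ≫ η.app X = χ ≫ (m₁ ≫ η.app X) := Category.assoc _ _ _
      have e2 : χ ≫ (η.app (C⟦(-1 : ℤ)⟧) ≫ T.map m₁) =
          (χ ≫ η.app (C⟦(-1 : ℤ)⟧)) ≫ T.map m₁ := (Category.assoc _ _ _).symm
      rw [e1, hn, e2, hχ]
      exact hχ''.symm
  constructor
  · -- injectivity
    have key : ∀ m : ℕ, ∀ x : E ⟶ X, x ≫ η.app X = 0 →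
        ∃ z : E ⟶ X, z ≫ η.app X = 0 ∧ x = c ^ m • z := by
      intro m
      induction m with
      | zero =>
        intro x hx
        exact ⟨x, hx, by rw [pow_zero, one_smul]⟩
      | succ m ih =>
        intro x hx
        obtain ⟨z, hz, hxz⟩ := ih x hx
        obtain ⟨w, hw⟩ := ha z 0 (by rw [hz, smul_zero])
        have hcy : c • (w ≫ η.app X) = 0 := by
          have : c • (w ≫ η.app X) = (c • w) ≫ η.app X := (Linear.smul_comp _ _ _ c w _).symm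
          rw [this, ← hw, hz]
        obtain ⟨y, hy0, hy⟩ := hb (w ≫ η.app X) hcy
        refine ⟨w - y, ?_, ?_⟩
        · rw [Preadditive.sub_comp, hy, sub_self]
        · rw [hxz, pow_succ, mul_smul, smul_sub, hy0, sub_zero, ← hw]
    intro x hx
    obtain ⟨z, -, hxz⟩ := key n x hx
    rw [hxz, hnil]
  · -- surjectivity
    have key : ∀ m : ℕ, ∀ y' : E ⟶ T.obj X, c ^ m • y' = 0 →
        ∃ y : E ⟶ X, y ≫ η.app X = y' := by
      intro m
      induction m with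
      | zero =>
        intro y' hy'
        rw [pow_zero, one_smul] at hy'
        exact ⟨0, by rw [zero_comp, hy']⟩
      | succ m ih =>
        intro y' hy'
        rw [pow_succ, mul_smul] at hy'
        obtain ⟨w, hw⟩ := ih (c • y') hy'
        obtain ⟨v, hv⟩ := ha w y' hw
        have h0 : c • (y' - v ≫ η.app X) = 0 := by
          have : c • (v ≫ η.app X) = (c • v) ≫ η.app X := (Linear.smul_comp _ _ _ c v _).symm
          rw [smul_sub, this, ← hv, hw, sub_self]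
        obtain ⟨y, -, hy⟩ := hb _ h0
        refine ⟨v + y, ?_⟩
        rw [Preadditive.add_comp, hy]
        abel
    intro y'
    exact key n y' (hnil y')

include hT in
/-- the dévissage step in all shifts -/
theorem pp_of_triangle (c : A) (n : ℕ) (hc : c ^ n • 𝟙 E = 0)
    (X C : Dual.D A) (α : X ⟶ C) (β : C ⟶ X⟦(1 : ℤ)⟧)
    (hΔ : Triangle.mk (c • 𝟙 X) α β ∈ distTriang (Dual.D A))
    (hC : PP T η E C) : PP T η E X := by
  intro j
  have hΔj := Triangle.shift_distinguished _ hΔ j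
  have hΔj' : Triangle.mk
      (j.negOnePow • (c • 𝟙 X)⟦j⟧') (j.negOnePow • α⟦j⟧')
      (j.negOnePow • β⟦j⟧' ≫ (shiftFunctorComm (Dual.D A) 1 j).hom.app X) ∈
      distTriang (Dual.D A) := hΔj
  -- the scalar
  obtain ⟨c', hc', hu⟩ : ∃ c' : A, c' ^ n • 𝟙 E = 0 ∧
      (j.negOnePow • (c • 𝟙 X)⟦j⟧' : X⟦j⟧ ⟶ X⟦j⟧) = c' • 𝟙 (X⟦j⟧) := by
    have hs : ((c • 𝟙 X)⟦j⟧' : X⟦j⟧ ⟶ X⟦j⟧) = c • 𝟙 (X⟦j⟧) := by
      rw [Functor.map_smul, CategoryTheory.Functor.map_id]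
    rcases Int.even_or_odd j with hj | hj
    · refine ⟨c, hc, ?_⟩
      rw [Int.negOnePow_even j hj, one_smul, hs]
    · refine ⟨-c, ?_, ?_⟩
      · rw [neg_pow, mul_smul, hc, smul_zero]
      · rw [Int.negOnePow_odd j hj, Units.neg_smul, one_smul, hs, neg_smul]
  have hCj := hC j
  have hCj1 := hC (j - 1)
  have e : (C⟦j - 1⟧) ≅ (C⟦j⟧)⟦(-1 : ℤ)⟧ :=
    (shiftFunctorAdd' (Dual.D A) j (-1) (j - 1) (by omega)).app C
  exact inj_surj_of_triangle hT c' n hc' (X⟦j⟧) (C⟦j⟧) _ hu _ _ hΔj' hCj.1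
    (surj_of_iso e hCj1.2)

end Abstract

end Groth.Agent.H12.FormalGlue
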