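import Mathlib
import Groth.Agent.H12.FormalGlueC

/-!
# Formal glueing: sources (helper12)

Abstract setting of `FormalGlueC`.
* `bij_of_cocone`: bijectivity of `Hom(E, Y) → Hom(E, T Y)` passes to coproducts of sources;
* `bij_of_source_triangle`: and to cones of sources (five lemma);
* `Tors`, `tors_cone_self`, `tors_cone_of_tors`, `tors_shift`: power torsion cohomology;
* `bij_of_nilpotent`: dévissage along a list of elements.
-/

set_option autoImplicit false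
universe u
open CategoryTheory CategoryTheory.Limits DerivedCategory Pretriangulated

namespace Groth.Agent.H12.FormalGlue

attribute [local instance] HasDerivedCategory.standard

section Abstract2

variable {A : Type u} [CommRing A] (T : Dual.D A ⥤ Dual.D A) (η : 𝟭 (Dual.D A) ⟶ T)

/-- bijectivity of `Hom(E, Y) → Hom(E, T Y)` -/
def Bij (E Y : Dual.D A) : Prop := Inj T η E Y ∧ Surj T η E Y

variable {T η}

theorem bij_of_cocone {ι : Type*} {K : Discrete ι ⥤ Dual.D A} (c : Cocone K) (hc : IsColimit c)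
    (Y : Dual.D A) (h : ∀ i, Bij T η (K.obj i) Y) : Bij T η c.pt Y := by
  constructor
  · intro ψ hψ
    apply hc.hom_ext
    intro i
    have h0 : c.ι.app i ≫ ψ = 0 := (h i).1 _ ((Category.assoc _ _ _).trans
      ((congrArg (fun t => c.ι.app i ≫ t) hψ).trans comp_zero))
    exact h0.trans comp_zero.symm
  · intro ψ'
    have hχ : ∀ i, ∃ χ : K.obj i ⟶ Y, χ ≫ η.app Y = c.ι.app i ≫ ψ' := fun i => (h i).2 _
    choose χ hχ using hχ
    let s : Cocone K := { pt := Y, ι := Discrete.natTrans (fun i => χ i) }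
    refine ⟨hc.desc s, ?_⟩
    apply hc.hom_ext
    intro i
    have h1 : c.ι.app i ≫ hc.desc s = χ i := hc.fac s i
    exact ((Category.assoc _ _ _).symm.trans (congrArg (fun t => t ≫ η.app Y) h1)).trans (hχ i)

theorem bij_of_source_triangle (E₁ E₂ E₃ : Dual.D A) (u : E₁ ⟶ E₂) (v : E₂ ⟶ E₃)
    (w : E₃ ⟶ E₁⟦(1 : ℤ)⟧) (hΔ : Triangle.mk u v w ∈ distTriang (Dual.D A)) (Y : Dual.D A)
    (h₁ : Inj T η E₁ Y) (h₂ : Bij T η E₂ Y) (h₁' : Bij T η (E₁⟦(1 : ℤ)⟧) Y)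
    (h₂' : Surj T η (E₂⟦(1 : ℤ)⟧) Y) : Bij T η E₃ Y := by
  have hΔr := rot_of_distTriang _ hΔ
  have hvw : v ≫ w = 0 := comp_distTriang_mor_zero₂₃ _ hΔ
  have huv : u ≫ v = 0 := comp_distTriang_mor_zero₁₂ _ hΔ
  have hwu : w ≫ (-u⟦(1 : ℤ)⟧') = 0 := comp_distTriang_mor_zero₂₃ _ hΔr
  constructor
  · intro ψ hψ
    have h1 : v ≫ ψ = 0 := h₂.1 _ ((Category.assoc _ _ _).trans
      ((congrArg (fun t => v ≫ t) hψ).trans comp_zero))
    obtain ⟨φ, hφ'⟩ : ∃ φ : E₁⟦(1 : ℤ)⟧ ⟶ Y, ψ = w ≫ φ := Triangle.yoneda_exact₃ _ hΔ ψ h1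
    have h2 : w ≫ (φ ≫ η.app Y) = 0 :=
      ((Category.assoc _ _ _).symm.trans (congrArg (fun t => t ≫ η.app Y) hφ'.symm)).trans hψ
    obtain ⟨φ₂, hφ₂'⟩ : ∃ φ₂ : E₂⟦(1 : ℤ)⟧ ⟶ T.obj Y, φ ≫ η.app Y = (-u⟦(1 : ℤ)⟧') ≫ φ₂ :=
      Triangle.yoneda_exact₃ _ hΔr (φ ≫ η.app Y) h2
    obtain ⟨φ₃, hφ₃⟩ := h₂' φ₂
    have h3 : (φ - (-u⟦(1 : ℤ)⟧') ≫ φ₃) ≫ η.app Y = 0 := by
      have e1 : (φ - (-u⟦(1 : ℤ)⟧') ≫ φ₃) ≫ η.app Y =
          φ ≫ η.app Y - ((-u⟦(1 : ℤ)⟧') ≫ φ₃) ≫ η.app Y := Preadditive.sub_comp _ _ _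
      have e2 : ((-u⟦(1 : ℤ)⟧') ≫ φ₃) ≫ η.app Y = (-u⟦(1 : ℤ)⟧') ≫ (φ₃ ≫ η.app Y) :=
        Category.assoc _ _ _
      rw [e1, e2, hφ₃, hφ₂', sub_self]
    have h4 := h₁'.1 _ h3
    have h5 : φ = (-u⟦(1 : ℤ)⟧') ≫ φ₃ := sub_eq_zero.1 h4
    rw [hφ', h5, ← Category.assoc, hwu, zero_comp]
  · intro ψ'
    obtain ⟨χ, hχ⟩ := h₂.2 (v ≫ ψ')
    have h1 : u ≫ χ = 0 := h₁ _ (by
      have e1 : (u ≫ χ) ≫ η.app Y = u ≫ (χ ≫ η.app Y) := Category.assoc _ _ _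
      rw [e1, hχ, ← Category.assoc, huv, zero_comp])
    obtain ⟨ψ₀, hψ₀'⟩ : ∃ ψ₀ : E₃ ⟶ Y, χ = v ≫ ψ₀ := Triangle.yoneda_exact₂ _ hΔ χ h1
    have h2 : v ≫ (ψ' - ψ₀ ≫ η.app Y) = 0 := by
      have e1 : v ≫ (ψ₀ ≫ η.app Y) = (v ≫ ψ₀) ≫ η.app Y := (Category.assoc _ _ _).symm
      rw [Preadditive.comp_sub, e1, ← hψ₀', hχ, sub_self]
    obtain ⟨φ', hφ''⟩ : ∃ φ' : E₁⟦(1 : ℤ)⟧ ⟶ T.obj Y, ψ' - ψ₀ ≫ η.app Y = w ≫ φ' :=
      Triangle.yoneda_exact₃ _ hΔ _ h2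
    obtain ⟨φ, hφ⟩ := h₁'.2 φ'
    refine ⟨ψ₀ + w ≫ φ, ?_⟩
    have e1 : (ψ₀ + w ≫ φ) ≫ η.app Y = ψ₀ ≫ η.app Y + (w ≫ φ) ≫ η.app Y :=
      Preadditive.add_comp _ _ _ _ _ _
    have e2 : (w ≫ φ) ≫ η.app Y = w ≫ (φ ≫ η.app Y) := Category.assoc _ _ _
    rw [e1, e2, hφ, ← hφ'']
    abel

/-! ### Power torsion cohomology -/

/-- the cohomology modules of `X` are `g`-power torsion -/
def Tors (g : A) (X : Dual.D A) : Prop :=
  ∀ (j : ℤ) (y : (homologyFunctor (ModuleCat.{u} A) j).obj X), ∃ m : ℕ, g ^ m • y = 0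

theorem tors_shift (g : A) (X : Dual.D A) (j : ℤ) (h : Tors g X) : Tors g (X⟦j⟧) := by
  intro k y
  let e := (((homologyFunctor (ModuleCat.{u} A) 0).shiftIso j k (j + k) rfl).app X).toLinearEquiv
  obtain ⟨m, hm⟩ := h (j + k) (e y)
  refine ⟨m, e.injective ?_⟩
  exact (e.map_smul (g ^ m) y).trans (hm.trans (map_zero e).symm)

theorem tors_cone_aux (g : A) (Δ : Triangle (Dual.D A)) (hΔ : Δ ∈ distTriang (Dual.D A))
    (j : ℤ) (y : (homologyFunctor (ModuleCat.{u} A) j).obj Δ.obj₃)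
    (h1 : ∃ m : ℕ, g ^ m • (HomologySequence.δ Δ j (j + 1) rfl).hom y = 0)
    (h2 : ∀ x : (homologyFunctor (ModuleCat.{u} A) j).obj Δ.obj₂,
      ∃ m : ℕ, g ^ m • ((homologyFunctor (ModuleCat.{u} A) j).map Δ.mor₂).hom x = 0) :
    ∃ m : ℕ, g ^ m • y = 0 := by
  obtain ⟨m, hm⟩ := h1
  have hex := (ShortComplex.moduleCat_exact_iff _).1 (HomologySequence.exact₃ Δ hΔ j (j + 1) rfl)
  have h0 : (HomologySequence.δ Δ j (j + 1) rfl).hom (g ^ m • y) = 0 := by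
    rw [map_smul]
    exact hm
  obtain ⟨x, hx⟩ := hex (g ^ m • y) h0
  have hx' : ((homologyFunctor (ModuleCat.{u} A) j).map Δ.mor₂).hom x = g ^ m • y := hx
  obtain ⟨m', hm'⟩ := h2 x
  refine ⟨m' + m, ?_⟩
  rw [pow_add, mul_smul, ← hx']
  exact hm'

theorem tors_cone_of_tors (g : A) (X C : Dual.D A) (u : X ⟶ X) (α : X ⟶ C)
    (β : C ⟶ X⟦(1 : ℤ)⟧) (hΔ : Triangle.mk u α β ∈ distTriang (Dual.D A)) (h : Tors g X) :
    Tors g C := by
  intro j y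
  refine tors_cone_aux g _ hΔ j y (h _ _) ?_
  intro (x : (homologyFunctor (ModuleCat.{u} A) j).obj X)
  obtain ⟨m, hm⟩ := h j x
  refine ⟨m, ?_⟩
  show g ^ m • ((homologyFunctor (ModuleCat.{u} A) j).map α).hom x = 0
  have e1 : g ^ m • ((homologyFunctor (ModuleCat.{u} A) j).map α).hom x =
      ((homologyFunctor (ModuleCat.{u} A) j).map α).hom (g ^ m • x) := (map_smul _ _ _).symm
  rw [hm, map_zero] at e1
  exact e1

theorem tors_cone_self (f : A) (X C : Dual.D A) (α : X ⟶ C)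
    (β : C ⟶ X⟦(1 : ℤ)⟧) (hΔ : Triangle.mk (f • 𝟙 X) α β ∈ distTriang (Dual.D A)) :
    Tors f C := by
  intro j y
  refine tors_cone_aux f _ hΔ j y ⟨1, ?_⟩ ?_
  · have h0 := HomologySequence.δ_comp _ hΔ j (j + 1) rfl
    have h1 : ((homologyFunctor (ModuleCat.{u} A) (j + 1)).map (f • 𝟙 X)).hom
        ((HomologySequence.δ (Triangle.mk (f • 𝟙 X) α β) j (j + 1) rfl).hom y) = 0 := by
      have := congrArg (fun φ => φ.hom y) h0
      exact this
    rw [HDT.homologyFunctor_map_smul_id_apply] at h1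
    rw [pow_one]
    exact h1
  · intro x
    refine ⟨1, ?_⟩
    have h0 : (f • 𝟙 X) ≫ α = 0 := comp_distTriang_mor_zero₁₂ _ hΔ
    have h1 : ((homologyFunctor (ModuleCat.{u} A) j).map ((f • 𝟙 X) ≫ α)).hom x = 0 := by
      rw [h0, Functor.map_zero]
      rfl
    rw [Functor.map_comp, ModuleCat.hom_comp, LinearMap.comp_apply,
      HDT.homologyFunctor_map_smul_id_apply, map_smul] at h1
    rw [pow_one]
    exact h1

/-! ### The dévissage -/

variable [T.CommShift ℤ] [T.IsTriangulated]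
  (hT : ∀ (c : A) (X : Dual.D A), T.map (c • 𝟙 X) = c • 𝟙 (T.obj X))

include hT in
theorem bij_of_nilpotent (gens : List A)
    (hbase : ∀ X : Dual.D A, (∀ g ∈ gens, Tors g X) → IsIso (η.app X))
    (E : Dual.D A) (hE : ∀ g ∈ gens, ∃ n : ℕ, g ^ n • 𝟙 E = 0) (Y : Dual.D A) :
    Bij T η E Y := by
  have R : ∀ l : List A, (∀ g ∈ l, g ∈ gens) → ∀ X : Dual.D A,
      (∀ g ∈ gens, g ∈ l ∨ Tors g X) → PP T η E X := by
    intro l
    induction l with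
    | nil =>
      intro _ X hX
      apply pp_of_isIso
      intro j
      apply hbase
      intro g hg
      rcases hX g hg with h | h
      · exact absurd h List.not_mem_nil
      · exact tors_shift g X j h
    | cons f l ih =>
      intro hl X hX
      obtain ⟨n, hn⟩ := hE f (hl f List.mem_cons_self)
      obtain ⟨C, α, β, hΔ⟩ := distinguished_cocone_triangle (f • 𝟙 X)
      apply pp_of_triangle hT f n hn X C α β hΔ
      apply ih (fun g hg => hl g (List.mem_cons_of_mem _ hg))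
      intro g hg
      rcases hX g hg with h | h
      · rcases List.mem_cons.1 h with h' | h'
        · right
          rw [h']
          exact tors_cone_self f X C α β hΔ
        · left
          exact h'
      · right
        exact tors_cone_of_tors g X C _ α β hΔ h
  have h0 := R gens (fun g hg => hg) Y (fun g hg => Or.inl hg) 0
  exact ⟨inj_of_iso ((shiftFunctorZero (Dual.D A) ℤ).app Y) h0.1,
    surj_of_iso ((shiftFunctorZero (Dual.D A) ℤ).app Y) h0.2⟩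

end Abstract2

end Groth.Agent.H12.FormalGlue
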