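import Mathlib
import Groth.Agent.H12.FormalGlueA
import Groth.Agent.H12.FormalGlueD
import Groth.Agent.H82.TorBC
import Groth.Agent.H35.HasLBC
import Groth.Agent.H6.TeleCx

/-!
# Formal glueing of `Ext` groups (helper12)

`A → B` flat, `I ⊆ A` finitely generated with `A/I ≅ B/IB`.  For an `I`-power torsion module `M`
and any `N`, `Ext^i_A(M, N) ≅ Ext^i_B(B ⊗ M, B ⊗ N)`.
-/

set_option autoImplicit false
universe u
open CategoryTheory CategoryTheory.Limits DerivedCategory Pretriangulated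
open scoped TensorProduct

namespace Groth.Agent.H12.FormalGlue

attribute [local instance] HasDerivedCategory.standard

section Transport

variable {A : Type u} [CommRing A] {T : Dual.D A ⥤ Dual.D A} {η : 𝟭 (Dual.D A) ⟶ T}

theorem bij_of_source_iso {E E' Y : Dual.D A} (e : E ≅ E') (h : Bij T η E Y) : Bij T η E' Y := by
  constructor
  · intro ψ hψ
    have h1 : (e.hom ≫ ψ) ≫ η.app Y = 0 := (Category.assoc _ _ _).trans
      ((congrArg (fun t => e.hom ≫ t) hψ).trans comp_zero)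
    have h2 := h.1 _ h1
    rw [← cancel_epi e.hom, h2, comp_zero]
  · intro ψ'
    obtain ⟨ψ, hψ⟩ := h.2 (e.hom ≫ ψ')
    refine ⟨e.inv ≫ ψ, ?_⟩
    exact (Category.assoc _ _ _).trans
      ((congrArg (fun t => e.inv ≫ t) hψ).trans (e.inv_hom_id_assoc ψ'))

/-- `Hom(E, Y) ≃+ Hom(E, T Y)` -/
noncomputable def addEquivOfBij {E Y : Dual.D A} (h : Bij T η E Y) :
    (E ⟶ Y) ≃+ (E ⟶ T.obj Y) :=
  AddEquiv.ofBijective (Preadditive.rightComp E (η.app Y) : (E ⟶ Y) →+ (E ⟶ T.obj Y))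
    ⟨(injective_iff_map_eq_zero _).2 (fun ψ hψ => h.1 ψ hψ), fun ψ' => h.2 ψ'⟩

/-- transport of `Hom` groups along isomorphisms -/
def homAddCongr {C : Type*} [Category C] [Preadditive C] {X X' Y Y' : C} (e₁ : X ≅ X')
    (e₂ : Y ≅ Y') : (X ⟶ Y) ≃+ (X' ⟶ Y') where
  toFun f := e₁.inv ≫ f ≫ e₂.hom
  invFun g := e₁.hom ≫ g ≫ e₂.inv
  left_inv f := by simp
  right_inv g := by simp
  map_add' f g := by simp

end Transport

section Union

variable {A : Type u} [CommRing A] (I : Ideal A) (M : Type u) [AddCommGroup M] [Module A M]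

/-- the submodule killed by `I ^ n` -/
def Mn (n : ℕ) : Submodule A M where
  carrier := {m | ∀ a ∈ I ^ n, a • m = 0}
  zero_mem' := fun a _ => smul_zero a
  add_mem' := fun {x y} hx hy a ha => by
    rw [smul_add, hx a ha, hy a ha, add_zero]
  smul_mem' := fun r x hx a ha => by
    rw [smul_comm, hx a ha, smul_zero]

theorem Mn_mono {n m : ℕ} (h : n ≤ m) : Mn I M n ≤ Mn I M m :=
  fun _ hx a ha => hx a (Ideal.pow_le_pow_right h ha)

/-- the tower `M[I] ⊆ M[I^2] ⊆ ⋯` -/
noncomputable def L₀ : ℕ ⥤ ModuleCat.{u} A where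
  obj n := ModuleCat.of A (Mn I M n)
  map {n m} f := ModuleCat.ofHom (Submodule.inclusion (Mn_mono I M (leOfHom f)))
  map_id n := by
    ext x
    rfl
  map_comp f g := by
    ext x
    rfl

/-- the cocone `M[I^n] ⊆ M` -/
noncomputable def c₀ : Cocone (L₀ I M) where
  pt := ModuleCat.of A M
  ι :=
    { app := fun n => ModuleCat.ofHom (Mn I M n).subtype
      naturality := fun n m f => by
        ext x
        rfl }

theorem ι_indep (s : Cocone (L₀ I M)) {n n' : ℕ} (m : M) (hx : m ∈ Mn I M n)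
    (hx' : m ∈ Mn I M n') :
    (s.ι.app n).hom (⟨m, hx⟩ : Mn I M n) = (s.ι.app n').hom (⟨m, hx'⟩ : Mn I M n') := by
  have key : ∀ {n k : ℕ} (h : n ≤ k) (hx : m ∈ Mn I M n),
      (s.ι.app n).hom (⟨m, hx⟩ : Mn I M n) =
        (s.ι.app k).hom (⟨m, Mn_mono I M h hx⟩ : Mn I M k) := by
    intro n k h hx
    have hw : (L₀ I M).map (homOfLE h) ≫ s.ι.app k = s.ι.app n := s.w (homOfLE h)
    rw [← hw]
    rfl
  rw [key (le_max_left n n') hx, key (le_max_right n n') hx']

variable (hM : LocCoh.IsPowerTorsion I M)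

/-- the induced map on the union -/
noncomputable def descFun (s : Cocone (L₀ I M)) (m : M) : s.pt :=
  (s.ι.app (Classical.choose (hM m))).hom
    (⟨m, Classical.choose_spec (hM m)⟩ : Mn I M (Classical.choose (hM m)))

theorem descFun_eq (s : Cocone (L₀ I M)) {n : ℕ} (m : M) (hx : m ∈ Mn I M n) :
    descFun I M hM s m = (s.ι.app n).hom (⟨m, hx⟩ : Mn I M n) :=
  ι_indep I M s m _ hx

/-- the induced linear map on the union -/
noncomputable def descLin (s : Cocone (L₀ I M)) : M →ₗ[A] s.pt where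
  toFun := descFun I M hM s
  map_add' m₁ m₂ := by
    obtain ⟨n₁, h₁⟩ := hM m₁
    obtain ⟨n₂, h₂⟩ := hM m₂
    have h₁' : m₁ ∈ Mn I M (max n₁ n₂) := Mn_mono I M (le_max_left _ _) h₁
    have h₂' : m₂ ∈ Mn I M (max n₁ n₂) := Mn_mono I M (le_max_right _ _) h₂
    rw [descFun_eq I M hM s m₁ h₁', descFun_eq I M hM s m₂ h₂',
      descFun_eq I M hM s (m₁ + m₂) ((Mn I M _).add_mem h₁' h₂')]
    exact map_add (s.ι.app (max n₁ n₂)).hom (⟨m₁, h₁'⟩ : Mn I M (max n₁ n₂)) ⟨m₂, h₂'⟩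
  map_smul' r m := by
    obtain ⟨n, h⟩ := hM m
    have h' : m ∈ Mn I M n := h
    rw [descFun_eq I M hM s m h', descFun_eq I M hM s (r • m) ((Mn I M n).smul_mem r h')]
    exact map_smul (s.ι.app n).hom r (⟨m, h'⟩ : Mn I M n)

/-- `M` is the colimit of the `M[I^n]` -/
noncomputable def isColimitC₀ : IsColimit (c₀ I M) where
  desc s := ModuleCat.ofHom (descLin I M hM s)
  fac s n := by
    ext x
    exact descFun_eq I M hM s (x : Mn I M n).1 (x : Mn I M n).2
  uniq s m' hm' := by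
    ext x
    obtain ⟨n, h⟩ := hM x
    have h' : x ∈ Mn I M n := h
    have e1 := descFun_eq I M hM s x h'
    have e2 : (c₀ I M).ι.app n ≫ m' = s.ι.app n := hm' n
    show m'.hom x = descFun I M hM s x
    rw [e1, ← e2]
    rfl

end Union

section Concrete

variable {A B : Type u} [CommRing A] [CommRing B] [Algebra A B] (I : Ideal A)
  (hs : Function.Surjective
    ((Ideal.Quotient.mk (I.map (algebraMap A B))).comp (algebraMap A B)))
  (hk : RingHom.ker ((Ideal.Quotient.mk (I.map (algebraMap A B))).comp (algebraMap A B)) = I)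
  [Module.Flat A B]

include hs hk in
theorem isIso_unit_app_of_isPowerTorsion (X : Type u) [AddCommGroup X] [Module A X]
    (hX : LocCoh.IsPowerTorsion I X) :
    IsIso ((ModuleCat.extendRestrictScalarsAdj.{u, u, u} (algebraMap A B)).unit.app
      (ModuleCat.of A X)) := by
  refine (ConcreteCategory.isIso_iff_bijective _).2 ?_
  have hb := bijective_mk_of_isPowerTorsion I hs hk X hX
  have h2 : Function.Bijective
      ((fun t => H82.TorBC.bcEquiv A B X t) ∘ (TensorProduct.mk A B X 1)) :=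
    (H82.TorBC.bcEquiv A B X).bijective.comp hb
  exact h2

theorem smul_id_inD_eq_zero (X : Type u) [AddCommGroup X] [Module A X] (c : A)
    (hc : ∀ x : X, c • x = 0) : c • 𝟙 (Dual.inD A X) = 0 := by
  have h1 : c • 𝟙 (ModuleCat.of A X) = 0 := by
    ext x
    exact hc x
  have h2 : (singleFunctor (ModuleCat.{u} A) 0).map (c • 𝟙 (ModuleCat.of A X)) =
      c • 𝟙 (Dual.inD A X) := by
    rw [Functor.map_smul, CategoryTheory.Functor.map_id]
  rw [← h2, h1, Functor.map_zero]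

variable [DRing.HasLBaseChange (algebraMap A B)]

attribute [local instance] commShiftL

include hs hk in
theorem isIso_ηF_of_tors (hI : I.FG) (gens : List A) (hgens : Ideal.span {a | a ∈ gens} = I)
    (X : Dual.D A) (hX : ∀ g ∈ gens, Tors g X) : IsIso ((adjF A B).unit.app X) := by
  apply isIso_unit_of_homology
  intro n
  have hH : LocCoh.IsPowerTorsion I ((homologyFunctor (ModuleCat.{u} A) n).obj X) := by
    intro y
    have hle : I ≤ (Ideal.torsionOf A _ y).radical := by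
      rw [← hgens, Ideal.span_le]
      intro g hg
      obtain ⟨m, hm⟩ := hX g hg n y
      exact Ideal.mem_radical_iff.2 ⟨m, (Ideal.mem_torsionOf_iff y (g ^ m)).2 hm⟩
    obtain ⟨k, hk'⟩ := Ideal.exists_pow_le_of_le_radical_of_fg hle hI
    exact ⟨k, fun a ha => (Ideal.mem_torsionOf_iff y a).1 (hk' ha)⟩
  exact isIso_unit_app_of_isPowerTorsion I hs hk _ hH

include hs hk in
theorem bij_killed (hI : I.FG) (gens : List A) (hgens : Ideal.span {a | a ∈ gens} = I)
    (n : ℕ) (X : Type u) [AddCommGroup X] [Module A X] (hX : ∀ a ∈ I ^ n, ∀ x : X, a • x = 0)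
    (Y : Dual.D A) :
    Bij (TF A B) (adjF A B).unit (Dual.inD A X) Y ∧
      Bij (TF A B) (adjF A B).unit ((Dual.inD A X)⟦(1 : ℤ)⟧) Y := by
  haveI := isTriangulated_TF A B
  have hbase : ∀ X : Dual.D A, (∀ g ∈ gens, Tors g X) → IsIso ((adjF A B).unit.app X) :=
    fun X hX => isIso_ηF_of_tors I hs hk hI gens hgens X hX
  have hg : ∀ g ∈ gens, g ^ n • 𝟙 (Dual.inD A X) = 0 := by
    intro g hg
    apply smul_id_inD_eq_zero
    intro x
    apply hX
    apply Ideal.pow_mem_pow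
    rw [← hgens]
    exact Ideal.subset_span hg
  constructor
  · exact bij_of_nilpotent (TF_map_smul_id A B) gens hbase _ (fun g hg' => ⟨n, hg g hg'⟩) Y
  · refine bij_of_nilpotent (TF_map_smul_id A B) gens hbase _ (fun g hg' => ⟨n, ?_⟩) Y
    have h1 : g ^ n • 𝟙 ((Dual.inD A X)⟦(1 : ℤ)⟧) =
        (shiftFunctor (Dual.D A) (1 : ℤ)).map (g ^ n • 𝟙 (Dual.inD A X)) := by
      rw [Functor.map_smul, CategoryTheory.Functor.map_id]
    rw [h1, hg g hg', Functor.map_zero]

include hs hk in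
theorem bij_inD_of_isPowerTorsion (hI : I.FG) (gens : List A)
    (hgens : Ideal.span {a | a ∈ gens} = I)
    (M : Type u) [AddCommGroup M] [Module A M] (hM : LocCoh.IsPowerTorsion I M) (Y : Dual.D A) :
    Bij (TF A B) (adjF A B).unit (Dual.inD A M) Y := by
  have hc₀ := isColimitC₀ I M hM
  let S := HomologicalComplex.single (ModuleCat.{u} A) (ComplexShape.up ℤ) 0
  let L : ℕ ⥤ CochainComplex (ModuleCat.{u} A) ℤ := L₀ I M ⋙ S
  let c : Cocone L := S.mapCocone (c₀ I M)
  have hc : IsColimit c := isColimitOfPreserves S hc₀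
  have hSE := H6.TeleCx.shortExact_SC L hc
  have hdist := DerivedCategory.triangleOfSES_distinguished hSE
  have hdn : Function.Bijective (fun n : ℕ => (⟨n⟩ : ULift.{u} ℕ)) :=
    ⟨fun a b h => congrArg ULift.down h, fun ⟨n⟩ => ⟨n, rfl⟩⟩
  have hcof := H6.DSum.isColimitQ' (H6.TeleCx.Kf L) (fun n : ℕ => (⟨n⟩ : ULift.{u} ℕ)) hdn
  have hcomp : ∀ n : ℕ, Bij (TF A B) (adjF A B).unit (Q.obj (L.obj n)) Y ∧
      Bij (TF A B) (adjF A B).unit ((Q.obj (L.obj n))⟦(1 : ℤ)⟧) Y := by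
    intro n
    have e : Dual.inD A (Mn I M n) ≅ Q.obj (L.obj n) :=
      (singleFunctorIsoCompQ (ModuleCat.{u} A) 0).app (ModuleCat.of A (Mn I M n))
    obtain ⟨h1, h2⟩ := bij_killed I hs hk hI gens hgens n (Mn I M n)
      (fun a ha x => Subtype.ext (x.2 a ha)) Y
    exact ⟨bij_of_source_iso e h1,
      bij_of_source_iso ((shiftFunctor (Dual.D A) (1 : ℤ)).mapIso e) h2⟩
  have hZ : Bij (TF A B) (adjF A B).unit (Q.obj (∐ (H6.TeleCx.Kf L))) Y :=
    bij_of_cocone _ hcof Y (fun i => (hcomp i.as).1)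
  have hZ1 : Bij (TF A B) (adjF A B).unit ((Q.obj (∐ (H6.TeleCx.Kf L)))⟦(1 : ℤ)⟧) Y :=
    bij_of_cocone _ (isColimitOfPreserves (shiftFunctor (Dual.D A) (1 : ℤ)) hcof) Y
      (fun i => (hcomp i.as).2)
  have h3 : Bij (TF A B) (adjF A B).unit (Q.obj c.pt) Y :=
    bij_of_source_triangle (Q.obj (∐ (H6.TeleCx.Kf L))) (Q.obj (∐ (H6.TeleCx.Kf L)))
      (Q.obj c.pt) (Q.map (H6.TeleCx.SC L c).f) (Q.map (H6.TeleCx.SC L c).g)
      (triangleOfSESδ hSE) hdist Y hZ.1 hZ hZ1 hZ1.2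
  exact bij_of_source_iso
    ((singleFunctorIsoCompQ (ModuleCat.{u} A) 0).app (ModuleCat.of A M)).symm h3

end Concrete

end Groth.Agent.H12.FormalGlue
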