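import Mathlib
import Groth.Agent.H12.FormalGlueE

/-!
# Formal glueing of `Ext` groups: the statement (helper12)
-/

set_option autoImplicit false
universe u
open CategoryTheory CategoryTheory.Limits DerivedCategory Pretriangulated
open scoped TensorProduct

namespace Groth.Agent.H12.FormalGlue

attribute [local instance] HasDerivedCategory.standard

section Main

variable {A B : Type u} [CommRing A] [CommRing B] [Algebra A B] (I : Ideal A)
  (hs : Function.Surjective
    ((Ideal.Quotient.mk (I.map (algebraMap A B))).comp (algebraMap A B)))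
  (hk : RingHom.ker ((Ideal.Quotient.mk (I.map (algebraMap A B))).comp (algebraMap A B)) = I)
  [Module.Flat A B]

include hs hk in
theorem main (hI : I.FG) (M N : Type u) [AddCommGroup M] [Module A M] [AddCommGroup N]
    [Module A N] (hM : LocCoh.IsPowerTorsion I M) (i : ℤ) :
    Nonempty ((Dual.inD A M ⟶ (Dual.inD A N)⟦i⟧) ≃+
      (Dual.inD B (B ⊗[A] M) ⟶ (Dual.inD B (B ⊗[A] N))⟦i⟧)) := by
  haveI : DRing.HasLBaseChange (algebraMap A B) := H35.HasLBC.hasLBaseChange _
  letI := commShiftL A B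
  obtain ⟨gens, hgens⟩ : ∃ gens : List A, Ideal.span {a | a ∈ gens} = I := by
    obtain ⟨s, hs'⟩ := hI
    refine ⟨s.toList, ?_⟩
    rw [← hs']
    congr 1
    ext a
    simp
  have hb := bij_inD_of_isPowerTorsion I hs hk hI gens hgens M hM ((Dual.inD A N)⟦i⟧)
  haveI := L_additive' A B
  obtain ⟨eM⟩ := LocHom.exists_iso_L_single (B := B) (ModuleCat.of A M)
  obtain ⟨eN⟩ := LocHom.exists_iso_L_single (B := B) (ModuleCat.of A N)
  let bM : (ModuleCat.extendScalars.{u, u, u} (algebraMap A B)).obj (ModuleCat.of A M) ≅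
      ModuleCat.of B (B ⊗[A] M) := (H82.TorBC.bcEquiv A B M).toModuleIso.symm
  let bN : (ModuleCat.extendScalars.{u, u, u} (algebraMap A B)).obj (ModuleCat.of A N) ≅
      ModuleCat.of B (B ⊗[A] N) := (H82.TorBC.bcEquiv A B N).toModuleIso.symm
  let eM' : (DRing.LBaseChange (algebraMap A B)).obj (Dual.inD A M) ≅ Dual.inD B (B ⊗[A] M) :=
    eM ≪≫ (singleFunctor (ModuleCat.{u} B) 0).mapIso bM
  let eN' : (DRing.LBaseChange (algebraMap A B)).obj (Dual.inD A N) ≅ Dual.inD B (B ⊗[A] N) :=
    eN ≪≫ (singleFunctor (ModuleCat.{u} B) 0).mapIso bN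
  let e₂ : (DRing.LBaseChange (algebraMap A B)).obj ((Dual.inD A N)⟦i⟧) ≅
      (Dual.inD B (B ⊗[A] N))⟦i⟧ :=
    ((DRing.LBaseChange (algebraMap A B)).commShiftIso i).app (Dual.inD A N) ≪≫
      (shiftFunctor (Dual.D B) i).mapIso eN'
  exact ⟨(addEquivOfBij hb).trans
    (((adjF A B).homAddEquiv (Dual.inD A M)
      ((DRing.LBaseChange (algebraMap A B)).obj ((Dual.inD A N)⟦i⟧))).symm.trans
      (homAddCongr eM' e₂))⟩

end Main

end Groth.Agent.H12.FormalGlue
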