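import Groth.Agent.H12.DualSchCM
import Groth.Agent.S0341

/-!
# Gorenstein local rings and dualizing complexes: the `D(A)` side (helper12)

For a Noetherian local ring `B` with a dualizing complex `W`:
* `hasInjDimLT_of_iso`, `bass_of_iso`, `faithful_of_iso`, `finite_of_iso`: if `W ≅ K[0]` then
  `K` is a finite faithful module of finite injective dimension with Bass numbers `δ_{i,t}`;
* `gor_of_iso_shift`: `W⟦t⟧ ≅ B[0]` implies `B` Gorenstein;
* `exists_iso_shift_of_gor`: conversely, given the module-level input `GorK`;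
* `iso_shift_iff_cohomology`: `W⟦t⟧ ≅ B[0]` iff `H^i(W) = 0` for `i ≠ t` and `H^t(W) ≅ B`.
-/

set_option autoImplicit false
universe u
open CategoryTheory CategoryTheory.Limits DerivedCategory Pretriangulated

namespace Groth.Agent.H12.GorLocal

attribute [local instance] HasDerivedCategory.standard

open DerivedCategory.TStructure
open Groth.Agent.H12.DualDepth
open Groth.Agent.H12.LocHom
open Groth.Agent.H12.DualLoc
open Groth.Agent.H12.DualCM
open Groth.Agent.H12.DualSchCM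
open Groth.Agent.H12.HomSingleRing

variable {B : Type u} [CommRing B]

/-- transport of `Hom(X, -)` along an isomorphism -/
noncomputable def homCongr (X : Dual.D B) {W V : Dual.D B} (e : W ≅ V) :
    (X ⟶ W) ≃ₗ[B] (X ⟶ V) :=
  LinearEquiv.ofLinear (Linear.rightComp B X e.hom) (Linear.rightComp B X e.inv)
    (by ext f; simp) (by ext f; simp)

/-- transport of `Hom(X, -[i])` along an isomorphism -/
noncomputable def homShiftCongr (X : Dual.D B) {W V : Dual.D B} (e : W ≅ V) (i : ℤ) :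
    (X ⟶ W⟦i⟧) ≃ₗ[B] (X ⟶ V⟦i⟧) :=
  homCongr X ((shiftFunctor (Dual.D B) i).mapIso e)

theorem hasInjDimLT_of_iso (W : Dual.D B) (hW : Dual.IsDualizing B W) (K : Type u)
    [AddCommGroup K] [Module B K] (e : W ≅ Dual.inD B K) :
    ∃ n : ℕ, HasInjectiveDimensionLT (ModuleCat.of B K) n := by
  obtain ⟨a, b, hab⟩ := hW.finite_injective_dimension
  refine ⟨(b + 1).toNat, ?_⟩
  rw [hasInjectiveDimensionLT_iff.{u}]
  intro i hi Y x
  have hb : b < (i : ℤ) := by omega
  haveI := hab Y (i : ℤ) (Or.inr hb)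
  have hz : ∀ φ : (singleFunctor (ModuleCat.{u} B) 0).obj Y ⟶
      ((singleFunctor (ModuleCat.{u} B) 0).obj (ModuleCat.of B K))⟦(i : ℤ)⟧, φ = 0 := by
    intro φ
    have h2 : φ ≫ e.inv⟦(i : ℤ)⟧' = 0 :=
      Subsingleton.elim (α := Dual.inD B Y ⟶ W⟦(i : ℤ)⟧) _ _
    exact (cancel_mono (e.inv⟦(i : ℤ)⟧')).1 (h2.trans zero_comp.symm)
  apply (Abelian.Ext.homEquiv (X := Y) (Y := ModuleCat.of B K) (n := i)).injective
  exact (hz _).trans (hz _).symm

theorem finite_of_iso (W : Dual.D B) (hW : Dual.IsDualizing B W) (K : Type u)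
    [AddCommGroup K] [Module B K] (e : W ≅ Dual.inD B K) : Module.Finite B K := by
  obtain ⟨l⟩ := nonempty_linearEquiv_H0 W
  haveI := hW.finite_cohomology 0
  exact Module.Finite.equiv
    ((homSingleEquiv (ModuleCat.of B K)) ≪≫ₗ (homCongr (sA B) e).symm ≪≫ₗ l).symm

theorem faithful_of_iso (W : Dual.D B) (hW : Dual.IsDualizing B W) (K : Type u)
    [AddCommGroup K] [Module B K] (e : W ≅ Dual.inD B K) (b : B) (hb : ∀ x : K, b • x = 0) :
    b = 0 := by
  have h1 : b • 𝟙 (ModuleCat.of B K) = 0 := by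
    ext x
    exact hb x
  have h2 : b • 𝟙 (Dual.inD B K) = 0 := by
    have := Functor.map_smul (singleFunctor (ModuleCat.{u} B) 0) (R := B) b
      (𝟙 (ModuleCat.of B K))
    rw [h1, Functor.map_zero, CategoryTheory.Functor.map_id] at this
    exact this.symm
  have h4 : e.hom ≫ (b • 𝟙 (Dual.inD B K)) = b • e.hom := by
    rw [Linear.comp_smul, Category.comp_id]
  have h3 : b • 𝟙 W = 0 := by
    calc b • 𝟙 W = b • (e.hom ≫ e.inv) := by rw [e.hom_inv_id]
      _ = (b • e.hom) ≫ e.inv := (Linear.smul_comp _ _ _ _ _ _).symm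
      _ = 0 := by rw [← h4, h2, comp_zero, zero_comp]
  exact hW.toEnd_bijective.1 (h3.trans (zero_smul B (𝟙 W)).symm)

theorem bass_of_iso [IsLocalRing B] [IsNoetherianRing B] (W : Dual.D B)
    (hW : Dual.IsDualizing B W) (K : Type u) [AddCommGroup K] [Module B K]
    (e : W ≅ Dual.inD B K) :
    ∃ t : ℕ, (∀ i : ℕ, i ≠ t → Subsingleton (Abelian.Ext.{u}
        (ModuleCat.of B (B ⧸ IsLocalRing.maximalIdeal B)) (ModuleCat.of B K) i)) ∧
      Module.length B (Abelian.Ext.{u}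
        (ModuleCat.of B (B ⧸ IsLocalRing.maximalIdeal B)) (ModuleCat.of B K) t) = 1 := by
  obtain ⟨n₀, hz, ⟨l⟩⟩ := Groth.Agent.S0364.result B W hW (IsLocalRing.maximalIdeal B)
  have E : ∀ i : ℕ, Abelian.Ext.{u}
      (ModuleCat.of B (B ⧸ IsLocalRing.maximalIdeal B)) (ModuleCat.of B K) i ≃ₗ[B]
      (Dual.inD B (B ⧸ IsLocalRing.maximalIdeal B) ⟶ W⟦(i : ℤ)⟧) := fun i =>
    (Abelian.Ext.homLinearEquiv (R := B)
      (X := ModuleCat.of B (B ⧸ IsLocalRing.maximalIdeal B)) (Y := ModuleCat.of B K)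
      (n := i)).trans
      (homShiftCongr (Dual.inD B (B ⧸ IsLocalRing.maximalIdeal B)) e (i : ℤ)).symm
  have hn₀ : 0 ≤ n₀ := by
    by_contra hneg
    push_neg at hneg
    have hzero : ∀ f : Dual.inD B (B ⧸ IsLocalRing.maximalIdeal B) ⟶ W⟦n₀⟧, f = 0 := by
      intro f
      haveI : t.IsGE ((Dual.inD B K)⟦n₀⟧) (-n₀) :=
        t.isGE_shift (Dual.inD B K) 0 n₀ (-n₀) (by omega)
      have h2 : f ≫ e.hom⟦n₀⟧' = 0 := t.zero _ 0 (-n₀) (by omega)
      exact (cancel_mono (e.hom⟦n₀⟧')).1 (h2.trans zero_comp.symm)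
    haveI : Subsingleton (Dual.inD B (B ⧸ IsLocalRing.maximalIdeal B) ⟶ W⟦n₀⟧) :=
      ⟨fun f g => (hzero f).trans (hzero g).symm⟩
    haveI : Subsingleton (B ⧸ IsLocalRing.maximalIdeal B) := l.symm.toEquiv.subsingleton
    exact not_subsingleton (B ⧸ IsLocalRing.maximalIdeal B) inferInstance
  have ht : ((n₀.toNat : ℕ) : ℤ) = n₀ := Int.toNat_of_nonneg hn₀
  refine ⟨n₀.toNat, fun i hi => ?_, ?_⟩
  · have hne : (i : ℤ) ≠ n₀ := by
      intro h
      apply hi
      omega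
    haveI := hz (i : ℤ) hne
    exact (E i).toEquiv.subsingleton
  · have l' : Nonempty ((Dual.inD B (B ⧸ IsLocalRing.maximalIdeal B) ⟶
        W⟦((n₀.toNat : ℕ) : ℤ)⟧) ≃ₗ[B] (B ⧸ IsLocalRing.maximalIdeal B)) := by
      rw [ht]
      exact ⟨l⟩
    obtain ⟨l'⟩ := l'
    rw [((E n₀.toNat).trans l').length_eq]
    haveI : IsSimpleModule B (B ⧸ IsLocalRing.maximalIdeal B) :=
      isSimpleModule_iff_quot_maximal.2
        ⟨IsLocalRing.maximalIdeal B, inferInstance, ⟨LinearEquiv.refl _ _⟩⟩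
    exact Module.length_eq_one _ _

theorem gor_of_iso_shift [IsLocalRing B] [IsNoetherianRing B] (W : Dual.D B)
    (hW : Dual.IsDualizing B W) (t : ℤ) (e : W⟦t⟧ ≅ Dual.inD B B) :
    LocCoh.IsGorensteinLocalRing B := by
  obtain ⟨n, hn⟩ := hasInjDimLT_of_iso (W⟦t⟧) (isDualizing_shift W hW t) B e
  exact { exists_hasInjectiveDimensionLT := ⟨n, hn⟩ }

end Groth.Agent.H12.GorLocal
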