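import Groth.Agent.H12.GorLocal

/-!
# Gorenstein locus via a dualizing complex, modulo the module-level input `GorK` (helper12)
-/

set_option autoImplicit false
universe u
open CategoryTheory CategoryTheory.Limits DerivedCategory Pretriangulated
open scoped TensorProduct

namespace Groth.Agent.H12.GorLocal

attribute [local instance] HasDerivedCategory.standard

open DerivedCategory.TStructure
open Groth.Agent.H12.DualDepth
open Groth.Agent.H12.LocHom
open Groth.Agent.H12.DualLoc
open Groth.Agent.H12.DualCM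
open Groth.Agent.H12.DualSchCM
open Groth.Agent.H12.HomSingleRing
open Groth.Agent.H12.DualZero

/-- the module-level input (uniqueness of the canonical module over a Gorenstein local ring) -/
def GorK : Prop :=
  ∀ (B : Type u) [CommRing B] [LocCoh.IsGorensteinLocalRing B]
    (K : Type u) [AddCommGroup K] [Module B K] [Module.Finite B K] (n : ℕ)
    (_ : CategoryTheory.HasInjectiveDimensionLT (ModuleCat.of B K) n) (t : ℕ)
    (_ : ∀ i : ℕ, i ≠ t → Subsingleton (CategoryTheory.Abelian.Ext.{u}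
      (ModuleCat.of B (B ⧸ IsLocalRing.maximalIdeal B)) (ModuleCat.of B K) i))
    (_ : Module.length B (CategoryTheory.Abelian.Ext.{u}
      (ModuleCat.of B (B ⧸ IsLocalRing.maximalIdeal B)) (ModuleCat.of B K) t) = 1)
    (_ : ∀ b : B, (∀ x : K, b • x = 0) → b = 0), Nonempty (K ≃ₗ[B] B)

section Local

variable {B : Type u} [CommRing B]

theorem exists_iso_shift_of_gor (hG : GorK.{u}) [hB : LocCoh.IsGorensteinLocalRing B]
    (W : Dual.D B) (hW : Dual.IsDualizing B W) :
    ∃ t : ℤ, Nonempty (W⟦t⟧ ≅ Dual.inD B B) := by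
  have hCM : LocCoh.IsCohenMacaulayLocalRing B := Groth.Agent.S0341.result B
  have h1 := (cm_iff_atMostOne W hW B).1 (Or.inr hCM.supportDim_eq_depth)
  obtain ⟨t, ht⟩ := exists_not_van_self W hW
  have hW' := isDualizing_shift W hW t
  have hv : ∀ i : ℤ, i ≠ 0 → ∀ φ : Dual.inD B B ⟶ (W⟦t⟧)⟦i⟧, φ = 0 := by
    intro i hi
    apply (van_shift_iff W t i (t + i) rfl (ModuleCat.of B B)).2
    by_contra hcon
    have := h1 (t + i) t hcon ht
    omega
  obtain ⟨M, ⟨e⟩⟩ := exists_iso_single (W⟦t⟧) hv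
  have e' : W⟦t⟧ ≅ Dual.inD B M := e
  haveI := finite_of_iso (W⟦t⟧) hW' M e'
  obtain ⟨n, hn⟩ := hasInjDimLT_of_iso (W⟦t⟧) hW' M e'
  obtain ⟨t', h0, h1'⟩ := bass_of_iso (W⟦t⟧) hW' M e'
  obtain ⟨l⟩ := hG B M n hn t' h0 h1' (faithful_of_iso (W⟦t⟧) hW' M e')
  exact ⟨t, ⟨e' ≪≫ (singleFunctor (ModuleCat.{u} B) 0).mapIso l.toModuleIso⟩⟩

theorem iso_shift_iff (W : Dual.D B) (t : ℤ) :
    Nonempty (W⟦t⟧ ≅ Dual.inD B B) ↔
      (∀ i : ℤ, i ≠ t → Subsingleton (Dual.HD B W i)) ∧ Nonempty (Dual.HD B W t ≃ₗ[B] B) := by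
  constructor
  · rintro ⟨e⟩
    have key : ∀ i : ℤ, (homologyFunctor (ModuleCat.{u} B) i).obj W ≅
        (homologyFunctor (ModuleCat.{u} B) (i - t)).obj (Dual.inD B B) := fun i =>
      have s1 : (homologyFunctor (ModuleCat.{u} B) (i - t)).obj (W⟦t⟧) ≅
          (homologyFunctor (ModuleCat.{u} B) i).obj W :=
        ((homologyFunctor (ModuleCat.{u} B) 0).shiftIso t (i - t) i (by omega)).app W
      s1.symm ≪≫ (homologyFunctor (ModuleCat.{u} B) (i - t)).mapIso e
    refine ⟨fun i hi => ?_, ?_⟩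
    · have hz : IsZero ((homologyFunctor (ModuleCat.{u} B) (i - t)).obj (Dual.inD B B)) := by
        rcases lt_or_gt_of_ne hi with h | h
        · exact isZero_of_isGE ((singleFunctor (ModuleCat.{u} B) 0).obj (ModuleCat.of B B)) 0
            (i - t) (by omega)
        · exact isZero_of_isLE ((singleFunctor (ModuleCat.{u} B) 0).obj (ModuleCat.of B B)) 0
            (i - t) (by omega)
      exact ModuleCat.subsingleton_of_isZero (IsZero.of_iso hz (key i))
    · have k0 := key t
      rw [sub_self] at k0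
      obtain ⟨l⟩ := nonempty_linearEquiv_H0 (Dual.inD B B)
      exact ⟨k0.toLinearEquiv ≪≫ₗ l.symm ≪≫ₗ (homSingleEquiv (ModuleCat.of B B)).symm⟩
  · rintro ⟨hz, ⟨l⟩⟩
    have hv : ∀ i : ℤ, i ≠ 0 → ∀ φ : Dual.inD B B ⟶ (W⟦t⟧)⟦i⟧, φ = 0 := by
      intro i hi φ
      obtain ⟨l1⟩ := nonempty_linearEquiv_Hi (W⟦t⟧) i
      have l2 : (homologyFunctor (ModuleCat.{u} B) i).obj (W⟦t⟧) ≅
          (homologyFunctor (ModuleCat.{u} B) (t + i)).obj W :=
        ((homologyFunctor (ModuleCat.{u} B) 0).shiftIso t i (t + i) rfl).app W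
      haveI := hz (t + i) (by omega)
      haveI : Subsingleton ((homologyFunctor (ModuleCat.{u} B) i).obj (W⟦t⟧)) :=
        l2.toLinearEquiv.toEquiv.subsingleton
      haveI : Subsingleton (sA B ⟶ (W⟦t⟧)⟦i⟧) := l1.toEquiv.subsingleton
      exact Subsingleton.elim (α := sA B ⟶ (W⟦t⟧)⟦i⟧) φ 0
    obtain ⟨M, ⟨e⟩⟩ := exists_iso_single (W⟦t⟧) hv
    obtain ⟨l0⟩ := nonempty_linearEquiv_H0 (W⟦t⟧)
    have l2 : (homologyFunctor (ModuleCat.{u} B) 0).obj (W⟦t⟧) ≅
        (homologyFunctor (ModuleCat.{u} B) t).obj W :=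
      ((homologyFunctor (ModuleCat.{u} B) 0).shiftIso t 0 t (by omega)).app W
    have lM : M ≃ₗ[B] B :=
      (homSingleEquiv M) ≪≫ₗ (homCongr (sA B) e).symm ≪≫ₗ l0 ≪≫ₗ l2.toLinearEquiv ≪≫ₗ l
    exact ⟨e ≪≫ (singleFunctor (ModuleCat.{u} B) 0).mapIso lM.toModuleIso⟩

end Local

section Loc

variable {A : Type u} [CommRing A]

theorem nonempty_HD_L_equiv (S : Submonoid A)
    [DRing.HasLBaseChange (algebraMap A (Localization S))] (ω : Dual.D A) (i : ℤ) :
    Nonempty (Dual.HD (Localization S)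
      ((DRing.LBaseChange (algebraMap A (Localization S))).obj ω) i ≃ₗ[Localization S]
      LocalizedModule S (Dual.HD A ω i)) := by
  obtain ⟨E, ⟨e⟩⟩ : ∃ E : DRing.Cx A, Nonempty (Q.obj E ≅ ω) := ⟨_, ⟨Q.objObjPreimageIso ω⟩⟩
  haveI : (ModuleCat.extendScalars.{u, u, u} (algebraMap A (Localization S))).PreservesHomology :=
    (inferInstance : (H82.TorBC.E A (Localization S)).PreservesHomology)
  let e1 : (homologyFunctor (ModuleCat.{u} (Localization S)) i).obj
      ((DRing.LBaseChange (algebraMap A (Localization S))).obj ω) ≅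
      (homologyFunctor (ModuleCat.{u} (Localization S)) i).obj
        (Q.obj ((DTen.extCx (algebraMap A (Localization S))).obj E)) :=
    (homologyFunctor (ModuleCat.{u} (Localization S)) i).mapIso
      (flatModel (B := Localization S) E e).symm
  let e2 : (homologyFunctor (ModuleCat.{u} (Localization S)) i).obj
        (Q.obj ((DTen.extCx (algebraMap A (Localization S))).obj E)) ≅
      ((DTen.extCx (algebraMap A (Localization S))).obj E).homology i :=
    (homologyFunctorFactors (ModuleCat.{u} (Localization S)) i).app _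
  let e3 : ((DTen.extCx (algebraMap A (Localization S))).obj E).homology i ≅
      (ModuleCat.extendScalars.{u, u, u} (algebraMap A (Localization S))).obj (E.homology i) :=
    (E.sc i).mapHomologyIso (ModuleCat.extendScalars.{u, u, u} (algebraMap A (Localization S)))
  let e4 : E.homology i ≅ (homologyFunctor (ModuleCat.{u} A) i).obj ω :=
    ((homologyFunctorFactors (ModuleCat.{u} A) i).app E).symm ≪≫
      (homologyFunctor (ModuleCat.{u} A) i).mapIso e
  let e5 := e1 ≪≫ e2 ≪≫ e3 ≪≫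
    (ModuleCat.extendScalars.{u, u, u} (algebraMap A (Localization S))).mapIso e4
  exact ⟨e5.toLinearEquiv ≪≫ₗ
    (H82.TorBC.bcEquiv A (Localization S) (Dual.HD A ω i)).symm ≪≫ₗ
    (LocalizedModule.equivTensorProduct S (Dual.HD A ω i)).symm⟩

variable [IsNoetherianRing A]

theorem gor_iff (hG : GorK.{u}) (ω : Dual.D A) (hω : Dual.IsDualizing A ω)
    (p : PrimeSpectrum A) :
    LocCoh.IsGorensteinLocalRing (Localization.AtPrime p.asIdeal) ↔
      ∃ t : ℤ, (∀ i : ℤ, i ≠ t →
          Subsingleton (LocalizedModule p.asIdeal.primeCompl (Dual.HD A ω i))) ∧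
        Nonempty (LocalizedModule p.asIdeal.primeCompl (Dual.HD A ω t)
          ≃ₗ[Localization.AtPrime p.asIdeal] Localization.AtPrime p.asIdeal) := by
  haveI : DRing.HasLBaseChange (algebraMap A (Localization p.asIdeal.primeCompl)) :=
    H35.HasLBC.hasLBaseChange _
  have hWp := isDualizing_L p.asIdeal.primeCompl ω hω
  have loc := nonempty_HD_L_equiv p.asIdeal.primeCompl ω
  constructor
  · intro hgor
    obtain ⟨t, ht⟩ := exists_iso_shift_of_gor hG _ hWp
    obtain ⟨hz, ⟨l⟩⟩ := (iso_shift_iff _ t).1 ht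
    refine ⟨t, fun i hi => ?_, ?_⟩
    · obtain ⟨li⟩ := loc i
      haveI := hz i hi
      exact li.symm.toEquiv.subsingleton
    · obtain ⟨lt⟩ := loc t
      exact ⟨lt.symm ≪≫ₗ l⟩
  · rintro ⟨t, hz, ⟨l⟩⟩
    have h2 : Nonempty (((DRing.LBaseChange
        (algebraMap A (Localization p.asIdeal.primeCompl))).obj ω)⟦t⟧ ≅
        Dual.inD (Localization.AtPrime p.asIdeal) (Localization.AtPrime p.asIdeal)) := by
      rw [iso_shift_iff]
      refine ⟨fun i hi => ?_, ?_⟩
      · obtain ⟨li⟩ := loc i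
        haveI := hz i hi
        exact li.toEquiv.subsingleton
      · obtain ⟨lt⟩ := loc t
        exact ⟨lt ≪≫ₗ l⟩
    obtain ⟨e⟩ := h2
    exact gor_of_iso_shift _ hWp t e

theorem isOpen_gorLocus (hG : GorK.{u})
    (hOpen : ∀ (M : ℤ → Type u) [∀ i, AddCommGroup (M i)] [∀ i, Module A (M i)]
      [∀ i, Module.Finite A (M i)] (a b : ℤ)
      (_ : ∀ i, (i < a ∨ b < i) → Subsingleton (M i)),
      IsOpen {p : PrimeSpectrum A | ∃ t : ℤ,
        (∀ i, i ≠ t → Subsingleton (LocalizedModule p.asIdeal.primeCompl (M i))) ∧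
        Nonempty (LocalizedModule p.asIdeal.primeCompl (M t)
          ≃ₗ[Localization.AtPrime p.asIdeal] Localization.AtPrime p.asIdeal)})
    (ω : Dual.D A) (hω : Dual.IsDualizing A ω) :
    IsOpen {p : PrimeSpectrum A |
      LocCoh.IsGorensteinLocalRing (Localization.AtPrime p.asIdeal)} := by
  obtain ⟨a, b, hab⟩ := hω.finite_injective_dimension
  haveI : ∀ i, Module.Finite A (Dual.HD A ω i) := hω.finite_cohomology
  have h := hOpen (fun i => Dual.HD A ω i) a b (fun i hi =>
    ModuleCat.subsingleton_of_isZero (isZero_homology_of_isDualizing ω a b hab i hi))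
  convert h using 1
  ext p
  exact gor_iff hG ω hω p

end Loc

end Groth.Agent.H12.GorLocal
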