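import Groth.Agent.H12.GorSch
import Groth.Agent.H72.GorK

/-!
# Openness of the Gorenstein locus for rings and schemes with a dualizing complex (helper12)
-/

set_option autoImplicit false
universe u
open CategoryTheory AlgebraicGeometry CategoryTheory.Limits

namespace Groth.Agent.H12.GorLocal

attribute [local instance] HasDerivedCategory.standard

theorem gorK : GorK.{u} := fun B _ _ K _ _ _ n hinj t h0 h1 hann =>
  Groth.Agent.H72.GorK.iso_self_of_gorenstein B K n hinj t h0 h1 hann

theorem isOpen_gorLocus_ring' {A : Type u} [CommRing A] [IsNoetherianRing A]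
    (ω : Dual.D A) (hω : Dual.IsDualizing A ω) :
    IsOpen {p : PrimeSpectrum A |
      LocCoh.IsGorensteinLocalRing (Localization.AtPrime p.asIdeal)} :=
  isOpen_gorLocus_ring gorK ω hω

theorem isOpen_gorLocus_sch' (X : Scheme.{u}) [IsLocallyNoetherian X]
    [∀ (U : Scheme.{u}) (j : U ⟶ X) [IsOpenImmersion j],
      PreservesFiniteLimits (Scheme.Modules.restrictFunctor j)]
    [∀ (R : CommRingCat.{u}), PreservesFiniteLimits (tilde.functor R)]
    (K : DCoh.D X) (hK : Dual2.IsDualizingSch X K) :
    IsOpen {x : X | LocCoh.IsGorensteinLocalRing (X.presheaf.stalk x)} :=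
  isOpen_gorLocus_sch X K hK gorK

end Groth.Agent.H12.GorLocal
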