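import Groth.Agent.H12.GorLocal2
import Groth.Agent.H75.Gor_OPEN
import Groth.Agent.H60.GorTransfer

/-!
# Openness of the Gorenstein locus (ring and scheme), modulo `GorK` (helper12)
-/

set_option autoImplicit false
universe u
open CategoryTheory CategoryTheory.Limits DerivedCategory Pretriangulated AlgebraicGeometry

namespace Groth.Agent.H12.GorLocal

attribute [local instance] HasDerivedCategory.standard

theorem isOpen_gorLocus_ring (hG : GorK.{u}) {A : Type u} [CommRing A] [IsNoetherianRing A]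
    (ω : Dual.D A) (hω : Dual.IsDualizing A ω) :
    IsOpen {p : PrimeSpectrum A |
      LocCoh.IsGorensteinLocalRing (Localization.AtPrime p.asIdeal)} :=
  isOpen_gorLocus hG
    (fun M _ _ _ a b h => Groth.Agent.H75.Gor_OPEN.isOpen_rankOneLocus M a b h) ω hω

section Sch

variable (X : Scheme.{u}) [IsLocallyNoetherian X]

theorem gor_stalk_iff (W : X.Opens) (hW : IsAffineOpen W) (y : PrimeSpectrum Γ(X, W)) :
    LocCoh.IsGorensteinLocalRing (X.presheaf.stalk (hW.fromSpec y)) ↔
      LocCoh.IsGorensteinLocalRing (Localization.AtPrime y.asIdeal) := by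
  have hy : hW.fromSpec y ∈ W := by
    have : hW.fromSpec y ∈ Set.range hW.fromSpec := Set.mem_range_self y
    rw [hW.range_fromSpec] at this
    exact this
  letI := TopCat.Presheaf.algebra_section_stalk X.presheaf ⟨hW.fromSpec y, hy⟩
  haveI hloc : IsLocalization.AtPrime (X.presheaf.stalk (hW.fromSpec y)) y.asIdeal :=
    hW.isLocalization_stalk' y hy
  let ε : X.presheaf.stalk (hW.fromSpec y) ≃+* Localization.AtPrime y.asIdeal :=
    (IsLocalization.algEquiv y.asIdeal.primeCompl (X.presheaf.stalk (hW.fromSpec y))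
      (Localization.AtPrime y.asIdeal)).toRingEquiv
  exact ⟨fun h => Groth.Agent.H60.GorTransfer.gor_of_ringEquiv ε h,
    fun h => Groth.Agent.H60.GorTransfer.gor_of_ringEquiv ε.symm h⟩

variable
  [∀ (U : Scheme.{u}) (j : U ⟶ X) [IsOpenImmersion j],
    PreservesFiniteLimits (Scheme.Modules.restrictFunctor j)]
  [∀ (R : CommRingCat.{u}), PreservesFiniteLimits (tilde.functor R)]
  (K : DCoh.D X) (hK : Dual2.IsDualizingSch X K)

include hK in
theorem isOpen_gorLocus_sch (hG : GorK.{u}) :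
    IsOpen {x : X | LocCoh.IsGorensteinLocalRing (X.presheaf.stalk x)} := by
  rw [isOpen_iff_forall_mem_open]
  intro x hx
  obtain ⟨_, ⟨W, hW, rfl⟩, hxW, -⟩ :=
    (X.isBasis_affineOpens).exists_subset_of_mem_open (Set.mem_univ x) isOpen_univ
  obtain ⟨y, rfl⟩ : ∃ y : PrimeSpectrum Γ(X, W), hW.fromSpec y = x :=
    ⟨hW.primeIdealOf ⟨x, hxW⟩, hW.fromSpec_primeIdealOf ⟨x, hxW⟩⟩
  obtain ⟨ωA, hωA, -⟩ := hK Γ(X, W) hW.fromSpec
  haveI : IsNoetherianRing Γ(X, W) := IsLocallyNoetherian.component_noetherian ⟨W, hW⟩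
  have hopen := isOpen_gorLocus_ring hG ωA hωA
  refine ⟨hW.fromSpec '' {p : PrimeSpectrum Γ(X, W) |
    LocCoh.IsGorensteinLocalRing (Localization.AtPrime p.asIdeal)}, ?_, ?_, ?_⟩
  · rintro _ ⟨z, hz, rfl⟩
    exact (gor_stalk_iff X W hW z).2 hz
  · exact hW.fromSpec.isOpenEmbedding.isOpenMap _ hopen
  · exact ⟨y, (gor_stalk_iff X W hW y).1 hx, rfl⟩

end Sch

end Groth.Agent.H12.GorLocal
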