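import Groth.Agent.H12.GorSelf
import Groth.Prelude.Def_Dual3

/-!
# On a Gorenstein scheme with a dualizing complex, `O_X[0]` is dualizing (helper12)
-/

set_option autoImplicit false
universe u
open CategoryTheory CategoryTheory.Limits DerivedCategory Pretriangulated AlgebraicGeometry

namespace Groth.Agent.H12.GorLocal

attribute [local instance] HasDerivedCategory.standard

section

variable (X : Scheme.{u})
  [∀ (U : Scheme.{u}) (j : U ⟶ X) [IsOpenImmersion j],
    PreservesFiniteLimits (Scheme.Modules.restrictFunctor j)]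
  [∀ (R : CommRingCat.{u}), PreservesFiniteLimits (tilde.functor R)]

theorem gor_localization_of_stalk (A : Type u) [CommRing A]
    (j : Spec (CommRingCat.of A) ⟶ X) [IsOpenImmersion j]
    (h : ∀ x : X, LocCoh.IsGorensteinLocalRing (X.presheaf.stalk x)) (p : PrimeSpectrum A) :
    LocCoh.IsGorensteinLocalRing (Localization.AtPrime p.asIdeal) := by
  let ε1 : X.presheaf.stalk (j p) ≃+* (Spec (CommRingCat.of A)).presheaf.stalk p :=
    (asIso (j.stalkMap p)).commRingCatIsoToRingEquiv
  let ε2 : (Spec (CommRingCat.of A)).presheaf.stalk p ≃+* Localization.AtPrime p.asIdeal :=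
    (Spec.stalkIso (CommRingCat.of A) p).commRingCatIsoToRingEquiv
  exact Groth.Agent.H60.GorTransfer.gor_of_ringEquiv (ε1.trans ε2) (h (j p))

omit [∀ (U : Scheme.{u}) (j : U ⟶ X) [IsOpenImmersion j],
    PreservesFiniteLimits (Scheme.Modules.restrictFunctor j)] in
theorem tildeD_single_iso (R : CommRingCat.{u}) :
    Nonempty ((DCoh.tildeD R).obj
        ((DerivedCategory.singleFunctor (ModuleCat.{u} R) 0).obj (ModuleCat.of R R)) ≅
      DCoh.inD (Spec (CommRingCat.of R)) (Coh.structureModule (Spec (CommRingCat.of R)))) := by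
  let e3 : (DCoh.tildeD R).obj
        ((DerivedCategory.singleFunctor (ModuleCat.{u} R) 0).obj (ModuleCat.of R R)) ≅
      DCoh.inD (Spec (CommRingCat.of R)) ((tilde.functor R).obj (ModuleCat.of R R)) :=
    ((tilde.functor R).mapDerivedCategorySingleFunctor 0).app _
  let e4 : DCoh.inD (Spec (CommRingCat.of R)) ((tilde.functor R).obj (ModuleCat.of R R)) ≅
      DCoh.inD (Spec (CommRingCat.of R)) (Coh.structureModule (Spec (CommRingCat.of R))) :=
    (DerivedCategory.singleFunctor _ 0).mapIso (tildeSelf (R := R))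
  exact ⟨e3 ≪≫ e4⟩

theorem restrictD_unit_iso (A : Type u) [CommRing A]
    (j : Spec (CommRingCat.of A) ⟶ X) [IsOpenImmersion j] :
    Nonempty ((DCoh.restrictD j).obj (DCoh.inD X (Coh.structureModule X)) ≅
      (DCoh.tildeD (CommRingCat.of A)).obj (Dual.inD A A)) := by
  let e1 : (DCoh.restrictD j).obj (DCoh.inD X (Coh.structureModule X)) ≅
      DCoh.inD _ ((Scheme.Modules.restrictFunctor j).obj (Coh.structureModule X)) :=
    ((Scheme.Modules.restrictFunctor j).mapDerivedCategorySingleFunctor 0).app _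
  let e2 : DCoh.inD (Spec (CommRingCat.of A))
      ((Scheme.Modules.restrictFunctor j).obj (Coh.structureModule X)) ≅
      DCoh.inD (Spec (CommRingCat.of A)) (Coh.structureModule (Spec (CommRingCat.of A))) :=
    (DerivedCategory.singleFunctor _ 0).mapIso (Scheme.Modules.restrictUnitIso j)
  obtain ⟨e34⟩ := tildeD_single_iso (CommRingCat.of A)
  exact ⟨e1 ≪≫ e2 ≪≫ e34.symm⟩

theorem isDualizingSch_unit (hX : Dual3.IsGorenstein X) (K : DCoh.D X)
    (hK : Dual2.IsDualizingSch X K) :
    Dual2.IsDualizingSch X (DCoh.inD X (Coh.structureModule X)) := by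
  intro A _ j _
  obtain ⟨ωA, hωA, -⟩ := hK A j
  haveI : IsNoetherianRing A := hωA.isNoetherianRing
  exact ⟨Dual.inD A A,
    isDualizing_self_of_gor ωA hωA (gor_localization_of_stalk X A j hX.2), restrictD_unit_iso X A j⟩

end

end Groth.Agent.H12.GorLocal
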