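import Groth.Agent.H12.GorMain

/-!
# Over a Gorenstein ring with a dualizing complex, `A[0]` is a dualizing complex (helper12)
-/

set_option autoImplicit false
universe u
open CategoryTheory CategoryTheory.Limits DerivedCategory Pretriangulated
open scoped TensorProduct

namespace Groth.Agent.H12.GorLocal

attribute [local instance] HasDerivedCategory.standard

open DerivedCategory.TStructure
open Groth.Agent.H12.DualDepth
open Groth.Agent.H12.LocHom
open Groth.Agent.H12.DualLoc
open Groth.Agent.H12.DualCM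
open Groth.Agent.H12.DualSchCM
open Groth.Agent.H12.HomSingleRing
open Groth.Agent.H12.DualZero

variable {A : Type u} [CommRing A] [IsNoetherianRing A]

theorem homSingleEquiv_one : homSingleEquiv (ModuleCat.of A A) (1 : A) = 𝟙 (sA A) := by
  show (singleFunctor (ModuleCat.{u} A) 0).map _ = _
  rw [← CategoryTheory.Functor.map_id]
  congr 1
  ext
  show (LinearMap.smulRight (1 : A →ₗ[A] A) (1 : A)) (1 : A) = 1
  simp

theorem van_of_iso_target {W V : Dual.D A} (e : W ≅ V) (k : ℤ) (X : ModuleCat.{u} A)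
    (h : Van W k X) : Van V k X := by
  intro φ
  have h2 : φ ≫ e.inv⟦k⟧' = 0 := h _
  exact (cancel_mono (e.inv⟦k⟧')).1 (h2.trans zero_comp.symm)

theorem van_self_of_gor (ω : Dual.D A) (hω : Dual.IsDualizing A ω) (a b : ℤ)
    (hab : ∀ (M : Type u) [AddCommGroup M] [Module A M] (i : ℤ),
      (i < a ∨ b < i) → Subsingleton (Dual.inD A M ⟶ ω⟦i⟧))
    (hgor : ∀ p : PrimeSpectrum A,
      LocCoh.IsGorensteinLocalRing (Localization.AtPrime p.asIdeal))
    (I : Ideal A) (k : ℤ) (hk : b - a < k) :
    ∀ φ : Dual.inD A (A ⧸ I) ⟶ (Dual.inD A A)⟦k⟧, φ = 0 := by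
  intro φ
  by_contra hφ
  obtain ⟨J, hJ⟩ : ∃ J : Ideal A, J = LinearMap.ker (LinearMap.toSpanSingleton A _ φ) :=
    ⟨_, rfl⟩
  have hJmem : ∀ x : A, x ∈ J ↔ x • φ = 0 := by
    intro x
    rw [hJ, LinearMap.mem_ker, LinearMap.toSpanSingleton_apply]
  have hJne : J ≠ ⊤ := by
    intro h
    have h1 : (1 : A) ∈ J := h ▸ Submodule.mem_top
    rw [hJmem, one_smul] at h1
    exact hφ h1
  obtain ⟨m, hm, hJm⟩ := Ideal.exists_le_maximal J hJne
  haveI := hm.isPrime
  let p : PrimeSpectrum A := ⟨m, hm.isPrime⟩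
  haveI : DRing.HasLBaseChange (algebraMap A (Localization m.primeCompl)) :=
    H35.HasLBC.hasLBaseChange _
  have h1 := exists_not_torsion_iff m.primeCompl (Dual.inD A A) 0 (ModuleCat.of A (A ⧸ I)) k
  apply h1.1 ⟨φ, fun s hs hs0 => hs (hJm ((hJmem s).2 hs0))⟩
  -- the localized complex
  have hamp : DRing.HasInjAmplitudeIn A a b ω := by
    apply H56.hasInjAmplitudeIn_of_cyclic
    intro I' i hi
    haveI := hab (A ⧸ I') i hi
    exact (H56.single_hom_shift_vanishing_iff (ModuleCat.of A (A ⧸ I')) ω i).1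
      (fun φ => Subsingleton.elim _ _)
  have hampL := hasInjAmplitudeIn_L m.primeCompl ω a b hamp
  have hWp := isDualizing_L m.primeCompl ω hω
  haveI : LocCoh.IsGorensteinLocalRing (Localization m.primeCompl) := hgor p
  obtain ⟨t, ⟨e⟩⟩ := exists_iso_shift_of_gor gorK _ hWp
  -- `a ≤ t`
  have hat : a ≤ t := by
    by_contra hlt
    push_neg at hlt
    obtain ⟨-, ⟨l⟩⟩ := (iso_shift_iff _ t).1 ⟨e⟩
    obtain ⟨l2⟩ := nonempty_HD_L_equiv m.primeCompl ω t
    haveI : Subsingleton (Dual.HD A ω t) :=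
      ModuleCat.subsingleton_of_isZero (isZero_homology_of_isDualizing ω a b hab t (Or.inl hlt))
    haveI : Subsingleton (LocalizedModule m.primeCompl (Dual.HD A ω t)) :=
      LocalizedModule.instSubsingleton _
    haveI : Subsingleton (Localization m.primeCompl) :=
      (l2.symm ≪≫ₗ l).symm.toEquiv.subsingleton
    exact not_subsingleton (Localization m.primeCompl) inferInstance
  obtain ⟨iso1⟩ := exists_iso_L_single (B := Localization m.primeCompl) (ModuleCat.of A A)
  let lB : (ModuleCat.extendScalars.{u, u, u}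
      (algebraMap A (Localization m.primeCompl))).obj (ModuleCat.of A A) ≃ₗ[Localization m.primeCompl]
      Localization m.primeCompl :=
    (H82.TorBC.bcEquiv A (Localization m.primeCompl) A).symm ≪≫ₗ
      TensorProduct.AlgebraTensorModule.rid A (Localization m.primeCompl)
        (Localization m.primeCompl)
  let iso2 : (singleFunctor (ModuleCat.{u} (Localization m.primeCompl)) 0).obj
      ((ModuleCat.extendScalars.{u, u, u}
        (algebraMap A (Localization m.primeCompl))).obj (ModuleCat.of A A)) ≅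
      Dual.inD (Localization m.primeCompl) (Localization m.primeCompl) :=
    (singleFunctor (ModuleCat.{u} (Localization m.primeCompl)) 0).mapIso lB.toModuleIso
  refine van_of_iso_target (iso1 ≪≫ iso2 ≪≫ e.symm).symm k _ ?_
  apply (van_shift_iff _ t k (t + k) rfl _).2
  apply (H56.single_hom_shift_vanishing_iff _ _ (t + k)).2
  intro ψ
  exact H56.single_hom_eq_zero_of_hasInjAmplitudeIn _ a b hampL _ (t + k)
    (Or.inr (by omega)) ψ

theorem isDualizing_self_of_gor (ω : Dual.D A) (hω : Dual.IsDualizing A ω)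
    (hgor : ∀ p : PrimeSpectrum A,
      LocCoh.IsGorensteinLocalRing (Localization.AtPrime p.asIdeal)) :
    Dual.IsDualizing A (Dual.inD A A) := by
  obtain ⟨a, b, hab⟩ := hω.finite_injective_dimension
  obtain ⟨N, hN⟩ : ∃ N : ℤ, N = max (b - a) 0 := ⟨_, rfl⟩
  have hN1 : b - a ≤ N := hN ▸ le_max_left _ _
  have hamp : DRing.HasInjAmplitudeIn A 0 N (Dual.inD A A) := by
    apply H56.hasInjAmplitudeIn_of_cyclic
    intro I i hi
    apply (H56.single_hom_shift_vanishing_iff (ModuleCat.of A (A ⧸ I)) (Dual.inD A A) i).1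
    rcases hi with hi | hi
    · intro φ
      haveI : t.IsGE ((Dual.inD A A)⟦i⟧) (-i) := t.isGE_shift (Dual.inD A A) 0 i (-i) (by omega)
      exact t.zero φ 0 (-i) (by omega)
    · exact van_self_of_gor ω hω a b hab hgor I i (by omega)
  have hz : ∀ i : ℤ, i ≠ 0 →
      IsZero ((homologyFunctor (ModuleCat.{u} A) i).obj (Dual.inD A A)) := by
    intro i hi
    rcases lt_or_gt_of_ne hi with h | h
    · exact isZero_of_isGE ((singleFunctor (ModuleCat.{u} A) 0).obj (ModuleCat.of A A)) 0 i h
    · exact isZero_of_isLE ((singleFunctor (ModuleCat.{u} A) 0).obj (ModuleCat.of A A)) 0 i h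
  refine ⟨inferInstance, ⟨0, N, ?_⟩, ?_, ?_, ?_⟩
  · intro M _ _ i hi
    have key := (H56.single_hom_shift_vanishing_iff (ModuleCat.of A M) (Dual.inD A A) i).2
      (fun ψ => H56.single_hom_eq_zero_of_hasInjAmplitudeIn _ 0 N hamp (ModuleCat.of A M) i hi ψ)
    exact ⟨fun f g => by rw [key f, key g]⟩
  · intro i
    by_cases hi : i = 0
    · subst hi
      obtain ⟨l⟩ := nonempty_linearEquiv_H0 (Dual.inD A A)
      exact Module.Finite.equiv ((homSingleEquiv (ModuleCat.of A A)) ≪≫ₗ l)
    · haveI : Subsingleton (Dual.HD A (Dual.inD A A) i) :=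
        ModuleCat.subsingleton_of_isZero (hz i hi)
      infer_instance
  · have hE : ∀ x : A, homSingleEquiv (ModuleCat.of A A) x = x • 𝟙 (sA A) := by
      intro x
      have h1 := (homSingleEquiv (ModuleCat.of A A)).map_smul x (1 : A)
      rw [homSingleEquiv_one] at h1
      rw [← h1]
      congr 1
      simp
    have hfun : (fun x : A => x • 𝟙 (Dual.inD A A)) = homSingleEquiv (ModuleCat.of A A) :=
      funext (fun x => (hE x).symm)
    rw [hfun]
    exact (homSingleEquiv (ModuleCat.of A A)).bijective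
  · intro i hi
    obtain ⟨l⟩ := nonempty_linearEquiv_Hi (Dual.inD A A) i
    haveI : Subsingleton ((homologyFunctor (ModuleCat.{u} A) i).obj (Dual.inD A A)) :=
      ModuleCat.subsingleton_of_isZero (hz i hi)
    exact l.toEquiv.subsingleton

end Groth.Agent.H12.GorLocal
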