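import Mathlib
import Groth.Agent.H12.HDTTors

/-!
# `H_T` of shifted torsion modules and of complexes with torsion cohomology (helper12)
-/

set_option autoImplicit false
universe u
open CategoryTheory CategoryTheory.Limits Pretriangulated Opposite
attribute [local instance] HasDerivedCategory.standard

namespace Groth.Agent.H12.HDT

open DerivedCategory DerivedCategory.TStructure
open Groth.Agent.H12.FinExt (DA)
open Groth.Agent.H12
open Dual2 (IdealsIn idealsInDiagram)

section ExtPow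

variable {A : Type u} [CommRing A]

lemma mk₀_comp_hom {X X' Y : ModuleCat.{u} A} (f : X' ⟶ X) {n : ℕ} (e : Abelian.Ext.{u} X Y n) :
    ((Abelian.Ext.mk₀ f).comp e (zero_add n)).hom =
      (singleFunctor (ModuleCat.{u} A) 0).map f ≫ e.hom := by
  rw [Abelian.Ext.comp_hom, Abelian.Ext.mk₀_hom, ShiftedHom.mk₀_comp]

/-- a map out of `A/I` is determined by the image of `1` -/
lemma quot_hom_ext (I : Ideal A) {N : ModuleCat.{u} A} {f g : ModuleCat.of A (A ⧸ I) ⟶ N}
    (h : f.hom (Submodule.Quotient.mk (1 : A)) = g.hom (Submodule.Quotient.mk (1 : A))) : f = g := by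
  refine ModuleCat.hom_ext (LinearMap.ext fun q => ?_)
  obtain ⟨r, rfl⟩ := Submodule.Quotient.mk_surjective _ q
  have hr : (Submodule.Quotient.mk r : A ⧸ I) = r • Submodule.Quotient.mk (1 : A) := by
    rw [← Submodule.Quotient.mk_smul, smul_eq_mul, mul_one]
  rw [hr, map_smul, map_smul, h]

/-- Higher Ext classes `A/I → N[k+1]` into a module killed by `I` die on some `A/I^m`. -/
theorem exists_pow_res_eq_zero [IsNoetherianRing A] (I : Ideal A) (N : ModuleCat.{u} A)
    (hN : ∀ c ∈ I, ∀ x : N, c • x = 0) (k : ℕ)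
    (y : (singleFunctor (ModuleCat.{u} A) 0).obj (ModuleCat.of A (A ⧸ I)) ⟶
      ((singleFunctor (ModuleCat.{u} A) 0).obj N)⟦((k + 1 : ℕ) : ℤ)⟧) :
    ∃ m : ℕ, m ≠ 0 ∧ ∃ hm : I ^ m ≤ I,
      (singleFunctor (ModuleCat.{u} A) 0).map
        (ModuleCat.ofHom (Submodule.mapQ (I ^ m) I LinearMap.id hm)) ≫ y = 0 := by
  let e : Abelian.Ext.{u} (ModuleCat.of A (A ⧸ I)) N (k + 1) := Abelian.Ext.homEquiv.symm y
  have he : e.hom = y := Abelian.Ext.homEquiv.apply_symm_apply y
  let π₁ : H58.LC.Q I 1 ⟶ ModuleCat.of A (A ⧸ I) :=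
    ModuleCat.ofHom (Submodule.mapQ _ _ LinearMap.id (le_of_eq (pow_one I)))
  have hNt : LocCoh.IsPowerTorsion I N := fun x =>
    ⟨1, fun c hc => hN c (by rwa [pow_one] at hc) x⟩
  haveI : Subsingleton ((localCohomology I (k + 1)).obj N) :=
    H58.LC.subsingleton_H_of_isPowerTorsion' I N hNt (k + 1) (Nat.succ_pos k)
  obtain ⟨m, hm, h0⟩ := H58.LC.exists_of_ι_eq_zero I (k + 1) N 1
    ((Abelian.Ext.mk₀ π₁).comp e (zero_add _)) (Subsingleton.elim _ _)
  have hm0 : m ≠ 0 := by omega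
  refine ⟨m, hm0, Ideal.pow_le_self hm0, ?_⟩
  have hfac : ModuleCat.ofHom (Submodule.mapQ (I ^ m) I LinearMap.id (Ideal.pow_le_self hm0)) =
      H58.LC.π I hm ≫ π₁ := by
    apply quot_hom_ext (I ^ m)
    rfl
  have h1 := congrArg Abelian.Ext.hom h0
  rw [mk₀_comp_hom, mk₀_comp_hom, he] at h1
  rw [hfac, Functor.map_comp, Category.assoc, h1]
  exact Abelian.Ext.zero_hom _ _ _

end ExtPow

section Single

variable {A : Type u} [CommRing A] (T : Set (PrimeSpectrum A))

/-- the module `A/J` -/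
noncomputable abbrev QM (J : IdealsIn T) : ModuleCat.{u} A :=
  (localCohomology.ringModIdeals (idealsInDiagram T)).obj J

theorem exists_rep_of_killed (N : ModuleCat.{u} A) (J₀ : IdealsIn T)
    (hN : ∀ c ∈ idl T J₀, ∀ x : N, c • x = 0)
    (x : HY T ((singleFunctor (ModuleCat.{u} A) 0).obj N)) :
    ∃ y₀ : (QD T).obj J₀ ⟶ (singleFunctor (ModuleCat.{u} A) 0).obj N, ι T _ J₀ y₀ = x := by
  obtain ⟨J, y, rfl⟩ := exists_rep T _ x
  obtain ⟨f, rfl⟩ : ∃ f : QM T J ⟶ N, (singleFunctor (ModuleCat.{u} A) 0).map f = y :=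
    (singleFunctor (ModuleCat.{u} A) 0).map_surjective y
  let n : N := f.hom (Submodule.Quotient.mk (1 : A) : A ⧸ idl T J)
  let f₀ : QM T J₀ ⟶ N := ModuleCat.ofHom (Submodule.liftQ (idl T J₀)
    (LinearMap.toSpanSingleton A N n) (fun c hc => by
      rw [LinearMap.mem_ker, LinearMap.toSpanSingleton_apply]
      exact hN c hc n))
  refine ⟨(singleFunctor (ModuleCat.{u} A) 0).map f₀, ?_⟩
  rw [← ι_res T _ (IsCofiltered.minToRight J J₀), ← ι_res T _ (IsCofiltered.minToLeft J J₀)]
  congr 1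
  show (singleFunctor (ModuleCat.{u} A) 0).map
      ((localCohomology.ringModIdeals (idealsInDiagram T)).map (IsCofiltered.minToRight J J₀)) ≫
        (singleFunctor (ModuleCat.{u} A) 0).map f₀ =
    (singleFunctor (ModuleCat.{u} A) 0).map
      ((localCohomology.ringModIdeals (idealsInDiagram T)).map (IsCofiltered.minToLeft J J₀)) ≫
        (singleFunctor (ModuleCat.{u} A) 0).map f
  rw [← Functor.map_comp, ← Functor.map_comp]
  congr 1
  apply quot_hom_ext (idl T (IsCofiltered.min J J₀))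
  show (LinearMap.toSpanSingleton A N n) 1 = n
  rw [LinearMap.toSpanSingleton_apply, one_smul]

theorem finite_HY_single_zero [IsNoetherianRing A] (N : ModuleCat.{u} A) [Module.Finite A N]
    (J₀ : IdealsIn T) (hN : ∀ c ∈ idl T J₀, ∀ x : N, c • x = 0) :
    Module.Finite A (HY T ((singleFunctor (ModuleCat.{u} A) 0).obj N)) := by
  haveI : Module.Finite A (QM T J₀) :=
    Module.Finite.of_surjective (Submodule.mkQ (idl T J₀)) (Submodule.mkQ_surjective _)
  have h2 := FinExt.finite_hom_single_same (A := A) (QM T J₀) N 0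
  haveI : Module.Finite A ((QD T).obj J₀ ⟶ (singleFunctor (ModuleCat.{u} A) 0).obj N) := h2
  exact Module.Finite.of_surjective (ι T _ J₀) (fun x => exists_rep_of_killed T N J₀ hN x)

theorem exists_res_eq_zero_of_killed [IsNoetherianRing A] (N : ModuleCat.{u} A) (J₀ : IdealsIn T)
    (hN : ∀ c ∈ idl T J₀, ∀ x : N, c • x = 0) (k : ℕ) (J : IdealsIn T)
    (y : (QD T).obj J ⟶ ((singleFunctor (ModuleCat.{u} A) 0).obj N)⟦((k + 1 : ℕ) : ℤ)⟧) :
    ∃ (J' : IdealsIn T) (h : J' ⟶ J), (QD T).map h ≫ y = 0 := by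
  have hJ₁ : idl T (IsCofiltered.min J J₀) ≤ idl T J₀ :=
    le_of_hom' T (IsCofiltered.minToRight J J₀)
  obtain ⟨m, hm0, hm, h0⟩ := exists_pow_res_eq_zero (idl T (IsCofiltered.min J J₀)) N
    (fun c hc x => hN c (hJ₁ hc) x) k ((QD T).map (IsCofiltered.minToLeft J J₀) ≫ y)
  refine ⟨mkI T (idl T (IsCofiltered.min J J₀) ^ m) (by
      rw [PrimeSpectrum.zeroLocus_pow _ hm0]
      exact idl_prop T _), homLE T hm ≫ IsCofiltered.minToLeft J J₀, ?_⟩
  rw [Functor.map_comp, Category.assoc]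
  exact h0

theorem finite_HY_single [IsNoetherianRing A] (N : ModuleCat.{u} A) [Module.Finite A N]
    (J₀ : IdealsIn T) (hN : ∀ c ∈ idl T J₀, ∀ x : N, c • x = 0) (p : ℤ) :
    Module.Finite A (HY T (((singleFunctor (ModuleCat.{u} A) 0).obj N)⟦p⟧)) := by
  rcases lt_trichotomy p 0 with hp | hp | hp
  · haveI : (((singleFunctor (ModuleCat.{u} A) 0).obj N)⟦p⟧).IsGE (-p) :=
      t.isGE_shift _ 0 p (-p) (by omega)
    exact finite_of_forall_eq_zero T _ (eq_zero_of_isGE' T _ (-p) (by omega))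
  · subst hp
    exact finite_of_iso T ((shiftFunctorZero (DA A) ℤ).app _).symm
      (finite_HY_single_zero T N J₀ hN)
  · obtain ⟨k, rfl⟩ : ∃ k : ℕ, p = ((k + 1 : ℕ) : ℤ) := ⟨(p - 1).toNat, by omega⟩
    refine finite_of_forall_eq_zero T _ (fun x => ?_)
    obtain ⟨J, y, rfl⟩ := exists_rep T _ x
    obtain ⟨J', h, h0⟩ := exists_res_eq_zero_of_killed T N J₀ hN k J y
    rw [← ι_res T _ h, h0, map_zero]

theorem finite_of_surjective_mapH {Y Y' : DA A} (g : Y ⟶ Y') (h : Module.Finite A (HY T Y))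
    (hs : Function.Surjective (mapH T g).hom) : Module.Finite A (HY T Y') :=
  haveI := h
  Module.Finite.of_surjective (mapH T g).hom hs

/-- `H_T(L[i])` is finite when the cohomology modules of `L ∈ D⁺` are finite and killed by one
ideal of the system. -/
theorem finite_HY_of_torsion [IsNoetherianRing A] (L : DA A) (a : ℤ)
    (hLa : ∀ j : ℤ, j < a → IsZero ((homologyFunctor (ModuleCat.{u} A) j).obj L))
    (hLfin : ∀ j : ℤ, Module.Finite A ((homologyFunctor (ModuleCat.{u} A) j).obj L))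
    (J₀ : IdealsIn T)
    (hJ₀ : ∀ (j : ℤ) (c : A), c ∈ idl T J₀ →
      ∀ x : (homologyFunctor (ModuleCat.{u} A) j).obj L, c • x = 0)
    (i : ℤ) : Module.Finite A (HY T (L⟦i⟧)) := by
  have hTr := Triangle.shift_distinguished _ (t.triangleLTGE_distinguished (i + 1) L) i
  suffices h₁ : Module.Finite A (HY T (((t.truncLT (i + 1)).obj L)⟦i⟧)) by
    refine finite_of_surjective_mapH T (Y := ((t.truncLT (i + 1)).obj L)⟦i⟧) (Y' := L⟦i⟧)
      ((Triangle.shiftFunctor (DA A) i).obj ((t.triangleLTGE (i + 1)).obj L)).mor₁ h₁ ?_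
    intro x
    refine exact_of_distTriang T _ hTr x ?_
    haveI hGE : (((t.truncGE (i + 1)).obj L)⟦i⟧).IsGE 1 := t.isGE_shift _ (i + 1) i 1 (by omega)
    exact eq_zero_of_isGE' T (((t.truncGE (i + 1)).obj L)⟦i⟧) 1 (by omega) _
  obtain ⟨L', hL'⟩ : ∃ L' : DA A, L' = (t.truncLT (i + 1)).obj L := ⟨_, rfl⟩
  rw [← hL']
  haveI hLE : L'.IsLE (i + 1 - 1) := by
    rw [hL']
    exact inferInstanceAs (t.IsLE ((t.truncLT (i + 1)).obj L) (i + 1 - 1))
  have hiso : ∀ q : ℤ, q < i + 1 →
      Nonempty ((homologyFunctor (ModuleCat.{u} A) q).obj L' ≅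
        (homologyFunctor (ModuleCat.{u} A) q).obj L) := by
    intro q hq
    haveI := H56.isIso_homologyMap_truncLTι L (i + 1) q hq
    rw [hL']
    exact ⟨asIso ((homologyFunctor (ModuleCat.{u} A) q).map ((t.truncLTι (i + 1)).app L))⟩
  have hfin : ∀ q : ℤ, Module.Finite A ((homologyFunctor (ModuleCat.{u} A) q).obj L') := by
    intro q
    by_cases hq : q < i + 1
    · obtain ⟨e⟩ := hiso q hq
      haveI := hLfin q
      exact Module.Finite.equiv e.symm.toLinearEquiv
    · haveI : Subsingleton ((homologyFunctor (ModuleCat.{u} A) q).obj L') :=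
        ModuleCat.subsingleton_of_isZero (isZero_of_isLE L' (i + 1 - 1) q (by omega))
      infer_instance
  have hkill : ∀ (q : ℤ) (c : A), c ∈ idl T J₀ →
      ∀ x : (homologyFunctor (ModuleCat.{u} A) q).obj L', c • x = 0 := by
    intro q c hc x
    by_cases hq : q < i + 1
    · obtain ⟨e⟩ := hiso q hq
      apply e.toLinearEquiv.injective
      rw [map_smul, map_zero]
      exact hJ₀ q c hc _
    · haveI : Subsingleton ((homologyFunctor (ModuleCat.{u} A) q).obj L') :=
        ModuleCat.subsingleton_of_isZero (isZero_of_isLE L' (i + 1 - 1) q (by omega))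
      exact Subsingleton.elim _ _
  have hvan : ∀ q : ℤ, (q < a ∨ i < q) →
      IsZero ((homologyFunctor (ModuleCat.{u} A) q).obj L') := by
    rintro q (hq | hq)
    · by_cases hq' : q < i + 1
      · obtain ⟨e⟩ := hiso q hq'
        exact IsZero.of_iso (hLa q hq) e
      · exact isZero_of_isLE L' (i + 1 - 1) q (by omega)
    · exact isZero_of_isLE L' (i + 1 - 1) q (by omega)
  refine H35.Devissage.of_homology (isExtClosed_finite T) a (i - a + 1).toNat L' i hvan ?_ ?_ i
  · have := Int.self_le_toNat (i - a + 1)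
    omega
  · intro q i'
    haveI := hfin q
    let e₁ : ((singleFunctor (ModuleCat.{u} A) q).obj
        ((homologyFunctor (ModuleCat.{u} A) q).obj L'))⟦i'⟧ ≅
        (singleFunctor (ModuleCat.{u} A) (q - i')).obj
          ((homologyFunctor (ModuleCat.{u} A) q).obj L') :=
      ((singleFunctors (ModuleCat.{u} A)).shiftIso i' (q - i') q (by omega)).app _
    let e₂ : ((singleFunctor (ModuleCat.{u} A) 0).obj
        ((homologyFunctor (ModuleCat.{u} A) q).obj L'))⟦i' - q⟧ ≅
        (singleFunctor (ModuleCat.{u} A) (q - i')).obj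
          ((homologyFunctor (ModuleCat.{u} A) q).obj L') :=
      ((singleFunctors (ModuleCat.{u} A)).shiftIso (i' - q) (q - i') 0 (by omega)).app _
    exact finite_of_iso T (e₂ ≪≫ e₁.symm)
      (finite_HY_single T _ J₀ (hkill q) (i' - q))

end Single

end Groth.Agent.H12.HDT
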