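import Mathlib
import Groth.Agent.H12.HDTSingle
import Groth.Agent.H56.DerCat6

/-!
# Finiteness of `H^i_T(K)` versus annihilation by an ideal (helper12)

For `K ∈ D⁺(A)` with finite cohomology modules over a Noetherian ring: the modules
`H^i_T(K) = HY T (K⟦i⟧)`, `i ≤ n`, are all finite iff they are all killed by one ideal `J` with
`V(J) ⊆ T`.  The direction "killed ⇒ finite" is by induction on the number of generators of `J`,
passing to the cone of `f^m : K → K` (a Koszul-type induction), the base case being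
`finite_HY_of_torsion`.
-/

set_option autoImplicit false
universe u
open CategoryTheory CategoryTheory.Limits Pretriangulated Opposite
attribute [local instance] HasDerivedCategory.standard

namespace Groth.Agent.H12.HDT

open DerivedCategory DerivedCategory.TStructure
open Groth.Agent.H12.FinExt (DA)
open Groth.Agent.H12
open Dual2 (IdealsIn idealsInDiagram)

section Coh

variable {A : Type u} [CommRing A]

/-- the ideal of elements killing all cohomology modules of `K` -/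
noncomputable def annCoh (K : DA A) : Ideal A :=
  ⨅ j : ℤ, Module.annihilator A ((homologyFunctor (ModuleCat.{u} A) j).obj K)

lemma mem_annCoh {K : DA A} {c : A} : c ∈ annCoh K ↔
    ∀ (j : ℤ) (x : (homologyFunctor (ModuleCat.{u} A) j).obj K), c • x = 0 := by
  simp only [annCoh, Submodule.mem_iInf, Module.mem_annihilator]

/-- bounded below with finite cohomology modules -/
structure CohPlus (K : DA A) : Prop where
  bdd : ∃ a : ℤ, ∀ j : ℤ, j < a → IsZero ((homologyFunctor (ModuleCat.{u} A) j).obj K)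
  fin : ∀ j : ℤ, Module.Finite A ((homologyFunctor (ModuleCat.{u} A) j).obj K)

section Cone

variable {K C : DA A} (b : A) (i₀ : K ⟶ C) (p₀ : C ⟶ K⟦(1 : ℤ)⟧)
  (hTr : Triangle.mk (b • 𝟙 K) i₀ p₀ ∈ distTriang (DA A))

/-- the connecting map `H^j(C) → H^{j+1}(K)` of the cone triangle -/
noncomputable def coneδ (j : ℤ) : (homologyFunctor (ModuleCat.{u} A) j).obj C ⟶
    (homologyFunctor (ModuleCat.{u} A) (j + 1)).obj K :=
  HomologySequence.δ (Triangle.mk (b • 𝟙 K) i₀ p₀) j (j + 1) rfl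

include hTr

lemma cone_exact₃ (j : ℤ) (y : (homologyFunctor (ModuleCat.{u} A) j).obj C)
    (hy : (coneδ b i₀ p₀ j).hom y = 0) :
    ∃ x : (homologyFunctor (ModuleCat.{u} A) j).obj K,
      ((homologyFunctor (ModuleCat.{u} A) j).map i₀).hom x = y :=
  (ShortComplex.moduleCat_exact_iff _).mp (HomologySequence.exact₃ _ hTr j (j + 1) rfl) y hy

lemma cone_b_smul_δ (j : ℤ) (y : (homologyFunctor (ModuleCat.{u} A) j).obj C) :
    b • (coneδ b i₀ p₀ j).hom y = 0 := by
  have h := HomologySequence.δ_comp (Triangle.mk (b • 𝟙 K) i₀ p₀) hTr j (j + 1) rfl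
  have h' : ((homologyFunctor (ModuleCat.{u} A) (j + 1)).map (b • 𝟙 K)).hom
      ((coneδ b i₀ p₀ j).hom y) = 0 := congrArg (fun t => t.hom y) h
  rw [← homologyFunctor_map_smul_id_apply b K (j + 1)]
  exact h'

lemma cone_mul_self_mem (c : A) (hc : c ∈ annCoh K) : c * c ∈ annCoh C := by
  rw [mem_annCoh] at hc ⊢
  intro j y
  have h1 : (coneδ b i₀ p₀ j).hom (c • y) = 0 := by
    rw [map_smul]
    exact hc (j + 1) _
  obtain ⟨x, hx⟩ := cone_exact₃ b i₀ p₀ hTr j (c • y) h1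
  rw [mul_smul, ← hx, ← map_smul, hc j x, map_zero]

lemma cone_b_mul_self_mem : b * b ∈ annCoh C := by
  rw [mem_annCoh]
  intro j y
  have h1 : (coneδ b i₀ p₀ j).hom (b • y) = 0 := by
    rw [map_smul]
    exact cone_b_smul_δ b i₀ p₀ hTr j y
  obtain ⟨x, hx⟩ := cone_exact₃ b i₀ p₀ hTr j (b • y) h1
  rw [mul_smul, ← hx, ← map_smul, ← homologyFunctor_map_smul_id_apply b K j x]
  have h2 : (b • 𝟙 K) ≫ i₀ = 0 := comp_distTriang_mor_zero₁₂ _ hTr
  have h3 : (homologyFunctor (ModuleCat.{u} A) j).map (b • 𝟙 K) ≫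
      (homologyFunctor (ModuleCat.{u} A) j).map i₀ = 0 := by
    rw [← Functor.map_comp, h2, Functor.map_zero]
  exact congrArg (fun t => t.hom x) h3

lemma cohPlus_cone [IsNoetherianRing A] (hK : CohPlus K) : CohPlus C := by
  obtain ⟨a, ha⟩ := hK.bdd
  refine ⟨⟨a - 1, fun j hj => ?_⟩, fun j => ?_⟩
  · exact H56.isZero_homology_obj₃ _ hTr j (j + 1) rfl
      ((ha j (by omega)).eq_of_src _ _) ((ha (j + 1) (by omega)).eq_of_tgt _ _)
  · exact FinExt.finite_of_exact (hK.fin j) (hK.fin (j + 1))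
      ((homologyFunctor (ModuleCat.{u} A) j).map i₀).hom
      (coneδ b i₀ p₀ j).hom
      (fun y hy => cone_exact₃ b i₀ p₀ hTr j y hy)

end Cone

end Coh

section HT

variable {A : Type u} [CommRing A] (T : Set (PrimeSpectrum A))

/-- exactness of `H_T` on the shifts of a distinguished triangle -/
theorem exact_shift (Tr : Triangle (DA A)) (hTr : Tr ∈ distTriang (DA A)) (i : ℤ)
    (x : HY T (Tr.obj₂⟦i⟧)) (hx : (mapH T (Tr.mor₂⟦i⟧')).hom x = 0) :
    ∃ x₁ : HY T (Tr.obj₁⟦i⟧), (mapH T (Tr.mor₁⟦i⟧')).hom x₁ = x := by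
  obtain ⟨J, y, rfl⟩ := exists_rep T _ x
  rw [mapH_ι] at hx
  obtain ⟨J', h, h0⟩ := exists_res_eq_zero T _ J _ hx
  have hTr' := Triangle.shift_distinguished Tr hTr i
  obtain ⟨z, hz'⟩ : ∃ z : (QD T).obj J' ⟶ Tr.obj₁⟦i⟧,
      (QD T).map h ≫ y = z ≫ (i.negOnePow • Tr.mor₁⟦i⟧') :=
    Triangle.coyoneda_exact₂ _ hTr' ((QD T).map h ≫ y) (by
      show ((QD T).map h ≫ y) ≫ (i.negOnePow • Tr.mor₂⟦i⟧') = 0
      rw [Linear.comp_units_smul, Category.assoc, h0, smul_zero])
  refine ⟨ι T _ J' (i.negOnePow • z), ?_⟩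
  rw [mapH_ι, Linear.units_smul_comp, ← Linear.comp_units_smul, ← hz', ι_res]

/-- `c` kills `H_T(Y)` -/
def Kills (c : A) (Y : DA A) : Prop := ∀ x : HY T Y, c • x = 0

lemma kills_of_iso {Y Y' : DA A} (e : Y ≅ Y') {c : A} (h : Kills T c Y) : Kills T c Y' := by
  intro x
  obtain ⟨x', rfl⟩ := (equivOfIso T e).surjective x
  rw [← map_smul, h x', map_zero]

section Cone

variable {K C : DA A} (b : A) (i₀ : K ⟶ C) (p₀ : C ⟶ K⟦(1 : ℤ)⟧)
  (hTr : Triangle.mk (b • 𝟙 K) i₀ p₀ ∈ distTriang (DA A))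

include hTr

theorem surj_p (i : ℤ) (hb : Kills T b ((K⟦(1 : ℤ)⟧)⟦i⟧)) :
    Function.Surjective (mapH T (p₀⟦i⟧')).hom := by
  intro x
  have hrot := rot_of_distTriang _ (rot_of_distTriang _ hTr)
  refine exact_shift T _ hrot i x ?_
  show (mapH T ((-(b • 𝟙 K)⟦(1 : ℤ)⟧')⟦i⟧')).hom x = 0
  have hm : (-(b • 𝟙 K)⟦(1 : ℤ)⟧')⟦i⟧' = (-b) • 𝟙 ((K⟦(1 : ℤ)⟧)⟦i⟧) := by
    rw [Functor.map_smul, CategoryTheory.Functor.map_id, Functor.map_neg, Functor.map_smul,
      CategoryTheory.Functor.map_id, neg_smul]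
  rw [hm, mapH_smul_id_apply, neg_smul, hb x, neg_zero]

theorem kills_cone (i : ℤ) (c : A) (hc1 : Kills T c ((K⟦(1 : ℤ)⟧)⟦i⟧))
    (hc0 : Kills T c (K⟦i⟧)) : Kills T (c * c) (C⟦i⟧) := by
  intro y
  have hrot := rot_of_distTriang _ hTr
  have h1 : (mapH T (p₀⟦i⟧')).hom (c • y) = 0 := by
    rw [map_smul]
    exact hc1 _
  obtain ⟨x, hx⟩ := exact_shift T _ hrot i (c • y) h1
  have hx' : (mapH T (i₀⟦i⟧')).hom x = c • y := hx
  rw [mul_smul, ← hx', ← map_smul, hc0 x, map_zero]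

end Cone

/-- The Koszul-type induction. -/
theorem finite_of_powers [IsNoetherianRing A] : ∀ (s : Finset A) (K : DA A) (n : ℤ), CohPlus K →
    (∀ f ∈ s, ∃ m : ℕ, ∀ i : ℤ, i ≤ n → Kills T (f ^ m) (K⟦i⟧)) →
    (∀ p : PrimeSpectrum A, annCoh K ≤ p.asIdeal → (∀ f ∈ s, f ∈ p.asIdeal) → p ∈ T) →
    ∀ i : ℤ, i ≤ n → Module.Finite A (HY T (K⟦i⟧)) := by
  classical
  intro s
  induction s using Finset.induction_on with
  | empty =>
    intro K n hK _ hV i _
    obtain ⟨a, ha⟩ := hK.bdd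
    let J₀ : IdealsIn T := mkI T (annCoh K) (fun p hp =>
      hV p (SetLike.coe_subset_coe.mp ((PrimeSpectrum.mem_zeroLocus _ _).mp hp))
        (fun f hf => absurd hf (Finset.notMem_empty f)))
    exact finite_HY_of_torsion T K a ha hK.fin J₀ (fun j c hc x => mem_annCoh.mp hc j x) i
  | insert f s' hf ih =>
    intro K n hK hpow hV i hi
    obtain ⟨m, hm⟩ := hpow f (Finset.mem_insert_self f s')
    obtain ⟨C, i₀, p₀, hTr⟩ := distinguished_cocone_triangle ((f ^ m) • 𝟙 K)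
    have hC : ∀ i' : ℤ, i' ≤ n - 1 → Module.Finite A (HY T (C⟦i'⟧)) := by
      refine ih C (n - 1) (cohPlus_cone (f ^ m) i₀ p₀ hTr hK) ?_ ?_
      · intro z hz
        obtain ⟨mz, hmz⟩ := hpow z (Finset.mem_insert_of_mem hz)
        refine ⟨mz + mz, fun i' hi' => ?_⟩
        rw [pow_add]
        exact kills_cone T (f ^ m) i₀ p₀ hTr i' (z ^ mz)
          (kills_of_iso T ((shiftFunctorAdd' (DA A) 1 i' (i' + 1) (by omega)).app K)
            (hmz (i' + 1) (by omega))) (hmz i' (by omega))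
      · intro p hp hs'
        refine hV p ?_ ?_
        · intro c hc
          have := hp (cone_mul_self_mem (f ^ m) i₀ p₀ hTr c hc)
          exact (p.isPrime.mem_or_mem this).elim id id
        · intro g hg
          rcases Finset.mem_insert.mp hg with hgf | hg
          · have := hp (cone_b_mul_self_mem (f ^ m) i₀ p₀ hTr)
            rw [hgf]
            exact p.isPrime.mem_of_pow_mem m ((p.isPrime.mem_or_mem this).elim id id)
          · exact hs' g hg
    have h1 := hC (i - 1) (by omega)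
    have hs := surj_p T (f ^ m) i₀ p₀ hTr (i - 1)
      (kills_of_iso T ((shiftFunctorAdd' (DA A) 1 (i - 1) i (by omega)).app K) (hm i hi))
    have h2 := finite_of_surjective_mapH T (p₀⟦i - 1⟧') h1 hs
    exact finite_of_iso T ((shiftFunctorAdd' (DA A) 1 (i - 1) i (by omega)).app K).symm h2

/-- killed by an ideal of the system ⇒ finite -/
theorem finite_of_kills [IsNoetherianRing A] (K : DA A) (hK : CohPlus K) (n : ℤ) (J : Ideal A)
    (hJ : PrimeSpectrum.zeroLocus (J : Set A) ⊆ T)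
    (hkill : ∀ i : ℤ, i ≤ n → ∀ c ∈ J, Kills T c (K⟦i⟧)) :
    ∀ i : ℤ, i ≤ n → Module.Finite A (HY T (K⟦i⟧)) := by
  classical
  obtain ⟨s, hs⟩ := (IsNoetherian.noetherian J : J.FG)
  refine finite_of_powers T s K n hK ?_ ?_
  · intro f hf
    refine ⟨1, fun i hi => ?_⟩
    rw [pow_one]
    exact hkill i hi f (hs ▸ Submodule.subset_span hf)
  · intro p _ hp
    apply hJ
    rw [PrimeSpectrum.mem_zeroLocus, ← hs]
    exact SetLike.coe_subset_coe.mpr (Submodule.span_le.mpr (fun f hf => hp f hf))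

/-- a finite `H_T(Y)` is killed by an ideal of the system -/
theorem exists_kills_of_finite (Y : DA A) (h : Module.Finite A (HY T Y)) :
    ∃ J : IdealsIn T, ∀ c ∈ idl T J, Kills T c Y := by
  classical
  obtain ⟨s, hs⟩ := h.fg_top
  have hx : ∀ x : HY T Y, ∃ J : IdealsIn T, ∀ c ∈ idl T J, c • x = 0 := by
    intro x
    obtain ⟨J, y, rfl⟩ := exists_rep T Y x
    exact ⟨J, fun c hc => smul_ι_eq_zero T Y J y c hc⟩
  choose Jx hJx using hx
  have hJT : PrimeSpectrum.zeroLocus ((∏ x ∈ s, idl T (Jx x) : Ideal A) : Set A) ⊆ T :=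
    Finset.prod_induction _ (fun I : Ideal A => PrimeSpectrum.zeroLocus (I : Set A) ⊆ T)
      (fun I I' hI hI' => by
        rw [PrimeSpectrum.zeroLocus_mul]
        exact Set.union_subset hI hI')
      (by
        rw [Ideal.one_eq_top, Submodule.top_coe, PrimeSpectrum.zeroLocus_univ]
        exact Set.empty_subset _)
      (fun x _ => idl_prop T (Jx x))
  refine ⟨mkI T (∏ x ∈ s, idl T (Jx x)) hJT, fun c hc x => ?_⟩
  have hc' : c ∈ (∏ x ∈ s, idl T (Jx x) : Ideal A) := hc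
  have hx : x ∈ Submodule.span A (s : Set (HY T Y)) := by
    rw [hs]
    exact Submodule.mem_top
  induction hx using Submodule.span_induction with
  | mem x hxs => exact hJx x c ((Ideal.prod_le_inf.trans (Finset.inf_le hxs)) hc')
  | zero => exact smul_zero c
  | add x y _ _ hx hy => rw [smul_add, hx, hy, add_zero]
  | smul a x _ hx => rw [smul_comm, hx, smul_zero]

/-- finite ⇒ killed by one ideal of the system -/
theorem exists_ideal_of_finite (K : DA A) (a : ℤ)
    (hKa : ∀ j : ℤ, j < a → IsZero ((homologyFunctor (ModuleCat.{u} A) j).obj K)) (n : ℤ)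
    (hfin : ∀ i : ℤ, i ≤ n → Module.Finite A (HY T (K⟦i⟧))) :
    ∃ J : Ideal A, PrimeSpectrum.zeroLocus (J : Set A) ⊆ T ∧
      ∀ i : ℤ, i ≤ n → ∀ c ∈ J, Kills T c (K⟦i⟧) := by
  classical
  haveI : K.IsGE a := (isGE_iff K a).mpr hKa
  have hex : ∀ i : ℤ, ∃ J : IdealsIn T, i ≤ n → ∀ c ∈ idl T J, Kills T c (K⟦i⟧) := by
    intro i
    by_cases hi : i ≤ n
    · obtain ⟨J, hJ⟩ := exists_kills_of_finite T _ (hfin i hi)
      exact ⟨J, fun _ => hJ⟩
    · exact ⟨IsCofiltered.nonempty.some, fun h => absurd h hi⟩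
  choose Ji hJi using hex
  have hJT : PrimeSpectrum.zeroLocus ((∏ i ∈ Finset.Icc a n, idl T (Ji i) : Ideal A) : Set A) ⊆ T :=
    Finset.prod_induction _ (fun I : Ideal A => PrimeSpectrum.zeroLocus (I : Set A) ⊆ T)
      (fun I I' hI hI' => by
        rw [PrimeSpectrum.zeroLocus_mul]
        exact Set.union_subset hI hI')
      (by
        rw [Ideal.one_eq_top, Submodule.top_coe, PrimeSpectrum.zeroLocus_univ]
        exact Set.empty_subset _)
      (fun i _ => idl_prop T (Ji i))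
  refine ⟨∏ i ∈ Finset.Icc a n, idl T (Ji i), hJT, fun i hi c hc => ?_⟩
  by_cases hia : i < a
  · intro x
    haveI : (K⟦i⟧).IsGE (a - i) := t.isGE_shift K a i (a - i) (by omega)
    rw [eq_zero_of_isGE' T (K⟦i⟧) (a - i) (by omega) x, smul_zero]
  · have hmem : i ∈ Finset.Icc a n := Finset.mem_Icc.mpr ⟨by omega, hi⟩
    exact hJi i hi c ((Ideal.prod_le_inf.trans (Finset.inf_le hmem)) hc)

/-- The main theorem. -/
theorem main [IsNoetherianRing A] (K : DA A) (a : ℤ)
    (hKa : ∀ i : ℤ, i < a → Subsingleton ((homologyFunctor (ModuleCat.{u} A) i).obj K))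
    (hK : ∀ i : ℤ, Module.Finite A ((homologyFunctor (ModuleCat.{u} A) i).obj K)) (n : ℤ) :
    (∀ i : ℤ, i ≤ n → Module.Finite A (HY T (K⟦i⟧))) ↔
      ∃ J : Ideal A, PrimeSpectrum.zeroLocus (J : Set A) ⊆ T ∧
        ∀ i : ℤ, i ≤ n → ∀ x : A, x ∈ J → ∀ y : HY T (K⟦i⟧), x • y = 0 := by
  have hKa' : ∀ j : ℤ, j < a → IsZero ((homologyFunctor (ModuleCat.{u} A) j).obj K) := by
    intro j hj
    haveI := hKa j hj
    exact ModuleCat.isZero_of_subsingleton _
  constructor
  · intro hfin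
    obtain ⟨J, hJT, hJ⟩ := exists_ideal_of_finite T K a hKa' n hfin
    exact ⟨J, hJT, fun i hi x hx y => hJ i hi x hx y⟩
  · rintro ⟨J, hJT, hJ⟩
    exact finite_of_kills T K ⟨⟨a, hKa'⟩, hK⟩ n J hJT (fun i hi c hc y => hJ i hi c hc y)

end HT

end Groth.Agent.H12.HDT
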