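import Mathlib
import Groth.Agent.H12.HDTMain
import Groth.Agent.H58.LCBridge

/-!
# Comparison of `Dual2.HT T i M` with `Dual2.HDT A T (M[0]) i` (helper12)

`Dual2.HT T i M` is the colimit over the ideals `J` with `V(J) ⊆ T` of Mathlib's `Ext^i(A/J, M)`;
`HY T (M[i])` is the colimit of the `Hom_{D(A)}(A/J, M[i])`.  We construct an `A`-linear equivalence
between them (the two live in different universes), and deduce the module version of the
"finite iff annihilated" theorem.
-/

set_option autoImplicit false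
universe u
open CategoryTheory CategoryTheory.Limits Pretriangulated Opposite
attribute [local instance] HasDerivedCategory.standard

namespace Groth.Agent.H12.HTB

open DerivedCategory DerivedCategory.TStructure
open Groth.Agent.H12.FinExt (DA)
open Groth.Agent.H12 Groth.Agent.H12.HDT
open Groth.Agent.H58.LCBridge (bridge bridge_map_left)
open Dual2 (IdealsIn idealsInDiagram)

variable {A : Type u} [CommRing A] (T : Set (PrimeSpectrum A)) (i : ℕ)

noncomputable instance forgetPresT :
    PreservesColimitsOfShape ((IdealsIn T)ᵒᵖ) (forget (ModuleCat.{u} A)) :=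
  PreservesFilteredColimitsOfSize.preserves_filtered_colimits _

/-- the diagram defining `H^i_T` -/
noncomputable abbrev Dg : (IdealsIn T)ᵒᵖ ⥤ ModuleCat.{u} A ⥤ ModuleCat.{u} A :=
  localCohomology.diagram (idealsInDiagram T) i

/-- the evaluated diagram -/
noncomputable abbrev DgM (M : ModuleCat.{u} A) : (IdealsIn T)ᵒᵖ ⥤ ModuleCat.{u} A :=
  Dg T i ⋙ (evaluation _ _).obj M

/-- the evaluated colimit cocone -/
noncomputable def coconeM (M : ModuleCat.{u} A) : Cocone (DgM T i M) :=
  ((evaluation _ _).obj M).mapCocone (colimit.cocone (Dg T i))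

/-- it is a colimit -/
noncomputable def isColimitM (M : ModuleCat.{u} A) : IsColimit (coconeM T i M) :=
  isColimitOfPreserves _ (colimit.isColimit _)

/-- `H^i_T(M)` -/
noncomputable abbrev HTM (M : ModuleCat.{u} A) : ModuleCat.{u} A :=
  (localCohomology.ofDiagram.{u, u} (idealsInDiagram T) i).obj M

/-- the cocone map from `Abelian.Ext` -/
noncomputable def ιT (M : ModuleCat.{u} A) (J : IdealsIn T) :
    Abelian.Ext.{u} (QM T J) M i →ₗ[A] HTM T i M :=
  (((colimit.ι (Dg T i) (op J)).app M).hom : _ →ₗ[A] (HTM T i M)) ∘ₗ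
    ((bridge (QM T J) M i).symm.toLinearMap : _ →ₗ[A] ((Dg T i).obj (op J)).obj M)

lemma ιT_bridge (M : ModuleCat.{u} A) (J : IdealsIn T) (y : ((Dg T i).obj (op J)).obj M) :
    ιT T i M J (bridge (QM T J) M i y) = ((colimit.ι (Dg T i) (op J)).app M).hom y := by
  show ((colimit.ι (Dg T i) (op J)).app M).hom
    ((bridge (QM T J) M i).symm (bridge (QM T J) M i y)) = _
  rw [LinearEquiv.symm_apply_apply]

theorem ιT_res (M : ModuleCat.{u} A) {J J' : IdealsIn T} (h : J' ⟶ J)
    (x : Abelian.Ext.{u} (QM T J) M i) :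
    ιT T i M J' ((Abelian.Ext.mk₀
      ((localCohomology.ringModIdeals (idealsInDiagram T)).map h)).comp x (zero_add i)) =
      ιT T i M J x := by
  obtain ⟨y, rfl⟩ := (bridge (QM T J) M i).surjective x
  have hb := bridge_map_left ((localCohomology.ringModIdeals (idealsInDiagram T)).map h) i y
  rw [← hb, ιT_bridge, ιT_bridge T i M J y]
  have hw := colimit.w (Dg T i) h.op
  have hw' := congrArg (fun t => (t.app M).hom y) hw
  exact hw'

theorem exists_repT (M : ModuleCat.{u} A) (y : HTM T i M) :
    ∃ (J : IdealsIn T) (x : Abelian.Ext.{u} (QM T J) M i), ιT T i M J x = y := by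
  obtain ⟨j, x, hx⟩ := Concrete.isColimit_exists_rep (DgM T i M) (isColimitM T i M) y
  refine ⟨j.unop, bridge (QM T j.unop) M i x, ?_⟩
  rw [ιT_bridge]
  exact hx

theorem exists_of_ιT_eq_zero (M : ModuleCat.{u} A) (J : IdealsIn T)
    (x : Abelian.Ext.{u} (QM T J) M i) (hx : ιT T i M J x = 0) :
    ∃ (J' : IdealsIn T) (h : J' ⟶ J), (Abelian.Ext.mk₀
      ((localCohomology.ringModIdeals (idealsInDiagram T)).map h)).comp x (zero_add i) = 0 := by
  obtain ⟨y, rfl⟩ := (bridge (QM T J) M i).surjective x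
  rw [ιT_bridge] at hx
  have h0 : ((coconeM T i M).ι.app (op J)).hom y = ((coconeM T i M).ι.app (op J)).hom 0 := by
    rw [map_zero]; exact hx
  obtain ⟨k, f, g, hfg⟩ := (Concrete.isColimit_rep_eq_iff_exists (DgM T i M)
    (isColimitM T i M) (i := op J) (j := op J) y 0).1 h0
  refine ⟨k.unop, f.unop, ?_⟩
  rw [← bridge_map_left ((localCohomology.ringModIdeals (idealsInDiagram T)).map f.unop) i y]
  have h1 : (((Ext A (ModuleCat.{u} A) i).map
      ((localCohomology.ringModIdeals (idealsInDiagram T)).map f.unop).op).app M).hom y = 0 := by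
    have : ((DgM T i M).map g).hom (0 : ((Dg T i).obj (op J)).obj M) = 0 := map_zero _
    exact hfg.trans this
  rw [h1, map_zero]

section Compare

variable (M : ModuleCat.{u} A)

/-- the object `M[i]` of `D(A)` -/
noncomputable abbrev SM : DA A := ((singleFunctor (ModuleCat.{u} A) 0).obj M)⟦(i : ℤ)⟧

lemma hom_symm (J : IdealsIn T) (y : (QD T).obj J ⟶ SM i M) :
    ((Abelian.Ext.homLinearEquiv (R := A) (X := QM T J) (Y := M) (n := i)).symm y).hom = y :=
  (Abelian.Ext.homLinearEquiv (R := A) (X := QM T J) (Y := M) (n := i)).apply_symm_apply y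

lemma symm_res {J J' : IdealsIn T} (h : J' ⟶ J) (y : (QD T).obj J ⟶ SM i M) :
    (Abelian.Ext.homLinearEquiv (R := A) (X := QM T J') (Y := M) (n := i)).symm
      ((QD T).map h ≫ y) =
    (Abelian.Ext.mk₀ ((localCohomology.ringModIdeals (idealsInDiagram T)).map h)).comp
      ((Abelian.Ext.homLinearEquiv (R := A) (X := QM T J) (Y := M) (n := i)).symm y)
      (zero_add i) := by
  apply Abelian.Ext.ext
  rw [hom_symm, mk₀_comp_hom, hom_symm]
  rfl

/-- the components of the comparison cocone -/
noncomputable def compJ (J : IdealsIn T) :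
    ((QD T).obj J ⟶ SM i M) →ₗ[A] ULift.{u + 1} (HTM T i M) :=
  (ULift.moduleEquiv (R := A) (M := HTM T i M)).symm.toLinearMap ∘ₗ ιT T i M J ∘ₗ
    (Abelian.Ext.homLinearEquiv (R := A) (X := QM T J) (Y := M) (n := i)).symm.toLinearMap

lemma compJ_apply (J : IdealsIn T) (y : (QD T).obj J ⟶ SM i M) :
    (compJ T i M J y).down = ιT T i M J
      ((Abelian.Ext.homLinearEquiv (R := A) (X := QM T J) (Y := M) (n := i)).symm y) := rfl

/-- the comparison cocone -/
noncomputable def compCocone : Cocone (FD T (SM i M)) where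
  pt := ModuleCat.of A (ULift.{u + 1} (HTM T i M))
  ι :=
    { app := fun j => ModuleCat.ofHom (compJ T i M j.unop)
      naturality := by
        intro j k f
        refine ModuleCat.hom_ext (LinearMap.ext fun y => ?_)
        show compJ T i M k.unop ((QD T).map f.unop ≫ y) = compJ T i M j.unop y
        apply ULift.ext
        rw [compJ_apply, compJ_apply, symm_res, ιT_res] }

/-- the comparison map -/
noncomputable def Ψ : HY T (SM i M) →ₗ[A] HTM T i M :=
  (ULift.moduleEquiv (R := A) (M := HTM T i M)).toLinearMap ∘ₗ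
    (colimit.desc (FD T (SM i M)) (compCocone T i M)).hom

lemma Ψ_ι (J : IdealsIn T) (y : (QD T).obj J ⟶ SM i M) :
    Ψ T i M (ι T _ J y) = ιT T i M J
      ((Abelian.Ext.homLinearEquiv (R := A) (X := QM T J) (Y := M) (n := i)).symm y) := by
  have h := colimit.ι_desc (compCocone T i M) (op J)
  have h' := congrArg (fun t => (t.hom y).down) h
  exact h'

theorem Ψ_bijective : Function.Bijective (Ψ T i M) := by
  constructor
  · rw [← LinearMap.ker_eq_bot, LinearMap.ker_eq_bot']
    intro x hx
    obtain ⟨J, y, rfl⟩ := exists_rep T _ x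
    rw [Ψ_ι] at hx
    obtain ⟨J', h, h0⟩ := exists_of_ιT_eq_zero T i M J _ hx
    have h1 := congrArg Abelian.Ext.hom h0
    rw [mk₀_comp_hom, hom_symm] at h1
    have h2 : (QD T).map h ≫ y = 0 := h1.trans (Abelian.Ext.zero_hom _ _ _)
    rw [← ι_res T _ h, h2, map_zero]
  · intro z
    obtain ⟨J, e, rfl⟩ := exists_repT T i M z
    refine ⟨ι T _ J e.hom, ?_⟩
    rw [Ψ_ι]
    congr 1
    exact (Abelian.Ext.homLinearEquiv (R := A) (X := QM T J) (Y := M) (n := i)).symm_apply_apply e

/-- `H_T(M[i]) ≃ H^i_T(M)` -/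
noncomputable def equivHT : HY T (SM i M) ≃ₗ[A] HTM T i M :=
  LinearEquiv.ofBijective (Ψ T i M) (Ψ_bijective T i M)

end Compare

end Groth.Agent.H12.HTB
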