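import Mathlib
import Groth.Agent.H12.HTBridge

/-!
# `H^i_T(M)` finite for `i ≤ n` iff annihilated by an ideal `J` with `V(J) ⊆ T` (helper12)
-/

set_option autoImplicit false
universe u
open CategoryTheory CategoryTheory.Limits Pretriangulated Opposite
attribute [local instance] HasDerivedCategory.standard

namespace Groth.Agent.H12.HTB

open DerivedCategory DerivedCategory.TStructure
open Groth.Agent.H12.FinExt (DA)
open Groth.Agent.H12 Groth.Agent.H12.HDT
open Dual2 (IdealsIn idealsInDiagram)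

theorem main (A : Type u) [CommRing A] [IsNoetherianRing A] (T : Set (PrimeSpectrum A))
    (M : Type u) [AddCommGroup M] [Module A M] [Module.Finite A M] (n : ℕ) :
    (∀ i : ℕ, i ≤ n → Module.Finite A (Dual2.HT T i M)) ↔
      ∃ J : Ideal A, PrimeSpectrum.zeroLocus (J : Set A) ⊆ T ∧
        ∀ i : ℕ, i ≤ n → ∀ a ∈ J, ∀ x : Dual2.HT T i M, a • x = 0 := by
  obtain ⟨K, hKdef⟩ : ∃ K : DA A, K = (singleFunctor (ModuleCat.{u} A) 0).obj (ModuleCat.of A M) :=
    ⟨_, rfl⟩
  haveI : K.IsGE 0 := by rw [hKdef]; infer_instance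
  haveI : K.IsLE 0 := by rw [hKdef]; infer_instance
  have hKa : ∀ i : ℤ, i < 0 →
      Subsingleton ((homologyFunctor (ModuleCat.{u} A) i).obj K) := fun i hi =>
    ModuleCat.subsingleton_of_isZero (isZero_of_isGE K 0 i hi)
  have hK : ∀ i : ℤ, Module.Finite A ((homologyFunctor (ModuleCat.{u} A) i).obj K) := by
    intro i
    by_cases hi : i = 0
    · subst hi
      have e : (homologyFunctor (ModuleCat.{u} A) 0).obj K ≅ ModuleCat.of A M := by
        rw [hKdef]
        exact (singleFunctorCompHomologyFunctorIso (ModuleCat.{u} A) 0).app (ModuleCat.of A M)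
      exact Module.Finite.equiv e.symm.toLinearEquiv
    · haveI : Subsingleton ((homologyFunctor (ModuleCat.{u} A) i).obj K) := by
        rcases lt_or_gt_of_ne hi with h | h
        · exact ModuleCat.subsingleton_of_isZero (isZero_of_isGE K 0 i h)
        · exact ModuleCat.subsingleton_of_isZero (isZero_of_isLE K 0 i h)
      infer_instance
  have hmain := HDT.main T K 0 hKa hK (n : ℤ)
  have hneg : ∀ i : ℤ, i < 0 → ∀ x : HY T (K⟦i⟧), x = 0 := by
    intro i hi x
    haveI : (K⟦i⟧).IsGE (-i) := t.isGE_shift K 0 i (-i) (by omega)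
    exact eq_zero_of_isGE' T (K⟦i⟧) (-i) (by omega) x
  have hequiv : ∀ k : ℕ, Nonempty (HY T (K⟦(k : ℤ)⟧) ≃ₗ[A] Dual2.HT T k M) := by
    intro k
    rw [hKdef]
    exact ⟨equivHT T k (ModuleCat.of A M)⟩
  constructor
  · intro hfin
    have h1 : ∀ i : ℤ, i ≤ n → Module.Finite A (HY T (K⟦i⟧)) := by
      intro i hi
      by_cases h0 : i < 0
      · exact finite_of_forall_eq_zero T _ (hneg i h0)
      · obtain ⟨k, rfl⟩ := Int.eq_ofNat_of_zero_le (by omega : 0 ≤ i)
        haveI := hfin k (by omega)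
        obtain ⟨e⟩ := hequiv k
        exact Module.Finite.equiv e.symm
    obtain ⟨J, hJT, hJ⟩ := hmain.mp h1
    refine ⟨J, hJT, fun k hk a ha x => ?_⟩
    obtain ⟨e⟩ := hequiv k
    obtain ⟨y, rfl⟩ := e.surjective x
    rw [← map_smul, hJ (k : ℤ) (by omega) a ha y, map_zero]
  · rintro ⟨J, hJT, hJ⟩ k hk
    have h1 : ∀ i : ℤ, i ≤ n → ∀ x : A, x ∈ J → ∀ y : HY T (K⟦i⟧), x • y = 0 := by
      intro i hi a ha y
      by_cases h0 : i < 0
      · rw [hneg i h0 y, smul_zero]
      · obtain ⟨k', rfl⟩ := Int.eq_ofNat_of_zero_le (by omega : 0 ≤ i)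
        obtain ⟨e⟩ := hequiv k'
        apply e.injective
        rw [map_smul, map_zero]
        exact hJ k' (by omega) a ha _
    haveI := hmain.mpr ⟨J, hJT, h1⟩ (k : ℤ) (by omega)
    obtain ⟨e⟩ := hequiv k
    exact Module.Finite.equiv e

end Groth.Agent.H12.HTB
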