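import Mathlib
import Groth.Prelude.Def_PBC
import Groth.Agent.Lead.ColimDescent

/-!
# A criterion for ind-étale algebras (helper12)

`Fact A B`: every `A`-algebra map from a finitely presented `A`-algebra to `B` factors through an
étale `A`-algebra.  `isIndEtale_of_fact`: this implies `EtPBC.IsIndEtale A B` (Stacks 07C3): `B` is
the filtered colimit of the (small) category of étale `A`-algebras `A[X_1..X_n]/I` over `B`.
-/

set_option autoImplicit false
universe u
open CategoryTheory CategoryTheory.Limits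

namespace Groth.Agent.H12.IndEt

variable (A B : Type u) [CommRing A] [CommRing B] [Algebra A B]

/-- every map from a finitely presented algebra factors through an étale algebra. -/
def Fact : Prop :=
  ∀ (P : Type u) [CommRing P] [Algebra A P] [Algebra.FinitePresentation A P] (f : P →ₐ[A] B),
    ∃ (E : Type u) (_ : CommRing E) (_ : Algebra A E) (_ : Algebra.Etale A E)
      (a : P →ₐ[A] E) (b : E →ₐ[A] B), b.comp a = f

/-- objects of the index category: étale quotients of polynomial rings with a map to `B`. -/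
structure Obj where
  n : ℕ
  I : Ideal (MvPolynomial (Fin n) A)
  et : Algebra.Etale A (MvPolynomial (Fin n) A ⧸ I)
  f : (MvPolynomial (Fin n) A ⧸ I) →ₐ[A] B

variable {A B}

/-- the underlying algebra. -/
abbrev Obj.Q (X : Obj A B) : Type u := MvPolynomial (Fin X.n) A ⧸ X.I

noncomputable instance : Category (Obj A B) where
  Hom X Y := {φ : X.Q →ₐ[A] Y.Q // Y.f.comp φ = X.f}
  id X := ⟨AlgHom.id A X.Q, AlgHom.comp_id _⟩
  comp {X Y Z} φ ψ := ⟨ψ.1.comp φ.1, by rw [← AlgHom.comp_assoc, ψ.2, φ.2]⟩
  id_comp _ := Subtype.ext (AlgHom.comp_id _)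
  comp_id _ := Subtype.ext (AlgHom.id_comp _)
  assoc _ _ _ := Subtype.ext (AlgHom.comp_assoc _ _ _).symm

lemma Obj.comp_val {X Y Z : Obj A B} (φ : X ⟶ Y) (ψ : Y ⟶ Z) : (φ ≫ ψ).1 = ψ.1.comp φ.1 := rfl

lemma Obj.hom_ext {X Y : Obj A B} (φ ψ : X ⟶ Y) (h : φ.1 = ψ.1) : φ = ψ := Subtype.ext h

/-- an étale algebra over `B` gives an object. -/
theorem exists_obj (E : Type u) [CommRing E] [Algebra A E] [Algebra.Etale A E] (b : E →ₐ[A] B) :
    ∃ (X : Obj A B) (e : E ≃ₐ[A] X.Q), X.f.comp e.toAlgHom = b := by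
  obtain ⟨n, fp, hfp, -⟩ := Algebra.FinitePresentation.out (R := A) (A := E)
  let e : E ≃ₐ[A] (MvPolynomial (Fin n) A ⧸ RingHom.ker fp.toRingHom) :=
    (Ideal.quotientKerAlgEquivOfSurjective hfp).symm
  refine ⟨⟨n, RingHom.ker fp.toRingHom, Algebra.Etale.of_equiv e, b.comp e.symm.toAlgHom⟩, e, ?_⟩
  ext x
  simp

variable (hF : Fact A B)
include hF

theorem exists_obj_of_fp (P : Type u) [CommRing P] [Algebra A P] [Algebra.FinitePresentation A P]
    (f : P →ₐ[A] B) : ∃ (X : Obj A B) (a : P →ₐ[A] X.Q), X.f.comp a = f := by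
  obtain ⟨E, _, _, _, a, b, hab⟩ := hF P f
  obtain ⟨X, e, he⟩ := exists_obj E b
  refine ⟨X, e.toAlgHom.comp a, ?_⟩
  rw [← AlgHom.comp_assoc, he, hab]

theorem nonempty_obj : Nonempty (Obj A B) := by
  obtain ⟨X, -, -⟩ := exists_obj_of_fp hF A (Algebra.ofId A B)
  exact ⟨X⟩

theorem isFiltered : IsFiltered (Obj A B) := by
  haveI : Nonempty (Obj A B) := nonempty_obj hF
  haveI : IsFilteredOrEmpty (Obj A B) := by
    constructor
    · intro X Y
      haveI := X.et
      haveI := Y.et
      haveI : Algebra.FinitePresentation A (TensorProduct A X.Q Y.Q) :=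
        Algebra.FinitePresentation.trans A X.Q (TensorProduct A X.Q Y.Q)
      obtain ⟨Z, a, ha⟩ := exists_obj_of_fp hF (TensorProduct A X.Q Y.Q)
        (Algebra.TensorProduct.productMap X.f Y.f)
      refine ⟨Z, ⟨a.comp Algebra.TensorProduct.includeLeft, ?_⟩,
        ⟨a.comp Algebra.TensorProduct.includeRight, ?_⟩, trivial⟩
      · rw [← AlgHom.comp_assoc, ha]
        ext x
        simp
      · rw [← AlgHom.comp_assoc, ha]
        ext x
        simp
    · intro X Y u v
      haveI := Y.et
      let gen : Fin X.n → Y.Q := fun k =>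
        u.1 (Ideal.Quotient.mk X.I (MvPolynomial.X k)) -
          v.1 (Ideal.Quotient.mk X.I (MvPolynomial.X k))
      let K : Ideal Y.Q := Ideal.span (Set.range gen)
      have hK : K.FG := by
        refine ⟨(Set.finite_range gen).toFinset, ?_⟩
        rw [Set.Finite.coe_toFinset]
      haveI : Algebra.FinitePresentation A (Y.Q ⧸ K) := Algebra.FinitePresentation.quotient hK
      have hkill : ∀ y ∈ K, Y.f y = 0 := by
        intro y hy
        have hle : K ≤ RingHom.ker Y.f.toRingHom := by
          refine Ideal.span_le.2 ?_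
          rintro _ ⟨k, rfl⟩
          show Y.f (u.1 _ - v.1 _) = 0
          rw [map_sub, ← AlgHom.comp_apply, ← AlgHom.comp_apply, u.2, v.2, sub_self]
        exact hle hy
      obtain ⟨Z, a, ha⟩ := exists_obj_of_fp hF (Y.Q ⧸ K) (Ideal.Quotient.liftₐ K Y.f hkill)
      refine ⟨Z, ⟨a.comp (Ideal.Quotient.mkₐ A K), ?_⟩, ?_⟩
      · rw [← AlgHom.comp_assoc, ha]
        ext y
        simp
      · apply Obj.hom_ext
        rw [Obj.comp_val, Obj.comp_val]
        apply Ideal.Quotient.algHom_ext
        apply MvPolynomial.algHom_ext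
        intro k
        show a (Ideal.Quotient.mk K (u.1 (Ideal.Quotient.mk X.I (MvPolynomial.X k)))) =
          a (Ideal.Quotient.mk K (v.1 (Ideal.Quotient.mk X.I (MvPolynomial.X k))))
        congr 1
        exact Ideal.Quotient.eq.2 (Ideal.subset_span ⟨k, rfl⟩)
  exact {}

omit hF

/-- the diagram of étale algebras. -/
noncomputable def diag : Obj A B ⥤ Under (CommRingCat.of A) where
  obj X := Under.mk (CommRingCat.ofHom (algebraMap A X.Q))
  map {X Y} φ := Under.homMk (CommRingCat.ofHom φ.1.toRingHom) (by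
    ext r
    exact φ.1.commutes r)
  map_id X := by ext x; rfl
  map_comp f g := by ext x; rfl

/-- the cocone with vertex `B`. -/
noncomputable def cocone : Cocone (diag (A := A) (B := B)) where
  pt := Under.mk (CommRingCat.ofHom (algebraMap A B))
  ι :=
    { app := fun X => Under.homMk (CommRingCat.ofHom X.f.toRingHom) (by
        ext r
        exact X.f.commutes r)
      naturality := fun X Y φ => by
        ext x
        exact congrArg (fun t : X.Q →ₐ[A] B => t x) φ.2 }

include hF

attribute [local instance] IsFiltered.isConnected in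
/-- `B` is the colimit of the diagram. -/
theorem nonempty_isColimit : Nonempty (IsColimit (cocone (A := A) (B := B))) := by
  haveI := isFiltered hF
  haveI : PreservesColimitsOfShape (Obj A B) (forget CommRingCat.{u}) :=
    PreservesFilteredColimitsOfSize.preserves_filtered_colimits (Obj A B)
  haveI : ReflectsColimit (diag (A := A) (B := B) ⋙ Under.forget (CommRingCat.of A))
      (forget CommRingCat.{u}) := reflectsColimit_of_reflectsIsomorphisms _ _
  have hsurj : ∀ x : B, ∃ (X : Obj A B) (xi : X.Q), X.f xi = x := by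
    intro x
    obtain ⟨X, a, ha⟩ := exists_obj_of_fp hF (MvPolynomial (Fin 1) A)
      (MvPolynomial.aeval (fun _ => x))
    refine ⟨X, a (MvPolynomial.X 0), ?_⟩
    rw [← AlgHom.comp_apply, ha]
    simp
  have hinj : ∀ (X : Obj A B) (x y : X.Q), X.f x = X.f y →
      ∃ (Z : Obj A B) (φ : X ⟶ Z), φ.1 x = φ.1 y := by
    intro X x y hxy
    haveI := X.et
    let K : Ideal X.Q := Ideal.span {x - y}
    have hK : K.FG := ⟨{x - y}, by simp [K]⟩
    haveI : Algebra.FinitePresentation A (X.Q ⧸ K) := Algebra.FinitePresentation.quotient hK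
    have hkill : ∀ z ∈ K, X.f z = 0 := by
      intro z hz
      have hle : K ≤ RingHom.ker X.f.toRingHom := by
        refine Ideal.span_le.2 ?_
        rintro _ rfl
        show X.f (x - y) = 0
        rw [map_sub, hxy, sub_self]
      exact hle hz
    obtain ⟨Z, a, ha⟩ := exists_obj_of_fp hF (X.Q ⧸ K) (Ideal.Quotient.liftₐ K X.f hkill)
    refine ⟨Z, ⟨a.comp (Ideal.Quotient.mkₐ A K), ?_⟩, ?_⟩
    · rw [← AlgHom.comp_assoc, ha]
      ext z
      simp
    · show a (Ideal.Quotient.mk K x) = a (Ideal.Quotient.mk K y)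
      congr 1
      exact Ideal.Quotient.eq.2 (Ideal.subset_span rfl)
  have h1 : IsColimit ((forget CommRingCat.{u}).mapCocone
      ((Under.forget (CommRingCat.of A)).mapCocone (cocone (A := A) (B := B)))) := by
    refine Types.FilteredColimit.isColimitOf' _ _ ?_ ?_
    · intro x
      obtain ⟨X, xi, h⟩ := hsurj x
      exact ⟨X, xi, h.symm⟩
    · intro X x y hxy
      obtain ⟨Z, φ, h⟩ := hinj X x y hxy
      exact ⟨Z, φ, h⟩
  exact ⟨isColimitOfReflects (Under.forget (CommRingCat.of A))
    (isColimitOfReflects (forget CommRingCat.{u}) h1)⟩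

/-- the criterion. -/
theorem isIndEtale_of_fact : EtPBC.IsIndEtale A B := by
  obtain ⟨hc⟩ := nonempty_isColimit hF
  refine ⟨Obj A B, inferInstance, isFiltered hF, diag, cocone, hc, fun X => ?_, ⟨Iso.refl _⟩⟩
  exact RingHom.etale_algebraMap.mpr X.et

end Groth.Agent.H12.IndEt
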