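import Mathlib
import Groth.Prelude.Def_PBC
import Groth.Agent.Lead.ColimDescent
import Groth.Agent.H12.IndEtA

/-!
# Ind-étale algebras: compactness of finitely presented algebras and the converse criterion
(helper12).  `Sys.exists_factor`: a map from a finitely presented algebra to a colimit-like system
(`Lead.ColimDescent.Sys`) factors through a stage.  `exists_sys_of_isColimit`: a filtered colimit in
`Under (CommRingCat.of A)` gives a `Sys`.  `fact_of_isIndEtale`, `fact_of_isColimit`.
-/

set_option autoImplicit false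
universe u
open CategoryTheory CategoryTheory.Limits

namespace Groth.Agent.H12.IndEt

open Groth.Agent.Lead.ColimDescent

section Factor

variable {ι : Type u} {A₀ : Type u} [CommRing A₀] {G : ι → Type u} [∀ i, CommRing (G i)]
  [∀ i, Algebra A₀ (G i)] {A : Type u} [CommRing A] [Algebra A₀ A] {g : ∀ i, G i →ₐ[A₀] A}

theorem Sys.lift_finite (H : Sys A₀ G A g) {α : Type*} [Finite α] (x : α → A) :
    ∃ (i : ι) (y : α → G i), ∀ a, g i (y a) = x a := by
  classical
  haveI := Fintype.ofFinite α
  have h1 : ∀ a ∈ (Finset.univ : Finset α), Stable g (fun i => x a ∈ Set.range (g i)) := by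
    rintro a _ i j φ c ⟨y, hy⟩
    exact ⟨φ y, by rw [← AlgHom.comp_apply, c, hy]⟩
  have h2 : ∀ a ∈ (Finset.univ : Finset α), ∃ i, x a ∈ Set.range (g i) := by
    intro a _
    obtain ⟨i, y, hy⟩ := H.surj (x a)
    exact ⟨i, y, hy⟩
  obtain ⟨i, hi⟩ := H.common (Finset.univ : Finset α) (fun a i => x a ∈ Set.range (g i)) h1 h2
  choose y hy using fun a => hi a (Finset.mem_univ a)
  exact ⟨i, y, hy⟩

theorem Sys.kill_finset (H : Sys A₀ G A g) (i : ι) (s : Finset (G i))
    (hs : ∀ x ∈ s, g i x = 0) :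
    ∃ (j : ι) (φ : G i →ₐ[A₀] G j), (g j).comp φ = g i ∧ ∀ x ∈ s, φ x = 0 := by
  classical
  induction s using Finset.induction_on with
  | empty => exact ⟨i, AlgHom.id _ _, AlgHom.comp_id _, by simp⟩
  | insert x s hx ih =>
    obtain ⟨j, φ, c, hk⟩ := ih (fun y hy => hs y (Finset.mem_insert_of_mem hy))
    have h0 : g j (φ x) = 0 := by
      rw [← AlgHom.comp_apply, c]
      exact hs x (Finset.mem_insert_self _ _)
    obtain ⟨j', ψ, cψ, hk'⟩ := H.ker j (φ x) h0
    refine ⟨j', ψ.comp φ, by rw [← AlgHom.comp_assoc, cψ, c], ?_⟩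
    intro y hy
    rcases Finset.mem_insert.1 hy with rfl | hy
    · exact hk'
    · show ψ (φ y) = 0
      rw [hk y hy, map_zero]

/-- finitely presented algebras are compact: a map to the colimit factors through a stage. -/
theorem Sys.exists_factor (H : Sys A₀ G A g) (P : Type u) [CommRing P] [Algebra A₀ P]
    [Algebra.FinitePresentation A₀ P] (σ : P →ₐ[A₀] A) :
    ∃ (i : ι) (τ : P →ₐ[A₀] G i), (g i).comp τ = σ := by
  classical
  obtain ⟨n, fp, hfp, hker⟩ := Algebra.FinitePresentation.out (R := A₀) (A := P)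
  obtain ⟨S, hS⟩ := hker
  obtain ⟨i, β, hβ⟩ := Sys.lift_finite H (fun k : Fin n => σ (fp (MvPolynomial.X k)))
  let τ0 : MvPolynomial (Fin n) A₀ →ₐ[A₀] G i := MvPolynomial.aeval β
  have hτ0 : (g i).comp τ0 = σ.comp fp := by
    apply MvPolynomial.algHom_ext
    intro k
    simp [τ0, hβ]
  obtain ⟨j, φ, c, hk⟩ := Sys.kill_finset H i (S.image τ0) (by
    intro x hx
    obtain ⟨q, hq, rfl⟩ := Finset.mem_image.1 hx
    have hfq : fp q = 0 := by
      have hmem : q ∈ RingHom.ker fp.toRingHom := by
        rw [← hS]; exact Ideal.subset_span hq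
      exact hmem
    rw [← AlgHom.comp_apply, hτ0, AlgHom.comp_apply, hfq, map_zero])
  have hτ' : ∀ a ∈ RingHom.ker fp.toRingHom, (φ.comp τ0) a = 0 := by
    intro a ha
    rw [← hS] at ha
    have hle : Ideal.span (S : Set (MvPolynomial (Fin n) A₀)) ≤
        RingHom.ker (φ.comp τ0).toRingHom :=
      Ideal.span_le.2 (fun q hq => hk _ (Finset.mem_image_of_mem _ hq))
    exact hle ha
  refine ⟨j, (Ideal.Quotient.liftₐ (RingHom.ker fp.toRingHom) (φ.comp τ0) hτ').comp
    (Ideal.quotientKerAlgEquivOfSurjective hfp).symm.toAlgHom, ?_⟩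
  ext p
  obtain ⟨q, rfl⟩ := hfp p
  have h1 : (Ideal.quotientKerAlgEquivOfSurjective hfp).symm (fp q) =
      Ideal.Quotient.mk _ q := by
    apply (Ideal.quotientKerAlgEquivOfSurjective hfp).injective
    rw [AlgEquiv.apply_symm_apply]
    rfl
  show g j (Ideal.Quotient.liftₐ _ (φ.comp τ0) hτ'
    ((Ideal.quotientKerAlgEquivOfSurjective hfp).symm (fp q))) = σ (fp q)
  rw [h1]
  show g j (φ (τ0 q)) = σ (fp q)
  rw [← AlgHom.comp_apply, c, ← AlgHom.comp_apply, hτ0]
  rfl

end Factor

section Extract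

variable {A B : Type u} [CommRing A] [CommRing B] [Algebra A B]

/-- a filtered colimit in `Under (CommRingCat.of A)` is a colimit-like system of `A`-algebras. -/
theorem exists_sys_of_isColimit {J : Type u} [SmallCategory J] [IsFiltered J]
    (D : J ⥤ Under (CommRingCat.of A)) (c : Cocone D) (hc : IsColimit c)
    (e : c.pt ≅ Under.mk (CommRingCat.ofHom (algebraMap A B))) :
    letI algR : ∀ j, Algebra A (D.obj j).right := fun j => (D.obj j).hom.hom.toAlgebra
    ∃ ψ : ∀ j, (D.obj j).right →ₐ[A] B, Sys A (fun j => ((D.obj j).right : Type u)) B ψ := by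
  letI algR : ∀ j, Algebra A (D.obj j).right := fun j => (D.obj j).hom.hom.toAlgebra
  let t : ∀ {j k : J}, (j ⟶ k) → ((D.obj j).right →ₐ[A] (D.obj k).right) := fun {j k} g =>
    { (D.map g).right.hom with
      commutes' := fun a => congrArg (fun f => f.hom a) (Under.w (D.map g)) }
  let ψ : ∀ j, (D.obj j).right →ₐ[A] B := fun j =>
    { ((c.ι.app j) ≫ e.hom).right.hom with
      commutes' := fun a => congrArg (fun f => f.hom a) (Under.w ((c.ι.app j) ≫ e.hom)) }
  let F : Under (CommRingCat.of A) ⥤ Type u := Under.forget (CommRingCat.of A) ⋙ forget CommRingCat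
  haveI : PreservesColimitsOfShape J (Under.forget (CommRingCat.of A)) :=
    PreservesFilteredColimitsOfSize.preserves_filtered_colimits J
  haveI : PreservesColimitsOfShape J (forget CommRingCat.{u}) :=
    PreservesFilteredColimitsOfSize.preserves_filtered_colimits J
  have hc' : IsColimit (F.mapCocone c) := isColimitOfPreserves F hc
  have hψt : ∀ {j k : J} (g : j ⟶ k) (y : (D.obj j).right), ψ k (t g y) = ψ j y := by
    intro j k g y
    have h1 := congrArg (fun f => (f ≫ e.hom).right.hom y) (c.w g)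
    exact h1
  have hsurj : ∀ b : B, ∃ j, ∃ y : (D.obj j).right, ψ j y = b := by
    intro b
    obtain ⟨j, y, hy⟩ := Types.jointly_surjective_of_isColimit hc' (e.inv.right.hom b)
    refine ⟨j, y, ?_⟩
    have h1 : (c.ι.app j).right.hom y = e.inv.right.hom b := hy
    show e.hom.right.hom ((c.ι.app j).right.hom y) = b
    rw [h1]
    exact congrArg (fun f => f.right.hom b) e.inv_hom_id
  have hinj : ∀ (j : J) (y y' : (D.obj j).right), ψ j y = ψ j y' →
      ∃ (k : J) (f : j ⟶ k), t f y = t f y' := by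
    intro j y y' hyy'
    have h1 : e.hom.right.hom ((c.ι.app j).right.hom y) =
        e.hom.right.hom ((c.ι.app j).right.hom y') := hyy'
    have h2 : (c.ι.app j).right.hom y = (c.ι.app j).right.hom y' := by
      have h3 := congrArg (fun z => e.inv.right.hom z) h1
      have h4 : ∀ z, e.inv.right.hom (e.hom.right.hom z) = z := fun z =>
        congrArg (fun f => f.right.hom z) e.hom_inv_id
      simpa only [h4] using h3
    have h5 : (F.mapCocone c).ι.app j y = (F.mapCocone c).ι.app j y' := h2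
    obtain ⟨k, g, hg⟩ := (Types.FilteredColimit.isColimit_eq_iff' hc' y y').1 h5
    exact ⟨k, g, hg⟩
  refine ⟨ψ, ?_⟩
  exact
    { ne := IsFiltered.nonempty
      surj := hsurj
      dir := fun i i' => ⟨IsFiltered.max i i', t (IsFiltered.leftToMax i i'),
        t (IsFiltered.rightToMax i i'), AlgHom.ext (hψt _), AlgHom.ext (hψt _)⟩
      ker := fun i x hx => by
        obtain ⟨k, f, hf⟩ := hinj i x 0 (by rw [hx, map_zero])
        exact ⟨k, t f, AlgHom.ext (hψt f), by rw [hf, map_zero]⟩ }

theorem fact_of_etale [Algebra.Etale A B] : Fact A B := by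
  intro P _ _ _ f
  exact ⟨B, inferInstance, inferInstance, inferInstance, f, AlgHom.id A B, AlgHom.id_comp f⟩

/-- a filtered colimit of algebras satisfying `Fact` satisfies `Fact`. -/
theorem fact_of_isColimit {J : Type u} [SmallCategory J] [IsFiltered J]
    (D : J ⥤ Under (CommRingCat.of A)) (c : Cocone D) (hc : IsColimit c)
    (e : c.pt ≅ Under.mk (CommRingCat.ofHom (algebraMap A B)))
    (hD : ∀ j, letI := (D.obj j).hom.hom.toAlgebra; Fact A (D.obj j).right) : Fact A B := by
  letI algR : ∀ j, Algebra A (D.obj j).right := fun j => (D.obj j).hom.hom.toAlgebra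
  obtain ⟨ψ, H⟩ := exists_sys_of_isColimit D c hc e
  intro P _ _ _ f
  obtain ⟨j, τ, hτ⟩ := Sys.exists_factor H P f
  obtain ⟨E, i1, i2, i3, a, b, hab⟩ := hD j P τ
  exact ⟨E, i1, i2, i3, a, (ψ j).comp b, by rw [AlgHom.comp_assoc, hab, hτ]⟩

theorem fact_of_isIndEtale (h : EtPBC.IsIndEtale A B) : Fact A B := by
  obtain ⟨J, iJ, iF, D, c, hc, hD, ⟨e⟩⟩ := h
  refine fact_of_isColimit D c hc e (fun j => ?_)
  letI := (D.obj j).hom.hom.toAlgebra
  haveI : Algebra.Etale A (D.obj j).right := hD j
  exact fact_of_etale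

theorem isIndEtale_iff_fact : EtPBC.IsIndEtale A B ↔ Fact A B :=
  ⟨fact_of_isIndEtale, isIndEtale_of_fact⟩

end Extract

end Groth.Agent.H12.IndEt
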