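import Mathlib
import Groth.Prelude.Def_PBC
import Groth.Agent.Lead.ColimDescent
import Groth.Agent.H12.IndEtB

/-!
# Ind-étale algebras: cancellation (helper12)

`fact_of_tower`: if `B` is a colimit-like system of étale `A`-algebras and `C` is a `B`-algebra
which, as an `A`-algebra, satisfies `Fact A C`, then `Fact B C`.
-/

set_option autoImplicit false
universe u
open CategoryTheory CategoryTheory.Limits

namespace Groth.Agent.H12.IndEt

open Groth.Agent.Lead.ColimDescent TensorProduct

section Polys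

variable {ι : Type u} {A₀ : Type u} [CommRing A₀] {G : ι → Type u} [∀ i, CommRing (G i)]
  [∀ i, Algebra A₀ (G i)] {A : Type u} [CommRing A] [Algebra A₀ A] {g : ∀ i, G i →ₐ[A₀] A}

/-- finitely many polynomials over the colimit lift to a stage. -/
theorem Sys.lift_polys (H : Sys A₀ G A g) {σ : Type*} (S : Finset (MvPolynomial σ A)) :
    ∃ (i : ι) (q' : MvPolynomial σ A → MvPolynomial σ (G i)),
      ∀ s ∈ S, MvPolynomial.map (g i).toRingHom (q' s) = s := by
  classical
  obtain ⟨i, y, hy⟩ := Sys.lift_finite H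
    (fun t : (Σ s : S, {m // m ∈ s.1.support}) => MvPolynomial.coeff t.2.1 t.1.1)
  refine ⟨i, fun s => if hs : s ∈ S then
    ∑ m ∈ s.support.attach, MvPolynomial.monomial m.1 (y ⟨⟨s, hs⟩, m⟩) else 0, ?_⟩
  intro s hs
  simp only [dif_pos hs]
  rw [map_sum]
  have h1 : ∀ m ∈ s.support.attach,
      MvPolynomial.map (g i).toRingHom (MvPolynomial.monomial m.1 (y ⟨⟨s, hs⟩, m⟩)) =
        MvPolynomial.monomial m.1 (MvPolynomial.coeff m.1 s) := by
    intro m _
    rw [MvPolynomial.map_monomial]
    congr 1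
    exact hy ⟨⟨s, hs⟩, m⟩
  rw [Finset.sum_congr rfl h1,
    Finset.sum_attach s.support (fun m => MvPolynomial.monomial m (MvPolynomial.coeff m s))]
  exact MvPolynomial.support_sum_monomial_coeff s

end Polys

section Tower

variable {A B C : Type u} [CommRing A] [CommRing B] [CommRing C] [Algebra A B] [Algebra B C]
  [Algebra A C] [IsScalarTower A B C]

theorem fact_of_tower {ι : Type u} {G : ι → Type u} [∀ i, CommRing (G i)] [∀ i, Algebra A (G i)]
    {g : ∀ i, G i →ₐ[A] B} (H : Sys A G B g) (hG : ∀ i, Algebra.Etale A (G i))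
    (hC : Fact A C) : Fact B C := by
  classical
  intro P _ _ _ f
  obtain ⟨n, fp, hfp, hker⟩ := Algebra.FinitePresentation.out (R := B) (A := P)
  obtain ⟨S, hS⟩ := hker
  obtain ⟨i, q', hq'⟩ := Sys.lift_polys H S
  haveI := hG i
  let K : Ideal (MvPolynomial (Fin n) (G i)) :=
    Ideal.span (q' '' (S : Set (MvPolynomial (Fin n) B)))
  have hK : K.FG := ⟨S.image q', by simp [K, Finset.coe_image]⟩
  haveI : Algebra.FinitePresentation A (MvPolynomial (Fin n) (G i) ⧸ K) :=
    Algebra.FinitePresentation.quotient hK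
  let φ : G i →+* C := (algebraMap B C).comp (g i).toRingHom
  let x : Fin n → C := fun k => f (fp (MvPolynomial.X k))
  let h0r : MvPolynomial (Fin n) (G i) →+* C := MvPolynomial.eval₂Hom φ x
  have h0map : ∀ r : MvPolynomial (Fin n) (G i),
      h0r r = f (fp (MvPolynomial.map (g i).toRingHom r)) := by
    have h1 : h0r = (f.toRingHom.comp fp.toRingHom).comp (MvPolynomial.map (g i).toRingHom) := by
      apply MvPolynomial.ringHom_ext
      · intro c
        show MvPolynomial.eval₂Hom φ x (MvPolynomial.C c) =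
          f (fp (MvPolynomial.map (g i).toRingHom (MvPolynomial.C c)))
        rw [MvPolynomial.eval₂Hom_C, MvPolynomial.map_C]
        exact ((congrArg f (fp.commutes (g i c))).trans (f.commutes (g i c))).symm
      · intro k
        show MvPolynomial.eval₂Hom φ x (MvPolynomial.X k) =
          f (fp (MvPolynomial.map (g i).toRingHom (MvPolynomial.X k)))
        rw [MvPolynomial.eval₂Hom_X', MvPolynomial.map_X]
    intro r
    exact congrArg (fun t : MvPolynomial (Fin n) (G i) →+* C => t r) h1
  let h0 : MvPolynomial (Fin n) (G i) →ₐ[A] C :=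
    { h0r with
      commutes' := fun r => by
        show h0r (algebraMap A (MvPolynomial (Fin n) (G i)) r) = algebraMap A C r
        rw [MvPolynomial.algebraMap_apply]
        show MvPolynomial.eval₂Hom φ x (MvPolynomial.C (algebraMap A (G i) r)) = _
        rw [MvPolynomial.eval₂Hom_C]
        show algebraMap B C (g i (algebraMap A (G i) r)) = algebraMap A C r
        rw [AlgHom.commutes, ← IsScalarTower.algebraMap_apply] }
  have hkill : ∀ r ∈ K, h0 r = 0 := by
    intro r hr
    have hle : K ≤ RingHom.ker h0.toRingHom := by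
      refine Ideal.span_le.2 ?_
      rintro _ ⟨s, hs, rfl⟩
      show h0r (q' s) = 0
      rw [h0map, hq' s hs]
      have hfs : fp s = 0 := by
        have hmem : s ∈ RingHom.ker fp.toRingHom := by
          rw [← hS]; exact Ideal.subset_span hs
        exact hmem
      rw [hfs, map_zero]
    exact hle hr
  obtain ⟨E0, _, _, _, a, b, hab⟩ := hC (MvPolynomial (Fin n) (G i) ⧸ K)
    (Ideal.Quotient.liftₐ K h0 hkill)
  -- `E0` as a `G i`-algebra
  letI algE0 : Algebra (G i) E0 :=
    (a.toRingHom.comp (algebraMap (G i) (MvPolynomial (Fin n) (G i) ⧸ K))).toAlgebra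
  haveI : IsScalarTower A (G i) E0 := IsScalarTower.of_algebraMap_eq (fun r => by
    show algebraMap A E0 r =
      a (algebraMap (G i) (MvPolynomial (Fin n) (G i) ⧸ K) (algebraMap A (G i) r))
    rw [← IsScalarTower.algebraMap_apply A (G i) (MvPolynomial (Fin n) (G i) ⧸ K),
      AlgHom.commutes])
  haveI : Algebra.Etale (G i) E0 := Algebra.Etale.of_restrictScalars A (G i) E0
  letI algB : Algebra (G i) B := (g i).toRingHom.toAlgebra
  letI algC : Algebra (G i) C := φ.toAlgebra
  haveI : IsScalarTower (G i) B C := IsScalarTower.of_algebraMap_eq (fun _ => rfl)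
  -- the map `B ⊗ E0 → C`
  let bG : E0 →ₐ[G i] C :=
    { b.toRingHom with
      commutes' := fun c => by
        show b (a (algebraMap (G i) (MvPolynomial (Fin n) (G i) ⧸ K) c)) = φ c
        rw [← AlgHom.comp_apply, hab]
        show h0r (MvPolynomial.C c) = φ c
        exact MvPolynomial.eval₂Hom_C φ x c }
  let b' : B ⊗[G i] E0 →ₐ[B] C :=
    Algebra.TensorProduct.lift (Algebra.ofId B C) bG (fun _ _ => Commute.all _ _)
  -- the map `P → B ⊗ E0`
  let a0 : MvPolynomial (Fin n) B →ₐ[B] B ⊗[G i] E0 :=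
    MvPolynomial.aeval (fun k => (1 : B) ⊗ₜ[G i] a (Ideal.Quotient.mk K (MvPolynomial.X k)))
  have ha0 : ∀ r : MvPolynomial (Fin n) (G i),
      a0 (MvPolynomial.map (g i).toRingHom r) = (1 : B) ⊗ₜ[G i] a (Ideal.Quotient.mk K r) := by
    have h1 : a0.toRingHom.comp (MvPolynomial.map (g i).toRingHom) =
        (Algebra.TensorProduct.includeRight : E0 →ₐ[G i] B ⊗[G i] E0).toRingHom.comp
          (a.toRingHom.comp (Ideal.Quotient.mk K)) := by
      apply MvPolynomial.ringHom_ext
      · intro c
        show a0 (MvPolynomial.map (g i).toRingHom (MvPolynomial.C c)) =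
          (1 : B) ⊗ₜ[G i] a (Ideal.Quotient.mk K (MvPolynomial.C c))
        rw [MvPolynomial.map_C]
        refine (a0.commutes (g i c)).trans ?_
        exact Algebra.TensorProduct.tmul_one_eq_one_tmul c
      · intro k
        show a0 (MvPolynomial.map (g i).toRingHom (MvPolynomial.X k)) = _
        rw [MvPolynomial.map_X]
        exact MvPolynomial.aeval_X _ k
    intro r
    exact congrArg (fun t : MvPolynomial (Fin n) (G i) →+* B ⊗[G i] E0 => t r) h1
  have ha0kill : ∀ q ∈ RingHom.ker fp.toRingHom, a0 q = 0 := by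
    intro q hq
    rw [← hS] at hq
    have hle : Ideal.span (S : Set (MvPolynomial (Fin n) B)) ≤ RingHom.ker a0.toRingHom := by
      refine Ideal.span_le.2 ?_
      intro s hs
      show a0 s = 0
      rw [← hq' s hs, ha0]
      have h2 : Ideal.Quotient.mk K (q' s) = 0 :=
        Ideal.Quotient.eq_zero_iff_mem.2 (Ideal.subset_span ⟨s, hs, rfl⟩)
      rw [h2, map_zero, TensorProduct.tmul_zero]
    exact hle hq
  let a' : P →ₐ[B] B ⊗[G i] E0 :=
    (Ideal.Quotient.liftₐ (RingHom.ker fp.toRingHom) a0 ha0kill).comp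
      (Ideal.quotientKerAlgEquivOfSurjective hfp).symm.toAlgHom
  refine ⟨B ⊗[G i] E0, inferInstance, inferInstance, inferInstance, a', b', ?_⟩
  ext p
  obtain ⟨q, rfl⟩ := hfp p
  have h1 : (Ideal.quotientKerAlgEquivOfSurjective hfp).symm (fp q) =
      Ideal.Quotient.mk _ q := by
    apply (Ideal.quotientKerAlgEquivOfSurjective hfp).injective
    rw [AlgEquiv.apply_symm_apply]
    rfl
  show b' (Ideal.Quotient.liftₐ _ a0 ha0kill
    ((Ideal.quotientKerAlgEquivOfSurjective hfp).symm (fp q))) = f (fp q)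
  rw [h1]
  show b' (a0 q) = f (fp q)
  have h2 : b'.comp a0 = f.comp fp := by
    apply MvPolynomial.algHom_ext
    intro k
    show b' (a0 (MvPolynomial.X k)) = f (fp (MvPolynomial.X k))
    rw [show a0 (MvPolynomial.X k) =
      (1 : B) ⊗ₜ[G i] a (Ideal.Quotient.mk K (MvPolynomial.X k)) from MvPolynomial.aeval_X _ k]
    show Algebra.TensorProduct.lift (Algebra.ofId B C) bG (fun _ _ => Commute.all _ _)
      ((1 : B) ⊗ₜ[G i] a (Ideal.Quotient.mk K (MvPolynomial.X k))) = _
    rw [Algebra.TensorProduct.lift_tmul, map_one, one_mul]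
    show b (a (Ideal.Quotient.mk K (MvPolynomial.X k))) = _
    rw [← AlgHom.comp_apply, hab]
    show h0r (MvPolynomial.X k) = _
    exact MvPolynomial.eval₂Hom_X' φ x k
  exact congrArg (fun t : MvPolynomial (Fin n) B →ₐ[B] C => t q) h2

/-- cancellation for ind-étale algebras. -/
theorem isIndEtale_of_isIndEtale_of_isScalarTower (hB : EtPBC.IsIndEtale A B)
    (hC : EtPBC.IsIndEtale A C) : EtPBC.IsIndEtale B C := by
  obtain ⟨J, iJ, iF, D, c, hc, hD, ⟨e⟩⟩ := hB
  letI algR : ∀ j, Algebra A (D.obj j).right := fun j => (D.obj j).hom.hom.toAlgebra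
  obtain ⟨ψ, H⟩ := exists_sys_of_isColimit D c hc e
  exact isIndEtale_of_fact (fact_of_tower H hD (fact_of_isIndEtale hC))

end Tower

end Groth.Agent.H12.IndEt
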