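import Mathlib
import Groth.Prelude.Def_PBC
import Groth.Agent.Lead.ColimDescent
import Groth.Agent.H12.IndEtC

/-!
# Ind-étale algebras: transitivity (helper12)

An étale algebra over a colimit-like system `B = colim G i` of étale `A`-algebras satisfies
`Fact A _`: its standard presentation (`n` relations in `n` variables, invertible Jacobian) and any
map from a finitely presented `A`-algebra descend to a stage.  Hence ind-étale maps compose.
-/

set_option autoImplicit false
universe u
open CategoryTheory CategoryTheory.Limits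

namespace Groth.Agent.H12.IndEt

open Groth.Agent.Lead.ColimDescent MvPolynomial

section KillPolys

variable {ι : Type u} {A₀ : Type u} [CommRing A₀] {G : ι → Type u} [∀ i, CommRing (G i)]
  [∀ i, Algebra A₀ (G i)] {A : Type u} [CommRing A] [Algebra A₀ A] {g : ∀ i, G i →ₐ[A₀] A}

/-- finitely many polynomials over a stage dying in the colimit die at a later stage. -/
theorem Sys.kill_polys (H : Sys A₀ G A g) {σ : Type*} (i : ι)
    (S : Finset (MvPolynomial σ (G i)))
    (hS : ∀ p ∈ S, MvPolynomial.map (g i).toRingHom p = 0) :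
    ∃ (j : ι) (φ : G i →ₐ[A₀] G j), (g j).comp φ = g i ∧
      ∀ p ∈ S, MvPolynomial.map φ.toRingHom p = 0 := by
  classical
  have h0 : ∀ x ∈ S.biUnion (fun p => p.support.image fun m => MvPolynomial.coeff m p),
      g i x = 0 := by
    intro x hx
    obtain ⟨p, hp, hx⟩ := Finset.mem_biUnion.1 hx
    obtain ⟨m, hm, rfl⟩ := Finset.mem_image.1 hx
    have h1 := congrArg (MvPolynomial.coeff m) (hS p hp)
    rwa [MvPolynomial.coeff_map, MvPolynomial.coeff_zero] at h1
  obtain ⟨j, φ, c, hk⟩ := Sys.kill_finset H i _ h0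
  refine ⟨j, φ, c, fun p hp => ?_⟩
  ext m
  rw [MvPolynomial.coeff_map, MvPolynomial.coeff_zero]
  by_cases hm : m ∈ p.support
  · exact hk _ (Finset.mem_biUnion.2 ⟨p, hp, Finset.mem_image_of_mem _ hm⟩)
  · rw [MvPolynomial.notMem_support_iff.1 hm, map_zero]

end KillPolys

section Restrict

variable {A B C : Type u} [CommRing A] [CommRing B] [CommRing C] [Algebra A B] [Algebra B C]
  [Algebra A C] [IsScalarTower A B C]

/-- restriction of scalars of a system. -/
theorem Sys.restrict {ι : Type u} {G : ι → Type u} [∀ i, CommRing (G i)] [∀ i, Algebra B (G i)]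
    [∀ i, Algebra A (G i)] [∀ i, IsScalarTower A B (G i)] {g : ∀ i, G i →ₐ[B] C}
    (H : Sys B G C g) : Sys A G C (fun i => (g i).restrictScalars A) where
  ne := H.ne
  surj := H.surj
  dir i i' := by
    obtain ⟨j, φ, φ', c, c'⟩ := H.dir i i'
    exact ⟨j, φ.restrictScalars A, φ'.restrictScalars A,
      AlgHom.ext fun x => congrArg (fun t : G i →ₐ[B] C => t x) c,
      AlgHom.ext fun x => congrArg (fun t : G i' →ₐ[B] C => t x) c'⟩
  ker i x hx := by
    obtain ⟨j, φ, c, hφ⟩ := H.ker i x hx
    exact ⟨j, φ.restrictScalars A,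
      AlgHom.ext fun y => congrArg (fun t : G i →ₐ[B] C => t y) c, hφ⟩

end Restrict

section Jac

variable {R : Type u} [CommRing R] {ι σ : Type} [Finite ι] [Fintype σ] [DecidableEq σ]

/-- the error term of the Jacobian condition. -/
noncomputable def err1 (a : σ → ι) (v : σ → MvPolynomial ι R) (u : MvPolynomial ι R)
    (c : σ → MvPolynomial ι R) : MvPolynomial ι R :=
  (Matrix.of fun i j : σ => pderiv (a i) (v j)).det * u - 1 - ∑ s, c s * v s

omit [Finite ι] in
lemma map_err1 {R' : Type u} [CommRing R'] (φ : R →+* R') (a : σ → ι)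
    (v : σ → MvPolynomial ι R) (u : MvPolynomial ι R) (c : σ → MvPolynomial ι R) :
    map φ (err1 a v u c) =
      err1 a (fun s => map φ (v s)) (map φ u) (fun s => map φ (c s)) := by
  have hdet : map φ ((Matrix.of fun i j : σ => pderiv (a i) (v j)).det) =
      (Matrix.of fun i j : σ => pderiv (a i) (map φ (v j))).det := by
    rw [RingHom.map_det]
    congr 1
    refine Matrix.ext fun i j => ?_
    show map φ (pderiv (a i) (v j)) = pderiv (a i) (map φ (v j))
    exact pderiv_map.symm
  have hsum : map φ (∑ s, c s * v s) = ∑ s, map φ (c s) * map φ (v s) := by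
    rw [map_sum]
    exact Finset.sum_congr rfl (fun s _ => map_mul _ _ _)
  unfold err1
  rw [map_sub, map_sub, map_mul, map_one, hdet, hsum]

/-- a quotient `R[X_ι]/(v_σ)` with `|ι| = |σ|` and invertible Jacobian is étale. -/
theorem etale_of_jacobian (hcard : Nat.card ι - Nat.card σ = 0) (a : σ → ι)
    (ha : Function.Injective a) (v : σ → MvPolynomial ι R) (u : MvPolynomial ι R)
    (c : σ → MvPolynomial ι R) (h : err1 a v u c = 0) :
    Algebra.Etale R (MvPolynomial ι R ⧸ Ideal.span (Set.range v)) := by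
  let P0 : Algebra.PreSubmersivePresentation R (MvPolynomial ι R ⧸ Ideal.span (Set.range v)) ι σ :=
    Algebra.PreSubmersivePresentation.naive a ha
  have hM : P0.jacobiMatrix = Matrix.of fun i j : σ => pderiv (a i) (v j) :=
    Matrix.ext fun i j => P0.jacobiMatrix_apply i j
  have hjac : P0.jacobian = Ideal.Quotient.mk (Ideal.span (Set.range v))
      ((Matrix.of fun i j : σ => pderiv (a i) (v j)).det) := by
    rw [P0.jacobian_eq_jacobiMatrix_det, hM]
    rfl
  have hunit : IsUnit P0.jacobian := by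
    rw [hjac]
    refine IsUnit.of_mul_eq_one (Ideal.Quotient.mk _ u) ?_
    rw [← map_mul, ← map_one (Ideal.Quotient.mk (Ideal.span (Set.range v)))]
    refine Ideal.Quotient.eq.2 ?_
    have h1 : (Matrix.of fun i j : σ => pderiv (a i) (v j)).det * u - 1 = ∑ s, c s * v s := by
      rw [← sub_eq_zero]
      exact h
    rw [h1]
    exact Ideal.sum_mem _ (fun s _ => Ideal.mul_mem_left _ _ (Ideal.subset_span ⟨s, rfl⟩))
  let P1 : Algebra.SubmersivePresentation R (MvPolynomial ι R ⧸ Ideal.span (Set.range v)) ι σ :=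
    ⟨P0, hunit⟩
  haveI : Algebra.IsStandardSmoothOfRelativeDimension 0 R
      (MvPolynomial ι R ⧸ Ideal.span (Set.range v)) :=
    P1.isStandardSmoothOfRelativeDimension hcard
  infer_instance

end Jac

section Err2

variable {A : Type u} [CommRing A] {ι σ : Type} [Fintype σ]

/-- the error term of a relation. -/
noncomputable def err2 {R : Type u} [CommRing R] [Algebra A R] {m : ℕ}
    (w : Fin m → MvPolynomial ι R) (p : MvPolynomial (Fin m) A) (d v : σ → MvPolynomial ι R) :
    MvPolynomial ι R :=
  aeval w p - ∑ s, d s * v s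

lemma map_err2 {R R' : Type u} [CommRing R] [CommRing R'] [Algebra A R] [Algebra A R']
    (φ : R →ₐ[A] R') {m : ℕ} (w : Fin m → MvPolynomial ι R) (p : MvPolynomial (Fin m) A)
    (d v : σ → MvPolynomial ι R) :
    map φ.toRingHom (err2 w p d v) = err2 (fun k => map φ.toRingHom (w k)) p
      (fun s => map φ.toRingHom (d s)) (fun s => map φ.toRingHom (v s)) := by
  have h1 : map φ.toRingHom (aeval w p) = aeval (fun k => map φ.toRingHom (w k)) p := by
    have h2 := congrArg (fun t : MvPolynomial (Fin m) A →ₐ[A] MvPolynomial ι R' => t p)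
      (comp_aeval (f := w) (mapAlgHom (σ := ι) φ))
    exact h2
  have hsum : map φ.toRingHom (∑ s, d s * v s) =
      ∑ s, map φ.toRingHom (d s) * map φ.toRingHom (v s) := by
    rw [map_sum]
    exact Finset.sum_congr rfl (fun s _ => map_mul _ _ _)
  unfold err2
  rw [map_sub, h1, hsum]

end Err2

section Stage

variable {A B C : Type u} [CommRing A] [CommRing B] [CommRing C] [Algebra A B] [Algebra B C]
  [Algebra A C] [IsScalarTower A B C]

/-- evaluation of polynomials over an `A`-algebra `Gi → B` in a `B`-algebra `C`. -/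
noncomputable def evalStage {Gi : Type u} [CommRing Gi] [Algebra A Gi] (g : Gi →ₐ[A] B)
    {ι : Type} (x : ι → C) : MvPolynomial ι Gi →ₐ[A] C :=
  { MvPolynomial.eval₂Hom ((algebraMap B C).comp g.toRingHom) x with
    commutes' := fun r => by
      show MvPolynomial.eval₂Hom ((algebraMap B C).comp g.toRingHom) x
        (algebraMap A (MvPolynomial ι Gi) r) = algebraMap A C r
      rw [MvPolynomial.algebraMap_apply, MvPolynomial.eval₂Hom_C]
      show algebraMap B C (g (algebraMap A Gi r)) = algebraMap A C r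
      rw [AlgHom.commutes, ← IsScalarTower.algebraMap_apply] }

lemma evalStage_apply {Gi : Type u} [CommRing Gi] [Algebra A Gi] (g : Gi →ₐ[A] B)
    {ι : Type} (x : ι → C) (r : MvPolynomial ι Gi) :
    evalStage g x r = aeval x (MvPolynomial.map g.toRingHom r) := by
  have h1 : (MvPolynomial.eval₂Hom ((algebraMap B C).comp g.toRingHom) x) =
      (aeval (R := B) x).toRingHom.comp (MvPolynomial.map g.toRingHom) := by
    apply MvPolynomial.ringHom_ext
    · intro c
      show MvPolynomial.eval₂Hom ((algebraMap B C).comp g.toRingHom) x (MvPolynomial.C c) =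
        aeval (R := B) x (MvPolynomial.map g.toRingHom (MvPolynomial.C c))
      rw [MvPolynomial.eval₂Hom_C, MvPolynomial.map_C, MvPolynomial.aeval_C]
      rfl
    · intro k
      show MvPolynomial.eval₂Hom ((algebraMap B C).comp g.toRingHom) x (MvPolynomial.X k) =
        aeval (R := B) x (MvPolynomial.map g.toRingHom (MvPolynomial.X k))
      rw [MvPolynomial.eval₂Hom_X', MvPolynomial.map_X, MvPolynomial.aeval_X]
  exact congrArg (fun t : MvPolynomial ι Gi →+* C => t r) h1

end Stage

section Main

variable {A B E : Type u} [CommRing A] [CommRing B] [CommRing E] [Algebra A B] [Algebra B E]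
  [Algebra A E] [IsScalarTower A B E]

/-- an étale algebra over a colimit-like system of étale `A`-algebras satisfies `Fact A _`. -/
theorem fact_of_etale_over_sys {κ : Type u} {G : κ → Type u} [∀ i, CommRing (G i)]
    [∀ i, Algebra A (G i)] {g : ∀ i, G i →ₐ[A] B} (H : Sys A G B g)
    (hG : ∀ i, Algebra.Etale A (G i)) [Algebra.Etale B E] : Fact A E := by
  classical
  intro P _ _ _ f
  -- standard presentation of `E` over `B`
  obtain ⟨ι, σ, hσ, hι, PE, hdim⟩ :=
    (Algebra.Etale.iff_isStandardSmoothOfRelativeDimension_zero.mp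
      (inferInstance : Algebra.Etale B E)).out
  letI : Fintype σ := Fintype.ofFinite σ
  -- presentation of `P` over `A`
  obtain ⟨m, fp, hfp, hker⟩ := Algebra.FinitePresentation.out (R := A) (A := P)
  obtain ⟨SP, hSP⟩ := hker
  -- the identities over `B`
  obtain ⟨e, he⟩ := PE.jacobian_isUnit.exists_right_inv
  obtain ⟨uB, rfl⟩ := PE.aeval_val_surjective e
  have hMB : PE.jacobiMatrix = Matrix.of fun i j : σ => pderiv (PE.map i) (PE.relation j) :=
    Matrix.ext fun i j => PE.jacobiMatrix_apply i j
  have hJ : PE.jacobian = aeval PE.val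
      ((Matrix.of fun i j : σ => pderiv (PE.map i) (PE.relation j)).det) := by
    rw [PE.jacobian_eq_jacobiMatrix_det, PE.algebraMap_apply, hMB]
  have hker' : ∀ r : MvPolynomial ι B, aeval PE.val r = 0 →
      r ∈ Ideal.span (Set.range PE.relation) := by
    intro r hr
    rw [PE.span_range_relation_eq_ker, PE.ker_eq_ker_aeval_val]
    exact hr
  have hrel : ∀ s : σ, aeval PE.val (PE.relation s) = 0 := by
    intro s
    have h1 : PE.relation s ∈ PE.ker := by
      rw [← PE.span_range_relation_eq_ker]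
      exact Ideal.subset_span ⟨s, rfl⟩
    rw [PE.ker_eq_ker_aeval_val] at h1
    exact h1
  obtain ⟨cB, hcB⟩ := Ideal.mem_span_range_iff_exists_fun.1 (hker'
    ((Matrix.of fun i j : σ => pderiv (PE.map i) (PE.relation j)).det * uB - 1) (by
      rw [map_sub, map_mul, map_one, ← hJ, he, sub_self]))
  choose wB hwB using fun k : Fin m => PE.aeval_val_surjective (f (fp (X k)))
  have hcomp : ((aeval (R := B) PE.val).restrictScalars A).comp (aeval wB) = f.comp fp := by
    apply MvPolynomial.algHom_ext
    intro k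
    show aeval PE.val (aeval wB (X k)) = f (fp (X k))
    rw [aeval_X, hwB]
  have hfp0 : ∀ l : SP, fp l.1 = 0 := by
    intro l
    have hmem : l.1 ∈ RingHom.ker fp.toRingHom := by
      rw [← hSP]; exact Ideal.subset_span l.2
    exact hmem
  choose dB hdB using fun l : SP => Ideal.mem_span_range_iff_exists_fun.1 (hker'
    (aeval wB l.1) (by
      have h1 := congrArg (fun t : MvPolynomial (Fin m) A →ₐ[A] E => t l.1) hcomp
      have h2 : aeval PE.val (aeval wB l.1) = f (fp l.1) := h1
      rw [h2, hfp0 l, map_zero]))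
  have hE1B : err1 PE.map PE.relation uB cB = 0 := by
    unfold err1
    rw [hcB, sub_self]
  have hE2B : ∀ l : SP, err2 wB l.1 (dB l) PE.relation = 0 := by
    intro l
    unfold err2
    rw [hdB l, sub_self]
  -- lift all the data to a stage
  let T := σ ⊕ (Unit ⊕ (σ ⊕ (Fin m ⊕ (SP × σ))))
  let x : T → MvPolynomial ι B := fun t =>
    Sum.elim PE.relation (Sum.elim (fun _ => uB) (Sum.elim cB
      (Sum.elim wB (fun ls => dB ls.1 ls.2)))) t
  obtain ⟨j0, q', hq'⟩ := Sys.lift_polys H (Finset.univ.image x)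
  have hq : ∀ t : T, MvPolynomial.map (g j0).toRingHom (q' (x t)) = x t := fun t =>
    hq' _ (Finset.mem_image_of_mem x (Finset.mem_univ t))
  let v0 : σ → MvPolynomial ι (G j0) := fun s => q' (PE.relation s)
  let u0 : MvPolynomial ι (G j0) := q' uB
  let c0 : σ → MvPolynomial ι (G j0) := fun s => q' (cB s)
  let w0 : Fin m → MvPolynomial ι (G j0) := fun k => q' (wB k)
  let d0 : SP → σ → MvPolynomial ι (G j0) := fun l s => q' (dB l s)
  have hv0 : ∀ s, MvPolynomial.map (g j0).toRingHom (v0 s) = PE.relation s :=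
    fun s => hq (Sum.inl s)
  have hu0 : MvPolynomial.map (g j0).toRingHom u0 = uB := hq (Sum.inr (Sum.inl ()))
  have hc0 : ∀ s, MvPolynomial.map (g j0).toRingHom (c0 s) = cB s :=
    fun s => hq (Sum.inr (Sum.inr (Sum.inl s)))
  have hw0 : ∀ k, MvPolynomial.map (g j0).toRingHom (w0 k) = wB k :=
    fun k => hq (Sum.inr (Sum.inr (Sum.inr (Sum.inl k))))
  have hd0 : ∀ l s, MvPolynomial.map (g j0).toRingHom (d0 l s) = dB l s :=
    fun l s => hq (Sum.inr (Sum.inr (Sum.inr (Sum.inr (l, s)))))
  -- the error terms die in `B`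
  have hk1 : MvPolynomial.map (g j0).toRingHom (err1 PE.map v0 u0 c0) = 0 := by
    rw [map_err1]
    simp only [hv0, hu0, hc0]
    exact hE1B
  have hk2 : ∀ l : SP, MvPolynomial.map (g j0).toRingHom (err2 w0 l.1 (d0 l) v0) = 0 := by
    intro l
    rw [map_err2]
    simp only [hv0, hw0, hd0]
    exact hE2B l
  obtain ⟨j1, φ, hφ, hkill⟩ := Sys.kill_polys H j0
    (insert (err1 PE.map v0 u0 c0) (Finset.univ.image fun l : SP => err2 w0 l.1 (d0 l) v0)) (by
      intro p hp
      rcases Finset.mem_insert.1 hp with rfl | hp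
      · exact hk1
      · obtain ⟨l, -, rfl⟩ := Finset.mem_image.1 hp
        exact hk2 l)
  -- the data at the stage `j1`
  let v1 : σ → MvPolynomial ι (G j1) := fun s => MvPolynomial.map φ.toRingHom (v0 s)
  let u1 : MvPolynomial ι (G j1) := MvPolynomial.map φ.toRingHom u0
  let c1 : σ → MvPolynomial ι (G j1) := fun s => MvPolynomial.map φ.toRingHom (c0 s)
  let w1 : Fin m → MvPolynomial ι (G j1) := fun k => MvPolynomial.map φ.toRingHom (w0 k)
  let d1 : SP → σ → MvPolynomial ι (G j1) := fun l s => MvPolynomial.map φ.toRingHom (d0 l s)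
  have hE1 : err1 PE.map v1 u1 c1 = 0 := by
    have h1 := hkill _ (Finset.mem_insert_self _ _)
    rw [map_err1] at h1
    exact h1
  have hE2 : ∀ l : SP, err2 w1 l.1 (d1 l) v1 = 0 := by
    intro l
    have h1 := hkill _ (Finset.mem_insert_of_mem
      (Finset.mem_image_of_mem (fun l : SP => err2 w0 l.1 (d0 l) v0) (Finset.mem_univ l)))
    rw [map_err2] at h1
    exact h1
  have hgφ : ∀ r : MvPolynomial ι (G j0),
      MvPolynomial.map (g j1).toRingHom (MvPolynomial.map φ.toRingHom r) =
        MvPolynomial.map (g j0).toRingHom r := by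
    intro r
    rw [MvPolynomial.map_map]
    exact congrArg (fun t : G j0 →+* B => MvPolynomial.map t r)
      (congrArg (fun t : G j0 →ₐ[A] B => t.toRingHom) hφ)
  have hv1 : ∀ s, MvPolynomial.map (g j1).toRingHom (v1 s) = PE.relation s := fun s => by
    show MvPolynomial.map (g j1).toRingHom (MvPolynomial.map φ.toRingHom (v0 s)) = _
    rw [hgφ, hv0]
  have hw1 : ∀ k, MvPolynomial.map (g j1).toRingHom (w1 k) = wB k := fun k => by
    show MvPolynomial.map (g j1).toRingHom (MvPolynomial.map φ.toRingHom (w0 k)) = _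
    rw [hgφ, hw0]
  -- the étale stage algebra
  haveI := hG j1
  haveI : Algebra.Etale (G j1) (MvPolynomial ι (G j1) ⧸ Ideal.span (Set.range v1)) :=
    etale_of_jacobian hdim PE.map PE.map_inj v1 u1 c1 hE1
  haveI : Algebra.Etale A (MvPolynomial ι (G j1) ⧸ Ideal.span (Set.range v1)) :=
    Algebra.Etale.comp A (G j1) _
  -- the map to `E`
  have hκ0 : ∀ r ∈ Ideal.span (Set.range v1), evalStage (g j1) PE.val r = 0 := by
    intro r hr
    have hle : Ideal.span (Set.range v1) ≤ RingHom.ker (evalStage (g j1) PE.val).toRingHom := by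
      refine Ideal.span_le.2 ?_
      rintro _ ⟨s, rfl⟩
      show evalStage (g j1) PE.val (v1 s) = 0
      rw [evalStage_apply, hv1, hrel]
    exact hle hr
  let κ' : (MvPolynomial ι (G j1) ⧸ Ideal.span (Set.range v1)) →ₐ[A] E :=
    Ideal.Quotient.liftₐ _ (evalStage (g j1) PE.val) hκ0
  -- the map from `P`
  let α0 : MvPolynomial (Fin m) A →ₐ[A] (MvPolynomial ι (G j1) ⧸ Ideal.span (Set.range v1)) :=
    (Ideal.Quotient.mkₐ A (Ideal.span (Set.range v1))).comp (aeval w1)
  have hα0 : ∀ q ∈ RingHom.ker fp.toRingHom, α0 q = 0 := by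
    intro q hq
    rw [← hSP] at hq
    have hle : Ideal.span (SP : Set (MvPolynomial (Fin m) A)) ≤ RingHom.ker α0.toRingHom := by
      refine Ideal.span_le.2 ?_
      intro p hp
      show Ideal.Quotient.mk (Ideal.span (Set.range v1)) (aeval w1 p) = 0
      have h1 : aeval w1 p = ∑ s, d1 ⟨p, hp⟩ s * v1 s := by
        have h2 := hE2 ⟨p, hp⟩
        unfold err2 at h2
        exact sub_eq_zero.1 h2
      rw [h1]
      exact Ideal.Quotient.eq_zero_iff_mem.2
        (Ideal.sum_mem _ (fun s _ => Ideal.mul_mem_left _ _ (Ideal.subset_span ⟨s, rfl⟩)))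
    exact hle hq
  let α : P →ₐ[A] (MvPolynomial ι (G j1) ⧸ Ideal.span (Set.range v1)) :=
    (Ideal.Quotient.liftₐ (RingHom.ker fp.toRingHom) α0 hα0).comp
      (Ideal.quotientKerAlgEquivOfSurjective hfp).symm.toAlgHom
  refine ⟨MvPolynomial ι (G j1) ⧸ Ideal.span (Set.range v1), inferInstance, inferInstance,
    inferInstance, α, κ', ?_⟩
  ext p
  obtain ⟨q, rfl⟩ := hfp p
  have h1 : (Ideal.quotientKerAlgEquivOfSurjective hfp).symm (fp q) =
      Ideal.Quotient.mk _ q := by
    apply (Ideal.quotientKerAlgEquivOfSurjective hfp).injective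
    rw [AlgEquiv.apply_symm_apply]
    rfl
  show κ' (Ideal.Quotient.liftₐ _ α0 hα0
    ((Ideal.quotientKerAlgEquivOfSurjective hfp).symm (fp q))) = f (fp q)
  rw [h1]
  show κ' (α0 q) = f (fp q)
  have h2 : κ'.comp α0 = f.comp fp := by
    apply MvPolynomial.algHom_ext
    intro k
    show evalStage (g j1) PE.val (aeval w1 (X k)) = f (fp (X k))
    rw [aeval_X, evalStage_apply, hw1, hwB]
  exact congrArg (fun t : MvPolynomial (Fin m) A →ₐ[A] E => t q) h2

end Main

section Trans

variable {A B C : Type u} [CommRing A] [CommRing B] [CommRing C] [Algebra A B] [Algebra B C]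
  [Algebra A C] [IsScalarTower A B C]

/-- ind-étale ring maps compose. -/
theorem isIndEtale_trans (hAB : EtPBC.IsIndEtale A B) (hBC : EtPBC.IsIndEtale B C) :
    EtPBC.IsIndEtale A C := by
  obtain ⟨J, iJ, iF, D, c, hc, hD, ⟨e⟩⟩ := hAB
  letI algR : ∀ j, Algebra A (D.obj j).right := fun j => (D.obj j).hom.hom.toAlgebra
  obtain ⟨ψ, H⟩ := exists_sys_of_isColimit D c hc e
  obtain ⟨J', iJ', iF', D', c', hc', hD', ⟨e'⟩⟩ := hBC
  letI algR' : ∀ j, Algebra B (D'.obj j).right := fun j => (D'.obj j).hom.hom.toAlgebra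
  obtain ⟨ψ', H'⟩ := exists_sys_of_isColimit D' c' hc' e'
  letI algA' : ∀ j, Algebra A (D'.obj j).right := fun j =>
    ((algebraMap B (D'.obj j).right).comp (algebraMap A B)).toAlgebra
  haveI : ∀ j, IsScalarTower A B (D'.obj j).right := fun j =>
    IsScalarTower.of_algebraMap_eq (fun _ => rfl)
  have H'' := Sys.restrict (A := A) H'
  refine isIndEtale_of_fact ?_
  intro P _ _ _ f
  obtain ⟨j, τ, hτ⟩ := Sys.exists_factor H'' P f
  haveI : Algebra.Etale B (D'.obj j).right := hD' j
  obtain ⟨E', i1, i2, i3, a, b, hab⟩ :=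
    fact_of_etale_over_sys (E := (D'.obj j).right) H hD P τ
  exact ⟨E', i1, i2, i3, a, ((ψ' j).restrictScalars A).comp b, by
    rw [AlgHom.comp_assoc, hab]; exact hτ⟩

end Trans

end Groth.Agent.H12.IndEt
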