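import Mathlib
import Groth.Prelude.Def_DDual2
import Groth.Agent.H12.DualDepth

/-!
# (NEQ) the shift of a dualizing complex is determined by its cohomological support
(helper12, provider piece for helper46's S11187 squad)
-/

set_option autoImplicit false
universe u
open CategoryTheory Limits MonoidalCategory
attribute [local instance] HasDerivedCategory.standard

namespace Groth.Agent.H12.Inv2_NEQ

open DerivedCategory

/-- (NEQ) -/
theorem NEQ (A : Type u) [CommRing A] [Nontrivial A] (ω₁ ω₂ : Dual.D A)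
    (h₁ : Dual.IsDualizing A ω₁)
    (hsupp : ∀ i : ℤ, Subsingleton (Dual.HD A ω₁ i) ↔ Subsingleton (Dual.HD A ω₂ i))
    (n n' : ℤ) (e : ω₁⟦n⟧ ≅ ω₂⟦n'⟧) : n = n' := by
  -- cohomology of a shift
  have hshift : ∀ (K : Dual.D A) (m i : ℤ),
      Subsingleton (Dual.HD A (K⟦m⟧) i) ↔ Subsingleton (Dual.HD A K (i + m)) := by
    intro K m i
    have s : (homologyFunctor (ModuleCat.{u} A) i).obj (K⟦m⟧) ≅
        (homologyFunctor (ModuleCat.{u} A) (i + m)).obj K :=
      ((homologyFunctor (ModuleCat.{u} A) 0).shiftIso m i (i + m) (by omega)).app K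
    exact s.toLinearEquiv.toEquiv.subsingleton_congr
  have hkey : ∀ j : ℤ, Subsingleton (Dual.HD A ω₁ (j + n)) ↔
      Subsingleton (Dual.HD A ω₁ (j + n')) := by
    intro j
    have s : (homologyFunctor (ModuleCat.{u} A) j).obj (ω₁⟦n⟧) ≅
        (homologyFunctor (ModuleCat.{u} A) j).obj (ω₂⟦n'⟧) :=
      (homologyFunctor (ModuleCat.{u} A) j).mapIso e
    have h2 : Subsingleton (Dual.HD A (ω₁⟦n⟧) j) ↔ Subsingleton (Dual.HD A (ω₂⟦n'⟧) j) :=
      s.toLinearEquiv.toEquiv.subsingleton_congr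
    exact ((hshift ω₁ n j).symm.trans h2).trans ((hshift ω₂ n' j).trans (hsupp (j + n')).symm)
  -- boundedness below
  obtain ⟨a, b, hab⟩ := h₁.finite_injective_dimension
  have hlow : ∀ z : ℤ, ¬ Subsingleton (Dual.HD A ω₁ z) → a ≤ z := by
    intro z hz
    by_contra hza
    apply hz
    haveI hs : Subsingleton (Dual.inD A A ⟶ ω₁⟦z⟧) := hab A z (Or.inl (by omega))
    have hv : Groth.Agent.H12.DualDepth.Van ω₁ z (ModuleCat.of A A) :=
      (Groth.Agent.H12.DualDepth.van_iff_subsingleton ω₁ z (ModuleCat.of A A)).2 hs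
    exact ModuleCat.subsingleton_of_isZero
      (Groth.Agent.H12.DualDepth.isZero_homology_of_van ω₁ z hv)
  -- nonemptiness
  have hne : ∃ z : ℤ, ¬ Subsingleton (Dual.HD A ω₁ z) := by
    by_contra hcon
    push_neg at hcon
    have hz : ∀ i : ℤ, IsZero ((homologyFunctor (ModuleCat.{u} A) i).obj ω₁) := fun i =>
      haveI := hcon i
      ModuleCat.isZero_of_subsingleton _
    haveI : ω₁.IsLE 0 := (DerivedCategory.isLE_iff ω₁ 0).2 (fun i _ => hz i)
    haveI : ω₁.IsGE 1 := (DerivedCategory.isGE_iff ω₁ 1).2 (fun i _ => hz i)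
    have hzero : IsZero ω₁ := DerivedCategory.TStructure.t.isZero ω₁ 0 1
    have h10 : (1 : A) • 𝟙 ω₁ = (0 : A) • 𝟙 ω₁ := hzero.eq_of_src _ _
    exact one_ne_zero (h₁.toEnd_bijective.1 h10)
  obtain ⟨m, hm, hmin⟩ := Int.exists_least_of_bdd
    (P := fun z => ¬ Subsingleton (Dual.HD A ω₁ z)) ⟨a, hlow⟩ hne
  by_contra hnn
  rcases lt_or_gt_of_ne hnn with hlt | hgt
  · -- n < n': translate the minimum down by n' - n
    have h3 := hkey (m - n')
    have e1 : m - n' + n' = m := by omega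
    rw [e1] at h3
    have h4 : ¬ Subsingleton (Dual.HD A ω₁ (m - n' + n)) := fun h => hm (h3.1 h)
    have := hmin _ h4
    omega
  · have h3 := hkey (m - n)
    have e1 : m - n + n = m := by omega
    rw [e1] at h3
    have h4 : ¬ Subsingleton (Dual.HD A ω₁ (m - n + n')) := fun h => hm (h3.2 h)
    have := hmin _ h4
    omega

end Groth.Agent.H12.Inv2_NEQ
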