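import Mathlib
import Groth.Agent.H57.FibLF.Defs
import Groth.Agent.H57.RelAssBC2
import Groth.Agent.H57.FibLocFree
import Groth.Agent.H17.KerLocFree
import Groth.Agent.H54.LF_ISO
import Groth.Agent.H8.PullbackFinType

/-!
# (LF-BC) the fibrewise finite-locally-free locus commutes with base change
(helper12, provider piece (hedge) for helper57's S4819 squad)
-/

set_option autoImplicit false
set_option linter.style.haveILetI false
universe u
open AlgebraicGeometry CategoryTheory Limits TopologicalSpace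
open Groth.Agent.H57.FibLF

namespace Groth.Agent.H12.LF_BC

/-- finite local freeness of a coherent module descends and ascends along a flat surjective
morphism of locally Noetherian schemes. -/
theorem isFinLocFree_pullback_iff {W W' : Scheme.{u}} [IsLocallyNoetherian W]
    [IsLocallyNoetherian W'] (Φ : W' ⟶ W) [Flat Φ] (hsurj : Function.Surjective Φ)
    (G : W.Modules) (hG : Coh.IsCoh G) :
    FlatMod.IsFinLocFree ((Scheme.Modules.pullback Φ).obj G) ↔ FlatMod.IsFinLocFree G := by
  haveI : G.IsQuasicoherent := hG.1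
  haveI : SheafOfModules.IsFiniteType (R := W.ringCatSheaf) G := hG.2
  have hcoh' : Coh.IsCoh ((Scheme.Modules.pullback Φ).obj G) :=
    ⟨Groth.Agent.H8.isQuasicoherent_pullback _ G, Groth.Agent.H8.isFiniteType_pullback _ G⟩
  constructor
  · intro h'
    refine Groth.Agent.H17.KerLocFree.isFinLocFree_of_free_stalks G hG (fun w => ?_)
    obtain ⟨w', rfl⟩ := hsurj w
    have hfree' := Groth.Agent.H17.KerLocFree.free_stalk_of_isFinLocFree h' w'
    letI alg : Algebra (W.presheaf.stalk (Φ w')) (W'.presheaf.stalk w') :=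
      (Φ.stalkMap w').hom.toAlgebra
    obtain ⟨e⟩ := Groth.Agent.H8.nonempty_stalk_pullback_equiv Φ G w'
    haveI : Module.Free (W'.presheaf.stalk w')
        (TensorProduct (W.presheaf.stalk (Φ w')) (W'.presheaf.stalk w')
          (G.presheaf.stalk (Φ w'))) := Module.Free.of_equiv e
    haveI : Module.Flat (W.presheaf.stalk (Φ w')) (W'.presheaf.stalk w') := Flat.stalkMap Φ w'
    haveI : IsLocalHom (algebraMap (W.presheaf.stalk (Φ w')) (W'.presheaf.stalk w')) :=
      (inferInstance : IsLocalHom (Φ.stalkMap w').hom)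
    haveI : Module.FaithfullyFlat (W.presheaf.stalk (Φ w')) (W'.presheaf.stalk w') :=
      Module.FaithfullyFlat.of_flat_of_isLocalHom
    haveI : Module.Flat (W.presheaf.stalk (Φ w')) (G.presheaf.stalk (Φ w')) :=
      Module.Flat.of_flat_tensorProduct _ _ (W'.presheaf.stalk w')
    haveI : Module.Finite (W.presheaf.stalk (Φ w')) (G.presheaf.stalk (Φ w')) :=
      Groth.Agent.H8.finite_stalk_of_isCoh G hG _
    haveI : IsNoetherianRing (W.presheaf.stalk (Φ w')) := inferInstance
    haveI : Module.FinitePresentation (W.presheaf.stalk (Φ w')) (G.presheaf.stalk (Φ w')) :=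
      Module.finitePresentation_of_finite _ _
    exact Module.free_of_flat_of_isLocalRing
  · intro h w'
    revert w'
    refine Groth.Agent.H17.KerLocFree.isFinLocFree_of_free_stalks _ hcoh' (fun w' => ?_)
    haveI := Groth.Agent.H17.KerLocFree.free_stalk_of_isFinLocFree h (Φ w')
    letI alg : Algebra (W.presheaf.stalk (Φ w')) (W'.presheaf.stalk w') :=
      (Φ.stalkMap w').hom.toAlgebra
    obtain ⟨e⟩ := Groth.Agent.H8.nonempty_stalk_pullback_equiv Φ G w'
    exact Module.Free.of_equiv e.symm

/-- (LF-BC) -/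
theorem lf_preimage {X X' S S' : Scheme.{u}} (f : X ⟶ S) [LocallyOfFiniteType f]
    (F : X.Modules) (hF : Coh.IsCoh F) (g : S' ⟶ S) (f' : X' ⟶ S') (g' : X' ⟶ X)
    (sq : IsPullback g' f' f g) :
    LF f' ((Scheme.Modules.pullback g').obj F) = g ⁻¹' LF f F := by
  haveI : LocallyOfFiniteType f' := MorphismProperty.of_isPullback sq ‹_›
  haveI : F.IsQuasicoherent := hF.1
  haveI : SheafOfModules.IsFiniteType (R := X.ringCatSheaf) F := hF.2
  ext s'
  have hsq := isPullback_fiberToSpecResidueField_of_isPullback sq s'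
  obtain ⟨Φ, hΦ⟩ : ∃ Φ : f'.fiber s' ⟶ f.fiber (g s'), Φ = pullback.map _ _ _ _ g'
      (Spec.map (g.residueFieldMap s')) g sq.w.symm (by simp) := ⟨_, rfl⟩
  rw [← hΦ] at hsq
  have a3 : Φ ≫ f.fiberι (g s') = f'.fiberι s' ≫ g' := by
    rw [hΦ]; exact pullback.lift_fst _ _ _
  have hfl1 : Flat (Spec.map (g.residueFieldMap s')) :=
    Groth.Agent.H57.FibCmp.flat_specMap_residueFieldMap g s'
  haveI hΦfl : Flat Φ := MorphismProperty.of_isPullback hsq.flip hfl1
  haveI := Groth.Agent.H57.RelAssBC.isLocallyNoetherian_fiber f (g s')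
  haveI := Groth.Agent.H57.RelAssBC.isLocallyNoetherian_fiber f' s'
  have hsurj : Function.Surjective Φ := by
    intro w
    obtain ⟨b⟩ : Nonempty ↥(Spec (S'.residueField s')) :=
      inferInstanceAs (Nonempty (PrimeSpectrum (S'.residueField s')))
    haveI : Subsingleton ↥(Spec (S.residueField (g s'))) :=
      inferInstanceAs (Subsingleton (PrimeSpectrum (S.residueField (g s'))))
    obtain ⟨w'₀, hw'₀, -⟩ := Groth.Agent.H49.NearFibre.exists_preimage_of_isPullback hsq w b
      (Subsingleton.elim _ _)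
    exact ⟨w'₀, hw'₀⟩
  have hcohG : Coh.IsCoh ((Scheme.Modules.pullback (f.fiberι (g s'))).obj F) :=
    ⟨Groth.Agent.H8.isQuasicoherent_pullback _ F, Groth.Agent.H8.isFiniteType_pullback _ F⟩
  let e := Groth.Agent.H57.pullbackPullbackIso₂ (f'.fiberι s') g' Φ (f.fiberι (g s')) a3.symm F
  exact (Groth.Agent.H54.LF_ISO.isFinLocFree_iff_of_iso e).trans
    (isFinLocFree_pullback_iff Φ hsurj _ hcohG)

end Groth.Agent.H12.LF_BC
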