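import Mathlib
import Groth.Agent.H57.FibLF.Defs
import Groth.Agent.H57.FibLocFree
import Groth.Agent.H57.GenFlatSch
import Groth.Agent.H17.KerLocFree
import Groth.Agent.H8.PullbackFinType

/-!
# (LF-DICH) generic dichotomy for the fibrewise finite-locally-free locus
(helper12, provider piece for helper57's S4819 squad)
-/

set_option autoImplicit false
set_option linter.style.haveILetI false
universe u
open AlgebraicGeometry CategoryTheory Limits TopologicalSpace TensorProduct IsLocalRing
open Groth.Agent.H57.FibLF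

namespace Groth.Agent.H12.LF_DICH

/-- pointwise version of `Groth.Agent.H57.FibLocFree.free_stalk_fiber_iff` (same proof; flatness
is only used at the point). -/
theorem free_stalk_fiber_iff_at {X S : Scheme.{u}} [IsLocallyNoetherian X] [IsLocallyNoetherian S]
    (f : X ⟶ S) [LocallyOfFiniteType f] (F : X.Modules) (hF : Coh.IsCoh F)
    (s : S) (a : ↥(f.fiber s)) (hfl : FlatMod.IsFlatOverAt f F (f.fiberι s a)) :
    Module.Free ((f.fiber s).presheaf.stalk a)
        (((Scheme.Modules.pullback (f.fiberι s)).obj F).presheaf.stalk a) ↔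
      Module.Free (X.presheaf.stalk (f.fiberι s a)) (F.presheaf.stalk (f.fiberι s a)) := by
  haveI : F.IsQuasicoherent := hF.1
  haveI hfinM : Module.Finite (X.presheaf.stalk (f.fiberι s a))
      (F.presheaf.stalk (f.fiberι s a)) := Groth.Agent.H8.finite_stalk_of_isCoh F hF _
  obtain ⟨hsurj, hker⟩ := Groth.Agent.H9.stalkMap_fiberι_surjective_and_ker_eq f s a
  letI alg : Algebra (X.presheaf.stalk (f.fiberι s a)) ((f.fiber s).presheaf.stalk a) :=
    ((f.fiberι s).stalkMap a).hom.toAlgebra
  obtain ⟨e⟩ := Groth.Agent.H8.nonempty_stalk_pullback_equiv (f.fiberι s) F a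
  constructor
  · intro hfree
    by_cases hN : Nontrivial (F.presheaf.stalk (f.fiberι s a))
    · haveI := hfree
      -- flatness of the fibre module over the fibre ring
      have h1 : Module.Flat ((f.fiber s).presheaf.stalk a)
          (((Scheme.Modules.pullback (f.fiberι s)).obj F).presheaf.stalk a) := inferInstance
      have h2 := (Groth.Agent.H57.FibCmp.flat_iff_quot_flat_module
        (RingHom.id (X.presheaf.stalk (f.fiberι s a))) ((f.fiberι s).stalkMap a).hom
        ((f.fiberι s).stalkMap a).hom (RingHom.id ((f.fiber s).presheaf.stalk a))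
        hsurj hsurj rfl _ hker (by rw [Ideal.map_id]; exact hker) e).mp
        (Groth.Agent.H57.FibLocFree.flat_compHom_id.mpr h1)
      have h3 := (Groth.Agent.H57.FibLocFree.flat_quot_compHom_id _).mp h2
      -- apply the fibre criterion
      letI algA : Algebra (S.presheaf.stalk (f (f.fiberι s a))) (X.presheaf.stalk (f.fiberι s a)) :=
        (f.stalkMap (f.fiberι s a)).hom.toAlgebra
      letI modA : Module (S.presheaf.stalk (f (f.fiberι s a))) (F.presheaf.stalk (f.fiberι s a)) :=
        FlatMod.moduleStalkOver f F (f.fiberι s a)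
      haveI : IsScalarTower (S.presheaf.stalk (f (f.fiberι s a))) (X.presheaf.stalk (f.fiberι s a))
          (F.presheaf.stalk (f.fiberι s a)) := IsScalarTower.of_algebraMap_smul fun _ _ => rfl
      haveI : IsLocalHom (algebraMap (S.presheaf.stalk (f (f.fiberι s a)))
          (X.presheaf.stalk (f.fiberι s a))) :=
        (inferInstance : IsLocalHom (f.stalkMap (f.fiberι s a)).hom)
      haveI : LocallyOfFinitePresentation f :=
        LocallyOfFinitePresentation.iff_locallyOfFiniteType.mpr inferInstance
      have hEFP := Groth.Agent.H49.FibreCrit.isEssFinitePresentation_stalk f (f.fiberι s a)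
      haveI : IsNoetherianRing (X.presheaf.stalk (f.fiberι s a)) := inferInstance
      haveI : Module.FinitePresentation (X.presheaf.stalk (f.fiberι s a))
          (F.presheaf.stalk (f.fiberι s a)) := Module.finitePresentation_of_finite _ _
      haveI : Module.Flat (S.presheaf.stalk (f (f.fiberι s a))) (F.presheaf.stalk (f.fiberι s a)) :=
        hfl
      haveI := hN
      haveI : Module.Flat (X.presheaf.stalk (f.fiberι s a)) (F.presheaf.stalk (f.fiberι s a)) :=
        (Groth.Agent.S2106.result (R := S.presheaf.stalk (f (f.fiberι s a)))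
          (S := X.presheaf.stalk (f.fiberι s a)) (S' := X.presheaf.stalk (f.fiberι s a))
          (M := F.presheaf.stalk (f.fiberι s a)) hEFP hEFP h3).2
      exact Module.free_of_flat_of_isLocalRing
    · rw [not_nontrivial_iff_subsingleton] at hN
      haveI := hN
      exact Module.Free.of_subsingleton _ _
  · intro hfree
    haveI := hfree
    exact Module.Free.of_equiv e.symm


/-- a constructible subset of a space with a generic point `η` contains an open neighbourhood of
`η`, or its complement does. -/
theorem dichotomy_of_isConstructible {α : Type*} [TopologicalSpace α] (η : α)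
    (hη : closure {η} = Set.univ) {C : Set α} (hC : Topology.IsConstructible C) :
    (∃ V : Set α, IsOpen V ∧ η ∈ V ∧ V ⊆ C) ∨ (∃ V : Set α, IsOpen V ∧ η ∈ V ∧ V ⊆ Cᶜ) := by
  induction hC using Topology.IsConstructible.empty_union_induction with
  | open_retrocompact U hUo hUc =>
    by_cases h : η ∈ U
    · exact Or.inl ⟨U, hUo, h, subset_rfl⟩
    · right
      refine ⟨Set.univ, isOpen_univ, Set.mem_univ _, ?_⟩
      have h1 : closure {η} ⊆ Uᶜ :=
        closure_minimal (Set.singleton_subset_iff.2 h) hUo.isClosed_compl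
      rwa [hη] at h1
  | union s hs t ht ihs iht =>
    rcases ihs with ⟨V, hV, hηV, hVs⟩ | ⟨V, hV, hηV, hVs⟩
    · exact Or.inl ⟨V, hV, hηV, hVs.trans Set.subset_union_left⟩
    · rcases iht with ⟨W, hW, hηW, hWt⟩ | ⟨W, hW, hηW, hWt⟩
      · exact Or.inl ⟨W, hW, hηW, hWt.trans Set.subset_union_right⟩
      · right
        refine ⟨V ∩ W, hV.inter hW, ⟨hηV, hηW⟩, ?_⟩
        rw [Set.compl_union]
        exact Set.inter_subset_inter hVs hWt
  | compl s hs ih =>
    rcases ih with h | h
    · right
      rwa [compl_compl]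
    · left
      exact h

/-- (LF-DICH) -/
theorem lf_dichotomy {X S : Scheme.{u}} [IsIntegral S] [IsNoetherian S]
    (f : X ⟶ S) [LocallyOfFiniteType f] [QuasiCompact f]
    (F : X.Modules) (hF : Coh.IsCoh F) :
    ∃ U : S.Opens, genericPoint S ∈ U ∧ ((∀ s ∈ U, s ∈ LF f F) ∨ (∀ s ∈ U, s ∉ LF f F)) := by
  haveI hLN : IsLocallyNoetherian X := LocallyOfFiniteType.isLocallyNoetherian f
  haveI hCS : CompactSpace X := QuasiCompact.compactSpace_of_compactSpace f
  haveI : IsNoetherian X := { toIsLocallyNoetherian := hLN, toCompactSpace := hCS }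
  haveI : F.IsQuasicoherent := hF.1
  obtain ⟨U₁, hU₁ne, hU₁⟩ := Groth.Agent.H57.exists_open_isFlatOverAt (u := f) (F := F)
    (fun W hW => Groth.Agent.H8.finite_sections_of_isCoh F hF hW)
  have hη : closure ({genericPoint S} : Set S) = Set.univ := (genericPoint_spec S).def
  have hηU₁ : genericPoint S ∈ U₁ := by
    obtain ⟨y, hy⟩ := hU₁ne
    exact ((genericPoint_spec S).mem_open_set_iff U₁.isOpen).2 ⟨y, trivial, hy⟩
  have hZclosed : IsClosed {x : X | Module.Free (X.presheaf.stalk x) (F.presheaf.stalk x)}ᶜ :=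
    (Groth.Agent.H57.FibLocFree.isOpen_free_locus F hF).isClosed_compl
  have hZc : Topology.IsConstructible
      {x : X | Module.Free (X.presheaf.stalk x) (F.presheaf.stalk x)}ᶜ := by
    have h1 : Topology.IsConstructible
        {x : X | Module.Free (X.presheaf.stalk x) (F.presheaf.stalk x)} :=
      IsRetrocompact.isConstructible (Groth.Agent.H57.FibLocFree.isOpen_free_locus F hF)
        (by intro U _ _; exact NoetherianSpace.isCompact _)
    exact h1.compl
  haveI : LocallyOfFinitePresentation f :=
    LocallyOfFinitePresentation.iff_locallyOfFiniteType.mpr inferInstance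
  have hCc : Topology.IsConstructible
      (f '' {x : X | Module.Free (X.presheaf.stalk x) (F.presheaf.stalk x)}ᶜ) :=
    f.isConstructible_image hZc
  have hkey : ∀ s ∈ U₁, (s ∈ LF f F ↔
      s ∉ f '' {x : X | Module.Free (X.presheaf.stalk x) (F.presheaf.stalk x)}ᶜ) := by
    intro s hs
    haveI := Groth.Agent.H57.RelAssBC.isLocallyNoetherian_fiber f s
    have hcoh : Coh.IsCoh ((Scheme.Modules.pullback (f.fiberι s)).obj F) := by
      haveI : SheafOfModules.IsFiniteType (R := X.ringCatSheaf) F := hF.2
      exact ⟨Groth.Agent.H8.isQuasicoherent_pullback _ F, Groth.Agent.H8.isFiniteType_pullback _ F⟩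
    have hfa : ∀ a : ↥(f.fiber s), f (f.fiberι s a) = s := by
      intro a
      have h1 : f.fiberι s a ∈ Set.range (f.fiberι s) := Set.mem_range_self a
      rw [Scheme.Hom.range_fiberι] at h1
      exact h1
    have hflat : ∀ a : ↥(f.fiber s), FlatMod.IsFlatOverAt f F (f.fiberι s a) := by
      intro a
      refine hU₁ _ ?_
      have h2 := hfa a
      rw [← h2] at hs
      exact hs
    constructor
    · rintro hlf ⟨x, hx, hfx⟩
      obtain ⟨a, rfl⟩ : ∃ a : ↥(f.fiber s), f.fiberι s a = x :=
        ⟨(f.fiberHomeo s).symm ⟨x, hfx⟩, f.fiberι_fiberHomeo_symm s ⟨x, hfx⟩⟩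
      exact hx ((free_stalk_fiber_iff_at f F hF s a (hflat a)).mp
        (Groth.Agent.H17.KerLocFree.free_stalk_of_isFinLocFree hlf a))
    · intro h
      refine Groth.Agent.H17.KerLocFree.isFinLocFree_of_free_stalks _ hcoh (fun a => ?_)
      refine (free_stalk_fiber_iff_at f F hF s a (hflat a)).mpr ?_
      by_contra hnf
      exact h ⟨f.fiberι s a, hnf, hfa a⟩
  rcases dichotomy_of_isConstructible (genericPoint S) hη hCc with
    ⟨V, hV, hηV, hVC⟩ | ⟨V, hV, hηV, hVC⟩
  · refine ⟨U₁ ⊓ ⟨V, hV⟩, ⟨hηU₁, hηV⟩, Or.inr (fun s hs => ?_)⟩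
    exact fun hlf => ((hkey s hs.1).mp hlf) (hVC hs.2)
  · refine ⟨U₁ ⊓ ⟨V, hV⟩, ⟨hηU₁, hηV⟩, Or.inl (fun s hs => ?_)⟩
    exact (hkey s hs.1).mpr (hVC hs.2)

end Groth.Agent.H12.LF_DICH
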