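import Groth.Agent.H12.LocFun

/-!
# Exactness of a linear functor commuting with filtered colimits is local on the base
-/

set_option autoImplicit false
set_option linter.style.haveILetI false
set_option linter.unusedSectionVars false
universe u
open CategoryTheory CategoryTheory.Limits

namespace Groth.Agent.H12.LocExact

variable {A : Type u} [CommRing A] (S : Submonoid A)

/-- restriction of scalars along `A → S⁻¹A` -/
noncomputable abbrev res : ModuleCat.{u} (Localization S) ⥤ ModuleCat.{u} A :=
  ModuleCat.restrictScalars (algebraMap A (Localization S))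

/-- the localization, as a module over the localized ring -/
noncomputable abbrev locObj (M : ModuleCat.{u} A) : ModuleCat.{u} (Localization S) :=
  ModuleCat.of (Localization S) (LocalizedModule S M)

/-- the localization of a morphism -/
noncomputable def locMap {M N : ModuleCat.{u} A} (f : M ⟶ N) : locObj S M ⟶ locObj S N :=
  ModuleCat.ofHom (LocalizedModule.map S f.hom)

theorem locMap_comp {M N P : ModuleCat.{u} A} (f : M ⟶ N) (g : N ⟶ P) :
    locMap S (f ≫ g) = locMap S f ≫ locMap S g := by
  apply ModuleCat.hom_ext
  apply LinearMap.ext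
  intro x
  induction x using LocalizedModule.induction_on with
  | h m s =>
    show LocalizedModule.map S (f ≫ g).hom (LocalizedModule.mk m s) =
      LocalizedModule.map S g.hom (LocalizedModule.map S f.hom (LocalizedModule.mk m s))
    rw [LocalizedModule.map_mk, LocalizedModule.map_mk, LocalizedModule.map_mk]
    rfl

theorem locMap_zero {M N : ModuleCat.{u} A} : locMap S (0 : M ⟶ N) = 0 := by
  apply ModuleCat.hom_ext
  rw [ModuleCat.hom_zero]
  show LocalizedModule.map S (0 : M ⟶ N).hom = 0
  rw [ModuleCat.hom_zero, map_zero]

/-- the localized short complex -/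
noncomputable def locSC (X : ShortComplex (ModuleCat.{u} A)) :
    ShortComplex (ModuleCat.{u} (Localization S)) :=
  ShortComplex.mk (locMap S X.f) (locMap S X.g) (by rw [← locMap_comp, X.zero, locMap_zero])

theorem locSC_shortExact (X : ShortComplex (ModuleCat.{u} A)) (hX : X.ShortExact) :
    (locSC S X).ShortExact := by
  have hex : Function.Exact X.f.hom X.g.hom :=
    (ShortComplex.ShortExact.moduleCat_exact_iff_function_exact X).mp hX.exact
  have hinj : Function.Injective X.f.hom := hX.moduleCat_injective_f
  have hsurj : Function.Surjective X.g.hom := hX.moduleCat_surjective_g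
  have h1 : Mono (locSC S X).f :=
    (ModuleCat.mono_iff_injective _).mpr (LocalizedModule.map_injective S X.f.hom hinj)
  have h2 : Epi (locSC S X).g :=
    (ModuleCat.epi_iff_surjective _).mpr (LocalizedModule.map_surjective S X.g.hom hsurj)
  exact
    { exact := (ShortComplex.ShortExact.moduleCat_exact_iff_function_exact _).mpr
        (LocalizedModule.map_exact S X.f.hom X.g.hom hex)
      mono_f := h1
      epi_g := h2 }

/-- the identity, as an `A`-linear equivalence between the two `A`-module structures on `M_S` -/
noncomputable def resEquiv (M : ModuleCat.{u} A) :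
    LocalizedModule S M ≃ₗ[A] ((res S).obj (locObj S M)) where
  toFun x := x
  invFun x := x
  map_add' _ _ := rfl
  map_smul' a x := by
    show a • x = algebraMap A (Localization S) a • x
    exact (algebraMap_smul (Localization S) a x).symm
  left_inv _ := rfl
  right_inv _ := rfl

/-- the localization map `M → (M_S)|_A` -/
noncomputable def ι (M : ModuleCat.{u} A) : M ⟶ (res S).obj (locObj S M) :=
  (ModuleCat.ofHom (LocalizedModule.mkLinearMap S M) : M ⟶ ModuleCat.of A (LocalizedModule S M)) ≫
    (resEquiv S M).toModuleIso.hom

theorem ι_naturality {M N : ModuleCat.{u} A} (f : M ⟶ N) :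
    ι S M ≫ (res S).map (locMap S f) = f ≫ ι S N := by
  apply ModuleCat.hom_ext
  apply LinearMap.ext
  intro x
  show LocalizedModule.map S f.hom (LocalizedModule.mk x 1) = LocalizedModule.mk (f.hom x) 1
  exact LocalizedModule.map_mk S f.hom x 1

variable (T : ModuleCat.{u} A ⥤ ModuleCat.{u} A) [T.Additive] [T.Linear A]

theorem isLocalizedModule_ι
    (hT : ∀ (J : Type u) [SmallCategory J] [IsFiltered J], PreservesColimitsOfShape J T)
    (M : ModuleCat.{u} A) :
    IsLocalizedModule S (T.map (ι S M)).hom := by
  haveI h := LocFun.isLocalizedModule_map S M T hT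
  have h2 := IsLocalizedModule.of_linearEquiv S
    (T.map (ModuleCat.ofHom (LocalizedModule.mkLinearMap S M) :
      M ⟶ ModuleCat.of A (LocalizedModule S M))).hom
    (T.mapIso (resEquiv S M).toModuleIso).toLinearEquiv
  have h3 : (T.map (ι S M)).hom = ↑(T.mapIso (resEquiv S M).toModuleIso).toLinearEquiv ∘ₗ
      (T.map (ModuleCat.ofHom (LocalizedModule.mkLinearMap S M) :
        M ⟶ ModuleCat.of A (LocalizedModule S M))).hom := by
    unfold ι
    rw [T.map_comp]
    rfl
  rw [h3]
  exact h2

theorem map_eq {M N : ModuleCat.{u} A} (f : M ⟶ N)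
    [hM : IsLocalizedModule S (T.map (ι S M)).hom] [hN : IsLocalizedModule S (T.map (ι S N)).hom] :
    IsLocalizedModule.map S (T.map (ι S M)).hom (T.map (ι S N)).hom (T.map f).hom
      = ((res S ⋙ T).map (locMap S f)).hom := by
  apply IsLocalizedModule.ext S (T.map (ι S M)).hom
    (IsLocalizedModule.map_units (T.map (ι S N)).hom)
  have h1 : T.map (ι S M) ≫ (res S ⋙ T).map (locMap S f) = T.map f ≫ T.map (ι S N) := by
    rw [Functor.comp_map, ← T.map_comp, ι_naturality, T.map_comp]
  have h2 := congrArg ModuleCat.Hom.hom h1
  rw [IsLocalizedModule.map_comp]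
  exact h2.symm

section

variable (hT : ∀ (J : Type u) [SmallCategory J] [IsFiltered J], PreservesColimitsOfShape J T)
include hT

theorem injective_of_local {M N : ModuleCat.{u} A} (f : M ⟶ N)
    (H : ∀ (P : Ideal A) [P.IsMaximal],
      Function.Injective ((res P.primeCompl ⋙ T).map (locMap P.primeCompl f)).hom) :
    Function.Injective (T.map f).hom := by
  refine @injective_of_isLocalized_maximal A _ _ _ _ _ _ _
    (fun P _ => (T.obj ((res P.primeCompl).obj (locObj P.primeCompl M)) : Type u)) _ _
    (fun P _ => (T.map (ι P.primeCompl M)).hom)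
    (fun P _ => isLocalizedModule_ι P.primeCompl T hT M)
    (fun P _ => (T.obj ((res P.primeCompl).obj (locObj P.primeCompl N)) : Type u)) _ _
    (fun P _ => (T.map (ι P.primeCompl N)).hom)
    (fun P _ => isLocalizedModule_ι P.primeCompl T hT N)
    (T.map f).hom ?_
  intro P _
  haveI := isLocalizedModule_ι P.primeCompl T hT M
  haveI := isLocalizedModule_ι P.primeCompl T hT N
  have e := map_eq P.primeCompl T f
  rw [e]
  exact H P

theorem surjective_of_local {M N : ModuleCat.{u} A} (f : M ⟶ N)
    (H : ∀ (P : Ideal A) [P.IsMaximal],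
      Function.Surjective ((res P.primeCompl ⋙ T).map (locMap P.primeCompl f)).hom) :
    Function.Surjective (T.map f).hom := by
  refine @surjective_of_isLocalized_maximal A _ _ _ _ _ _ _
    (fun P _ => (T.obj ((res P.primeCompl).obj (locObj P.primeCompl M)) : Type u)) _ _
    (fun P _ => (T.map (ι P.primeCompl M)).hom)
    (fun P _ => isLocalizedModule_ι P.primeCompl T hT M)
    (fun P _ => (T.obj ((res P.primeCompl).obj (locObj P.primeCompl N)) : Type u)) _ _
    (fun P _ => (T.map (ι P.primeCompl N)).hom)
    (fun P _ => isLocalizedModule_ι P.primeCompl T hT N)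
    (T.map f).hom ?_
  intro P _
  haveI := isLocalizedModule_ι P.primeCompl T hT M
  haveI := isLocalizedModule_ι P.primeCompl T hT N
  have e := map_eq P.primeCompl T f
  rw [e]
  exact H P

theorem exact_of_local {M N L : ModuleCat.{u} A} (f : M ⟶ N) (g : N ⟶ L)
    (H : ∀ (P : Ideal A) [P.IsMaximal],
      Function.Exact ((res P.primeCompl ⋙ T).map (locMap P.primeCompl f)).hom
        ((res P.primeCompl ⋙ T).map (locMap P.primeCompl g)).hom) :
    Function.Exact (T.map f).hom (T.map g).hom := by
  refine @exact_of_isLocalized_maximal A _ _ _ _ _ _ _ _ _ _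
    (fun P _ => (T.obj ((res P.primeCompl).obj (locObj P.primeCompl M)) : Type u)) _ _
    (fun P _ => (T.map (ι P.primeCompl M)).hom)
    (fun P _ => isLocalizedModule_ι P.primeCompl T hT M)
    (fun P _ => (T.obj ((res P.primeCompl).obj (locObj P.primeCompl N)) : Type u)) _ _
    (fun P _ => (T.map (ι P.primeCompl N)).hom)
    (fun P _ => isLocalizedModule_ι P.primeCompl T hT N)
    (fun P _ => (T.obj ((res P.primeCompl).obj (locObj P.primeCompl L)) : Type u)) _ _
    (fun P _ => (T.map (ι P.primeCompl L)).hom)
    (fun P _ => isLocalizedModule_ι P.primeCompl T hT L)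
    (T.map f).hom (T.map g).hom ?_
  intro P _
  haveI := isLocalizedModule_ι P.primeCompl T hT M
  haveI := isLocalizedModule_ι P.primeCompl T hT N
  haveI := isLocalizedModule_ι P.primeCompl T hT L
  have e1 := map_eq P.primeCompl T f
  have e2 := map_eq P.primeCompl T g
  rw [e1, e2]
  exact H P

theorem preservesFiniteLimits_of_local
    (h : ∀ (m : Ideal A) [m.IsMaximal], PreservesFiniteLimits (res m.primeCompl ⋙ T)) :
    PreservesFiniteLimits T := by
  apply ((Functor.preservesFiniteLimits_tfae T).out 0 3).mp
  intro X hX
  have key : ∀ (P : Ideal A) [P.IsMaximal],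
      ((locSC P.primeCompl X).map (res P.primeCompl ⋙ T)).Exact ∧
        Mono ((res P.primeCompl ⋙ T).map (locSC P.primeCompl X).f) := by
    intro P _
    have h0 := ((Functor.preservesFiniteLimits_tfae (res P.primeCompl ⋙ T)).out 3 0).mp (h P)
    exact h0 _ (locSC_shortExact P.primeCompl X hX)
  constructor
  · apply (ShortComplex.ShortExact.moduleCat_exact_iff_function_exact _).mpr
    exact exact_of_local T hT X.f X.g (fun P _ =>
      (ShortComplex.ShortExact.moduleCat_exact_iff_function_exact _).mp (key P).1)
  · apply (ModuleCat.mono_iff_injective _).mpr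
    exact injective_of_local T hT X.f (fun P _ =>
      (ModuleCat.mono_iff_injective _).mp (key P).2)

theorem preservesFiniteColimits_of_local
    (h : ∀ (m : Ideal A) [m.IsMaximal], PreservesFiniteColimits (res m.primeCompl ⋙ T)) :
    PreservesFiniteColimits T := by
  apply ((Functor.preservesFiniteColimits_tfae T).out 0 3).mp
  intro X hX
  have key : ∀ (P : Ideal A) [P.IsMaximal],
      ((locSC P.primeCompl X).map (res P.primeCompl ⋙ T)).Exact ∧
        Epi ((res P.primeCompl ⋙ T).map (locSC P.primeCompl X).g) := by
    intro P _
    have h0 := ((Functor.preservesFiniteColimits_tfae (res P.primeCompl ⋙ T)).out 3 0).mp (h P)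
    exact h0 _ (locSC_shortExact P.primeCompl X hX)
  constructor
  · apply (ShortComplex.ShortExact.moduleCat_exact_iff_function_exact _).mpr
    exact exact_of_local T hT X.f X.g (fun P _ =>
      (ShortComplex.ShortExact.moduleCat_exact_iff_function_exact _).mp (key P).1)
  · apply (ModuleCat.epi_iff_surjective _).mpr
    exact surjective_of_local T hT X.g (fun P _ =>
      (ModuleCat.epi_iff_surjective _).mp (key P).2)

end

end Groth.Agent.H12.LocExact
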