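import Groth.Agent.H82.FiltColim

/-!
# Linear functors commuting with filtered colimits commute with localization
-/

set_option autoImplicit false
set_option linter.style.haveILetI false
set_option linter.unusedSectionVars false
universe u
open CategoryTheory CategoryTheory.Limits

namespace Groth.Agent.H12.LocFun

variable {A : Type u} [CommRing A] (S : Submonoid A)

/-- Denominators, as a filtered category: a morphism `s ⟶ t` is a `w ∈ S` with `w * s = t`. -/
structure Den : Type u where
  /-- the denominator -/
  val : S

namespace Den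

variable {S}

instance : Category.{u} (Den S) where
  Hom s t := {w : S // w * s.val = t.val}
  id s := ⟨1, one_mul _⟩
  comp f g := ⟨g.1 * f.1, by rw [mul_assoc, f.2, g.2]⟩
  id_comp f := Subtype.ext (mul_one _)
  comp_id f := Subtype.ext (one_mul _)
  assoc f g h := Subtype.ext (mul_assoc _ _ _).symm

instance : IsFiltered (Den S) where
  cocone_objs s t := ⟨⟨s.val * t.val⟩, ⟨t.val, mul_comm _ _⟩, ⟨s.val, rfl⟩, trivial⟩
  cocone_maps s t f g := ⟨⟨s.val * t.val⟩, ⟨s.val, rfl⟩, Subtype.ext (by
    show s.val * f.1 = s.val * g.1
    rw [mul_comm, f.2, mul_comm, g.2])⟩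
  nonempty := ⟨⟨1⟩⟩

end Den

variable (M : ModuleCat.{u} A)

/-- The constant diagram `M` with transition maps the multiplications. -/
noncomputable def diag : Den S ⥤ ModuleCat.{u} A where
  obj _ := M
  map f := ModuleCat.ofHom (LinearMap.lsmul A M (f.1 : A))
  map_id s := by
    apply ModuleCat.hom_ext
    apply LinearMap.ext
    intro x
    show ((1 : S) : A) • x = x
    simp
  map_comp f g := by
    apply ModuleCat.hom_ext
    apply LinearMap.ext
    intro x
    show ((g.1 * f.1 : S) : A) • x = (g.1 : A) • ((f.1 : A) • x)
    rw [Submonoid.coe_mul, mul_smul]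

/-- `m ↦ m / s`. -/
noncomputable def leg (s : S) : M →ₗ[A] LocalizedModule S M :=
  (LocalizedModule.divBy s) ∘ₗ (LocalizedModule.mkLinearMap S M)

theorem leg_apply (s : S) (m : M) : leg S M s m = LocalizedModule.mk m s := by
  show LocalizedModule.divBy s (LocalizedModule.mk m 1) = _
  rw [LocalizedModule.divBy_apply, LocalizedModule.liftOn_mk, one_mul]

/-- The localization as a cocone over `diag`. -/
noncomputable def cocone : Cocone (diag S M) where
  pt := ModuleCat.of A (LocalizedModule S M)
  ι :=
    { app := fun s => ModuleCat.ofHom (leg S M s.val)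
      naturality := by
        intro s t f
        apply ModuleCat.hom_ext
        apply LinearMap.ext
        intro (x : M)
        show leg S M t.val ((f.1 : A) • x) = leg S M s.val x
        rw [leg_apply, leg_apply]
        have h := LocalizedModule.mk_cancel_common_left f.1 s.val x
        rw [f.2] at h
        exact h }

theorem cocone_isColimit : Nonempty (IsColimit (cocone S M)) := by
  apply Groth.Agent.H82.FiltColim.nonempty_isColimit_of_rep
  · intro x
    induction x using LocalizedModule.induction_on with
    | h m s => exact ⟨⟨s⟩, m, leg_apply S M s m⟩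
  · intro s y hy
    have hy' : LocalizedModule.mk y s.val = 0 := by
      rw [← leg_apply]
      exact hy
    rw [← LocalizedModule.zero_mk s.val, LocalizedModule.mk_eq] at hy'
    obtain ⟨w, hw⟩ := hy'
    refine ⟨⟨w * s.val * s.val⟩, ⟨w * s.val, rfl⟩, ?_⟩
    show ((w * s.val : S) : A) • y = 0
    rw [smul_zero, smul_zero] at hw
    rw [Submonoid.coe_mul, mul_smul]
    exact hw

variable (T : ModuleCat.{u} A ⥤ ModuleCat.{u} A) [T.Additive] [T.Linear A]

theorem map_lsmul (X : ModuleCat.{u} A) (a : A) (x : T.obj X) :
    (T.map (ModuleCat.ofHom (LinearMap.lsmul A X a))).hom x = a • x := by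
  have h : ModuleCat.ofHom (LinearMap.lsmul A X a) = a • 𝟙 X := by
    apply ModuleCat.hom_ext
    apply LinearMap.ext
    intro y
    simp
  rw [h, Functor.map_smul, T.map_id]
  simp

theorem isLocalizedModule_map
    (hT : ∀ (J : Type u) [SmallCategory J] [IsFiltered J], PreservesColimitsOfShape J T) :
    IsLocalizedModule S (T.map (ModuleCat.ofHom (LocalizedModule.mkLinearMap S M) :
      M ⟶ ModuleCat.of A (LocalizedModule S M))).hom := by
  obtain ⟨hc⟩ := cocone_isColimit S M
  haveI := hT (Den S)
  have hc' := isColimitOfPreserves T hc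
  obtain ⟨hrep, hzero⟩ := Groth.Agent.H82.FiltColim.rep_of_isColimit hc'
  have hleg1 : leg S M 1 = LocalizedModule.mkLinearMap S M := by
    apply LinearMap.ext
    intro m
    rw [leg_apply]
    rfl
  have hsleg : ∀ s : S, (s : A) • (ModuleCat.ofHom (leg S M s) :
      M ⟶ ModuleCat.of A (LocalizedModule S M)) =
      (ModuleCat.ofHom (LocalizedModule.mkLinearMap S M) :
        M ⟶ ModuleCat.of A (LocalizedModule S M)) := by
    intro s
    apply ModuleCat.hom_ext
    apply LinearMap.ext
    intro m
    show (s : A) • leg S M s m = LocalizedModule.mkLinearMap S M m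
    rw [leg_apply, LocalizedModule.mkLinearMap_apply, LocalizedModule.smul'_mk]
    exact LocalizedModule.mk_cancel s m
  constructor
  · intro s
    rw [Module.End.isUnit_iff]
    have hiso : IsIso (ModuleCat.ofHom (LinearMap.lsmul A (LocalizedModule S M) (s : A))) := by
      refine ⟨⟨ModuleCat.ofHom (LocalizedModule.divBy s), ?_, ?_⟩⟩
      · apply ModuleCat.hom_ext
        apply LinearMap.ext
        intro p
        exact LocalizedModule.divBy_mul_by s p
      · apply ModuleCat.hom_ext
        apply LinearMap.ext
        intro p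
        exact LocalizedModule.mul_by_divBy s p
    have hiso' : IsIso (T.map (ModuleCat.ofHom
        (LinearMap.lsmul A (LocalizedModule S M) (s : A)))) := inferInstance
    have hbij := (ConcreteCategory.isIso_iff_bijective _).mp hiso'
    convert hbij using 1
    funext x
    exact (map_lsmul T _ (s : A) x).symm
  · intro y
    obtain ⟨s, y₀, hy⟩ := hrep y
    refine ⟨(y₀, s.val), ?_⟩
    have h1 : (T.map ((s.val : A) • (ModuleCat.ofHom (leg S M s.val) :
        M ⟶ ModuleCat.of A (LocalizedModule S M)))).hom y₀ =
        (s.val : A) • (T.map (ModuleCat.ofHom (leg S M s.val) :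
          M ⟶ ModuleCat.of A (LocalizedModule S M))).hom y₀ := by
      rw [Functor.map_smul]
      rfl
    show s.val • y = _
    rw [← hy, ← hsleg s.val, h1]
    rfl
  · intro x₁ x₂ h
    have h0 : (T.map (ModuleCat.ofHom (leg S M 1) :
        M ⟶ ModuleCat.of A (LocalizedModule S M))).hom (x₁ - x₂) = 0 := by
      rw [hleg1, map_sub, h, sub_self]
    obtain ⟨t, f, hf⟩ := hzero ⟨1⟩ (x₁ - x₂) h0
    refine ⟨f.1, ?_⟩
    have h1 := map_lsmul T M (f.1 : A) (x₁ - x₂)
    have h2 : (f.1 : A) • (x₁ - x₂) = 0 := by
      rw [← h1]
      exact hf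
    rw [smul_sub, sub_eq_zero] at h2
    exact h2

end Groth.Agent.H12.LocFun
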