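import Groth.Agent.H12.AcycLift5

/-!
# Minimal free representatives of pseudo-coherent complexes over a local ring (helper12)
-/

set_option autoImplicit false
set_option linter.style.haveILetI false
universe u
open CategoryTheory CategoryTheory.Limits TensorProduct
attribute [local instance] HasDerivedCategory.standard

namespace Groth.Agent.H12.MinRes

open Groth.Agent.H12.ECMLift Groth.Agent.H12.AcycLift

section Field

variable {k : Type u} [Field k]

theorem projective_of_field (V : ModuleCat.{u} k) : Projective V := by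
  haveI : Module.Free k V := Module.Free.of_divisionRing k V
  haveI : Module.Projective k V := Module.Projective.of_free
  exact (IsProjective.iff_projective (R := k) (P := V)).mp inferInstance

/-- the complex of cohomology modules, with zero differentials. -/
noncomputable def Hcx (C : CochainComplex (ModuleCat.{u} k) ℤ) :
    CochainComplex (ModuleCat.{u} k) ℤ where
  X i := C.homology i
  d _ _ := 0
  shape _ _ _ := rfl
  d_comp_d' _ _ _ _ _ := zero_comp

theorem Hcx_d (C : CochainComplex (ModuleCat.{u} k) ℤ) (i j : ℤ) : (Hcx C).d i j = 0 := rfl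

/-- a section of `cycles → homology`. -/
noncomputable def sec (C : CochainComplex (ModuleCat.{u} k) ℤ) (i : ℤ) :
    C.homology i ⟶ C.cycles i :=
  haveI := projective_of_field (C.homology i)
  Projective.factorThru (𝟙 _) (C.homologyπ i)

theorem sec_π (C : CochainComplex (ModuleCat.{u} k) ℤ) (i : ℤ) :
    sec C i ≫ C.homologyπ i = 𝟙 _ := by
  haveI := projective_of_field (C.homology i)
  exact Projective.factorThru_comp _ _

/-- the comparison map from the cohomology complex. -/
noncomputable def Hmap (C : CochainComplex (ModuleCat.{u} k) ℤ) : Hcx C ⟶ C where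
  f i := sec C i ≫ C.iCycles i
  comm' i j _ := by
    show (sec C i ≫ C.iCycles i) ≫ C.d i j = 0 ≫ (sec C j ≫ C.iCycles j)
    rw [Category.assoc, HomologicalComplex.iCycles_d, comp_zero, zero_comp]

instance quasiIso_Hmap (C : CochainComplex (ModuleCat.{u} k) ℤ) : QuasiIso (Hmap C) := by
  rw [quasiIso_iff]
  intro i
  rw [quasiIsoAt_iff_isIso_homologyMap]
  haveI h1 : IsIso ((Hcx C).iCycles i) :=
    (Hcx C).isIso_iCycles i (i + 1) (CochainComplex.next ℤ i) (Hcx_d C _ _)
  haveI h2 : IsIso ((Hcx C).homologyπ i) :=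
    (Hcx C).isIso_homologyπ (i - 1) i (CochainComplex.prev ℤ i) (Hcx_d C _ _)
  have hc : HomologicalComplex.cyclesMap (Hmap C) i = (Hcx C).iCycles i ≫ sec C i := by
    rw [← cancel_mono (C.iCycles i), HomologicalComplex.cyclesMap_i, Category.assoc]
    rfl
  have key : (Hcx C).homologyπ i ≫ HomologicalComplex.homologyMap (Hmap C) i =
      (Hcx C).iCycles i := by
    rw [HomologicalComplex.homologyπ_naturality, hc, Category.assoc]
    exact (congrArg (fun t => (Hcx C).iCycles i ≫ t) (sec_π C i)).trans (Category.comp_id _)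
  haveI : IsIso ((Hcx C).homologyπ i ≫ HomologicalComplex.homologyMap (Hmap C) i) := by
    rw [key]
    exact h1
  exact IsIso.of_isIso_comp_left ((Hcx C).homologyπ i) _

theorem iCycles_injective (C : CochainComplex (ModuleCat.{u} k) ℤ) (i : ℤ) :
    Function.Injective (C.iCycles i).hom :=
  (ModuleCat.mono_iff_injective _).mp inferInstance

theorem homologyπ_surjective (C : CochainComplex (ModuleCat.{u} k) ℤ) (i : ℤ) :
    Function.Surjective (C.homologyπ i).hom :=
  (ModuleCat.epi_iff_surjective _).mp inferInstance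

theorem finite_homology (C : CochainComplex (ModuleCat.{u} k) ℤ) (i : ℤ)
    [Module.Finite k (C.X i)] : Module.Finite k (C.homology i) := by
  haveI : Module.Finite k (C.cycles i) :=
    Module.Finite.of_injective (C.iCycles i).hom (iCycles_injective C i)
  exact Module.Finite.of_surjective (C.homologyπ i).hom (homologyπ_surjective C i)

theorem subsingleton_homology (C : CochainComplex (ModuleCat.{u} k) ℤ) (i : ℤ)
    [Subsingleton (C.X i)] : Subsingleton (C.homology i) := by
  haveI : Subsingleton (C.cycles i) := (iCycles_injective C i).subsingleton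
  exact (homologyπ_surjective C i).subsingleton

theorem d_eq_zero_of_finrank_eq (C : CochainComplex (ModuleCat.{u} k) ℤ)
    (hfin : ∀ i, Module.Finite k (C.X i))
    (h : ∀ i, Module.finrank k (C.homology i) = Module.finrank k (C.X i)) (i j : ℤ) :
    C.d i j = 0 := by
  haveI := hfin i
  have hinj := iCycles_injective C i
  have hsurj := homologyπ_surjective C i
  haveI : Module.Finite k (C.cycles i) := Module.Finite.of_injective (C.iCycles i).hom hinj
  have h1 : Module.finrank k (C.cycles i) ≤ Module.finrank k (C.X i) :=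
    LinearMap.finrank_le_finrank_of_injective hinj
  have h2 : Module.finrank k (C.homology i) ≤ Module.finrank k (C.cycles i) :=
    LinearMap.finrank_le_finrank_of_surjective hsurj
  have heq : Module.finrank k (C.cycles i) = Module.finrank k (C.X i) :=
    le_antisymm h1 ((h i).symm.le.trans h2)
  have hsurj' : Function.Surjective (C.iCycles i).hom :=
    (LinearMap.injective_iff_surjective_of_finrank_eq_finrank heq).mp hinj
  haveI : Epi (C.iCycles i) := (ModuleCat.epi_iff_surjective _).mpr hsurj'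
  exact Limits.zero_of_epi_comp (C.iCycles i) (C.iCycles_d i j)

end Field

section General

theorem bijective_f_of_quasiIso_of_d_zero {A : Type u} [CommRing A]
    {X Y : CochainComplex (ModuleCat.{u} A) ℤ} (f : X ⟶ Y) (hf : QuasiIso f)
    (hX : ∀ i j, X.d i j = 0) (hY : ∀ i j, Y.d i j = 0) (n : ℤ) :
    Function.Bijective (f.f n).hom := by
  have h := (quasiIso_iff_elem f).mp hf
  constructor
  · obtain ⟨p, rfl⟩ : ∃ p, n = p + 1 + 1 := ⟨n - 2, by ring⟩
    rw [injective_iff_map_eq_zero]
    intro x hx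
    obtain ⟨x', y', h1, -⟩ := h p x 0 (by rw [hX]; rfl) (by rw [hx, map_zero, add_zero])
    rw [← h1, hX]
    exact neg_zero
  · obtain ⟨p, rfl⟩ : ∃ p, n = p + 1 := ⟨n - 1, by ring⟩
    intro y
    obtain ⟨x', y', -, h2⟩ := h p 0 y (map_zero _) (by rw [map_zero, zero_add, hY]; rfl)
    refine ⟨x', ?_⟩
    rw [hY] at h2
    exact (add_zero _).symm.trans h2

theorem bijective_of_jacobson {R : Type u} [CommRing R] (I : Ideal R)
    (hI : I ≤ Ideal.jacobson (⊥ : Ideal R)) {X Y : Type u} [AddCommGroup X] [Module R X]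
    [AddCommGroup Y] [Module R Y] [Module.Finite R X] [Module.Finite R Y] [Module.Projective R Y]
    (g : X →ₗ[R] Y) (h1 : LinearMap.range g ⊔ I • (⊤ : Submodule R Y) = ⊤)
    (h2 : ∀ x, g x = 0 → x ∈ I • (⊤ : Submodule R X)) : Function.Bijective g := by
  have hsurj : Function.Surjective g := by
    rw [← LinearMap.range_eq_top, eq_top_iff]
    exact Submodule.le_of_le_smul_of_le_jacobson_bot Module.Finite.fg_top hI h1.ge
  obtain ⟨s, hs⟩ := Module.projective_lifting_property g LinearMap.id hsurj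
  have hs' : ∀ y, g (s y) = y := fun y => LinearMap.congr_fun hs y
  let q : X →ₗ[R] X := LinearMap.id - s.comp g
  have hq : ∀ x, q x = x - s (g x) := fun x => rfl
  have hgq : ∀ x, g (q x) = 0 := by
    intro x
    rw [hq, map_sub, hs', sub_self]
  have hfg : (LinearMap.range q).FG := by
    rw [LinearMap.range_eq_map]
    exact Submodule.FG.map q Module.Finite.fg_top
  have hle : LinearMap.range q ≤ I • LinearMap.range q := by
    rintro x ⟨y, rfl⟩
    have h1' := h2 _ (hgq y)
    have h2' := Submodule.mem_map_of_mem (f := q) h1'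
    rw [Submodule.map_smul'', Submodule.map_top] at h2'
    have h3 : q (q y) = q y := by
      rw [hq (q y), hgq, map_zero, sub_zero]
    rw [h3] at h2'
    exact h2'
  have hbot := Submodule.eq_bot_of_le_smul_of_le_jacobson_bot I _ hfg hle hI
  refine ⟨?_, hsurj⟩
  rw [← LinearMap.ker_eq_bot, eq_bot_iff]
  intro x hx
  have hx0 : g x = 0 := hx
  have h1' : q x = x := by rw [hq, hx0, map_zero, sub_zero]
  have h2' : x ∈ LinearMap.range q := ⟨x, h1'⟩
  rw [hbot] at h2'
  exact h2'

theorem bijective_of_ext_bijective {R : Type u} [CommRing R] (I : Ideal R)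
    (hI : I ≤ Ideal.jacobson (⊥ : Ideal R)) {X Y : ModuleCat.{u} R}
    [Module.Finite R X] [Module.Finite R Y] [Module.Projective R Y] (g : X ⟶ Y)
    (hb : Function.Bijective ((ModuleCat.extendScalars (Ideal.Quotient.mk I)).map g).hom) :
    Function.Bijective g.hom := by
  let ρX := rho I (upgrade I (bcA I X))
  let ρY := rho I (upgrade I (bcA I Y))
  let T := ((ModuleCat.extendScalars (Ideal.Quotient.mk I)).map g).hom
  have hc : ∀ x : X, T (ρX x) = ρY (g.hom x) := fun x => rfl
  have hT0 : T 0 = 0 := map_zero T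
  apply bijective_of_jacobson I hI g.hom
  · rw [eq_top_iff]
    intro y _
    obtain ⟨t, ht⟩ := hb.2 (ρY y)
    obtain ⟨x, rfl⟩ := rho_surjective I (upgrade I (bcA I X)) t
    have h0 : ρY (y - g.hom x) = 0 := by
      rw [map_sub, ← hc x]
      exact sub_eq_zero.mpr ht.symm
    have hmem := (rho_eq_zero_iff I (upgrade I (bcA I Y)) _).mp h0
    have hy : y = g.hom x + (y - g.hom x) := by abel
    rw [hy]
    exact Submodule.add_mem_sup ⟨x, rfl⟩ hmem
  · intro x hx
    have h0 : T (ρX x) = T 0 := by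
      rw [hc, hx, map_zero, hT0]
      rfl
    exact (rho_eq_zero_iff I (upgrade I (bcA I X)) x).mp (hb.1 h0)

set_option backward.isDefEq.respectTransparency false in
theorem finrank_ext {A B : Type u} [CommRing A] [CommRing B] (f : A →+* B)
    [StrongRankCondition A] [StrongRankCondition B] (X : ModuleCat.{u} A) [Module.Free A X] :
    Module.finrank B ((ModuleCat.extendScalars.{u, u, u} f).obj X) = Module.finrank A X := by
  letI := Groth.Agent.H35.FlatBC.algOf f
  exact (Module.finrank_baseChange : Module.finrank B (TensorProduct A B X) = Module.finrank A X)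

/-- cohomology of the image of a complex in the derived category. -/
noncomputable def hdEquiv {A : Type u} [CommRing A] (C : DRing.Cx A) (i : ℤ) :
    Dual.HD A (DRing.toD C) i ≃ₗ[A] C.homology i :=
  ((DerivedCategory.homologyFunctorFactors (ModuleCat.{u} A) i).app C).toLinearEquiv

noncomputable def hdIso {A : Type u} [CommRing A] {X Y : Dual.D A} (e : X ≅ Y) (i : ℤ) :
    Dual.HD A X i ≃ₗ[A] Dual.HD A Y i :=
  ((DerivedCategory.homologyFunctor (ModuleCat.{u} A) i).mapIso e).toLinearEquiv

end General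

section Local

open DRing

variable (R : Type u) [CommRing R] [IsLocalRing R] [DRing.HasLBaseChange (IsLocalRing.residue R)]

/-- minimal representatives. -/
def IsMinimal (K : Dual.D R) (P : DRing.Cx R) : Prop :=
  (∃ b : ℤ, DRing.VanishesAbove P b) ∧
    (∀ i : ℤ, Module.Free R (P.X i) ∧ Module.Finite R (P.X i) ∧
      Module.finrank R (P.X i) = Module.finrank (IsLocalRing.ResidueField R)
        (Dual.HD (IsLocalRing.ResidueField R)
          ((DRing.LBaseChange (IsLocalRing.residue R)).obj K) i)) ∧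
    Nonempty (DRing.toD P ≅ K)

theorem hd_of_model (K : Dual.D R) (Q0 : DRing.Cx R) (c : ℤ) (hQ0c : DRing.VanishesAbove Q0 c)
    (hQ0ff : DRing.TermwiseFiniteFree Q0) (eK : DRing.toD Q0 ≅ K) (i : ℤ) :
    Nonempty (Dual.HD (IsLocalRing.ResidueField R)
        ((DRing.LBaseChange (IsLocalRing.residue R)).obj K) i ≃ₗ[IsLocalRing.ResidueField R]
      ((Groth.Agent.H35.FlatBC.extCx (IsLocalRing.residue R)).obj Q0).homology i) := by
  have hfree : ∀ i, Module.Free R (Q0.X i) := fun i => (hQ0ff i).2
  have hK : DRing.IsKFlat R Q0 :=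
    Groth.Agent.H31.KFlatRing.isKFlat_of_bounded_above_flat Q0 c hQ0c
      (Groth.Agent.H35.TorAmp.free_flat Q0 hfree)
  have eB := Groth.Agent.H53.LBaseChange.objIso' (IsLocalRing.residue R) Q0 hK eK
  exact ⟨(hdIso eB.symm i).trans (hdEquiv _ i)⟩

theorem finite_HD (K : Dual.D R) (hK : DRing.IsPseudoCoherent' R K) (i : ℤ) :
    Module.Finite (IsLocalRing.ResidueField R) (Dual.HD (IsLocalRing.ResidueField R)
      ((DRing.LBaseChange (IsLocalRing.residue R)).obj K) i) := by
  obtain ⟨Q0, c, hQ0c, hQ0ff, ⟨eK⟩⟩ := hK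
  obtain ⟨e⟩ := hd_of_model R K Q0 c hQ0c hQ0ff eK i
  haveI : Module.Finite R (Q0.X i) := (hQ0ff i).1
  haveI : Module.Finite (IsLocalRing.ResidueField R)
      (((Groth.Agent.H35.FlatBC.extCx (IsLocalRing.residue R)).obj Q0).X i) :=
    Groth.Agent.H35.FlatBC.finite_ext (IsLocalRing.residue R) (Q0.X i)
  haveI := finite_homology ((Groth.Agent.H35.FlatBC.extCx (IsLocalRing.residue R)).obj Q0) i
  exact Module.Finite.equiv e.symm

theorem subsingleton_HD (K : Dual.D R) (Q0 : DRing.Cx R) (c : ℤ)
    (hQ0c : DRing.VanishesAbove Q0 c) (hQ0ff : DRing.TermwiseFiniteFree Q0)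
    (eK : DRing.toD Q0 ≅ K) (i : ℤ) (hi : c < i) :
    Subsingleton (Dual.HD (IsLocalRing.ResidueField R)
      ((DRing.LBaseChange (IsLocalRing.residue R)).obj K) i) := by
  obtain ⟨e⟩ := hd_of_model R K Q0 c hQ0c hQ0ff eK i
  haveI : Subsingleton (((Groth.Agent.H35.FlatBC.extCx (IsLocalRing.residue R)).obj Q0).X i) :=
    ModuleCat.subsingleton_of_isZero
      ((ModuleCat.extendScalars (IsLocalRing.residue R)).map_isZero (hQ0c i hi))
  haveI := subsingleton_homology
    ((Groth.Agent.H35.FlatBC.extCx (IsLocalRing.residue R)).obj Q0) i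
  exact e.toEquiv.subsingleton

theorem exists_minimal (K : Dual.D R) (hK : DRing.IsPseudoCoherent' R K) :
    ∃ P : DRing.Cx R, IsMinimal R K P := by
  have hKK := hK
  obtain ⟨Q0, c, hQ0c, hQ0ff, ⟨eK⟩⟩ := hK
  have hfree0 : ∀ i, Module.Free R (Q0.X i) := fun i => (hQ0ff i).2
  have hKfl : DRing.IsKFlat R Q0 :=
    Groth.Agent.H31.KFlatRing.isKFlat_of_bounded_above_flat Q0 c hQ0c
      (Groth.Agent.H35.TorAmp.free_flat Q0 hfree0)
  let Qb : DRing.Cx (IsLocalRing.ResidueField R) :=
    (Groth.Agent.H35.FlatBC.extCx (IsLocalRing.residue R)).obj Q0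
  have eB : DRing.toD Qb ≅ (DRing.LBaseChange (IsLocalRing.residue R)).obj K :=
    Groth.Agent.H53.LBaseChange.objIso' (IsLocalRing.residue R) Q0 hKfl eK
  let E : DRing.Cx (IsLocalRing.ResidueField R) := Hcx Qb
  have hE : DRing.toD E ≅ (DRing.LBaseChange (IsLocalRing.residue R)).obj K :=
    asIso (DerivedCategory.Q.map (Hmap Qb)) ≪≫ eB
  have hEc : DRing.VanishesAbove E c := by
    intro i hi
    haveI : Subsingleton (Qb.X i) := ModuleCat.subsingleton_of_isZero
      ((ModuleCat.extendScalars (IsLocalRing.residue R)).map_isZero (hQ0c i hi))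
    haveI := subsingleton_homology Qb i
    exact ModuleCat.isZero_of_subsingleton (Qb.homology i)
  have hEfin : ∀ i, Module.Finite (IsLocalRing.ResidueField R) (E.X i) := fun i => by
    haveI : Module.Finite R (Q0.X i) := (hQ0ff i).1
    haveI : Module.Finite (IsLocalRing.ResidueField R) (Qb.X i) :=
      Groth.Agent.H35.FlatBC.finite_ext (IsLocalRing.residue R) (Q0.X i)
    exact finite_homology Qb i
  have hEs : ∀ i : ℤ, Module.Finite (IsLocalRing.ResidueField R) (E.X i) ∧
      Module.IsStablyFree (IsLocalRing.ResidueField R) (E.X i) :=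
    fun i => ⟨hEfin i, inferInstance⟩
  haveI hinst : DRing.HasLBaseChange (Ideal.Quotient.mk (IsLocalRing.maximalIdeal R)) :=
    ‹DRing.HasLBaseChange (IsLocalRing.residue R)›
  obtain ⟨P, b', hPb, hPsf, ⟨ePK⟩, ⟨eP⟩, hfree⟩ := lift_jacobson R (IsLocalRing.maximalIdeal R)
    (IsLocalRing.maximalIdeal_le_jacobson ⊥) K hKK E c hEc hEs ⟨hE⟩
  refine ⟨P, ⟨b', hPb⟩, fun i => ?_, ⟨ePK⟩⟩
  haveI : Module.Free R (P.X i) :=
    hfree i (inferInstance : Module.Free (IsLocalRing.ResidueField R) (E.X i))
  refine ⟨inferInstance, (hPsf i).1, ?_⟩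
  obtain ⟨e1⟩ := hd_of_model R K Q0 c hQ0c hQ0ff eK i
  have h1 : Module.finrank (IsLocalRing.ResidueField R)
      ((ModuleCat.extendScalars (IsLocalRing.residue R)).obj (P.X i)) = Module.finrank R (P.X i) :=
    finrank_ext (IsLocalRing.residue R) (P.X i)
  have h2 : Module.finrank (IsLocalRing.ResidueField R)
      ((ModuleCat.extendScalars (IsLocalRing.residue R)).obj (P.X i)) =
      Module.finrank (IsLocalRing.ResidueField R) (E.X i) :=
    ((HomologicalComplex.eval (ModuleCat.{u} (IsLocalRing.ResidueField R))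
      (ComplexShape.up ℤ) i).mapIso eP).toLinearEquiv.finrank_eq
  exact h1.symm.trans (h2.trans e1.finrank_eq.symm)

theorem ext_d_zero (K : Dual.D R) (P : DRing.Cx R) (hP : IsMinimal R K P) (i j : ℤ) :
    ((Groth.Agent.H35.FlatBC.extCx (IsLocalRing.residue R)).obj P).d i j = 0 := by
  obtain ⟨⟨b, hb⟩, hPi, ⟨eP⟩⟩ := hP
  apply d_eq_zero_of_finrank_eq
  · intro n
    haveI := (hPi n).2.1
    exact Groth.Agent.H35.FlatBC.finite_ext (IsLocalRing.residue R) (P.X n)
  · intro n
    haveI := (hPi n).1
    obtain ⟨e1⟩ := hd_of_model R K P b hb (fun n => ⟨(hPi n).2.1, (hPi n).1⟩) eP n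
    exact e1.finrank_eq.symm.trans ((hPi n).2.2.symm.trans
      (finrank_ext (IsLocalRing.residue R) (P.X n)).symm)

theorem unique_minimal (K : Dual.D R) (P1 P2 : DRing.Cx R) (h1 : IsMinimal R K P1)
    (h2 : IsMinimal R K P2) : Nonempty (P1 ≅ P2) := by
  have hd1 := ext_d_zero R K P1 h1
  have hd2 := ext_d_zero R K P2 h2
  obtain ⟨⟨b1, hb1⟩, hP1, ⟨e1⟩⟩ := h1
  obtain ⟨⟨b2, hb2⟩, hP2, ⟨e2⟩⟩ := h2
  have hfl1 : DRing.IsKFlat R P1 :=
    Groth.Agent.H31.KFlatRing.isKFlat_of_bounded_above_flat P1 b1 hb1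
      (Groth.Agent.H35.TorAmp.free_flat P1 (fun i => (hP1 i).1))
  have hfl2 : DRing.IsKFlat R P2 :=
    Groth.Agent.H31.KFlatRing.isKFlat_of_bounded_above_flat P2 b2 hb2
      (Groth.Agent.H35.TorAmp.free_flat P2 (fun i => (hP2 i).1))
  haveI : P1.IsStrictlyLE b1 := (P1.isStrictlyLE_iff b1).2 hb1
  haveI : ∀ n, Projective (P1.X n) := fun n => by
    haveI := (hP1 n).1
    exact (IsProjective.iff_projective (R := R) (P := P1.X n)).mp inferInstance
  haveI : P1.IsKProjective := CochainComplex.isKProjective_of_projective P1 b1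
  obtain ⟨β, hβ⟩ := exists_quasiIso_of_iso P1 P2 (e1 ≪≫ e2.symm)
  have hβ' : QuasiIso ((Groth.Agent.H35.FlatBC.extCx (IsLocalRing.residue R)).map β) :=
    Groth.Agent.H53.LBaseChange.quasiIso_extCx_map (IsLocalRing.residue R) β hβ hfl1 hfl2
  haveI : ∀ n, IsIso (β.f n) := fun n => by
    have hb := bijective_f_of_quasiIso_of_d_zero
      ((Groth.Agent.H35.FlatBC.extCx (IsLocalRing.residue R)).map β) hβ' hd1 hd2 n
    haveI := (hP1 n).2.1
    haveI := (hP2 n).2.1
    haveI := (hP2 n).1
    have hbij := bijective_of_ext_bijective (IsLocalRing.maximalIdeal R)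
      (IsLocalRing.maximalIdeal_le_jacobson ⊥) (β.f n) hb
    exact (ConcreteCategory.isIso_iff_bijective (β.f n)).mpr hbij
  haveI : IsIso β := HomologicalComplex.Hom.isIso_of_components β
  exact ⟨asIso β⟩

theorem main (K : Dual.D R) (hK : DRing.IsPseudoCoherent' R K) :
    (∀ i : ℤ, Module.Finite (IsLocalRing.ResidueField R) (Dual.HD (IsLocalRing.ResidueField R)
        ((DRing.LBaseChange (IsLocalRing.residue R)).obj K) i)) ∧
      (∃ b : ℤ, ∀ i : ℤ, b < i → Subsingleton (Dual.HD (IsLocalRing.ResidueField R)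
        ((DRing.LBaseChange (IsLocalRing.residue R)).obj K) i)) ∧
      (∃ P : DRing.Cx R, IsMinimal R K P) ∧
      ∀ P Q : DRing.Cx R, IsMinimal R K P → IsMinimal R K Q → Nonempty (P ≅ Q) := by
  refine ⟨fun i => finite_HD R K hK i, ?_, exists_minimal R K hK,
    fun P Q hP hQ => unique_minimal R K P Q hP hQ⟩
  obtain ⟨Q0, c, hQ0c, hQ0ff, ⟨eK⟩⟩ := hK
  exact ⟨c, fun i hi => subsingleton_HD R K Q0 c hQ0c hQ0ff eK i hi⟩

end Local

end Groth.Agent.H12.MinRes
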