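import Mathlib

/-!
# Matrix data of split-idempotent complexes and their descent along filtered colimits of rings
(helper12).  A bounded complex of finite projective modules is encoded by idempotent matrices
`e i` and differentials `D i` satisfying polynomial relations; finitely many ring elements and
finitely many relations descend to a finite stage of a filtered colimit of rings.
-/

set_option autoImplicit false
universe u

namespace Groth.Agent.H12.PerfDesc

/-- matrix data of a "split idempotent complex": idempotents `e i` and differentials `D i`. -/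
structure PData (A : Type u) [CommRing A] (n : ℤ → ℕ) where
  e : ∀ i : ℤ, Matrix (Fin (n i)) (Fin (n i)) A
  D : ∀ i : ℤ, Matrix (Fin (n (i + 1))) (Fin (n i)) A

namespace PData

variable {A B C : Type u} [CommRing A] [CommRing B] [CommRing C] {n : ℤ → ℕ}

lemma ext' {M N : PData A n} (he : ∀ i, M.e i = N.e i) (hD : ∀ i, M.D i = N.D i) : M = N := by
  obtain ⟨e, D⟩ := M
  obtain ⟨e', D'⟩ := N
  have h1 : e = e' := funext he
  have h2 : D = D' := funext hD
  subst h1; subst h2; rfl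

/-- the relations: `e` idempotent, `D` compatible with `e`, `D ∘ D = 0`. -/
structure IsM (M : PData A n) : Prop where
  ee : ∀ i, M.e i * M.e i = M.e i
  De : ∀ i, M.D i * M.e i = M.D i
  eD : ∀ i, M.e (i + 1) * M.D i = M.D i
  DD : ∀ i, M.D (i + 1) * M.D i = 0

lemma IsM.D_eq_zero {M : PData A n} (h : IsM M) {i : ℤ} (hi : M.e i = 0) : M.D i = 0 := by
  rw [← h.De i, hi, Matrix.mul_zero]

/-- base change of matrix data. -/
def map (φ : A →+* B) (M : PData A n) : PData B n where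
  e i := (M.e i).map φ
  D i := (M.D i).map φ

lemma map_map (φ : A →+* B) (ψ : B →+* C) (M : PData A n) :
    (M.map φ).map ψ = M.map (ψ.comp φ) :=
  ext' (fun i => by
      show ((M.e i).map φ).map ψ = (M.e i).map (ψ.comp φ)
      rw [Matrix.map_map]; rfl)
    (fun i => by
      show ((M.D i).map φ).map ψ = (M.D i).map (ψ.comp φ)
      rw [Matrix.map_map]; rfl)

lemma IsM.map (φ : A →+* B) {M : PData A n} (h : IsM M) : IsM (M.map φ) where
  ee i := by
    show (M.e i).map φ * (M.e i).map φ = (M.e i).map φ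
    rw [← Matrix.map_mul, h.ee]
  De i := by
    show (M.D i).map φ * (M.e i).map φ = (M.D i).map φ
    rw [← Matrix.map_mul, h.De]
  eD i := by
    show (M.e (i + 1)).map φ * (M.D i).map φ = (M.D i).map φ
    rw [← Matrix.map_mul, h.eD]
  DD i := by
    show (M.D (i + 1)).map φ * (M.D i).map φ = 0
    rw [← Matrix.map_mul, h.DD, Matrix.map_zero _ (map_zero φ)]

/-- index type of the entries of the data in degrees `[a, b]`. -/
abbrev Idx (n : ℤ → ℕ) (a b : ℤ) : Type :=
  Σ i : Set.Icc a b, (Fin (n i) × Fin (n i)) ⊕ (Fin (n ((i : ℤ) + 1)) × Fin (n i))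

/-- data from a function on the index type, zero outside `[a, b]`. -/
def ofFun (a b : ℤ) (y : Idx n a b → A) : PData A n where
  e i := if h : a ≤ i ∧ i ≤ b then
      Matrix.of fun p q => y ⟨⟨i, Set.mem_Icc.2 h⟩, Sum.inl (p, q)⟩ else 0
  D i := if h : a ≤ i ∧ i ≤ b then
      Matrix.of fun p q => y ⟨⟨i, Set.mem_Icc.2 h⟩, Sum.inr (p, q)⟩ else 0

/-- the entries of the data in degrees `[a, b]`. -/
def toFun (M : PData A n) (a b : ℤ) : Idx n a b → A := fun t =>
  Sum.elim (fun pq => M.e t.1 pq.1 pq.2) (fun pq => M.D t.1 pq.1 pq.2) t.2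

variable {a b : ℤ}

lemma ofFun_e_of_mem (y : Idx n a b → A) {i : ℤ} (h : a ≤ i ∧ i ≤ b) (p q : Fin (n i)) :
    (ofFun a b y).e i p q = y ⟨⟨i, Set.mem_Icc.2 h⟩, Sum.inl (p, q)⟩ := by
  simp only [ofFun, dif_pos h, Matrix.of_apply]

lemma ofFun_D_of_mem (y : Idx n a b → A) {i : ℤ} (h : a ≤ i ∧ i ≤ b) (p : Fin (n (i + 1)))
    (q : Fin (n i)) :
    (ofFun a b y).D i p q = y ⟨⟨i, Set.mem_Icc.2 h⟩, Sum.inr (p, q)⟩ := by
  simp only [ofFun, dif_pos h, Matrix.of_apply]

lemma ofFun_e_of_not_mem (y : Idx n a b → A) {i : ℤ} (h : ¬ (a ≤ i ∧ i ≤ b)) :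
    (ofFun a b y).e i = 0 := by
  simp only [ofFun, dif_neg h]

lemma ofFun_D_of_not_mem (y : Idx n a b → A) {i : ℤ} (h : ¬ (a ≤ i ∧ i ≤ b)) :
    (ofFun a b y).D i = 0 := by
  simp only [ofFun, dif_neg h]

lemma ofFun_map (φ : A →+* B) (y : Idx n a b → A) :
    (ofFun a b y).map φ = ofFun a b (fun t => φ (y t)) := by
  refine ext' (fun i => ?_) (fun i => ?_)
  · by_cases h : a ≤ i ∧ i ≤ b
    · ext p q
      show φ ((ofFun a b y).e i p q) = _
      rw [ofFun_e_of_mem y h, ofFun_e_of_mem _ h]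
    · show ((ofFun a b y).e i).map φ = _
      rw [ofFun_e_of_not_mem y h, ofFun_e_of_not_mem _ h, Matrix.map_zero _ (map_zero φ)]
  · by_cases h : a ≤ i ∧ i ≤ b
    · ext p q
      show φ ((ofFun a b y).D i p q) = _
      rw [ofFun_D_of_mem y h, ofFun_D_of_mem _ h]
    · show ((ofFun a b y).D i).map φ = _
      rw [ofFun_D_of_not_mem y h, ofFun_D_of_not_mem _ h, Matrix.map_zero _ (map_zero φ)]

lemma ofFun_toFun (M : PData A n) (he : ∀ i, ¬ (a ≤ i ∧ i ≤ b) → M.e i = 0)
    (hD : ∀ i, ¬ (a ≤ i ∧ i ≤ b) → M.D i = 0) : ofFun a b (M.toFun a b) = M := by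
  refine ext' (fun i => ?_) (fun i => ?_)
  · by_cases h : a ≤ i ∧ i ≤ b
    · ext p q
      rw [ofFun_e_of_mem _ h]; rfl
    · rw [ofFun_e_of_not_mem _ h, he i h]
  · by_cases h : a ≤ i ∧ i ≤ b
    · ext p q
      rw [ofFun_D_of_mem _ h]; rfl
    · rw [ofFun_D_of_not_mem _ h, hD i h]

/-- index type of the entries of the relations in degrees `[a, b]`. -/
abbrev RIdx (n : ℤ → ℕ) (a b : ℤ) : Type :=
  Σ i : Set.Icc a b, ((Fin (n i) × Fin (n i)) ⊕ (Fin (n ((i : ℤ) + 1)) × Fin (n i))) ⊕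
    ((Fin (n ((i : ℤ) + 1)) × Fin (n i)) ⊕ (Fin (n ((i : ℤ) + 1 + 1)) × Fin (n i)))

/-- left-hand sides of the relations. -/
def lhs (M : PData A n) (a b : ℤ) : RIdx n a b → A := fun t =>
  Sum.elim
    (Sum.elim (fun pq => (M.e t.1 * M.e t.1) pq.1 pq.2) (fun pq => (M.D t.1 * M.e t.1) pq.1 pq.2))
    (Sum.elim (fun pq => (M.e ((t.1 : ℤ) + 1) * M.D t.1) pq.1 pq.2)
      (fun pq => (M.D ((t.1 : ℤ) + 1) * M.D t.1) pq.1 pq.2)) t.2

/-- right-hand sides of the relations. -/
def rhs (M : PData A n) (a b : ℤ) : RIdx n a b → A := fun t =>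
  Sum.elim
    (Sum.elim (fun pq => (M.e t.1) pq.1 pq.2) (fun pq => (M.D t.1) pq.1 pq.2))
    (Sum.elim (fun pq => (M.D t.1) pq.1 pq.2) (fun _ => 0)) t.2

lemma lhs_map (φ : A →+* B) (M : PData A n) (t : RIdx n a b) :
    lhs (M.map φ) a b t = φ (lhs M a b t) := by
  obtain ⟨i, (pq | pq) | (pq | pq)⟩ := t
  · show ((M.e i).map φ * (M.e i).map φ) pq.1 pq.2 = φ ((M.e i * M.e i) pq.1 pq.2)
    rw [← Matrix.map_mul]; rfl
  · show ((M.D i).map φ * (M.e i).map φ) pq.1 pq.2 = φ ((M.D i * M.e i) pq.1 pq.2)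
    rw [← Matrix.map_mul]; rfl
  · show ((M.e ((i : ℤ) + 1)).map φ * (M.D i).map φ) pq.1 pq.2 =
      φ ((M.e ((i : ℤ) + 1) * M.D i) pq.1 pq.2)
    rw [← Matrix.map_mul]; rfl
  · show ((M.D ((i : ℤ) + 1)).map φ * (M.D i).map φ) pq.1 pq.2 =
      φ ((M.D ((i : ℤ) + 1) * M.D i) pq.1 pq.2)
    rw [← Matrix.map_mul]; rfl

lemma rhs_map (φ : A →+* B) (M : PData A n) (t : RIdx n a b) :
    rhs (M.map φ) a b t = φ (rhs M a b t) := by
  obtain ⟨i, (pq | pq) | (pq | pq)⟩ := t
  · rfl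
  · rfl
  · rfl
  · exact (map_zero φ).symm

lemma rel_of_isM {M : PData A n} (h : IsM M) (t : RIdx n a b) : lhs M a b t = rhs M a b t := by
  obtain ⟨i, (pq | pq) | (pq | pq)⟩ := t
  · show (M.e i * M.e i) pq.1 pq.2 = (M.e i) pq.1 pq.2
    rw [h.ee]
  · show (M.D i * M.e i) pq.1 pq.2 = (M.D i) pq.1 pq.2
    rw [h.De]
  · show (M.e ((i : ℤ) + 1) * M.D i) pq.1 pq.2 = (M.D i) pq.1 pq.2
    rw [h.eD]
  · show (M.D ((i : ℤ) + 1) * M.D i) pq.1 pq.2 = 0
    rw [h.DD]; rfl

lemma isM_of_rel (M : PData A n) (he : ∀ i, ¬ (a ≤ i ∧ i ≤ b) → M.e i = 0)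
    (hD : ∀ i, ¬ (a ≤ i ∧ i ≤ b) → M.D i = 0)
    (hrel : ∀ t : RIdx n a b, lhs M a b t = rhs M a b t) : IsM M where
  ee i := by
    by_cases h : a ≤ i ∧ i ≤ b
    · ext p q
      exact hrel ⟨⟨i, Set.mem_Icc.2 h⟩, Sum.inl (Sum.inl (p, q))⟩
    · rw [he i h, Matrix.mul_zero]
  De i := by
    by_cases h : a ≤ i ∧ i ≤ b
    · ext p q
      exact hrel ⟨⟨i, Set.mem_Icc.2 h⟩, Sum.inl (Sum.inr (p, q))⟩
    · rw [hD i h, Matrix.zero_mul]
  eD i := by
    by_cases h : a ≤ i ∧ i ≤ b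
    · ext p q
      exact hrel ⟨⟨i, Set.mem_Icc.2 h⟩, Sum.inr (Sum.inl (p, q))⟩
    · rw [hD i h, Matrix.mul_zero]
  DD i := by
    by_cases h : a ≤ i ∧ i ≤ b
    · ext p q
      exact hrel ⟨⟨i, Set.mem_Icc.2 h⟩, Sum.inr (Sum.inr (p, q))⟩
    · rw [hD i h, Matrix.mul_zero]

end PData

/-- A directed system of rings `S j → R` through which finite families of elements and finite
families of equalities descend (e.g. a filtered colimit of rings). -/
structure DirSys {J : Type*} (S : J → Type u) [∀ j, CommRing (S j)] (R : Type u) [CommRing R]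
    (φ : ∀ j, S j →+* R) : Prop where
  exists_rep : ∀ (T : Type) [Finite T] (x : T → R),
    ∃ (j : J) (y : T → S j), ∀ t, φ j (y t) = x t
  exists_coeq : ∀ (j : J) (T : Type) [Finite T] (u v : T → S j),
    (∀ t, φ j (u t) = φ j (v t)) →
    ∃ (k : J) (g : S j →+* S k), (φ k).comp g = φ j ∧ ∀ t, g (u t) = g (v t)

/-- matrix data over the colimit ring descend to a finite stage. -/
theorem DirSys.descend {J : Type*} {S : J → Type u} [∀ j, CommRing (S j)] {R : Type u}
    [CommRing R] {φ : ∀ j, S j →+* R} (hS : DirSys S R φ) {n : ℤ → ℕ} (a b : ℤ)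
    (M : PData R n) (hM : M.IsM) (he : ∀ i, ¬ (a ≤ i ∧ i ≤ b) → M.e i = 0) :
    ∃ (k : J) (Mk : PData (S k) n), Mk.IsM ∧ Mk.map (φ k) = M ∧
      ∀ i, ¬ (a ≤ i ∧ i ≤ b) → Mk.e i = 0 := by
  have hD : ∀ i, ¬ (a ≤ i ∧ i ≤ b) → M.D i = 0 := fun i hi => hM.D_eq_zero (he i hi)
  obtain ⟨j, y, hy⟩ := hS.exists_rep (PData.Idx n a b) (M.toFun a b)
  have hMj : (PData.ofFun a b y).map (φ j) = M := by
    rw [PData.ofFun_map]
    have h1 : (fun t => φ j (y t)) = M.toFun a b := funext hy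
    rw [h1, PData.ofFun_toFun M he hD]
  obtain ⟨k, g, hg, hgr⟩ := hS.exists_coeq j (PData.RIdx n a b)
    (PData.lhs (PData.ofFun a b y) a b) (PData.rhs (PData.ofFun a b y) a b) (by
      intro t
      rw [← PData.lhs_map, ← PData.rhs_map, hMj]
      exact PData.rel_of_isM hM t)
  have he' : ∀ i, ¬ (a ≤ i ∧ i ≤ b) → ((PData.ofFun a b y).map g).e i = 0 := by
    intro i hi
    show ((PData.ofFun a b y).e i).map g = 0
    rw [PData.ofFun_e_of_not_mem y hi, Matrix.map_zero _ (map_zero g)]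
  have hD' : ∀ i, ¬ (a ≤ i ∧ i ≤ b) → ((PData.ofFun a b y).map g).D i = 0 := by
    intro i hi
    show ((PData.ofFun a b y).D i).map g = 0
    rw [PData.ofFun_D_of_not_mem y hi, Matrix.map_zero _ (map_zero g)]
  refine ⟨k, (PData.ofFun a b y).map g, ?_, ?_, he'⟩
  · refine PData.isM_of_rel (a := a) (b := b) _ he' hD' ?_
    intro t
    rw [PData.lhs_map, PData.rhs_map]
    exact hgr t
  · rw [PData.map_map, hg, hMj]

open CategoryTheory CategoryTheory.Limits

/-- a filtered colimit of commutative rings is a `DirSys`. -/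
theorem dirSys_of_isColimit {J : Type u} [SmallCategory J] [IsFiltered J]
    (F : J ⥤ CommRingCat.{u}) (c : Cocone F) (hc : IsColimit c) :
    DirSys (fun j => (F.obj j : Type u)) (c.pt : Type u) (fun j => (c.ι.app j).hom) := by
  classical
  let ιR : ∀ j, F.obj j →+* c.pt := fun j => (c.ι.app j).hom
  let TR : ∀ {i j : J} (_ : i ⟶ j), F.obj i →+* F.obj j := fun a => (F.map a).hom
  have hN : ∀ {i j : J} (a : i ⟶ j), (ιR j).comp (TR a) = ιR i := by
    intro i j a
    change (c.ι.app j).hom.comp (F.map a).hom = (c.ι.app i).hom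
    rw [← CommRingCat.hom_comp, c.w]
  have hN' : ∀ {i j : J} (a : i ⟶ j) (x : F.obj i), ιR j (TR a x) = ιR i x := by
    intro i j a x
    rw [← hN a]
    rfl
  have hTc : ∀ {i j k : J} (a : i ⟶ j) (b : j ⟶ k) (x : F.obj i),
      TR (a ≫ b) x = TR b (TR a x) := by
    intro i j k a b x
    change (F.map (a ≫ b)).hom x = (F.map b).hom ((F.map a).hom x)
    rw [F.map_comp, CommRingCat.hom_comp]
    rfl
  have hR : ∀ x : c.pt, ∃ (j : J) (y : F.obj j), ιR j y = x := fun x =>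
    Limits.Concrete.isColimit_exists_rep F hc x
  have hE : ∀ {i j : J} (x : F.obj i) (y : F.obj j), ιR i x = ιR j y →
      ∃ (k : J) (f : i ⟶ k) (g : j ⟶ k), TR f x = TR g y := fun x y h =>
    Limits.Concrete.isColimit_exists_of_rep_eq F hc x y h
  have key1 : ∀ (T : Type) [Finite T] (x : T → c.pt),
      ∃ (j : J) (y : T → F.obj j), ∀ t, ιR j (y t) = x t := by
    intro T _
    refine Finite.induction_empty_option
      (P := fun T => ∀ (x : T → c.pt), ∃ (j : J) (y : T → F.obj j), ∀ t, ιR j (y t) = x t)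
      ?_ ?_ ?_ T
    · intro α β e h x
      obtain ⟨j, y, hy⟩ := h (fun t => x (e t))
      exact ⟨j, fun t => y (e.symm t),
        fun t => (hy (e.symm t)).trans (congrArg x (e.apply_symm_apply t))⟩
    · intro x
      obtain ⟨j₀⟩ := IsFiltered.nonempty (C := J)
      exact ⟨j₀, fun t => t.elim, fun t => t.elim⟩
    · intro α _ ih x
      obtain ⟨j, y, hy⟩ := ih (fun t => x (some t))
      obtain ⟨j', y', hy'⟩ := hR (x none)
      refine ⟨IsFiltered.max j j', fun o => Option.elim o (TR (IsFiltered.rightToMax j j') y')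
        (fun t => TR (IsFiltered.leftToMax j j') (y t)), ?_⟩
      rintro (_ | t)
      · exact (hN' _ _).trans hy'
      · exact (hN' _ _).trans (hy t)
  have key2 : ∀ (T : Type) [Finite T] (j : J) (u v : T → F.obj j),
      (∀ t, ιR j (u t) = ιR j (v t)) → ∃ (k : J) (f : j ⟶ k), ∀ t, TR f (u t) = TR f (v t) := by
    intro T _
    refine Finite.induction_empty_option
      (P := fun T => ∀ (j : J) (u v : T → F.obj j),
        (∀ t, ιR j (u t) = ιR j (v t)) → ∃ (k : J) (f : j ⟶ k), ∀ t, TR f (u t) = TR f (v t))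
      ?_ ?_ ?_ T
    · intro α β e h j u v huv
      obtain ⟨k, f, hf⟩ := h j (fun t => u (e t)) (fun t => v (e t)) (fun t => huv (e t))
      refine ⟨k, f, fun t => ?_⟩
      have h1 := hf (e.symm t)
      simp only [Equiv.apply_symm_apply] at h1
      exact h1
    · intro j u v _
      exact ⟨j, 𝟙 j, fun t => t.elim⟩
    · intro α _ ih j u v huv
      obtain ⟨k, f, hf⟩ := ih j (fun t => u (some t)) (fun t => v (some t))
        (fun t => huv (some t))
      obtain ⟨k', f', g', hfg⟩ := hE (u none) (v none) (huv none)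
      have h1 : TR (f' ≫ IsFiltered.coeqHom f' g') (u none) =
          TR (f' ≫ IsFiltered.coeqHom f' g') (v none) := by
        rw [hTc, hfg, ← hTc, ← IsFiltered.coeq_condition]
      obtain ⟨l, p, q, hpq⟩ := IsFiltered.span f (f' ≫ IsFiltered.coeqHom f' g')
      refine ⟨l, f ≫ p, ?_⟩
      rintro (_ | t)
      · rw [hpq, hTc (f' ≫ IsFiltered.coeqHom f' g') q, hTc (f' ≫ IsFiltered.coeqHom f' g') q, h1]
      · rw [hTc, hTc]
        exact congrArg (TR p) (hf t)
  constructor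
  · intro T _ x
    exact key1 T x
  · intro j T _ u v huv
    obtain ⟨k, f, hf⟩ := key2 T j u v huv
    exact ⟨k, TR f, hN f, hf⟩

end Groth.Agent.H12.PerfDesc
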