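import Mathlib
import Groth.Prelude.Def_DRing2
import Groth.Prelude.Def_DDual2
import Groth.Agent.H35.FlatBC
import Groth.Agent.H12.PDMat

/-!
# Complexes attached to split-idempotent data (helper12)

`SData C`: objects `P i` with split subobjects `X i` (`ι`, `ρ`) and maps `D i : P i ⟶ P (i+1)`
compatible with the idempotents `ρ ≫ ι` and with `D ≫ D = 0`; the attached complex has terms `X i`.
For matrix data `M : PData A n` this gives a complex of finite projective modules whose base change
along `φ : A →+* B` is the complex of `M.map φ`; every bounded complex of finite projective modules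
is of this form.
-/

set_option autoImplicit false
universe u
open CategoryTheory CategoryTheory.Limits

namespace Groth.Agent.H12.PerfDesc

/-- split-idempotent data in a preadditive category. -/
structure SData (C : Type*) [Category C] [Preadditive C] where
  X : ℤ → C
  P : ℤ → C
  ι : ∀ i, X i ⟶ P i
  ρ : ∀ i, P i ⟶ X i
  D : ∀ i, P i ⟶ P (i + 1)
  ιρ : ∀ i, ι i ≫ ρ i = 𝟙 (X i)
  De : ∀ i, ρ i ≫ ι i ≫ D i = D i
  eD : ∀ i, D i ≫ ρ (i + 1) ≫ ι (i + 1) = D i
  DD : ∀ i, D i ≫ D (i + 1) = 0

attribute [reassoc] SData.ιρ SData.De SData.eD SData.DD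

namespace SData

variable {C : Type*} [Category C] [Preadditive C] (S : SData C)

/-- the differential of the attached complex. -/
def d (i : ℤ) : S.X i ⟶ S.X (i + 1) := S.ι i ≫ S.D i ≫ S.ρ (i + 1)

lemma d_comp_d (i : ℤ) : S.d i ≫ S.d (i + 1) = 0 := by
  simp only [d, Category.assoc, S.eD_assoc, S.DD_assoc, zero_comp, comp_zero]

/-- the attached complex. -/
noncomputable def cx : CochainComplex C ℤ := CochainComplex.of S.X S.d S.d_comp_d

lemma cx_d (i : ℤ) : S.cx.d i (i + 1) = S.d i := CochainComplex.of_d _ _ _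

/-- components of `isoOf`. -/
def isoComp (S S' : SData C) (θ : ∀ i, S.P i ≅ S'.P i)
    (he : ∀ i, S.ρ i ≫ S.ι i ≫ (θ i).hom = (θ i).hom ≫ S'.ρ i ≫ S'.ι i) (i : ℤ) :
    S.X i ≅ S'.X i where
  hom := S.ι i ≫ (θ i).hom ≫ S'.ρ i
  inv := S'.ι i ≫ (θ i).inv ≫ S.ρ i
  hom_inv_id := by
    simp only [Category.assoc]
    rw [← reassoc_of% (he i)]
    simp only [Iso.hom_inv_id_assoc, S.ιρ_assoc, S.ιρ]
  inv_hom_id := by
    simp only [Category.assoc]
    rw [reassoc_of% (he i)]
    simp only [Iso.inv_hom_id_assoc, S'.ιρ_assoc, S'.ιρ]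

lemma isoComp_comm (S S' : SData C) (θ : ∀ i, S.P i ≅ S'.P i)
    (he : ∀ i, S.ρ i ≫ S.ι i ≫ (θ i).hom = (θ i).hom ≫ S'.ρ i ≫ S'.ι i)
    (hD : ∀ i, S.D i ≫ (θ (i + 1)).hom = (θ i).hom ≫ S'.D i) (i : ℤ) :
    (isoComp S S' θ he i).hom ≫ S'.d i = S.d i ≫ (isoComp S S' θ he (i + 1)).hom := by
  simp only [isoComp, d, Category.assoc, S'.De_assoc, S.eD_assoc]
  rw [reassoc_of% (hD i)]

/-- an isomorphism of the ambient objects compatible with idempotents and differentials
induces an isomorphism of the attached complexes. -/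
noncomputable def isoOf (S S' : SData C) (θ : ∀ i, S.P i ≅ S'.P i)
    (he : ∀ i, S.ρ i ≫ S.ι i ≫ (θ i).hom = (θ i).hom ≫ S'.ρ i ≫ S'.ι i)
    (hD : ∀ i, S.D i ≫ (θ (i + 1)).hom = (θ i).hom ≫ S'.D i) : S.cx ≅ S'.cx :=
  HomologicalComplex.Hom.isoOfComponents (fun i => isoComp S S' θ he i) (by
    rintro i _ rfl
    rw [cx_d, cx_d]
    exact isoComp_comm S S' θ he hD i)

section mapF

variable {C' : Type*} [Category C'] [Preadditive C'] (G : C ⥤ C') [G.Additive]

/-- image under an additive functor. -/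
def mapF : SData C' where
  X i := G.obj (S.X i)
  P i := G.obj (S.P i)
  ι i := G.map (S.ι i)
  ρ i := G.map (S.ρ i)
  D i := G.map (S.D i)
  ιρ i := by rw [← G.map_comp, S.ιρ, G.map_id]
  De i := by rw [← G.map_comp, ← G.map_comp, S.De]
  eD i := by rw [← G.map_comp, ← G.map_comp, S.eD]
  DD i := by rw [← G.map_comp, S.DD, G.map_zero]

lemma mapF_d (i : ℤ) : (S.mapF G).d i = G.map (S.d i) := by
  simp only [d, mapF, G.map_comp]

/-- the complex of the image is the image of the complex. -/
noncomputable def mapCxIso :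
    (G.mapHomologicalComplex (ComplexShape.up ℤ)).obj S.cx ≅ (S.mapF G).cx :=
  HomologicalComplex.Hom.isoOfComponents (fun i => Iso.refl (G.obj (S.X i))) (by
    rintro i _ rfl
    show 𝟙 _ ≫ (S.mapF G).cx.d i (i + 1) = G.map (S.cx.d i (i + 1)) ≫ 𝟙 _
    rw [cx_d, cx_d]
    exact (Category.id_comp _).trans ((mapF_d S G i).trans (Category.comp_id _).symm))

end mapF

/-- data attached to a complex with chosen split embeddings of its terms. -/
def ofSplit (E : CochainComplex C ℤ) (P : ℤ → C) (ι : ∀ i, E.X i ⟶ P i)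
    (ρ : ∀ i, P i ⟶ E.X i) (h : ∀ i, ι i ≫ ρ i = 𝟙 (E.X i)) : SData C where
  X := E.X
  P := P
  ι := ι
  ρ := ρ
  D i := ρ i ≫ E.d i (i + 1) ≫ ι (i + 1)
  ιρ := h
  De i := by rw [reassoc_of% (h i)]
  eD i := by simp only [Category.assoc, reassoc_of% (h (i + 1))]
  DD i := by
    simp only [Category.assoc, reassoc_of% (h (i + 1)), HomologicalComplex.d_comp_d_assoc,
      zero_comp, comp_zero]

lemma ofSplit_d (E : CochainComplex C ℤ) (P : ℤ → C) (ι : ∀ i, E.X i ⟶ P i)
    (ρ : ∀ i, P i ⟶ E.X i) (h : ∀ i, ι i ≫ ρ i = 𝟙 (E.X i)) (i : ℤ) :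
    (ofSplit E P ι ρ h).d i = E.d i (i + 1) := by
  simp only [d, ofSplit, Category.assoc, reassoc_of% (h i), h (i + 1), Category.comp_id]

/-- the complex attached to `ofSplit E …` is `E`. -/
noncomputable def ofSplitIso (E : CochainComplex C ℤ) (P : ℤ → C) (ι : ∀ i, E.X i ⟶ P i)
    (ρ : ∀ i, P i ⟶ E.X i) (h : ∀ i, ι i ≫ ρ i = 𝟙 (E.X i)) :
    (ofSplit E P ι ρ h).cx ≅ E :=
  HomologicalComplex.Hom.isoOfComponents (fun i => Iso.refl (E.X i)) (by
    rintro i _ rfl
    show 𝟙 _ ≫ E.d i (i + 1) = (ofSplit E P ι ρ h).cx.d i (i + 1) ≫ 𝟙 _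
    rw [cx_d]
    exact (Category.id_comp _).trans ((ofSplit_d E P ι ρ h i).symm.trans (Category.comp_id _).symm))

end SData

section Mat

variable {A : Type u} [CommRing A] {n : ℤ → ℕ}

/-- the split-idempotent data in `A`-modules attached to matrix data. -/
noncomputable def sdata (M : PData A n) (h : M.IsM) : SData (ModuleCat.{u} A) where
  X i := ModuleCat.of A (LinearMap.range (M.e i).mulVecLin)
  P i := ModuleCat.of A (Fin (n i) → A)
  ι i := ModuleCat.ofHom (LinearMap.range (M.e i).mulVecLin).subtype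
  ρ i := ModuleCat.ofHom (M.e i).mulVecLin.rangeRestrict
  D i := ModuleCat.ofHom (M.D i).mulVecLin
  ιρ i := by
    refine ModuleCat.hom_ext (LinearMap.ext ?_)
    rintro ⟨_, y, rfl⟩
    refine Subtype.ext ?_
    show (M.e i).mulVec ((M.e i).mulVec y) = (M.e i).mulVec y
    rw [Matrix.mulVec_mulVec, h.ee]
  De i := by
    refine ModuleCat.hom_ext (LinearMap.ext fun x => ?_)
    show (M.D i).mulVec ((M.e i).mulVec x) = (M.D i).mulVec x
    rw [Matrix.mulVec_mulVec, h.De]
  eD i := by
    refine ModuleCat.hom_ext (LinearMap.ext fun x => ?_)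
    show (M.e (i + 1)).mulVec ((M.D i).mulVec x) = (M.D i).mulVec x
    rw [Matrix.mulVec_mulVec, h.eD]
  DD i := by
    refine ModuleCat.hom_ext (LinearMap.ext fun x => ?_)
    show (M.D (i + 1)).mulVec ((M.D i).mulVec x) = 0
    rw [Matrix.mulVec_mulVec, h.DD, Matrix.zero_mulVec]

lemma sdata_ρι (M : PData A n) (h : M.IsM) (i : ℤ) :
    (sdata M h).ρ i ≫ (sdata M h).ι i = ModuleCat.ofHom (M.e i).mulVecLin :=
  ModuleCat.hom_ext (LinearMap.ext fun _ => rfl)

lemma sdata_finite (M : PData A n) (h : M.IsM) (i : ℤ) :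
    Module.Finite A ((sdata M h).cx.X i) :=
  show Module.Finite A (LinearMap.range (M.e i).mulVecLin) from inferInstance

lemma sdata_projective (M : PData A n) (h : M.IsM) (i : ℤ) :
    Module.Projective A ((sdata M h).cx.X i) := by
  show Module.Projective A (LinearMap.range (M.e i).mulVecLin)
  refine Module.Projective.of_split (LinearMap.range (M.e i).mulVecLin).subtype
    (M.e i).mulVecLin.rangeRestrict ?_
  exact congrArg ModuleCat.Hom.hom ((sdata M h).ιρ i)

lemma sdata_tfp (M : PData A n) (h : M.IsM) : DRing.TermwiseFiniteProjective (sdata M h).cx :=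
  fun i => ⟨sdata_finite M h i, sdata_projective M h i⟩

lemma sdata_vanishes (M : PData A n) (h : M.IsM) (a b : ℤ)
    (he : ∀ i, ¬ (a ≤ i ∧ i ≤ b) → M.e i = 0) : DRing.VanishesOutside (sdata M h).cx a b := by
  intro i hi
  have he' : M.e i = 0 := he i (by omega)
  show IsZero (ModuleCat.of A (LinearMap.range (M.e i).mulVecLin))
  haveI : Subsingleton (LinearMap.range (M.e i).mulVecLin) := by
    refine ⟨fun x y => Subtype.ext ?_⟩
    obtain ⟨_, x', rfl⟩ := x
    obtain ⟨_, y', rfl⟩ := y
    show (M.e i).mulVec x' = (M.e i).mulVec y'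
    rw [he', Matrix.zero_mulVec, Matrix.zero_mulVec]
  exact ModuleCat.isZero_of_subsingleton _

end Mat

section Theta

variable {A B : Type u} [CommRing A] [CommRing B] (φ : A →+* B)

set_option backward.isDefEq.respectTransparency false in
/-- `B ⊗_A A^m ≃ B^m`. -/
noncomputable def thetaEquiv (m : ℕ) :
    ((ModuleCat.extendScalars.{u, u, u} φ).obj (ModuleCat.of A (Fin m → A))) ≃ₗ[B]
      (Fin m → B) := by
  letI := Groth.Agent.H35.FlatBC.algOf φ
  exact (TensorProduct.piScalarRight A B B (Fin m) :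
    TensorProduct A B (Fin m → A) ≃ₗ[B] (Fin m → B))

open ChangeOfRings in
set_option backward.isDefEq.respectTransparency false in
lemma thetaEquiv_one_tmul (m : ℕ) (f : Fin m → A) :
    thetaEquiv φ m ((1 : B) ⊗ₜ[A, φ] f) = fun k => φ (f k) := by
  letI := Groth.Agent.H35.FlatBC.algOf φ
  show TensorProduct.piScalarRight A B B (Fin m) ((1 : B) ⊗ₜ[A] f) = _
  rw [TensorProduct.piScalarRight_apply, TensorProduct.piScalarRightHom_tmul]
  funext k
  show f k • (1 : B) = φ (f k)
  rw [Algebra.smul_def, mul_one]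
  rfl

/-- `B ⊗_A A^m ≅ B^m` in `ModuleCat B`. -/
noncomputable def thetaIso (m : ℕ) :
    (ModuleCat.extendScalars.{u, u, u} φ).obj (ModuleCat.of A (Fin m → A)) ≅
      ModuleCat.of B (Fin m → B) :=
  (thetaEquiv φ m).toModuleIso

open ChangeOfRings in
set_option backward.isDefEq.respectTransparency false in
lemma theta_naturality {m m' : ℕ} (M : Matrix (Fin m') (Fin m) A) :
    (ModuleCat.extendScalars.{u, u, u} φ).map (ModuleCat.ofHom M.mulVecLin) ≫
        (thetaIso φ m').hom =
      (thetaIso φ m).hom ≫ ModuleCat.ofHom (M.map φ).mulVecLin := by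
  apply ModuleCat.ExtendScalars.hom_ext
  intro f
  show thetaEquiv φ m' ((1 : B) ⊗ₜ[A, φ] (M.mulVec f)) =
    (M.map φ).mulVec (thetaEquiv φ m ((1 : B) ⊗ₜ[A, φ] f))
  rw [thetaEquiv_one_tmul, thetaEquiv_one_tmul]
  funext k
  exact RingHom.map_mulVec φ M f k

variable {n : ℤ → ℕ}

/-- base change of the complex of matrix data is the complex of the base-changed data. -/
noncomputable def extIso (M : PData A n) (h : M.IsM) :
    (Groth.Agent.H35.FlatBC.extCx φ).obj (sdata M h).cx ≅ (sdata (M.map φ) (h.map φ)).cx :=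
  SData.mapCxIso (sdata M h) (ModuleCat.extendScalars.{u, u, u} φ) ≪≫
    SData.isoOf ((sdata M h).mapF (ModuleCat.extendScalars.{u, u, u} φ))
      (sdata (M.map φ) (h.map φ)) (fun i => thetaIso φ (n i))
      (fun i => by
        have h1 : (ModuleCat.extendScalars.{u, u, u} φ).map ((sdata M h).ρ i) ≫
            (ModuleCat.extendScalars.{u, u, u} φ).map ((sdata M h).ι i) =
            (ModuleCat.extendScalars.{u, u, u} φ).map (ModuleCat.ofHom (M.e i).mulVecLin) := by
          rw [← Functor.map_comp]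
          exact congrArg _ (sdata_ρι M h i)
        have h2 := sdata_ρι (M.map φ) (h.map φ) i
        exact ((Category.assoc _ _ _).symm.trans
          (congrArg (fun z => z ≫ (thetaIso φ (n i)).hom) h1)).trans
          ((theta_naturality φ (M.e i)).trans
            (congrArg (fun z => (thetaIso φ (n i)).hom ≫ z) h2.symm)))
      (fun i => theta_naturality φ (M.D i))

end Theta

section Rep

variable {A : Type u} [CommRing A]

/-- every bounded complex of finite projective modules is the complex of matrix data. -/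
theorem exists_matrix_rep (E : DRing.Cx A) (a b : ℤ) (hE : DRing.VanishesOutside E a b)
    (hfp : DRing.TermwiseFiniteProjective E) :
    ∃ (n : ℤ → ℕ) (M : PData A n) (h : M.IsM), (∀ i, ¬ (a ≤ i ∧ i ≤ b) → M.e i = 0) ∧
      Nonempty ((sdata M h).cx ≅ E) := by
  classical
  have key : ∀ i, ∃ (m : ℕ) (π : (Fin m → A) →ₗ[A] E.X i) (s : E.X i →ₗ[A] (Fin m → A)),
      π ∘ₗ s = LinearMap.id := by
    intro i
    have := (hfp i).1
    have := (hfp i).2
    obtain ⟨m, f, g, -, -, hfg⟩ := Module.Finite.exists_comp_eq_id_of_projective A (E.X i)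
    exact ⟨m, f, g, hfg⟩
  choose n π s hπs using key
  have hπs' : ∀ i (x : E.X i), π i (s i x) = x := fun i x => LinearMap.congr_fun (hπs i) x
  -- the linear maps
  let p : ∀ i, (Fin (n i) → A) →ₗ[A] (Fin (n i) → A) := fun i => s i ∘ₗ π i
  let δ : ∀ i, (Fin (n i) → A) →ₗ[A] (Fin (n (i + 1)) → A) := fun i =>
    s (i + 1) ∘ₗ (E.d i (i + 1)).hom ∘ₗ π i
  have hdd : ∀ i (x : E.X i), (E.d (i + 1) (i + 1 + 1)).hom ((E.d i (i + 1)).hom x) = 0 := by
    intro i x
    have h1 := E.d_comp_d i (i + 1) (i + 1 + 1)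
    exact LinearMap.congr_fun (congrArg ModuleCat.Hom.hom h1) x
  let M : PData A n :=
    { e := fun i => LinearMap.toMatrix' (p i)
      D := fun i => LinearMap.toMatrix' (δ i) }
  have hM : M.IsM :=
    { ee := fun i => by
        show LinearMap.toMatrix' (p i) * LinearMap.toMatrix' (p i) = LinearMap.toMatrix' (p i)
        rw [← LinearMap.toMatrix'_comp]
        congr 1
        refine LinearMap.ext fun x => ?_
        show s i (π i (s i (π i x))) = s i (π i x)
        rw [hπs']
      De := fun i => by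
        show LinearMap.toMatrix' (δ i) * LinearMap.toMatrix' (p i) = LinearMap.toMatrix' (δ i)
        rw [← LinearMap.toMatrix'_comp]
        congr 1
        refine LinearMap.ext fun x => ?_
        show s (i + 1) ((E.d i (i + 1)).hom (π i (s i (π i x)))) =
          s (i + 1) ((E.d i (i + 1)).hom (π i x))
        rw [hπs']
      eD := fun i => by
        show LinearMap.toMatrix' (p (i + 1)) * LinearMap.toMatrix' (δ i) =
          LinearMap.toMatrix' (δ i)
        rw [← LinearMap.toMatrix'_comp]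
        congr 1
        refine LinearMap.ext fun x => ?_
        show s (i + 1) (π (i + 1) (s (i + 1) ((E.d i (i + 1)).hom (π i x)))) =
          s (i + 1) ((E.d i (i + 1)).hom (π i x))
        rw [hπs']
      DD := fun i => by
        show LinearMap.toMatrix' (δ (i + 1)) * LinearMap.toMatrix' (δ i) = 0
        rw [← LinearMap.toMatrix'_comp]
        have h0 : δ (i + 1) ∘ₗ δ i = 0 := by
          refine LinearMap.ext fun x => ?_
          show s (i + 1 + 1) ((E.d (i + 1) (i + 1 + 1)).hom
            (π (i + 1) (s (i + 1) ((E.d i (i + 1)).hom (π i x))))) = 0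
          rw [hπs', hdd, map_zero]
        rw [h0, map_zero] }
  have hmv : ∀ {m m' : ℕ} (f : (Fin m → A) →ₗ[A] (Fin m' → A)),
      (LinearMap.toMatrix' f).mulVecLin = f := by
    intro m m' f
    rw [← Matrix.toLin'_apply', Matrix.toLin'_toMatrix']
  refine ⟨n, M, hM, ?_, ?_⟩
  · intro i hi
    have hz : IsZero (E.X i) := hE i (by omega)
    have hπ0 : π i = 0 := by
      refine LinearMap.ext fun x => ?_
      haveI : Subsingleton (E.X i) := ModuleCat.subsingleton_of_isZero hz
      exact Subsingleton.elim _ _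
    show LinearMap.toMatrix' (s i ∘ₗ π i) = 0
    rw [hπ0, LinearMap.comp_zero, map_zero]
  · let SE : SData (ModuleCat.{u} A) :=
      SData.ofSplit E (fun i => ModuleCat.of A (Fin (n i) → A)) (fun i => ModuleCat.ofHom (s i))
        (fun i => ModuleCat.ofHom (π i))
        (fun i => ModuleCat.hom_ext (LinearMap.ext fun x => hπs' i x))
    have iso1 : SE.cx ≅ E := SData.ofSplitIso _ _ _ _ _
    have iso2 : (sdata M hM).cx ≅ SE.cx :=
      SData.isoOf (sdata M hM) SE (fun i => Iso.refl _)
        (fun i => by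
          show ((sdata M hM).ρ i ≫ (sdata M hM).ι i) ≫ 𝟙 _ =
            𝟙 _ ≫ ModuleCat.ofHom (π i) ≫ ModuleCat.ofHom (s i)
          rw [sdata_ρι, Category.comp_id, Category.id_comp]
          show ModuleCat.ofHom (LinearMap.toMatrix' (p i)).mulVecLin = _
          rw [hmv]
          rfl)
        (fun i => by
          show ModuleCat.ofHom (LinearMap.toMatrix' (δ i)).mulVecLin ≫ 𝟙 _ =
            𝟙 _ ≫ (ModuleCat.ofHom (π i) ≫ E.d i (i + 1) ≫ ModuleCat.ofHom (s (i + 1)))
          rw [hmv, Category.comp_id, Category.id_comp]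
          rfl)
    exact ⟨iso2 ≪≫ iso1⟩

end Rep

end Groth.Agent.H12.PerfDesc
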