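import Mathlib
import Groth.Prelude.Def_DRing2
import Groth.Prelude.Def_DDual2
import Groth.Agent.H12.PDCx
import Groth.Agent.H53.LBaseChange

/-!
# Perfect complexes descend along filtered colimits of rings (helper12)
-/

set_option autoImplicit false
universe u
open CategoryTheory CategoryTheory.Limits
attribute [local instance] HasDerivedCategory.standard

namespace Groth.Agent.H12.PerfDesc

open DRing

/-- ring-level form: a perfect complex over the "colimit" `R` of a `DirSys` comes from a stage. -/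
theorem descend_perfect {J : Type*} {S : J → Type u} [∀ j, CommRing (S j)] {R : Type u}
    [CommRing R] {φ : ∀ j, S j →+* R} (hS : DirSys S R φ) [∀ j, DRing.HasLBaseChange (φ j)]
    (K : Dual.D R) (hK : DRing.IsPerfect R K) :
    ∃ (j : J) (Kj : Dual.D (S j)), DRing.IsPerfect (S j) Kj ∧
      Nonempty ((DRing.LBaseChange (φ j)).obj Kj ≅ K) := by
  obtain ⟨E, a, b, hE, hfp, ⟨eK⟩⟩ := hK
  obtain ⟨n, M, hM, he, ⟨eE⟩⟩ := exists_matrix_rep E a b hE hfp
  obtain ⟨k, Mk, hMk, hmap, hek⟩ := hS.descend a b M hM he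
  refine ⟨k, toD (sdata Mk hMk).cx, ⟨(sdata Mk hMk).cx, a, b, sdata_vanishes Mk hMk a b hek,
    sdata_tfp Mk hMk, ⟨Iso.refl _⟩⟩, ?_⟩
  have hflat : DRing.TermwiseFlat (sdata Mk hMk).cx := fun i => by
    have := sdata_projective Mk hMk i
    infer_instance
  have hKF : DRing.IsKFlat (S k) (sdata Mk hMk).cx :=
    Groth.Agent.H31.KFlatRing.isKFlat_of_bounded_above_flat _ b
      (fun i hi => sdata_vanishes Mk hMk a b hek i (Or.inr hi)) hflat
  have e1 := Groth.Agent.H53.LBaseChange.objIso (φ k) (sdata Mk hMk).cx hKF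
  have e2 : (Groth.Agent.H35.FlatBC.extCx (φ k)).obj (sdata Mk hMk).cx ≅
      (sdata (Mk.map (φ k)) (hMk.map (φ k))).cx := extIso (φ k) Mk hMk
  have e3 : (sdata (Mk.map (φ k)) (hMk.map (φ k))).cx ≅ (sdata M hM).cx := by
    subst hmap
    exact Iso.refl _
  exact ⟨e1 ≪≫ DerivedCategory.Q.mapIso (e2 ≪≫ e3 ≪≫ eE) ≪≫ eK⟩

/-- perfect complexes over a filtered colimit of rings descend to a stage. -/
theorem main {J : Type u} [SmallCategory J] [IsFiltered J]
    (F : J ⥤ CommRingCat.{u}) (c : Cocone F) (hc : IsColimit c)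
    [∀ j : J, DRing.HasLBaseChange (c.ι.app j).hom] (K : Dual.D c.pt)
    (hK : DRing.IsPerfect c.pt K) :
    ∃ (j : J) (Kj : Dual.D (F.obj j)), DRing.IsPerfect (F.obj j) Kj ∧
      Nonempty ((DRing.LBaseChange (c.ι.app j).hom).obj Kj ≅ K) :=
  descend_perfect (dirSys_of_isColimit F c hc) K hK

end Groth.Agent.H12.PerfDesc
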