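import Mathlib
import Groth.Agent.S0300
import Groth.Agent.S6965
import Groth.Agent.H82.TorFlat

/-!
# `A[X] ⊗ E` has injective amplitude `[0, 1]` for `E` injective over a Noetherian ring `A`

The coinduced module `Coind A J = Hom_A(A[X], J)` (with `(r • φ) x = φ (x * r)`), its injectivity
over `A[X]` when `J` is `A`-injective, and the short exact sequence
`0 → J → Coind A J → Coind A J → 0`, `φ ↦ (g ↦ φ (X g) - X φ(g))`.
-/

set_option autoImplicit false
universe u
open CategoryTheory CategoryTheory.Limits TensorProduct Polynomial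

namespace Groth.Agent.H12.PolyInj

noncomputable section

/-- The coinduced module `Hom_A(A[X], J)`. -/
def Coind (A : Type u) [CommRing A] (J : Type u) [AddCommGroup J] [Module A J] : Type u :=
  A[X] →ₗ[A] J

namespace Coind

variable {A : Type u} [CommRing A] {J : Type u} [AddCommGroup J] [Module A J]

/-- underlying linear map -/
def toLin (φ : Coind A J) : A[X] →ₗ[A] J := φ

/-- constructor -/
def ofLin (φ : A[X] →ₗ[A] J) : Coind A J := φ

@[simp] theorem toLin_ofLin (φ : A[X] →ₗ[A] J) : toLin (ofLin φ) = φ := rfl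
@[simp] theorem ofLin_toLin (φ : Coind A J) : ofLin (toLin φ) = φ := rfl

theorem ext {φ ψ : Coind A J} (h : ∀ x, toLin φ x = toLin ψ x) : φ = ψ :=
  LinearMap.ext h

instance : AddCommGroup (Coind A J) := inferInstanceAs (AddCommGroup (A[X] →ₗ[A] J))

@[simp] theorem toLin_add (φ ψ : Coind A J) : toLin (φ + ψ) = toLin φ + toLin ψ := rfl
@[simp] theorem toLin_zero : toLin (0 : Coind A J) = 0 := rfl
@[simp] theorem toLin_sub (φ ψ : Coind A J) : toLin (φ - ψ) = toLin φ - toLin ψ := rfl

instance : SMul A[X] (Coind A J) where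
  smul r φ := ofLin ((toLin φ).comp (LinearMap.mulRight A r))

@[simp] theorem toLin_smul_apply (r : A[X]) (φ : Coind A J) (x : A[X]) :
    toLin (r • φ) x = toLin φ (x * r) := rfl

instance : Module A[X] (Coind A J) where
  one_smul φ := ext fun x => by rw [toLin_smul_apply, mul_one]
  mul_smul r s φ := ext fun x => by
    rw [toLin_smul_apply, toLin_smul_apply, toLin_smul_apply, mul_assoc]
  smul_zero r := ext fun x => by
    simp only [toLin_smul_apply, toLin_zero, LinearMap.zero_apply]
  smul_add r φ ψ := ext fun x => by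
    simp only [toLin_smul_apply, toLin_add, LinearMap.add_apply]
  add_smul r s φ := ext fun x => by
    simp only [toLin_smul_apply, toLin_add, LinearMap.add_apply, mul_add, map_add]
  zero_smul φ := ext fun x => by
    simp only [toLin_smul_apply, mul_zero, map_zero, toLin_zero, LinearMap.zero_apply]

/-- `Hom_A(A[X], J)` is an injective `A[X]`-module when `J` is an injective `A`-module. -/
theorem injective [Module.Injective A J] : Module.Injective A[X] (Coind A J) := by
  apply Module.Baer.injective
  intro 𝔞 g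
  let gb : 𝔞 →ₗ[A] J :=
    { toFun := fun a => toLin (g a) 1
      map_add' := fun a b => by rw [map_add, toLin_add, LinearMap.add_apply]
      map_smul' := fun c a => by
        have h1 : c • a = (C c : A[X]) • a := by
          apply Subtype.ext
          show c • (a : A[X]) = C c • (a : A[X])
          rw [smul_eq_mul, Polynomial.smul_eq_C_mul]
        rw [h1, map_smul, toLin_smul_apply, one_mul, RingHom.id_apply]
        have h2 : (C c : A[X]) = c • (1 : A[X]) := by
          rw [Polynomial.smul_eq_C_mul, mul_one]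
        rw [h2, map_smul] }
  obtain ⟨Gb, hGb⟩ := Module.Injective.extension_property A J 𝔞 A[X]
    (𝔞.subtype.restrictScalars A) Subtype.val_injective gb
  have hGb' : ∀ (a : A[X]) (ha : a ∈ 𝔞), Gb a = toLin (g ⟨a, ha⟩) 1 := fun a ha =>
    LinearMap.congr_fun hGb ⟨a, ha⟩
  let G : A[X] →ₗ[A[X]] Coind A J :=
    { toFun := fun r => ofLin (Gb.comp (LinearMap.mulRight A r))
      map_add' := fun r s => ext fun x => by
        show Gb (x * (r + s)) = Gb (x * r) + Gb (x * s)
        rw [mul_add, map_add]
      map_smul' := fun s r => ext fun x => by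
        show Gb (x * (s * r)) = Gb (x * s * r)
        rw [mul_assoc] }
  refine ⟨G, fun a ha => ext fun x => ?_⟩
  show Gb (x * a) = toLin (g ⟨a, ha⟩) x
  rw [hGb' (x * a) (𝔞.mul_mem_left x ha)]
  have h3 : (⟨x * a, 𝔞.mul_mem_left x ha⟩ : 𝔞) = x • ⟨a, ha⟩ := rfl
  rw [h3, map_smul, toLin_smul_apply, one_mul]

end Coind

section SES

variable (A : Type u) [CommRing A] (J : Type u) [AddCommGroup J] [Module A[X] J] [Module A J]
  [IsScalarTower A A[X] J]

open Coind

/-- `j ↦ (g ↦ g • j)`. -/
noncomputable def ι : J →ₗ[A[X]] Coind A J where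
  toFun j := ofLin ((LinearMap.toSpanSingleton A[X] J j).restrictScalars A)
  map_add' j j' := Coind.ext fun x => by
    show x • (j + j') = x • j + x • j'
    rw [smul_add]
  map_smul' r j := Coind.ext fun x => by
    show x • (r • j) = (x * r) • j
    rw [mul_smul]

theorem ι_apply (j : J) (x : A[X]) : toLin (ι A J j) x = x • j := rfl

/-- `φ ↦ (g ↦ φ (X g) - X φ(g))`. -/
noncomputable def δ : Coind A J →ₗ[A[X]] Coind A J where
  toFun φ := ofLin ((toLin φ).comp (LinearMap.mulLeft A (X : A[X])) - (X : A[X]) • toLin φ)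
  map_add' φ ψ := Coind.ext fun x => by
    show toLin (φ + ψ) (X * x) - (X : A[X]) • toLin (φ + ψ) x =
      (toLin φ (X * x) - (X : A[X]) • toLin φ x) + (toLin ψ (X * x) - (X : A[X]) • toLin ψ x)
    rw [toLin_add, LinearMap.add_apply, LinearMap.add_apply, smul_add]
    abel
  map_smul' r φ := Coind.ext fun x => by
    show toLin (r • φ) (X * x) - (X : A[X]) • toLin (r • φ) x =
      toLin φ (X * (x * r)) - (X : A[X]) • toLin φ (x * r)
    rw [toLin_smul_apply, toLin_smul_apply, mul_assoc]

theorem δ_apply (φ : Coind A J) (x : A[X]) :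
    toLin (δ A J φ) x = toLin φ (X * x) - (X : A[X]) • toLin φ x := rfl

theorem ι_injective : Function.Injective (ι A J) := by
  intro j j' h
  have h1 := congrArg (fun φ => toLin φ 1) h
  simpa [ι_apply] using h1

theorem toLin_eq_of_δ_eq_zero (φ : Coind A J) (h : δ A J φ = 0) (x : A[X]) :
    toLin φ x = x • toLin φ 1 := by
  have hX : ∀ g : A[X], toLin φ (X * g) = (X : A[X]) • toLin φ g := by
    intro g
    have h1 : toLin (δ A J φ) g = 0 := by rw [h]; rfl
    rw [δ_apply, sub_eq_zero] at h1
    exact h1
  have hpow : ∀ n : ℕ, toLin φ (X ^ n) = (X ^ n : A[X]) • toLin φ 1 := by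
    intro n
    induction n with
    | zero => rw [pow_zero, one_smul]
    | succ n ih => rw [pow_succ', hX, ih, mul_smul]
  have key : toLin φ = (LinearMap.toSpanSingleton A[X] J (toLin φ 1)).restrictScalars A := by
    apply (Polynomial.basisMonomials A).ext
    intro n
    rw [Polynomial.coe_basisMonomials]
    show toLin φ (monomial n 1) = (monomial n 1 : A[X]) • toLin φ 1
    rw [← Polynomial.X_pow_eq_monomial]
    exact hpow n
  exact LinearMap.congr_fun key x

theorem exact_ι_δ : Function.Exact (ι A J) (δ A J) := by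
  intro φ
  constructor
  · intro h
    refine ⟨toLin φ 1, Coind.ext fun x => ?_⟩
    rw [ι_apply, toLin_eq_of_δ_eq_zero A J φ h x]
  · rintro ⟨j, rfl⟩
    apply Coind.ext
    intro x
    rw [δ_apply, ι_apply, ι_apply, mul_smul, sub_self]
    rfl

theorem δ_surjective : Function.Surjective (δ A J) := by
  intro ψ
  let c : ℕ → J := fun n => Nat.rec (0 : J) (fun n cn => (X : A[X]) • cn + toLin ψ (X ^ n)) n
  have hc : ∀ n, c (n + 1) = (X : A[X]) • c n + toLin ψ (X ^ n) := fun n => rfl
  let φ : Coind A J := ofLin ((Polynomial.basisMonomials A).constr A c)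
  have hφ : ∀ n : ℕ, toLin φ (X ^ n) = c n := by
    intro n
    have h1 := (Polynomial.basisMonomials A).constr_basis A c n
    rw [Polynomial.coe_basisMonomials] at h1
    rw [Polynomial.X_pow_eq_monomial]
    exact h1
  refine ⟨φ, ?_⟩
  have key : toLin (δ A J φ) = toLin ψ := by
    apply (Polynomial.basisMonomials A).ext
    intro n
    rw [Polynomial.coe_basisMonomials]
    show toLin (δ A J φ) (monomial n 1) = toLin ψ (monomial n 1)
    rw [← Polynomial.X_pow_eq_monomial, δ_apply, ← pow_succ', hφ, hφ, hc]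
    abel
  exact key

end SES

section Main

open CategoryTheory.Abelian

variable (A : Type u) [CommRing A] [IsNoetherianRing A]

/-- `A[X] ⊗[A] E` is an injective `A`-module if `E` is. -/
theorem injective_tensor (E : Type u) [AddCommGroup E] [Module A E] [Module.Injective A E] :
    Module.Injective A (A[X] ⊗[A] E) := by
  classical
  have h1 : Module.Injective A (DirectSum (ULift.{u} ℕ) fun _ => E) :=
    Groth.Agent.S0300.result A (fun _ : ULift.{u} ℕ => E) (fun _ => inferInstance)
  let e : (DirectSum (ULift.{u} ℕ) fun _ => E) ≃ₗ[A] (A[X] ⊗[A] E) :=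
    (finsuppLEquivDirectSum A E (ULift.{u} ℕ)).symm ≪≫ₗ
      (Finsupp.domLCongr Equiv.ulift) ≪≫ₗ
      (TensorProduct.finsuppScalarLeft A E ℕ).symm ≪≫ₗ
      (TensorProduct.congr (Polynomial.basisMonomials A).repr.symm (LinearEquiv.refl A E))
  exact Module.Baer.injective ((Module.Baer.of_injective h1).of_equiv e)

variable {A} in
/-- `Ext^{n+2}(N, J) = 0` when `J` is an `A[X]`-module injective over `A`. -/
theorem subsingleton_ext (J : Type u) [AddCommGroup J] [Module A[X] J] [Module A J]
    [IsScalarTower A A[X] J] [Module.Injective A J] (N : ModuleCat.{u} A[X]) (n : ℕ) :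
    Subsingleton (Ext N (ModuleCat.of A[X] J) (n + 2)) := by
  have hS := Groth.Agent.H82.TorFlat.shortExact_of (ι A J) (δ A J) (ι_injective A J)
    (δ_surjective A J) (exact_ι_δ A J)
  haveI : Module.Injective A[X] (Coind A J) := Coind.injective
  haveI : Injective (ModuleCat.of A[X] (Coind A J)) :=
    Module.injective_object_of_injective_module A[X] (Coind A J)
  haveI : Injective (ModuleCat.shortComplexOfCompEqZero (ι A J) (δ A J)
      (exact_ι_δ A J).linearMap_comp_eq_zero).X₂ :=
    Module.injective_object_of_injective_module A[X] (Coind A J)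
  haveI : Injective (ModuleCat.shortComplexOfCompEqZero (ι A J) (δ A J)
      (exact_ι_δ A J).linearMap_comp_eq_zero).X₃ :=
    Module.injective_object_of_injective_module A[X] (Coind A J)
  refine ⟨fun a b => ?_⟩
  have key : ∀ x : Ext N (ModuleCat.of A[X] J) (n + 2), x = 0 := by
    intro x
    obtain ⟨x₃, hx₃⟩ := Ext.covariant_sequence_exact₁ N hS x (Ext.eq_zero_of_injective _)
      (rfl : (n + 1) + 1 = n + 2)
    rw [← hx₃, Ext.eq_zero_of_injective x₃, Ext.zero_comp]
  rw [key a, key b]

attribute [local instance] HasDerivedCategory.standard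

theorem main (E : Type u) [AddCommGroup E] [Module A E] [Module.Injective A E] :
    DRing.HasInjAmplitudeIn A[X] 0 1 (Dual.inD A[X] (A[X] ⊗[A] E)) := by
  haveI := injective_tensor A E
  refine ((Groth.Agent.S6965.result A[X] (Dual.inD A[X] (A[X] ⊗[A] E)) 0 1).out 2 0).1 ?_
  intro I i hi
  rcases hi with hi | hi
  · refine ⟨fun f g => ?_⟩
    have hz : ∀ f : DRing.ExtD A[X] (Dual.inD A[X] (A[X] ⧸ I)) (Dual.inD A[X] (A[X] ⊗[A] E)) i,
        f = 0 := fun f =>
      DerivedCategory.TStructure.t.zero_of_isLE_of_isGE f 0 (-i) (by omega) inferInstance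
        (DerivedCategory.TStructure.t.isGE_shift _ 0 i (-i) (by omega))
    rw [hz f, hz g]
  · obtain ⟨n, rfl⟩ := Int.eq_ofNat_of_zero_le (by omega : 0 ≤ i)
    have hn : 2 ≤ n := by omega
    obtain ⟨m, rfl⟩ := Nat.exists_eq_add_of_le' hn
    haveI := subsingleton_ext (A := A) (A[X] ⊗[A] E) (ModuleCat.of A[X] (A[X] ⧸ I)) m
    exact (Ext.homEquiv (X := ModuleCat.of A[X] (A[X] ⧸ I))
      (Y := ModuleCat.of A[X] (A[X] ⊗[A] E)) (n := m + 2)).symm.subsingleton

end Main

end

end Groth.Agent.H12.PolyInj
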