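import Mathlib
import Groth.Agent.H12.RGamHDI_A
import Groth.Agent.H6.QCoprod

/-!
# Maps `A/I^n[-q] → J` into a K-injective complex (helper12)
-/

set_option autoImplicit false
universe u
open CategoryTheory CategoryTheory.Limits Opposite
attribute [local instance] HasDerivedCategory.standard

namespace Groth.Agent.H12.RGamHDI

open DerivedCategory

section CM

variable {A : Type u} [CommRing A] (I : Ideal A) (J : CochainComplex (ModuleCat.{u} A) ℤ) (q : ℤ)

/-- the module `A/I^n` -/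
noncomputable abbrev Mn (n : ℕ) : ModuleCat.{u} A :=
  (localCohomology.ringModIdeals (localCohomology.idealPowersDiagram I)).obj (op n)

/-- the class of `a` in `A/I^n` -/
def mkn (n : ℕ) (a : A) : Mn I n := (Submodule.Quotient.mk a : A ⧸ (I ^ n))

theorem mkn_surjective (n : ℕ) (s : Mn I n) : ∃ a : A, mkn I n a = s :=
  Submodule.Quotient.mk_surjective (I ^ n) s

theorem mkn_eq_smul (n : ℕ) (a : A) : mkn I n a = a • mkn I n 1 := by
  show (Submodule.Quotient.mk a : A ⧸ (I ^ n)) = a • (Submodule.Quotient.mk 1 : A ⧸ (I ^ n))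
  rw [← Submodule.Quotient.mk_smul, smul_eq_mul, mul_one]

theorem mkn_eq_zero (n : ℕ) (a : A) (ha : a ∈ I ^ n) : mkn I n a = 0 :=
  (Submodule.Quotient.mk_eq_zero (I ^ n)).2 ha

/-- the transition map `A/I^m → A/I^n` -/
noncomputable abbrev trM {n m : ℕ} (h : n ≤ m) : Mn I m ⟶ Mn I n :=
  (localCohomology.ringModIdeals (localCohomology.idealPowersDiagram I)).map (homOfLE h).op

theorem trM_mkn {n m : ℕ} (h : n ≤ m) (a : A) : (trM I h).hom (mkn I m a) = mkn I n a := rfl

/-- killed by `I^n` and closed -/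
def IsZn (n : ℕ) (x : J.X q) : Prop :=
  (∀ a ∈ I ^ n, a • x = 0) ∧ (J.d q (q + 1)).hom x = 0

variable {I J q}

theorem IsZn.mono {n m : ℕ} (h : n ≤ m) {x : J.X q} (hx : IsZn I J q n x) : IsZn I J q m x :=
  ⟨fun a ha => hx.1 a (Ideal.pow_le_pow_right h ha), hx.2⟩

/-- `A/I^n → J^q`, `1 ↦ x` -/
noncomputable def phi (n : ℕ) (x : J.X q) (hx : ∀ a ∈ I ^ n, a • x = 0) : Mn I n ⟶ J.X q :=
  ModuleCat.ofHom (Submodule.liftQ (I ^ n) (LinearMap.toSpanSingleton A (J.X q) x)
    (fun a ha => LinearMap.mem_ker.2 (by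
      rw [LinearMap.toSpanSingleton_apply]
      exact hx a ha)))

theorem phi_mkn (n : ℕ) (x : J.X q) (hx : ∀ a ∈ I ^ n, a • x = 0) (a : A) :
    (phi n x hx).hom (mkn I n a) = a • x := by
  show LinearMap.toSpanSingleton A (J.X q) x a = a • x
  rw [LinearMap.toSpanSingleton_apply]

theorem hom_eq_phi (n : ℕ) (ψ : Mn I n ⟶ J.X q) :
    ∃ hx : ∀ a ∈ I ^ n, a • ψ.hom (mkn I n 1) = 0, ψ = phi n (ψ.hom (mkn I n 1)) hx := by
  have hx : ∀ a ∈ I ^ n, a • ψ.hom (mkn I n 1) = 0 := by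
    intro a ha
    rw [← map_smul, ← mkn_eq_smul, mkn_eq_zero I n a ha, map_zero]
  refine ⟨hx, ?_⟩
  ext s
  obtain ⟨a, rfl⟩ := mkn_surjective I n s
  rw [phi_mkn, mkn_eq_smul, map_smul]

/-- the single complex `A/I^n[-q]` -/
noncomputable abbrev Sn (I : Ideal A) (q : ℤ) (n : ℕ) : CochainComplex (ModuleCat.{u} A) ℤ :=
  (HomologicalComplex.single (ModuleCat.{u} A) (ComplexShape.up ℤ) q).obj (Mn I n)

/-- the chain map `A/I^n[-q] → J` attached to a cocycle killed by `I^n` -/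
noncomputable def cm (n : ℕ) (x : J.X q) (hx : IsZn I J q n x) : Sn I q n ⟶ J :=
  HomologicalComplex.mkHomFromSingle (phi n x hx.1) (fun k hk => by
    have hk' : q + 1 = k := hk
    subst hk'
    ext s
    obtain ⟨a, rfl⟩ := mkn_surjective I n s
    show (J.d q (q + 1)).hom ((phi n x hx.1).hom (mkn I n a)) = 0
    rw [phi_mkn, map_smul, hx.2, smul_zero])

theorem cm_f (n : ℕ) (x : J.X q) (hx : IsZn I J q n x) :
    (cm n x hx).f q =
      (HomologicalComplex.singleObjXSelf (ComplexShape.up ℤ) q (Mn I n)).hom ≫ phi n x hx.1 :=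
  HomologicalComplex.mkHomFromSingle_f _ _

theorem cm_add (n : ℕ) (x x' : J.X q) (hx : IsZn I J q n x) (hx' : IsZn I J q n x')
    (hxx' : IsZn I J q n (x + x')) : cm n (x + x') hxx' = cm n x hx + cm n x' hx' := by
  apply HomologicalComplex.from_single_hom_ext
  rw [HomologicalComplex.add_f_apply, cm_f, cm_f, cm_f, ← Preadditive.comp_add]
  congr 1
  ext s
  obtain ⟨a, rfl⟩ := mkn_surjective I n s
  rw [ModuleCat.hom_add, LinearMap.add_apply, phi_mkn, phi_mkn, phi_mkn, smul_add]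

theorem cm_smul (n : ℕ) (b : A) (x : J.X q) (hx : IsZn I J q n x)
    (hbx : IsZn I J q n (b • x)) : cm n (b • x) hbx = b • cm n x hx := by
  apply HomologicalComplex.from_single_hom_ext
  rw [HomologicalComplex.smul_f_apply, cm_f, cm_f, ← Linear.comp_smul]
  congr 1
  ext s
  obtain ⟨a, rfl⟩ := mkn_surjective I n s
  rw [ModuleCat.hom_smul, LinearMap.smul_apply, phi_mkn, phi_mkn, smul_comm]

theorem cm_res {n m : ℕ} (h : n ≤ m) (x : J.X q) (hx : IsZn I J q n x) :
    (HomologicalComplex.single (ModuleCat.{u} A) (ComplexShape.up ℤ) q).map (trM I h) ≫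
      cm n x hx = cm m x (hx.mono h) := by
  apply HomologicalComplex.from_single_hom_ext
  rw [HomologicalComplex.comp_f, HomologicalComplex.single_map_f_self, cm_f, cm_f,
    Category.assoc, Category.assoc, Iso.inv_hom_id_assoc]
  congr 1
  ext s
  obtain ⟨a, rfl⟩ := mkn_surjective I m s
  rw [ModuleCat.hom_comp, LinearMap.comp_apply, trM_mkn, phi_mkn, phi_mkn]

theorem exists_eq_cm (n : ℕ) (c : Sn I q n ⟶ J) :
    ∃ (x : J.X q) (hx : IsZn I J q n x), c = cm n x hx := by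
  let ψ : Mn I n ⟶ J.X q :=
    (HomologicalComplex.singleObjXSelf (ComplexShape.up ℤ) q (Mn I n)).inv ≫ c.f q
  obtain ⟨hx1, hψ⟩ := hom_eq_phi n ψ
  have hd : ψ ≫ J.d q (q + 1) = 0 := by
    have h1 := c.comm q (q + 1)
    rw [HomologicalComplex.single_obj_d, zero_comp] at h1
    rw [Category.assoc, h1, comp_zero]
  have hx2 : (J.d q (q + 1)).hom (ψ.hom (mkn I n 1)) = 0 :=
    congrArg (fun t => t.hom (mkn I n 1)) hd
  refine ⟨ψ.hom (mkn I n 1), ⟨hx1, hx2⟩, ?_⟩
  apply HomologicalComplex.from_single_hom_ext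
  rw [cm_f, ← hψ]
  exact (Iso.hom_inv_id_assoc _ _).symm

/-- the null homotopy of the chain map attached to a coboundary -/
noncomputable def bdryHomotopy (p : ℤ) (hpq : p + 1 = q) (n : ℕ) (y : J.X p)
    (hy : ∀ a ∈ I ^ n, a • y = 0) (hx : IsZn I J q n ((J.d p q).hom y)) :
    Homotopy (cm n ((J.d p q).hom y) hx) 0 where
  hom i j :=
    if h : i = q ∧ j = p then
      eqToHom (by rw [h.1]) ≫
        (HomologicalComplex.singleObjXSelf (ComplexShape.up ℤ) q (Mn I n)).hom ≫ phi n y hy ≫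
          eqToHom (by rw [h.2])
    else 0
  zero i j hij := by
    rw [dif_neg]
    rintro ⟨rfl, rfl⟩
    exact hij hpq
  comm i := by
    by_cases hi : i = q
    · subst hi
      have hrel : (ComplexShape.up ℤ).Rel p i := hpq
      rw [prevD_eq _ hrel, dNext_eq _ (show (ComplexShape.up ℤ).Rel i (i + 1) from rfl),
        HomologicalComplex.single_obj_d, zero_comp, zero_add, HomologicalComplex.zero_f, add_zero,
        dif_pos ⟨rfl, rfl⟩, cm_f]
      simp only [eqToHom_refl, Category.id_comp, Category.comp_id, Category.assoc]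
      congr 1
      ext s
      obtain ⟨a, rfl⟩ := mkn_surjective I n s
      rw [ModuleCat.hom_comp, LinearMap.comp_apply, phi_mkn, phi_mkn, map_smul]
    · exact (HomologicalComplex.isZero_single_obj_X (ComplexShape.up ℤ) q (Mn I n) i hi).eq_of_src
        _ _

theorem Q_map_cm_bdry (p : ℤ) (hpq : p + 1 = q) (n : ℕ) (y : J.X p)
    (hy : ∀ a ∈ I ^ n, a • y = 0) (hx : IsZn I J q n ((J.d p q).hom y)) :
    Q.map (cm n ((J.d p q).hom y) hx) = 0 := by
  rw [H6.QCoprod.Q_map_eq_of_homotopy _ _ (bdryHomotopy p hpq n y hy hx), Functor.map_zero]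

theorem exists_of_Q_map_cm_eq_zero [J.IsKInjective] (p : ℤ) (hpq : p + 1 = q) (n : ℕ)
    (x : J.X q) (hx : IsZn I J q n x) (h0 : Q.map (cm n x hx) = 0) :
    ∃ y : J.X p, (∀ a ∈ I ^ n, a • y = 0) ∧ (J.d p q).hom y = x := by
  have h0' : Q.map (cm n x hx) = Q.map (0 : Sn I q n ⟶ J) := by rw [h0, Functor.map_zero]
  obtain ⟨hh⟩ := H6.QCoprod.homotopy_of_Q_map_eq (Sn I q n) J _ _ h0'
  let ψ : Mn I n ⟶ J.X p :=
    (HomologicalComplex.singleObjXSelf (ComplexShape.up ℤ) q (Mn I n)).inv ≫ hh.hom q p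
  obtain ⟨hy, hψ⟩ := hom_eq_phi n ψ
  refine ⟨ψ.hom (mkn I n 1), hy, ?_⟩
  have hrel : (ComplexShape.up ℤ).Rel p q := hpq
  have hc := hh.comm q
  rw [prevD_eq _ hrel, dNext_eq _ (show (ComplexShape.up ℤ).Rel q (q + 1) from rfl),
    HomologicalComplex.single_obj_d, zero_comp, zero_add, HomologicalComplex.zero_f, add_zero,
    cm_f] at hc
  have hc' : phi n x hx.1 = ψ ≫ J.d p q := by
    rw [Category.assoc, ← hc, Iso.inv_hom_id_assoc]
  have := congrArg (fun t => t.hom (mkn I n 1)) hc'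
  have h1 : (phi n x hx.1).hom (mkn I n 1) = x := by rw [phi_mkn, one_smul]
  rw [← h1]
  exact this.symm

end CM

end Groth.Agent.H12.RGamHDI
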