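import Mathlib
import Groth.Agent.H12.RGamHDI_B
import Groth.Agent.H5.KInj.DerivedAdj
import Groth.Agent.S0476
import Groth.Prelude.Def_DRing3

/-!
# `H^q(RΓ_I K) ≅ colim_n Hom(A/I^n, K[q])` (helper12)
-/

set_option autoImplicit false
universe u
open CategoryTheory CategoryTheory.Limits Opposite
attribute [local instance] HasDerivedCategory.standard

namespace Groth.Agent.H12.RGamHDI

open DerivedCategory

section Transfer

variable {A : Type u} [CommRing A] (I : Ideal A) (J : CochainComplex (ModuleCat.{u} A) ℤ) (q : ℤ)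

/-- the single complex functor -/
noncomputable abbrev Sq : ModuleCat.{u} A ⥤ CochainComplex (ModuleCat.{u} A) ℤ :=
  HomologicalComplex.single (ModuleCat.{u} A) (ComplexShape.up ℤ) q

/-- `(Q (single_q M))[q] ≅ M[0]` -/
noncomputable def sig (M : ModuleCat.{u} A) :
    (Q.obj ((Sq q).obj M))⟦q⟧ ≅ (singleFunctor (ModuleCat.{u} A) 0).obj M :=
  (shiftFunctor (Dual.D A) q).mapIso ((singleFunctorIsoCompQ (ModuleCat.{u} A) q).app M).symm ≪≫
    ((DerivedCategory.singleFunctors (ModuleCat.{u} A)).shiftIso q 0 q (add_zero q)).app M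

theorem sig_natural {M M' : ModuleCat.{u} A} (g : M ⟶ M') :
    (Q.map ((Sq q).map g))⟦q⟧' ≫ (sig q M').hom =
      (sig q M).hom ≫ (singleFunctor (ModuleCat.{u} A) 0).map g := by
  let κ := singleFunctorIsoCompQ (ModuleCat.{u} A) q
  let s := (DerivedCategory.singleFunctors (ModuleCat.{u} A)).shiftIso q 0 q (add_zero q)
  let a : Q.obj ((Sq q).obj M) ⟶ (singleFunctor (ModuleCat.{u} A) q).obj M := κ.inv.app M
  let a' : Q.obj ((Sq q).obj M') ⟶ (singleFunctor (ModuleCat.{u} A) q).obj M' := κ.inv.app M'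
  let b : ((singleFunctor (ModuleCat.{u} A) q).obj M)⟦q⟧ ⟶
      (singleFunctor (ModuleCat.{u} A) 0).obj M := s.hom.app M
  let b' : ((singleFunctor (ModuleCat.{u} A) q).obj M')⟦q⟧ ⟶
      (singleFunctor (ModuleCat.{u} A) 0).obj M' := s.hom.app M'
  have h2 : Q.map ((Sq q).map g) ≫ a' = a ≫ (singleFunctor (ModuleCat.{u} A) q).map g :=
    κ.inv.naturality g
  have h3 : ((singleFunctor (ModuleCat.{u} A) q).map g)⟦q⟧' ≫ b' =
      b ≫ (singleFunctor (ModuleCat.{u} A) 0).map g := s.hom.naturality g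
  show (Q.map ((Sq q).map g))⟦q⟧' ≫ (a'⟦q⟧' ≫ b') =
    (a⟦q⟧' ≫ b) ≫ (singleFunctor (ModuleCat.{u} A) 0).map g
  calc (Q.map ((Sq q).map g))⟦q⟧' ≫ (a'⟦q⟧' ≫ b')
      = ((Q.map ((Sq q).map g))⟦q⟧' ≫ a'⟦q⟧') ≫ b' := (Category.assoc _ _ _).symm
    _ = (Q.map ((Sq q).map g) ≫ a')⟦q⟧' ≫ b' := by rw [Functor.map_comp]
    _ = (a ≫ (singleFunctor (ModuleCat.{u} A) q).map g)⟦q⟧' ≫ b' := by rw [h2]
    _ = (a⟦q⟧' ≫ ((singleFunctor (ModuleCat.{u} A) q).map g)⟦q⟧') ≫ b' := by
      rw [Functor.map_comp]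
    _ = a⟦q⟧' ≫ (((singleFunctor (ModuleCat.{u} A) q).map g)⟦q⟧' ≫ b') := Category.assoc _ _ _
    _ = a⟦q⟧' ≫ (b ≫ (singleFunctor (ModuleCat.{u} A) 0).map g) := by rw [h3]
    _ = (a⟦q⟧' ≫ b) ≫ (singleFunctor (ModuleCat.{u} A) 0).map g := (Category.assoc _ _ _).symm

variable {I J q}

/-- the element of `Hom(A/I^n[0], Y)` attached to a cocycle killed by `I^n` -/
noncomputable def E {Y : Dual.D A} (eY : (Q.obj J)⟦q⟧ ≅ Y) (n : ℕ) (x : J.X q)
    (hx : IsZn I J q n x) : (QDI I).obj (op n) ⟶ Y :=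
  (sig q (Mn I n)).inv ≫ (Q.map (cm n x hx))⟦q⟧' ≫ eY.hom

variable {Y : Dual.D A} (eY : (Q.obj J)⟦q⟧ ≅ Y)

theorem E_congr (n : ℕ) {x x' : J.X q} (h : x = x') (hx : IsZn I J q n x)
    (hx' : IsZn I J q n x') : E eY n x hx = E eY n x' hx' := by
  subst h
  rfl

theorem E_res {n m : ℕ} (h : n ≤ m) (x : J.X q) (hx : IsZn I J q n x) :
    tr I h ≫ E eY n x hx = E eY m x (hx.mono h) := by
  have h1 := sig_natural q (trM I h)
  have h2 : (singleFunctor (ModuleCat.{u} A) 0).map (trM I h) ≫ (sig q (Mn I n)).inv =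
      (sig q (Mn I m)).inv ≫ (Q.map ((Sq q).map (trM I h)))⟦q⟧' := by
    rw [Iso.comp_inv_eq, Category.assoc, h1, Iso.inv_hom_id_assoc]
  show (singleFunctor (ModuleCat.{u} A) 0).map (trM I h) ≫
      ((sig q (Mn I n)).inv ≫ (Q.map (cm n x hx))⟦q⟧' ≫ eY.hom) =
    (sig q (Mn I m)).inv ≫ (Q.map (cm m x (hx.mono h)))⟦q⟧' ≫ eY.hom
  rw [← Category.assoc, h2, Category.assoc, ← Category.assoc ((Q.map ((Sq q).map (trM I h)))⟦q⟧'),
    ← Functor.map_comp, ← Functor.map_comp, cm_res h x hx]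

theorem E_add (n : ℕ) (x x' : J.X q) (hx : IsZn I J q n x) (hx' : IsZn I J q n x')
    (hxx' : IsZn I J q n (x + x')) : E eY n (x + x') hxx' = E eY n x hx + E eY n x' hx' := by
  unfold E
  rw [cm_add n x x' hx hx' hxx', Functor.map_add, Functor.map_add, Preadditive.add_comp,
    Preadditive.comp_add]

theorem E_smul (n : ℕ) (b : A) (x : J.X q) (hx : IsZn I J q n x)
    (hbx : IsZn I J q n (b • x)) : E eY n (b • x) hbx = b • E eY n x hx := by
  unfold E
  rw [cm_smul n b x hx hbx, Functor.map_smul, Functor.map_smul, Linear.smul_comp,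
    Linear.comp_smul]

theorem E_eq_zero_iff (n : ℕ) (x : J.X q) (hx : IsZn I J q n x) :
    E eY n x hx = 0 ↔ Q.map (cm n x hx) = 0 := by
  constructor
  · intro h
    have h1 : (Q.map (cm n x hx))⟦q⟧' ≫ eY.hom = 0 := by
      rw [← cancel_epi (sig q (Mn I n)).inv, comp_zero]
      exact h
    have h2 : (Q.map (cm n x hx))⟦q⟧' = 0 := by
      rw [← cancel_mono eY.hom, zero_comp]
      exact h1
    apply (shiftFunctor (Dual.D A) q).map_injective
    rw [Functor.map_zero]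
    exact h2
  · intro h
    unfold E
    rw [h, Functor.map_zero, zero_comp, comp_zero]

theorem E_surj [J.IsKInjective] (n : ℕ) (g : (QDI I).obj (op n) ⟶ Y) :
    ∃ (x : J.X q) (hx : IsZn I J q n x), E eY n x hx = g := by
  let g₁ : (Q.obj ((Sq q).obj (Mn I n)))⟦q⟧ ⟶ (Q.obj J)⟦q⟧ :=
    (sig q (Mn I n)).hom ≫ g ≫ eY.inv
  obtain ⟨g₂, hg₂⟩ := (shiftFunctor (Dual.D A) q).map_surjective g₁
  obtain ⟨c, hc⟩ := H6.QCoprod.exists_lift ((Sq q).obj (Mn I n)) J g₂
  obtain ⟨x, hx, rfl⟩ := exists_eq_cm n c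
  refine ⟨x, hx, ?_⟩
  unfold E
  rw [hc, hg₂]
  show (sig q (Mn I n)).inv ≫ ((sig q (Mn I n)).hom ≫ g ≫ eY.inv) ≫ eY.hom = g
  rw [Category.assoc, Category.assoc, eY.inv_hom_id, Category.comp_id, Iso.inv_hom_id_assoc]

end Transfer

section Main

variable {A : Type u} [CommRing A] (I : Ideal A) (J : CochainComplex (ModuleCat.{u} A) ℤ) (q : ℤ)

/-- the complex `Γ_I(J)` -/
noncomputable abbrev GJ : CochainComplex (ModuleCat.{u} A) ℤ :=
  ((DRing.gammaI I).mapHomologicalComplex (ComplexShape.up ℤ)).obj J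

variable {I J}

/-- the underlying element -/
def val {i : ℤ} (g : (GJ I J).X i) : J.X i := (show DRing.torsionSub I (J.X i) from g).1

theorem val_prop {i : ℤ} (g : (GJ I J).X i) : ∃ n : ℕ, ∀ a ∈ I ^ n, a • val g = 0 :=
  (show DRing.torsionSub I (J.X i) from g).2

/-- constructor -/
def mkG {i : ℤ} (x : J.X i) (hx : ∃ n : ℕ, ∀ a ∈ I ^ n, a • x = 0) : (GJ I J).X i :=
  (⟨x, hx⟩ : DRing.torsionSub I (J.X i))

theorem val_mkG {i : ℤ} (x : J.X i) (hx : ∃ n : ℕ, ∀ a ∈ I ^ n, a • x = 0) :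
    val (mkG x hx) = x := rfl

theorem val_injective {i : ℤ} : Function.Injective (val : (GJ I J).X i → J.X i) :=
  fun _ _ h => Subtype.ext h

theorem val_d (i j : ℤ) (g : (GJ I J).X i) :
    val (((GJ I J).d i j).hom g) = (J.d i j).hom (val g) := rfl

theorem val_add {i : ℤ} (g g' : (GJ I J).X i) : val (g + g') = val g + val g' := rfl

theorem val_smul {i : ℤ} (a : A) (g : (GJ I J).X i) : val (a • g) = a • val g := rfl

theorem val_zero {i : ℤ} : val (0 : (GJ I J).X i) = 0 := rfl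

theorem exists_isZn_of_cycle (z : (GJ I J).cycles q) :
    ∃ n : ℕ, IsZn I J q n (val (((GJ I J).iCycles q).hom z)) := by
  obtain ⟨n, hn⟩ := val_prop (((GJ I J).iCycles q).hom z)
  refine ⟨n, hn, ?_⟩
  rw [← val_d, d_iCycles]
  rfl

variable {q} {Y : Dual.D A} (eY : (Q.obj J)⟦q⟧ ≅ Y)

/-- the class in the colimit of a cocycle killed by some power of `I` -/
noncomputable def elt (x : J.X q) (hx : ∃ n : ℕ, IsZn I J q n x) : HYI I Y :=
  ι I Y (Classical.choose hx) (E eY (Classical.choose hx) x (Classical.choose_spec hx))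

theorem elt_eq (x : J.X q) (hx : ∃ n : ℕ, IsZn I J q n x) (n : ℕ) (h : IsZn I J q n x) :
    elt eY x hx = ι I Y n (E eY n x h) := by
  have key : ∀ {n m : ℕ} (hnm : n ≤ m) (h : IsZn I J q n x),
      ι I Y n (E eY n x h) = ι I Y m (E eY m x (h.mono hnm)) := by
    intro n m hnm h
    rw [← ι_res I Y hnm, E_res]
  unfold elt
  rw [key (le_max_left (Classical.choose hx) n) (Classical.choose_spec hx),
    key (le_max_right (Classical.choose hx) n) h]

/-- the map on cycles -/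
noncomputable def Zlin : (GJ I J).cycles q →ₗ[A] HYI I Y where
  toFun z := elt eY (val (((GJ I J).iCycles q).hom z)) (exists_isZn_of_cycle q z)
  map_add' z z' := by
    obtain ⟨n, hn⟩ := exists_isZn_of_cycle q z
    obtain ⟨n', hn'⟩ := exists_isZn_of_cycle q z'
    have h1 := hn.mono (le_max_left n n')
    have h2 := hn'.mono (le_max_right n n')
    have hv : val (((GJ I J).iCycles q).hom (z + z')) =
        val (((GJ I J).iCycles q).hom z) + val (((GJ I J).iCycles q).hom z') := by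
      rw [map_add, val_add]
    have h3 : IsZn I J q (max n n') (val (((GJ I J).iCycles q).hom z) +
        val (((GJ I J).iCycles q).hom z')) :=
      ⟨fun a ha => by rw [smul_add, h1.1 a ha, h2.1 a ha, add_zero],
        by rw [map_add, h1.2, h2.2, add_zero]⟩
    have h3' : IsZn I J q (max n n') (val (((GJ I J).iCycles q).hom (z + z'))) := by
      rw [hv]; exact h3
    rw [elt_eq eY _ _ _ h1, elt_eq eY _ _ _ h2, elt_eq eY _ _ _ h3',
      E_congr eY _ hv h3' h3, E_add eY _ _ _ h1 h2 h3, map_add]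
  map_smul' b z := by
    obtain ⟨n, hn⟩ := exists_isZn_of_cycle q z
    have hv : val (((GJ I J).iCycles q).hom (b • z)) = b • val (((GJ I J).iCycles q).hom z) := by
      rw [map_smul, val_smul]
    have h3 : IsZn I J q n (b • val (((GJ I J).iCycles q).hom z)) :=
      ⟨fun a ha => by rw [smul_comm, hn.1 a ha, smul_zero],
        by rw [map_smul, hn.2, smul_zero]⟩
    have h3' : IsZn I J q n (val (((GJ I J).iCycles q).hom (b • z))) := by
      rw [hv]; exact h3
    rw [elt_eq eY _ _ _ hn, elt_eq eY _ _ _ h3', E_congr eY _ hv h3' h3, E_smul eY _ _ _ hn h3,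
      map_smul]
    rfl

theorem Zlin_apply (z : (GJ I J).cycles q) (n : ℕ)
    (h : IsZn I J q n (val (((GJ I J).iCycles q).hom z))) :
    Zlin eY z = ι I Y n (E eY n _ h) :=
  elt_eq eY _ _ n h

theorem ker_le_ker_Zlin :
    LinearMap.ker ((GJ I J).homologyπ q).hom ≤ LinearMap.ker (Zlin eY) := by
  intro z hz
  rw [LinearMap.mem_ker] at hz ⊢
  obtain ⟨y', hy'⟩ := (homologyπ_eq_zero_iff (GJ I J) (q - 1) q (by omega) z).1 hz
  obtain ⟨n, hn⟩ := exists_isZn_of_cycle q z
  obtain ⟨m, hm⟩ := val_prop y'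
  have hv : val (((GJ I J).iCycles q).hom z) = (J.d (q - 1) q).hom (val y') := by
    rw [← hy', iCycles_toCycles, val_d]
  have hn' := hn.mono (le_max_left n m)
  have hm' : ∀ a ∈ I ^ (max n m), a • val y' = 0 :=
    fun a ha => hm a (Ideal.pow_le_pow_right (le_max_right n m) ha)
  have hn'' : IsZn I J q (max n m) ((J.d (q - 1) q).hom (val y')) := by
    rw [← hv]; exact hn'
  rw [Zlin_apply eY z _ hn', E_congr eY _ hv hn' hn'',
    (E_eq_zero_iff eY _ _ hn'').2 (Q_map_cm_bdry (q - 1) (by omega) _ (val y') hm' hn''),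
    map_zero]

/-- the comparison map `H^q(Γ_I J) → colim_n Hom(A/I^n, Y)` -/
noncomputable def Xi : (GJ I J).homology q →ₗ[A] HYI I Y :=
  (Submodule.liftQ (LinearMap.ker ((GJ I J).homologyπ q).hom) (Zlin eY)
    (ker_le_ker_Zlin eY)).comp
    ((((GJ I J).homologyπ q).hom.quotKerEquivOfSurjective
      (homologyπ_surjective (GJ I J) q)).symm : _ →ₗ[A] _)

theorem Xi_π (z : (GJ I J).cycles q) :
    Xi eY (((GJ I J).homologyπ q).hom z) = Zlin eY z := by
  have h1 : (((GJ I J).homologyπ q).hom.quotKerEquivOfSurjective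
      (homologyπ_surjective (GJ I J) q)).symm (((GJ I J).homologyπ q).hom z) =
      Submodule.Quotient.mk z :=
    LinearMap.quotKerEquivOfSurjective_symm_apply _ _ z
  show (Submodule.liftQ (LinearMap.ker ((GJ I J).homologyπ q).hom) (Zlin eY)
    (ker_le_ker_Zlin eY)) ((((GJ I J).homologyπ q).hom.quotKerEquivOfSurjective
      (homologyπ_surjective (GJ I J) q)).symm (((GJ I J).homologyπ q).hom z)) = Zlin eY z
  rw [h1]
  exact Submodule.liftQ_apply _ _ _

theorem Xi_bijective [J.IsKInjective] : Function.Bijective (Xi (I := I) eY) := by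
  constructor
  · refine (injective_iff_map_eq_zero (Xi (I := I) eY)).2 (fun w hw => ?_)
    obtain ⟨z, rfl⟩ := homologyπ_surjective (GJ I J) q w
    rw [Xi_π] at hw
    obtain ⟨n, hn⟩ := exists_isZn_of_cycle q z
    rw [Zlin_apply eY z n hn] at hw
    obtain ⟨m, hnm, h0⟩ := exists_res_eq_zero I Y n _ hw
    rw [E_res eY hnm _ hn, E_eq_zero_iff] at h0
    obtain ⟨y, hy, hdy⟩ := exists_of_Q_map_cm_eq_zero (q - 1) (by omega) m _ (hn.mono hnm) h0
    refine (homologyπ_eq_zero_iff (GJ I J) (q - 1) q (by omega) z).2 ⟨mkG y ⟨m, hy⟩, ?_⟩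
    apply iCycles_injective (GJ I J) q
    apply val_injective
    rw [iCycles_toCycles, val_d, val_mkG]
    exact hdy
  · intro w
    obtain ⟨n, g, rfl⟩ := exists_rep I Y w
    obtain ⟨x, hx, rfl⟩ := E_surj eY n g
    have hdx : ((GJ I J).d q (q + 1)).hom (mkG x ⟨n, hx.1⟩) = 0 := by
      apply val_injective
      rw [val_d, val_mkG, val_zero]
      exact hx.2
    obtain ⟨z, hz⟩ := exists_cycle (GJ I J) q (q + 1) rfl (mkG x ⟨n, hx.1⟩) hdx
    refine ⟨((GJ I J).homologyπ q).hom z, ?_⟩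
    have hv : val (((GJ I J).iCycles q).hom z) = x := by rw [hz, val_mkG]
    have hx' : IsZn I J q n (val (((GJ I J).iCycles q).hom z)) := by rw [hv]; exact hx
    rw [Xi_π, Zlin_apply eY z n hx', E_congr eY n hv hx' hx]

end Main

end Groth.Agent.H12.RGamHDI
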