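import Mathlib
import Groth.Agent.H12.RGamHDI_C

/-!
# `H^q(RΓ_I K) ≅ colim_n Hom(A/I^n, K[q])`: the statement (helper12)
-/

set_option autoImplicit false
universe u
open CategoryTheory CategoryTheory.Limits Opposite
attribute [local instance] HasDerivedCategory.standard

namespace Groth.Agent.H12.RGamHDI

open DerivedCategory

theorem main {A : Type u} [CommRing A] (I : Ideal A) [DRing.HasRgammaI I] (K : Dual.D A) (q : ℤ) :
    Nonempty (Dual.HD A ((DRing.RgammaI I).obj K) q ≃ₗ[A] Dual2.HDI A I K q) := by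
  obtain ⟨J, ιK, hJ, hι, -, -⟩ := Groth.Agent.S0476.result (Q.objPreimage K)
  haveI := hJ
  haveI hιq : IsIso (Q.map ιK) := (isIso_Q_map_iff_quasiIso _ ιK).2 hι
  let e : Q.obj J ≅ K := (asIso (Q.map ιK)).symm ≪≫ Q.objObjPreimageIso K
  let W := HomotopyCategory.quasiIso (ModuleCat.{u} A) (ComplexShape.up ℤ)
  let β := (DRing.gammaIKh I).totalRightDerivedUnit DerivedCategory.Qh W
  let qJ := (HomotopyCategory.quotient (ModuleCat.{u} A) (ComplexShape.up ℤ)).obj J
  haveI hβ : IsIso (β.app qJ) :=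
    H5.KInjDer.isIso_app_quotient_of_isKInjective (DRing.gammaIKh I) (DRing.RgammaI I) β J
  let Eiso : HomotopyCategory.quotient (ModuleCat.{u} A) (ComplexShape.up ℤ) ⋙ DRing.gammaIKh I ≅
      (DRing.gammaI I).mapHomologicalComplex (ComplexShape.up ℤ) ⋙ DerivedCategory.Q :=
    (Functor.associator _ _ _).symm ≪≫
      Functor.isoWhiskerRight ((DRing.gammaI I).mapHomotopyCategoryFactors (ComplexShape.up ℤ))
        DerivedCategory.Qh ≪≫ Functor.associator _ _ _ ≪≫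
      Functor.isoWhiskerLeft _ (DerivedCategory.quotientCompQhIso (ModuleCat.{u} A))
  let r1 : (DRing.RgammaI I).obj K ≅ (DRing.RgammaI I).obj (Q.obj J) :=
    (DRing.RgammaI I).mapIso e.symm
  let r2 : (DRing.RgammaI I).obj (Q.obj J) ≅ (DRing.gammaIKh I).obj qJ := (asIso (β.app qJ)).symm
  let r3 : (DRing.gammaIKh I).obj qJ ≅ Q.obj (GJ I J) := Eiso.app J
  let r : (DRing.RgammaI I).obj K ≅ Q.obj (GJ I J) := r1 ≪≫ r2 ≪≫ r3
  let l1 : Dual.HD A ((DRing.RgammaI I).obj K) q ≃ₗ[A] (GJ I J).homology q :=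
    ((homologyFunctor (ModuleCat.{u} A) q).mapIso r ≪≫
      (homologyFunctorFactors (ModuleCat.{u} A) q).app (GJ I J)).toLinearEquiv
  let eY : (Q.obj J)⟦q⟧ ≅ K⟦q⟧ := (shiftFunctor (Dual.D A) q).mapIso e
  let l2 : (GJ I J).homology q ≃ₗ[A] HYI I (K⟦q⟧) :=
    LinearEquiv.ofBijective (Xi (I := I) eY) (Xi_bijective eY)
  exact ⟨l1.trans l2⟩

end Groth.Agent.H12.RGamHDI
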