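import Mathlib

/-!
# `0 → Hom_A(A/f, E) → E → E → 0` for an injective module `E` and a nonzerodivisor `f` (helper12)
-/

set_option autoImplicit false
universe u
open CategoryTheory CategoryTheory.Limits

namespace Groth.Agent.H12.RHomQuot

section Mod

variable {A : Type u} [CommRing A] (f : A)

/-- the quotient map -/
abbrev qm : A →+* A ⧸ Ideal.span {f} := Ideal.Quotient.mk (Ideal.span {f})

/-- restriction of scalars -/
noncomputable abbrev Fr : ModuleCat.{u} (A ⧸ Ideal.span {f}) ⥤ ModuleCat.{u} A :=
  ModuleCat.restrictScalars.{u} (qm f)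

/-- coextension of scalars -/
noncomputable abbrev Gc : ModuleCat.{u} A ⥤ ModuleCat.{u} (A ⧸ Ideal.span {f}) :=
  ModuleCat.coextendScalars.{u, u, u} (qm f)

/-- the adjunction -/
noncomputable abbrev adjM : Fr f ⊣ Gc f := ModuleCat.restrictCoextendScalarsAdj.{u, u, u} (qm f)

/-- `A/f` as an `A`-module by restriction -/
noncomputable abbrev Bres : ModuleCat.{u} A :=
  (ModuleCat.restrictScalars.{u} (qm f)).obj (ModuleCat.of _ (A ⧸ Ideal.span {f}))

/-- view an element of the quotient in the restricted module -/
def toRes (s : A ⧸ Ideal.span {f}) : Bres f := s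

theorem smul_toRes (a : A) (s : A ⧸ Ideal.span {f}) :
    a • toRes f s = toRes f (qm f a * s) := rfl

theorem apply_mk (E : ModuleCat.{u} A) (g' : Bres f →ₗ[A] E) (a : A) :
    g' (toRes f (qm f a)) = a • g' (toRes f 1) := by
  have h : toRes f (qm f a) = a • toRes f 1 := by
    rw [smul_toRes, mul_one]
  rw [h, map_smul]

theorem counit_apply (E : ModuleCat.{u} A) (g : (ModuleCat.coextendScalars.{u, u, u} (qm f)).obj E) :
    ((adjM f).counit.app E).hom g =
      (ModuleCat.CoextendScalars.equiv (qm f) E g) (toRes f 1) := rfl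

theorem counit_comp_smul (E : ModuleCat.{u} A) :
    (adjM f).counit.app E ≫ (f • 𝟙 E) = 0 := by
  ext g
  let g₀ : (ModuleCat.coextendScalars.{u, u, u} (qm f)).obj E := g
  show f • ((adjM f).counit.app E).hom g₀ = 0
  rw [counit_apply, ← apply_mk]
  have h0 : (qm f f : A ⧸ Ideal.span {f}) = 0 :=
    Ideal.Quotient.eq_zero_iff_mem.2 (Ideal.mem_span_singleton_self f)
  rw [h0]
  exact map_zero (ModuleCat.CoextendScalars.equiv (qm f) E g₀)

theorem span_le_ker (E : ModuleCat.{u} A) (e : E) (he : f • e = 0) :
    (Ideal.span {f} : Submodule A A) ≤ LinearMap.ker (LinearMap.toSpanSingleton A E e) := by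
  rw [Ideal.span, Submodule.span_le]
  intro x hx
  rw [Set.mem_singleton_iff] at hx
  rw [hx]
  refine SetLike.mem_coe.2 (LinearMap.mem_ker.2 ?_)
  rw [LinearMap.toSpanSingleton_apply]
  exact he

/-- the map `A/f → E` attached to an `f`-torsion element -/
noncomputable def lq (E : ModuleCat.{u} A) (e : E) (he : f • e = 0) :
    (A ⧸ Ideal.span {f}) →ₗ[A] E :=
  Submodule.liftQ (Ideal.span {f}) (LinearMap.toSpanSingleton A E e) (span_le_ker f E e he)

theorem lq_mk (E : ModuleCat.{u} A) (e : E) (he : f • e = 0) (b : A) :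
    lq f E e he (Ideal.Quotient.mk (Ideal.span {f}) b) = b • e := by
  show LinearMap.toSpanSingleton A E e b = b • e
  rw [LinearMap.toSpanSingleton_apply]

/-- the linear map `A/f → E` attached to an `f`-torsion element, for the restricted structure -/
noncomputable def ofTorsion (E : ModuleCat.{u} A) (e : E) (he : f • e = 0) : Bres f →ₗ[A] E where
  toFun s := lq f E e he s
  map_add' := fun s t => map_add (lq f E e he) s t
  map_smul' := fun a s => by
    obtain ⟨b, hb⟩ : ∃ b : A, toRes f (qm f b) = s := by
      obtain ⟨b, hb⟩ := Ideal.Quotient.mk_surjective (s : A ⧸ Ideal.span {f})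
      exact ⟨b, hb⟩
    rw [← hb, smul_toRes, ← map_mul]
    show lq f E e he (qm f (a * b)) = a • lq f E e he (qm f b)
    rw [lq_mk, lq_mk, mul_smul]

theorem ofTorsion_one (E : ModuleCat.{u} A) (e : E) (he : f • e = 0) :
    ofTorsion f E e he (toRes f 1) = e := by
  show lq f E e he (qm f 1) = e
  rw [lq_mk, one_smul]

theorem shortExact_counit (hf : f ∈ nonZeroDivisors A) (E : ModuleCat.{u} A) [Injective E] :
    (ShortComplex.mk ((adjM f).counit.app E) (f • 𝟙 E) (counit_comp_smul f E)).ShortExact where
  exact := by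
    rw [ShortComplex.moduleCat_exact_iff]
    intro e he
    have he' : f • e = 0 := he
    refine ⟨(ModuleCat.CoextendScalars.equiv (qm f) E).symm (ofTorsion f E e he'), ?_⟩
    exact ofTorsion_one f E e he'
  mono_f := by
    rw [ModuleCat.mono_iff_injective]
    refine (injective_iff_map_eq_zero ((adjM f).counit.app E).hom).2 (fun g hg => ?_)
    let g₀ : (ModuleCat.coextendScalars.{u, u, u} (qm f)).obj E := g
    have hg₀ : (ModuleCat.CoextendScalars.equiv (qm f) E g₀) (toRes f 1) = 0 := hg
    have h0 : g₀ = 0 := by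
      apply (ModuleCat.CoextendScalars.equiv (qm f) E).injective
      rw [map_zero]
      ext s
      obtain ⟨b, hb⟩ : ∃ b : A, toRes f (qm f b) = s := by
        obtain ⟨b, hb⟩ := Ideal.Quotient.mk_surjective (s : A ⧸ Ideal.span {f})
        exact ⟨b, hb⟩
      have := apply_mk f E (ModuleCat.CoextendScalars.equiv (qm f) E g₀) b
      rw [hg₀, smul_zero, hb] at this
      exact this
    exact h0
  epi_g := by
    rw [ModuleCat.epi_iff_surjective]
    intro e
    let m : ModuleCat.of A A ⟶ ModuleCat.of A A := ModuleCat.ofHom (LinearMap.toSpanSingleton A A f)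
    haveI : Mono m := by
      rw [ModuleCat.mono_iff_injective]
      refine (injective_iff_map_eq_zero m.hom).2 (fun a ha => ?_)
      have ha' : a * f = 0 := ha
      exact (mul_right_mem_nonZeroDivisors_eq_zero_iff hf).1 ha'
    let h : ModuleCat.of A A ⟶ E := ModuleCat.ofHom (LinearMap.toSpanSingleton A E e)
    have hk : m ≫ Injective.factorThru h m = h := Injective.comp_factorThru h m
    refine ⟨(Injective.factorThru h m).hom (1 : A), ?_⟩
    have h1 : (Injective.factorThru h m).hom (m.hom (1 : A)) = h.hom (1 : A) :=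
      congrArg (fun t => t.hom (1 : A)) hk
    have h3 : h.hom (1 : A) = e := by
      show LinearMap.toSpanSingleton A E e 1 = e
      rw [LinearMap.toSpanSingleton_apply, one_smul]
    have h4 : m.hom (1 : A) = f • (1 : A) := by
      show LinearMap.toSpanSingleton A A f 1 = f • (1 : A)
      rw [LinearMap.toSpanSingleton_apply, one_smul, smul_eq_mul, mul_one]
    rw [h4, h3, map_smul] at h1
    exact h1

end Mod

end Groth.Agent.H12.RHomQuot
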