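import Mathlib
import Groth.Agent.S0476
import Groth.Agent.H5.KInj.DerivedAdj
import Groth.Agent.H12.RHomQuotA
import Groth.Agent.H12.FormalGlueC

/-!
# `RHom_A(A/f, K) → K → K` (helper12)

For a nonzerodivisor `f` of `A`, `B = A/f` and any right adjoint `R` of restriction of scalars
`D(B) ⥤ D(A)`, every `K ∈ D(A)` sits in a distinguished triangle `R(K)|_A → K → K` whose second map
is multiplication by `f`.
-/

set_option autoImplicit false
universe u
open CategoryTheory CategoryTheory.Limits DerivedCategory Pretriangulated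

namespace Groth.Agent.H12.RHomQuot

attribute [local instance] HasDerivedCategory.standard

section Derived

variable {A : Type u} [CommRing A] (f : A)

instance : (Gc f).Additive := (adjM f).right_adjoint_additive

/-- the short complex `Hom_A(A/f, I) → I → I` of complexes -/
noncomputable def SCx (I : CochainComplex (ModuleCat.{u} A) ℤ) :
    ShortComplex (CochainComplex (ModuleCat.{u} A) ℤ) :=
  ShortComplex.mk ((H5.KInjDer.adjC (adjM f) (ComplexShape.up ℤ)).counit.app I) (f • 𝟙 I) (by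
    ext i : 1
    exact counit_comp_smul f (I.X i))

theorem shortExact_SCx (hf : f ∈ nonZeroDivisors A) (I : CochainComplex (ModuleCat.{u} A) ℤ)
    [∀ n, Injective (I.X n)] : (SCx f I).ShortExact :=
  HomologicalComplex.shortExact_of_degreewise_shortExact _
    (fun i => shortExact_counit f hf (I.X i))

theorem aux1 {C : Type*} [Category C] {X Y Z W : C} (a : X ⟶ Y) (b : Y ⟶ Z) (e : Z ≅ W) :
    (a ≫ b ≫ e.hom) ≫ e.inv = a ≫ b := by
  simp

theorem aux3 {C : Type*} [Category C] [HasShift C ℤ] {X Y Z W : C} (a : X ⟶ Y)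
    (b : Y ⟶ Z⟦(1 : ℤ)⟧) (z : Z ≅ W) :
    (a ≫ b ≫ z.hom⟦(1 : ℤ)⟧') ≫ z.inv⟦(1 : ℤ)⟧' = a ≫ b := by
  rw [Category.assoc, Category.assoc, ← Functor.map_comp, z.hom_inv_id,
    CategoryTheory.Functor.map_id, Category.comp_id]

theorem exists_triangle (hf : f ∈ nonZeroDivisors A)
    (R : Dual.D A ⥤ Dual.D (A ⧸ Ideal.span {f})) (adj : DRing.restrictD (qm f) ⊣ R)
    (ω : Dual.D A) :
    ∃ (u : (DRing.restrictD (qm f)).obj (R.obj ω) ⟶ ω)
      (w : ω ⟶ ((DRing.restrictD (qm f)).obj (R.obj ω))⟦(1 : ℤ)⟧),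
      Triangle.mk u (f • 𝟙 ω) w ∈ distTriang (Dual.D A) := by
  obtain ⟨I, ι, hI, hι, -, hinj⟩ := Groth.Agent.S0476.result (Q.objPreimage ω)
  haveI := hI
  haveI := hinj
  haveI hιq : IsIso (Q.map ι) := (isIso_Q_map_iff_quasiIso _ ι).2 hι
  let e : Q.obj I ≅ ω := (asIso (Q.map ι)).symm ≪≫ Q.objObjPreimageIso ω
  let X : CochainComplex (ModuleCat.{u} A) ℤ ⥤ Dual.D (A ⧸ Ideal.span {f}) :=
    (Gc f).mapHomologicalComplex (ComplexShape.up ℤ) ⋙ Q
  have hX := H5.KInjDer.inverts_map_Q (A := ModuleCat.{u} (A ⧸ Ideal.span {f})) (Gc f)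
  haveI := (H5.KInjDer.derives X hX).hasPointwiseRightDerivedFunctor
  let RG := X.totalRightDerived Q (H5.KInjDer.Wq (ModuleCat.{u} A))
  let α : X ⟶ Q ⋙ RG := X.totalRightDerivedUnit Q (H5.KInjDer.Wq (ModuleCat.{u} A))
  obtain ⟨adjD, -⟩ := H5.KInjDer.exists_derivedAdj (adjM f) RG α
  let uniq : R ≅ RG := adj.rightAdjointUniq adjD
  haveI : IsIso (α.app I) := H5.KInjDer.isIso_app_of_isKInjective X hX α I
  let GI := ((Gc f).mapHomologicalComplex (ComplexShape.up ℤ)).obj I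
  let z : Q.obj (((Fr f).mapHomologicalComplex (ComplexShape.up ℤ)).obj GI) ≅
      (DRing.restrictD (qm f)).obj (R.obj ω) :=
    ((Fr f).mapDerivedCategoryFactors.app GI).symm ≪≫
      (DRing.restrictD (qm f)).mapIso
        ((asIso (α.app I)) ≪≫ RG.mapIso e ≪≫ (uniq.app ω).symm)
  have hSE := shortExact_SCx f hf I
  have hdist := DerivedCategory.triangleOfSES_distinguished hSE
  refine ⟨z.inv ≫ Q.map (SCx f I).f ≫ e.hom,
    e.inv ≫ triangleOfSESδ hSE ≫ z.hom⟦(1 : ℤ)⟧', ?_⟩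
  refine isomorphic_distinguished _ hdist _ (Triangle.isoMk _ _ z.symm e.symm e.symm ?_ ?_ ?_)
  · show (z.inv ≫ Q.map (SCx f I).f ≫ e.hom) ≫ e.inv = z.inv ≫ Q.map (SCx f I).f
    exact aux1 _ _ _
  · show (f • 𝟙 ω) ≫ e.inv = e.inv ≫ Q.map (f • 𝟙 I)
    have h1 : Q.map (f • 𝟙 I) = f • 𝟙 (Q.obj I) := by
      rw [Functor.map_smul, CategoryTheory.Functor.map_id]
    rw [h1, FormalGlue.smul_id_comp', FormalGlue.comp_smul_id']
  · show (e.inv ≫ triangleOfSESδ hSE ≫ z.hom⟦(1 : ℤ)⟧') ≫ z.inv⟦(1 : ℤ)⟧' =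
      e.inv ≫ triangleOfSESδ hSE
    exact aux3 _ _ _

end Derived

end Groth.Agent.H12.RHomQuot
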