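import Groth.Prelude.Def_DRing2
import Groth.Agent.H12.FlatCxEW4
import Mathlib.LinearAlgebra.TensorProduct.Tower
import Mathlib.CategoryTheory.Adjunction.Additive
import Mathlib.CategoryTheory.Preadditive.Projective.Preserves
import Mathlib.CategoryTheory.Abelian.LeftDerived

/-!
# Flat base change for `Tor` of modules
-/

set_option autoImplicit false
universe u
open CategoryTheory MonoidalCategory TensorProduct

namespace Groth.Agent.H12.TorBC

open Groth.Agent.H12.FlatCx

variable {A A' : Type u} [CommRing A] [CommRing A'] [Algebra A A']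

instance : (ModuleCat.restrictScalars.{u} (algebraMap A A')).PreservesEpimorphisms where
  preserves _ h := by rwa [ModuleCat.epi_iff_surjective] at h ⊢

instance : (ModuleCat.extendScalars.{u, u, u} (algebraMap A A')).Additive :=
  (ModuleCat.extendRestrictScalarsAdj.{u, u, u} (algebraMap A A')).left_adjoint_additive

instance : (ModuleCat.extendScalars.{u, u, u} (algebraMap A A')).PreservesProjectiveObjects :=
  Functor.preservesProjectiveObjects_of_adjunction_of_preservesEpimorphisms
    (ModuleCat.extendRestrictScalarsAdj.{u, u, u} (algebraMap A A'))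

theorem preservesHomology_extendScalars_of_flat [Module.Flat A A'] :
    (ModuleCat.extendScalars.{u, u, u} (algebraMap A A')).PreservesHomology := by
  have hB : Module.Flat A (B' (A := A) A') := flat_B' A' (inferInstance : Module.Flat A A')
  apply Functor.preservesHomology_of_map_exact
  intro S hS
  rw [ShortComplex.ShortExact.moduleCat_exact_iff_function_exact] at hS ⊢
  have h := Module.Flat.lTensor_exact (B' (A := A) A') hS
  exact h

/-- `A' ⊗ (P ⊗ X) ≃ (A' ⊗ P) ⊗_{A'} (A' ⊗ X)` on the level of `extendScalars`. -/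
noncomputable def eX (Pm X : ModuleCat.{u} A) :
    ((ModuleCat.extendScalars.{u, u, u} (algebraMap A A')).obj (Pm ⊗ X)) ≃ₗ[A']
      ((A' ⊗[A] Pm) ⊗[A'] ((ModuleCat.extendScalars.{u, u, u} (algebraMap A A')).obj X)) :=
  (extendScalarsEquiv A' (Pm ⊗ X)) ≪≫ₗ
    (TensorProduct.AlgebraTensorModule.distribBaseChange A A' Pm X) ≪≫ₗ
    (TensorProduct.congr (LinearEquiv.refl A' (A' ⊗[A] Pm)) (extendScalarsEquiv A' X).symm)

theorem eX_naturality (Pm : ModuleCat.{u} A) {X Y : ModuleCat.{u} A} (g : X ⟶ Y)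
    (t : B' (A := A) A' ⊗[A] (Pm ⊗[A] X)) :
    eX (A' := A') Pm Y (((ModuleCat.extendScalars.{u, u, u} (algebraMap A A')).map (Pm ◁ g)).hom t) =
      ((ModuleCat.of A' (A' ⊗[A] Pm)) ◁
        ((ModuleCat.extendScalars.{u, u, u} (algebraMap A A')).map g)).hom (eX (A' := A') Pm X t) := by
  let φ₁ : ((ModuleCat.extendScalars.{u, u, u} (algebraMap A A')).obj (Pm ⊗ X)) →ₗ[A']
      ((A' ⊗[A] Pm) ⊗[A'] ((ModuleCat.extendScalars.{u, u, u} (algebraMap A A')).obj Y)) :=
    (eX (A' := A') Pm Y).toLinearMap ∘ₗ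
      ((ModuleCat.extendScalars.{u, u, u} (algebraMap A A')).map (Pm ◁ g)).hom
  let φ₂ : ((ModuleCat.extendScalars.{u, u, u} (algebraMap A A')).obj (Pm ⊗ X)) →ₗ[A']
      ((A' ⊗[A] Pm) ⊗[A'] ((ModuleCat.extendScalars.{u, u, u} (algebraMap A A')).obj Y)) :=
    ((ModuleCat.of A' (A' ⊗[A] Pm)) ◁
      ((ModuleCat.extendScalars.{u, u, u} (algebraMap A A')).map g)).hom ∘ₗ
      (eX (A' := A') Pm X).toLinearMap
  show φ₁ t = φ₂ t
  refine TensorProduct.induction_on t ?_ ?_ ?_
  · exact (map_zero φ₁).trans (map_zero φ₂).symm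
  · intro b y
    refine TensorProduct.induction_on y ?_ ?_ ?_
    · exact ((congrArg φ₁ (TensorProduct.tmul_zero _ b)).trans
        ((map_zero φ₁).trans (map_zero φ₂).symm)).trans
        (congrArg φ₂ (TensorProduct.tmul_zero _ b)).symm
    · intro p x
      rfl
    · intro y1 y2 h1 h2
      exact ((congrArg φ₁ (TensorProduct.tmul_add b y1 y2)).trans
        (((map_add φ₁ _ _).trans (congrArg₂ (· + ·) h1 h2)).trans (map_add φ₂ _ _).symm)).trans
        (congrArg φ₂ (TensorProduct.tmul_add b y1 y2)).symm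
  · intro t1 t2 h1 h2
    exact ((map_add φ₁ t1 t2).trans (congrArg₂ (· + ·) h1 h2)).trans (map_add φ₂ t1 t2).symm

/-- The comparison of complexes. -/
noncomputable def cxIso (Pm : ModuleCat.{u} A) (K : ChainComplex (ModuleCat.{u} A) ℕ) :
    ((ModuleCat.extendScalars.{u, u, u} (algebraMap A A')).mapHomologicalComplex _).obj
        (((tensorLeft Pm).mapHomologicalComplex _).obj K) ≅
      ((tensorLeft (ModuleCat.of A' (A' ⊗[A] Pm))).mapHomologicalComplex _).obj
        (((ModuleCat.extendScalars.{u, u, u} (algebraMap A A')).mapHomologicalComplex _).obj K) :=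
  HomologicalComplex.Hom.isoOfComponents (fun i => (eX (A' := A') Pm (K.X i)).toModuleIso) (by
    intro i j _
    apply ModuleCat.hom_ext
    apply LinearMap.ext
    intro t
    exact (eX_naturality (A' := A') Pm (K.d i j) t).symm)

theorem torBC [Module.Flat A A'] (Pm Qm : ModuleCat.{u} A) (n : ℕ) :
    Nonempty ((A' ⊗[A] (((Tor (ModuleCat.{u} A) n).obj Pm).obj Qm : ModuleCat.{u} A)) ≃ₗ[A']
      (((Tor (ModuleCat.{u} A') n).obj (ModuleCat.of A' (A' ⊗[A] Pm))).obj
        (ModuleCat.of A' (A' ⊗[A] Qm)) : ModuleCat.{u} A')) := by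
  haveI := preservesHomology_extendScalars_of_flat (A := A) (A' := A')
  let F := ModuleCat.extendScalars.{u, u, u} (algebraMap A A')
  let R : ProjectiveResolution Qm := projectiveResolution Qm
  let P' : ModuleCat.{u} A' := ModuleCat.of A' (A' ⊗[A] Pm)
  let C := ((tensorLeft Pm).mapHomologicalComplex _).obj R.complex
  let e1 : F.obj (((Tor (ModuleCat.{u} A) n).obj Pm).obj Qm) ≅
      F.obj ((HomologicalComplex.homologyFunctor _ _ n).obj C) :=
    F.mapIso (R.isoLeftDerivedObj (tensorLeft Pm) n)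
  let e2 : F.obj ((HomologicalComplex.homologyFunctor _ _ n).obj C) ≅
      (HomologicalComplex.homologyFunctor _ _ n).obj ((F.mapHomologicalComplex _).obj C) :=
    ((C.sc n).mapHomologyIso F).symm
  let e3 := (HomologicalComplex.homologyFunctor _ _ n).mapIso (cxIso (A' := A') Pm R.complex)
  let R' := F.mapProjectiveResolution R
  let e4 := (R'.isoLeftDerivedObj (tensorLeft P') n).symm
  let e5 := ((Tor (ModuleCat.{u} A') n).obj P').mapIso (extendScalarsEquiv A' Qm).toModuleIso
  exact ⟨(extendScalarsEquiv A' _).symm ≪≫ₗ (e1 ≪≫ e2 ≪≫ e3 ≪≫ e4 ≪≫ e5).toLinearEquiv⟩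

end Groth.Agent.H12.TorBC
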