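import Groth.Agent.H82.TorSymm
import Groth.Agent.S6314
import Groth.Agent.H82.TorFlat
import Groth.Agent.H12.FlatCxKun
import Groth.Prelude.Def_DRing2

/-!
# The four term sequence `0 → Tor₂(C, N) → Z ⊗ N → Ker(d ⊗ N) → Tor₁(C, N) → 0`
for a map `d : P₁ → P₀` of flat modules with kernel `Z` and cokernel `C`.
-/

set_option autoImplicit false
set_option linter.style.haveILetI false
universe u
open CategoryTheory MonoidalCategory TensorProduct CategoryTheory.Limits

namespace Groth.Agent.H12.TorSeq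

open Groth.Agent.H82.LDer Groth.Agent.H12.FlatCx

variable {A : Type u} [CommRing A]

theorem les_ker_equiv {T : ℕ → ModuleCat.{u} A ⥤ ModuleCat.{u} A} (h : HasLES T)
    (S : ShortComplex (ModuleCat.{u} A)) (hS : S.ShortExact) (n : ℕ)
    (hz : IsZero ((T (n + 1)).obj S.X₂)) :
    Nonempty (((T (n + 1)).obj S.X₃) ≃ₗ[A] LinearMap.ker ((T n).map S.f).hom) := by
  obtain ⟨-, -, δ, w₁, w₂, e1, e2⟩ := h S hS n
  rw [ShortComplex.ShortExact.moduleCat_exact_iff_function_exact] at e1 e2
  haveI hsub : Subsingleton ((T (n + 1)).obj S.X₂) := ModuleCat.subsingleton_of_isZero hz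
  have hδinj : Function.Injective δ.hom := by
    rw [injective_iff_map_eq_zero]
    intro x hx
    obtain ⟨y, rfl⟩ := (e1 x).mp hx
    rw [Subsingleton.elim y 0]
    exact map_zero _
  have hrange : LinearMap.range δ.hom = LinearMap.ker ((T n).map S.f).hom :=
    (LinearMap.exact_iff.mp e2).symm
  exact ⟨(LinearEquiv.ofInjective δ.hom hδinj) ≪≫ₗ (LinearEquiv.ofEq _ _ hrange)⟩

theorem les_equiv {T : ℕ → ModuleCat.{u} A ⥤ ModuleCat.{u} A} (h : HasLES T)
    (S : ShortComplex (ModuleCat.{u} A)) (hS : S.ShortExact) (n : ℕ)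
    (hz : IsZero ((T (n + 1)).obj S.X₂)) (hz' : IsZero ((T n).obj S.X₂)) :
    Nonempty (((T (n + 1)).obj S.X₃) ≃ₗ[A] ((T n).obj S.X₁)) := by
  obtain ⟨e⟩ := les_ker_equiv h S hS n hz
  haveI : Subsingleton ((T n).obj S.X₂) := ModuleCat.subsingleton_of_isZero hz'
  have hk : LinearMap.ker ((T n).map S.f).hom = ⊤ := by
    ext x
    simp only [LinearMap.mem_ker, Submodule.mem_top, iff_true]
    exact Subsingleton.elim _ _
  exact ⟨e ≪≫ₗ LinearEquiv.ofEq _ _ hk ≪≫ₗ Submodule.topEquiv⟩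

variable (N : Type u) [AddCommGroup N] [Module A N]

/-- `Tor_n(-, N)`. -/
noncomputable abbrev τ (n : ℕ) : ModuleCat.{u} A ⥤ ModuleCat.{u} A :=
  (Tor (ModuleCat.{u} A) n).flip.obj (ModuleCat.of A N)

theorem hasLES_τ : HasLES (τ (A := A) N) :=
  Groth.Agent.H82.TorLib.hasLES_tor_flip (ModuleCat.of A N)

theorem isZero_τ_flat (n : ℕ) (P : Type u) [AddCommGroup P] [Module A P] [Module.Flat A P] :
    IsZero ((τ N (n + 1)).obj (ModuleCat.of A P)) :=
  Groth.Agent.S6314.result A P (ModuleCat.of A N) (n + 1) (Nat.succ_pos n)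

theorem ker_τ_zero_equiv {X Y : Type u} [AddCommGroup X] [Module A X] [AddCommGroup Y] [Module A Y]
    (f : X →ₗ[A] Y) :
    Nonempty (LinearMap.ker ((τ N 0).map (ModuleCat.ofHom f)).hom ≃ₗ[A]
      LinearMap.ker (f.rTensor N)) := by
  let η := Groth.Agent.H82.TorSymm.bIso (ModuleCat.of A N)
  have sq : ∀ x, (η.hom.app (ModuleCat.of A Y)).hom (((τ N 0).map (ModuleCat.ofHom f)).hom x) =
      (f.rTensor N) ((η.hom.app (ModuleCat.of A X)).hom x) := by
    intro x
    have := congrArg (fun m => m.hom x) (η.hom.naturality (ModuleCat.ofHom f))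
    exact this
  exact ⟨kerEquivOfSquare _ _ (η.app (ModuleCat.of A X)).toLinearEquiv
    (η.app (ModuleCat.of A Y)).toLinearEquiv sq⟩

variable {P₁ P₀ : Type u} [AddCommGroup P₁] [Module A P₁] [AddCommGroup P₀] [Module A P₀]
  (d : P₁ →ₗ[A] P₀)

theorem range_le_ker :
    LinearMap.range ((LinearMap.ker d).subtype.rTensor N) ≤ LinearMap.ker (d.rTensor N) := by
  rintro _ ⟨t, rfl⟩
  rw [LinearMap.mem_ker, ← LinearMap.comp_apply, ← LinearMap.rTensor_comp]
  have h0 : d ∘ₗ (LinearMap.ker d).subtype = 0 := by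
    ext x
    exact x.2
  rw [h0, LinearMap.rTensor_zero, LinearMap.zero_apply]

theorem exact_subtype_rangeRestrict :
    Function.Exact (LinearMap.ker d).subtype d.rangeRestrict := by
  intro y
  constructor
  · intro hy
    have h0 : d y = 0 := congrArg Subtype.val hy
    exact ⟨⟨y, h0⟩, rfl⟩
  · rintro ⟨z, rfl⟩
    exact Subtype.ext z.2

theorem hcomp (x : P₁ ⊗[A] N) : ((LinearMap.range d).subtype.rTensor N) (d.rangeRestrict.rTensor N x) =
      d.rTensor N x := by
  rw [← LinearMap.comp_apply, ← LinearMap.rTensor_comp]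
  exact congrArg (fun f : P₁ →ₗ[A] P₀ => f.rTensor N x)
    (show (LinearMap.range d).subtype ∘ₗ d.rangeRestrict = d from LinearMap.ext fun _ => rfl)

theorem hexT : Function.Exact ((LinearMap.ker d).subtype.rTensor N) (d.rangeRestrict.rTensor N) :=
    rTensor_exact N (exact_subtype_rangeRestrict d) (LinearMap.surjective_rangeRestrict d)

noncomputable def fMap : LinearMap.ker (d.rTensor N) →ₗ[A] (↥(LinearMap.range d) ⊗[A] N) :=
  (d.rangeRestrict.rTensor N) ∘ₗ (LinearMap.ker (d.rTensor N)).subtype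

theorem fMap_apply (x : LinearMap.ker (d.rTensor N)) :
    fMap N d x = d.rangeRestrict.rTensor N x.1 := rfl

theorem hkerf : Submodule.comap (LinearMap.ker (d.rTensor N)).subtype
      (LinearMap.range ((LinearMap.ker d).subtype.rTensor N)) = LinearMap.ker (fMap N d) := by
  ext x
  constructor
  · intro hx
    have hx' : x.1 ∈ LinearMap.range ((LinearMap.ker d).subtype.rTensor N) := hx
    rw [LinearMap.mem_ker, fMap_apply]
    exact (hexT N d x.1).mpr (LinearMap.mem_range.mp hx')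
  · intro hx
    rw [LinearMap.mem_ker, fMap_apply] at hx
    show x.1 ∈ LinearMap.range ((LinearMap.ker d).subtype.rTensor N)
    exact LinearMap.mem_range.mpr ((hexT N d x.1).mp hx)

theorem hrangef : LinearMap.range (fMap N d) =
    LinearMap.ker ((LinearMap.range d).subtype.rTensor N) := by
  have hp : Function.Surjective (d.rangeRestrict.rTensor N) :=
    LinearMap.rTensor_surjective N (LinearMap.surjective_rangeRestrict d)
  ext z
  constructor
  · rintro ⟨x, rfl⟩
    rw [LinearMap.mem_ker, fMap_apply, hcomp]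
    exact x.2
  · intro hz
    obtain ⟨x, rfl⟩ := hp z
    rw [LinearMap.mem_ker, hcomp] at hz
    exact ⟨⟨x, hz⟩, rfl⟩

noncomputable def quotEquiv :
    (↥(LinearMap.ker (d.rTensor N)) ⧸
      Submodule.comap (LinearMap.ker (d.rTensor N)).subtype
        (LinearMap.range ((LinearMap.ker d).subtype.rTensor N))) ≃ₗ[A]
      LinearMap.ker ((LinearMap.range d).subtype.rTensor N) :=
  (Submodule.quotEquivOfEq _ _ (hkerf N d)).trans
    ((fMap N d).quotKerEquivRange.trans (LinearEquiv.ofEq _ _ (hrangef N d)))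

variable [Module.Flat A P₁] [Module.Flat A P₀]

theorem main :
    Nonempty (LinearMap.ker ((LinearMap.ker d).subtype.rTensor N) ≃ₗ[A]
        DRing.Tor A 2 (P₀ ⧸ LinearMap.range d) N) ∧
      Nonempty ((↥(LinearMap.ker (d.rTensor N)) ⧸
          Submodule.comap (LinearMap.ker (d.rTensor N)).subtype
            (LinearMap.range ((LinearMap.ker d).subtype.rTensor N))) ≃ₗ[A]
        DRing.Tor A 1 (P₀ ⧸ LinearMap.range d) N) := by
  have hS1 := Groth.Agent.H82.TorFlat.shortExact_of (A := A) (LinearMap.ker d).subtype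
    d.rangeRestrict (Submodule.injective_subtype _) (LinearMap.surjective_rangeRestrict d)
    (exact_subtype_rangeRestrict d)
  have hS2 := Groth.Agent.H82.TorFlat.shortExact_of (A := A) (LinearMap.range d).subtype
    (LinearMap.range d).mkQ (Submodule.injective_subtype _) (Submodule.mkQ_surjective _)
    (LinearMap.exact_subtype_mkQ _)
  constructor
  · obtain ⟨e21⟩ := les_equiv (hasLES_τ N) _ hS2 1 (isZero_τ_flat N 1 P₀) (isZero_τ_flat N 0 P₀)
    obtain ⟨e10⟩ := les_ker_equiv (hasLES_τ N) _ hS1 0 (isZero_τ_flat N 0 P₁)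
    obtain ⟨e0⟩ := ker_τ_zero_equiv N (LinearMap.ker d).subtype
    exact ⟨(e21 ≪≫ₗ e10 ≪≫ₗ e0).symm⟩
  · obtain ⟨e1C⟩ := les_ker_equiv (hasLES_τ N) _ hS2 0 (isZero_τ_flat N 0 P₀)
    obtain ⟨e0⟩ := ker_τ_zero_equiv N (LinearMap.range d).subtype
    exact ⟨(quotEquiv N d).trans (e1C ≪≫ₗ e0).symm⟩

end Groth.Agent.H12.TorSeq
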